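import Cfsg.Agent.Lie.TabB2

set_option autoImplicit false
set_option maxRecDepth 100000
set_option Elab.async false

namespace Cfsg.Agent.Lie

open Cfsg.Lie

theorem tabB2_chk0 : tabB2.chk0 chevB2 = true := by decide +kernel
theorem tabB2_chkI : tabB2.chkI = true := by decide +kernel
theorem tabB2_chk1_0 : allR (0 * 8) 8 (tabB2.chk1) = true := by decide +kernel
theorem tabB2_chk1 : ∀ r < tabB2.n, tabB2.chk1 r = true :=
  forall_of_chunks 1 8 (fun c hc =>
    match c, hc with
    | 0, _ => tabB2_chk1_0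
    | k + 1, h => absurd h (by omega))
theorem tabB2_chk2_0 : allR (0 * 8) 8 (tabB2.chk2 chevB2) = true := by decide +kernel
theorem tabB2_chk2 : ∀ r < tabB2.n, tabB2.chk2 chevB2 r = true :=
  forall_of_chunks 1 8 (fun c hc =>
    match c, hc with
    | 0, _ => tabB2_chk2_0
    | k + 1, h => absurd h (by omega))
theorem tabB2_chk3_0 : allR (0 * 8) 8 (tabB2.chk3) = true := by decide +kernel
theorem tabB2_chk3 : ∀ r < tabB2.n, tabB2.chk3 r = true :=
  forall_of_chunks 1 8 (fun c hc =>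
    match c, hc with
    | 0, _ => tabB2_chk3_0
    | k + 1, h => absurd h (by omega))
theorem tabB2_chk4_0p : tabB2.chk4p 5 = true := by decide +kernel
theorem tabB2_chk4_0m : tabB2.chk4p 2 = true := by decide +kernel
theorem tabB2_chk5_0p : tabB2.chk5p 8 5 = true := by decide +kernel
theorem tabB2_chk5_0m : tabB2.chk5p 8 2 = true := by decide +kernel
theorem tabB2_chk4_1p : tabB2.chk4p 4 = true := by decide +kernel
theorem tabB2_chk4_1m : tabB2.chk4p 3 = true := by decide +kernel
theorem tabB2_chk5_1p : tabB2.chk5p 8 4 = true := by decide +kernel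
theorem tabB2_chk5_1m : tabB2.chk5p 8 3 = true := by decide +kernel

theorem isGoodB2 : IsGood chevB2 tabB2.cof tabB2.lenf tabB2.N tabB2.add tabB2.ordf :=
  tabB2.isGood chevB2 tabB2_chk0 tabB2_chkI tabB2_chk1 tabB2_chk2 tabB2_chk3 (fun i hi =>
    match i, hi with
    | 0, _ => ⟨tabB2_chk4_0p, tabB2_chk4_0m⟩
    | 1, _ => ⟨tabB2_chk4_1p, tabB2_chk4_1m⟩
    | k + 2, h => absurd h (by change ¬ (k + 2 < 2); omega)) (fun i hi =>
    match i, hi with
    | 0, _ => ⟨tabB2_chk5_0p, tabB2_chk5_0m⟩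
    | 1, _ => ⟨tabB2_chk5_1p, tabB2_chk5_1m⟩
    | k + 2, h => absurd h (by change ¬ (k + 2 < 2); omega))

noncomputable instance goodB2 : Good chevB2 := ⟨_, _, _, _, _, isGoodB2⟩

end Cfsg.Agent.Lie
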