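import Cfsg.Agent.Lie.TabD4

set_option autoImplicit false
set_option maxRecDepth 100000
set_option Elab.async false

namespace Cfsg.Agent.Lie

open Cfsg.Lie

theorem tabD4_chk0 : tabD4.chk0 chevD4 = true := by decide +kernel
theorem tabD4_chkI : tabD4.chkI = true := by decide +kernel
theorem tabD4_chk1_0 : allR (0 * 24) 24 (tabD4.chk1) = true := by decide +kernel
theorem tabD4_chk1 : ∀ r < tabD4.n, tabD4.chk1 r = true :=
  forall_of_chunks 1 24 (fun c hc =>
    match c, hc with
    | 0, _ => tabD4_chk1_0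
    | k + 1, h => absurd h (by omega))
theorem tabD4_chk2_0 : allR (0 * 24) 24 (tabD4.chk2 chevD4) = true := by decide +kernel
theorem tabD4_chk2 : ∀ r < tabD4.n, tabD4.chk2 chevD4 r = true :=
  forall_of_chunks 1 24 (fun c hc =>
    match c, hc with
    | 0, _ => tabD4_chk2_0
    | k + 1, h => absurd h (by omega))
theorem tabD4_chk3_0 : allR (0 * 24) 24 (tabD4.chk3) = true := by decide +kernel
theorem tabD4_chk3 : ∀ r < tabD4.n, tabD4.chk3 r = true :=
  forall_of_chunks 1 24 (fun c hc =>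
    match c, hc with
    | 0, _ => tabD4_chk3_0
    | k + 1, h => absurd h (by omega))
theorem tabD4_chk4_0p : tabD4.chk4p 18 = true := by decide +kernel
theorem tabD4_chk4_0m : tabD4.chk4p 5 = true := by decide +kernel
theorem tabD4_chk5_0p : tabD4.chk5p 24 18 = true := by decide +kernel
theorem tabD4_chk5_0m : tabD4.chk5p 24 5 = true := by decide +kernel
theorem tabD4_chk4_1p : tabD4.chk4p 14 = true := by decide +kernel
theorem tabD4_chk4_1m : tabD4.chk4p 9 = true := by decide +kernel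
theorem tabD4_chk5_1p : tabD4.chk5p 24 14 = true := by decide +kernel
theorem tabD4_chk5_1m : tabD4.chk5p 24 9 = true := by decide +kernel
theorem tabD4_chk4_2p : tabD4.chk4p 13 = true := by decide +kernel
theorem tabD4_chk4_2m : tabD4.chk4p 10 = true := by decide +kernel
theorem tabD4_chk5_2p : tabD4.chk5p 24 13 = true := by decide +kernel
theorem tabD4_chk5_2m : tabD4.chk5p 24 10 = true := by decide +kernel
theorem tabD4_chk4_3p : tabD4.chk4p 12 = true := by decide +kernel
theorem tabD4_chk4_3m : tabD4.chk4p 11 = true := by decide +kernel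
theorem tabD4_chk5_3p : tabD4.chk5p 24 12 = true := by decide +kernel
theorem tabD4_chk5_3m : tabD4.chk5p 24 11 = true := by decide +kernel

theorem isGoodD4 : IsGood chevD4 tabD4.cof tabD4.lenf tabD4.N tabD4.add tabD4.ordf :=
  tabD4.isGood chevD4 tabD4_chk0 tabD4_chkI tabD4_chk1 tabD4_chk2 tabD4_chk3 (fun i hi =>
    match i, hi with
    | 0, _ => ⟨tabD4_chk4_0p, tabD4_chk4_0m⟩
    | 1, _ => ⟨tabD4_chk4_1p, tabD4_chk4_1m⟩
    | 2, _ => ⟨tabD4_chk4_2p, tabD4_chk4_2m⟩
    | 3, _ => ⟨tabD4_chk4_3p, tabD4_chk4_3m⟩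
    | k + 4, h => absurd h (by change ¬ (k + 4 < 4); omega)) (fun i hi =>
    match i, hi with
    | 0, _ => ⟨tabD4_chk5_0p, tabD4_chk5_0m⟩
    | 1, _ => ⟨tabD4_chk5_1p, tabD4_chk5_1m⟩
    | 2, _ => ⟨tabD4_chk5_2p, tabD4_chk5_2m⟩
    | 3, _ => ⟨tabD4_chk5_3p, tabD4_chk5_3m⟩
    | k + 4, h => absurd h (by change ¬ (k + 4 < 4); omega))

noncomputable instance goodD4 : Good chevD4 := ⟨_, _, _, _, _, isGoodD4⟩

end Cfsg.Agent.Lie
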