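import Cfsg.Agent.Lie.TabE6

set_option autoImplicit false
set_option maxRecDepth 100000
set_option Elab.async false

namespace Cfsg.Agent.Lie

open Cfsg.Lie

theorem tabE6_chk0 : tabE6.chk0 chevE6 = true := by decide +kernel
theorem tabE6_chkI : tabE6.chkI = true := by decide +kernel
theorem tabE6_chk1_0 : allR (0 * 72) 72 (tabE6.chk1) = true := by decide +kernel
theorem tabE6_chk1 : ∀ r < tabE6.n, tabE6.chk1 r = true :=
  forall_of_chunks 1 72 (fun c hc =>
    match c, hc with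
    | 0, _ => tabE6_chk1_0
    | k + 1, h => absurd h (by omega))
theorem tabE6_chk2_0 : allR (0 * 36) 36 (tabE6.chk2 chevE6) = true := by decide +kernel
theorem tabE6_chk2_1 : allR (1 * 36) 36 (tabE6.chk2 chevE6) = true := by decide +kernel
theorem tabE6_chk2 : ∀ r < tabE6.n, tabE6.chk2 chevE6 r = true :=
  forall_of_chunks 2 36 (fun c hc =>
    match c, hc with
    | 0, _ => tabE6_chk2_0
    | 1, _ => tabE6_chk2_1
    | k + 2, h => absurd h (by omega))
theorem tabE6_chk3_0 : allR (0 * 36) 36 (tabE6.chk3) = true := by decide +kernel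
theorem tabE6_chk3_1 : allR (1 * 36) 36 (tabE6.chk3) = true := by decide +kernel
theorem tabE6_chk3 : ∀ r < tabE6.n, tabE6.chk3 r = true :=
  forall_of_chunks 2 36 (fun c hc =>
    match c, hc with
    | 0, _ => tabE6_chk3_0
    | 1, _ => tabE6_chk3_1
    | k + 2, h => absurd h (by omega))
theorem tabE6_chk4_0p : tabE6.chk4p 56 = true := by decide +kernel
theorem tabE6_chk4_0m : tabE6.chk4p 15 = true := by decide +kernel
theorem tabE6_chk5_0p : tabE6.chk5p 72 56 = true := by decide +kernel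
theorem tabE6_chk5_0m : tabE6.chk5p 72 15 = true := by decide +kernel
theorem tabE6_chk4_1p : tabE6.chk4p 46 = true := by decide +kernel
theorem tabE6_chk4_1m : tabE6.chk4p 25 = true := by decide +kernel
theorem tabE6_chk5_1p : tabE6.chk5p 72 46 = true := by decide +kernel
theorem tabE6_chk5_1m : tabE6.chk5p 72 25 = true := by decide +kernel
theorem tabE6_chk4_2p : tabE6.chk4p 42 = true := by decide +kernel
theorem tabE6_chk4_2m : tabE6.chk4p 29 = true := by decide +kernel
theorem tabE6_chk5_2p : tabE6.chk5p 72 42 = true := by decide +kernel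
theorem tabE6_chk5_2m : tabE6.chk5p 72 29 = true := by decide +kernel
theorem tabE6_chk4_3p : tabE6.chk4p 39 = true := by decide +kernel
theorem tabE6_chk4_3m : tabE6.chk4p 32 = true := by decide +kernel
theorem tabE6_chk5_3p : tabE6.chk5p 72 39 = true := by decide +kernel
theorem tabE6_chk5_3m : tabE6.chk5p 72 32 = true := by decide +kernel
theorem tabE6_chk4_4p : tabE6.chk4p 37 = true := by decide +kernel
theorem tabE6_chk4_4m : tabE6.chk4p 34 = true := by decide +kernel
theorem tabE6_chk5_4p : tabE6.chk5p 72 37 = true := by decide +kernel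
theorem tabE6_chk5_4m : tabE6.chk5p 72 34 = true := by decide +kernel
theorem tabE6_chk4_5p : tabE6.chk4p 36 = true := by decide +kernel
theorem tabE6_chk4_5m : tabE6.chk4p 35 = true := by decide +kernel
theorem tabE6_chk5_5p : tabE6.chk5p 72 36 = true := by decide +kernel
theorem tabE6_chk5_5m : tabE6.chk5p 72 35 = true := by decide +kernel

theorem isGoodE6 : IsGood chevE6 tabE6.cof tabE6.lenf tabE6.N tabE6.add tabE6.ordf :=
  tabE6.isGood chevE6 tabE6_chk0 tabE6_chkI tabE6_chk1 tabE6_chk2 tabE6_chk3 (fun i hi =>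
    match i, hi with
    | 0, _ => ⟨tabE6_chk4_0p, tabE6_chk4_0m⟩
    | 1, _ => ⟨tabE6_chk4_1p, tabE6_chk4_1m⟩
    | 2, _ => ⟨tabE6_chk4_2p, tabE6_chk4_2m⟩
    | 3, _ => ⟨tabE6_chk4_3p, tabE6_chk4_3m⟩
    | 4, _ => ⟨tabE6_chk4_4p, tabE6_chk4_4m⟩
    | 5, _ => ⟨tabE6_chk4_5p, tabE6_chk4_5m⟩
    | k + 6, h => absurd h (by change ¬ (k + 6 < 6); omega)) (fun i hi =>
    match i, hi with
    | 0, _ => ⟨tabE6_chk5_0p, tabE6_chk5_0m⟩
    | 1, _ => ⟨tabE6_chk5_1p, tabE6_chk5_1m⟩
    | 2, _ => ⟨tabE6_chk5_2p, tabE6_chk5_2m⟩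
    | 3, _ => ⟨tabE6_chk5_3p, tabE6_chk5_3m⟩
    | 4, _ => ⟨tabE6_chk5_4p, tabE6_chk5_4m⟩
    | 5, _ => ⟨tabE6_chk5_5p, tabE6_chk5_5m⟩
    | k + 6, h => absurd h (by change ¬ (k + 6 < 6); omega))

noncomputable instance goodE6 : Good chevE6 := ⟨_, _, _, _, _, isGoodE6⟩

end Cfsg.Agent.Lie
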