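import Cfsg.Agent.Lie.TabE7

set_option autoImplicit false
set_option maxRecDepth 100000
set_option Elab.async false

namespace Cfsg.Agent.Lie

open Cfsg.Lie

theorem tabE7_chk3_0 : allR (0 * 21) 21 (tabE7.chk3) = true := by decide +kernel
theorem tabE7_chk3_1 : allR (1 * 21) 21 (tabE7.chk3) = true := by decide +kernel
theorem tabE7_chk3_2 : allR (2 * 21) 21 (tabE7.chk3) = true := by decide +kernel
theorem tabE7_chk3_3 : allR (3 * 21) 21 (tabE7.chk3) = true := by decide +kernel
theorem tabE7_chk3_4 : allR (4 * 21) 21 (tabE7.chk3) = true := by decide +kernel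
theorem tabE7_chk3_5 : allR (5 * 21) 21 (tabE7.chk3) = true := by decide +kernel
theorem tabE7_chk3 : ∀ r < tabE7.n, tabE7.chk3 r = true :=
  forall_of_chunks 6 21 (fun c hc =>
    match c, hc with
    | 0, _ => tabE7_chk3_0
    | 1, _ => tabE7_chk3_1
    | 2, _ => tabE7_chk3_2
    | 3, _ => tabE7_chk3_3
    | 4, _ => tabE7_chk3_4
    | 5, _ => tabE7_chk3_5
    | k + 6, h => absurd h (by omega))

end Cfsg.Agent.Lie
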