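import Cfsg.Agent.Lie.TabE7

set_option autoImplicit false
set_option maxRecDepth 100000
set_option Elab.async false

namespace Cfsg.Agent.Lie

open Cfsg.Lie

theorem tabE7_chk5_0p : tabE7.chk5p 126 93 = true := by decide +kernel
theorem tabE7_chk5_0m : tabE7.chk5p 126 32 = true := by decide +kernel
theorem tabE7_chk5_1p : tabE7.chk5p 126 78 = true := by decide +kernel
theorem tabE7_chk5_1m : tabE7.chk5p 126 47 = true := by decide +kernel
theorem tabE7_chk5_2p : tabE7.chk5p 126 73 = true := by decide +kernel
theorem tabE7_chk5_2m : tabE7.chk5p 126 52 = true := by decide +kernel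

end Cfsg.Agent.Lie
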