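import Cfsg.Agent.Lie.TabE7

set_option autoImplicit false
set_option maxRecDepth 100000
set_option Elab.async false

namespace Cfsg.Agent.Lie

open Cfsg.Lie

theorem tabE7_chk5_3p : tabE7.chk5p 126 69 = true := by decide +kernel
theorem tabE7_chk5_3m : tabE7.chk5p 126 56 = true := by decide +kernel
theorem tabE7_chk5_4p : tabE7.chk5p 126 66 = true := by decide +kernel
theorem tabE7_chk5_4m : tabE7.chk5p 126 59 = true := by decide +kernel
theorem tabE7_chk5_5p : tabE7.chk5p 126 64 = true := by decide +kernel
theorem tabE7_chk5_5m : tabE7.chk5p 126 61 = true := by decide +kernel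
theorem tabE7_chk5_6p : tabE7.chk5p 126 63 = true := by decide +kernel
theorem tabE7_chk5_6m : tabE7.chk5p 126 62 = true := by decide +kernel

end Cfsg.Agent.Lie
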