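import Cfsg.Agent.Lie.TabE7

set_option autoImplicit false
set_option maxRecDepth 100000
set_option Elab.async false

namespace Cfsg.Agent.Lie

open Cfsg.Lie

theorem tabE7_chk2_0 : allR (0 * 21) 21 (tabE7.chk2 chevE7) = true := by decide +kernel
theorem tabE7_chk2_1 : allR (1 * 21) 21 (tabE7.chk2 chevE7) = true := by decide +kernel
theorem tabE7_chk2_2 : allR (2 * 21) 21 (tabE7.chk2 chevE7) = true := by decide +kernel
theorem tabE7_chk2_3 : allR (3 * 21) 21 (tabE7.chk2 chevE7) = true := by decide +kernel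
theorem tabE7_chk2_4 : allR (4 * 21) 21 (tabE7.chk2 chevE7) = true := by decide +kernel
theorem tabE7_chk2_5 : allR (5 * 21) 21 (tabE7.chk2 chevE7) = true := by decide +kernel
theorem tabE7_chk2 : ∀ r < tabE7.n, tabE7.chk2 chevE7 r = true :=
  forall_of_chunks 6 21 (fun c hc =>
    match c, hc with
    | 0, _ => tabE7_chk2_0
    | 1, _ => tabE7_chk2_1
    | 2, _ => tabE7_chk2_2
    | 3, _ => tabE7_chk2_3
    | 4, _ => tabE7_chk2_4
    | 5, _ => tabE7_chk2_5
    | k + 6, h => absurd h (by omega))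

end Cfsg.Agent.Lie
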