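import Cfsg.Agent.Lie.ChkE7A
import Cfsg.Agent.Lie.ChkE7B
import Cfsg.Agent.Lie.ChkE7E
import Cfsg.Agent.Lie.ChkE7C
import Cfsg.Agent.Lie.ChkE7D

set_option autoImplicit false
set_option maxRecDepth 100000
set_option Elab.async false

namespace Cfsg.Agent.Lie

open Cfsg.Lie

theorem isGoodE7 : IsGood chevE7 tabE7.cof tabE7.lenf tabE7.N tabE7.add tabE7.ordf :=
  tabE7.isGood chevE7 tabE7_chk0 tabE7_chkI tabE7_chk1 tabE7_chk2 tabE7_chk3 (fun i hi =>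
    match i, hi with
    | 0, _ => ⟨tabE7_chk4_0p, tabE7_chk4_0m⟩
    | 1, _ => ⟨tabE7_chk4_1p, tabE7_chk4_1m⟩
    | 2, _ => ⟨tabE7_chk4_2p, tabE7_chk4_2m⟩
    | 3, _ => ⟨tabE7_chk4_3p, tabE7_chk4_3m⟩
    | 4, _ => ⟨tabE7_chk4_4p, tabE7_chk4_4m⟩
    | 5, _ => ⟨tabE7_chk4_5p, tabE7_chk4_5m⟩
    | 6, _ => ⟨tabE7_chk4_6p, tabE7_chk4_6m⟩
    | k + 7, h => absurd h (by change ¬ (k + 7 < 7); omega)) (fun i hi =>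
    match i, hi with
    | 0, _ => ⟨tabE7_chk5_0p, tabE7_chk5_0m⟩
    | 1, _ => ⟨tabE7_chk5_1p, tabE7_chk5_1m⟩
    | 2, _ => ⟨tabE7_chk5_2p, tabE7_chk5_2m⟩
    | 3, _ => ⟨tabE7_chk5_3p, tabE7_chk5_3m⟩
    | 4, _ => ⟨tabE7_chk5_4p, tabE7_chk5_4m⟩
    | 5, _ => ⟨tabE7_chk5_5p, tabE7_chk5_5m⟩
    | 6, _ => ⟨tabE7_chk5_6p, tabE7_chk5_6m⟩
    | k + 7, h => absurd h (by change ¬ (k + 7 < 7); omega))

noncomputable instance goodE7 : Good chevE7 := ⟨_, _, _, _, _, isGoodE7⟩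

end Cfsg.Agent.Lie
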