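import Cfsg.Agent.Lie.TabE8

set_option autoImplicit false
set_option maxRecDepth 100000
set_option Elab.async false

namespace Cfsg.Agent.Lie

open Cfsg.Lie

theorem tabE8_chk5_0p : tabE8.chk5p 240 162 = true := by decide +kernel
theorem tabE8_chk5_0m : tabE8.chk5p 240 77 = true := by decide +kernel
theorem tabE8_chk5_1p : tabE8.chk5p 240 141 = true := by decide +kernel
theorem tabE8_chk5_1m : tabE8.chk5p 240 98 = true := by decide +kernel
theorem tabE8_chk5_2p : tabE8.chk5p 240 135 = true := by decide +kernel
theorem tabE8_chk5_2m : tabE8.chk5p 240 104 = true := by decide +kernel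
theorem tabE8_chk5_3p : tabE8.chk5p 240 130 = true := by decide +kernel
theorem tabE8_chk5_3m : tabE8.chk5p 240 109 = true := by decide +kernel

end Cfsg.Agent.Lie
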