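import Cfsg.Agent.Lie.TabE8

set_option autoImplicit false
set_option maxRecDepth 100000
set_option Elab.async false

namespace Cfsg.Agent.Lie

open Cfsg.Lie

theorem tabE8_chk5_4p : tabE8.chk5p 240 126 = true := by decide +kernel
theorem tabE8_chk5_4m : tabE8.chk5p 240 113 = true := by decide +kernel
theorem tabE8_chk5_5p : tabE8.chk5p 240 123 = true := by decide +kernel
theorem tabE8_chk5_5m : tabE8.chk5p 240 116 = true := by decide +kernel
theorem tabE8_chk5_6p : tabE8.chk5p 240 121 = true := by decide +kernel
theorem tabE8_chk5_6m : tabE8.chk5p 240 118 = true := by decide +kernel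
theorem tabE8_chk5_7p : tabE8.chk5p 240 120 = true := by decide +kernel
theorem tabE8_chk5_7m : tabE8.chk5p 240 119 = true := by decide +kernel

end Cfsg.Agent.Lie
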