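import Cfsg.Agent.Lie.TabE8

set_option autoImplicit false
set_option maxRecDepth 100000
set_option Elab.async false

namespace Cfsg.Agent.Lie

open Cfsg.Lie

theorem tabE8_chk2_0 : allR (0 * 15) 15 (tabE8.chk2 chevE8) = true := by decide +kernel
theorem tabE8_chk2_1 : allR (1 * 15) 15 (tabE8.chk2 chevE8) = true := by decide +kernel
theorem tabE8_chk2_2 : allR (2 * 15) 15 (tabE8.chk2 chevE8) = true := by decide +kernel
theorem tabE8_chk2_3 : allR (3 * 15) 15 (tabE8.chk2 chevE8) = true := by decide +kernel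
theorem tabE8_chk2_4 : allR (4 * 15) 15 (tabE8.chk2 chevE8) = true := by decide +kernel
theorem tabE8_chk2_5 : allR (5 * 15) 15 (tabE8.chk2 chevE8) = true := by decide +kernel
theorem tabE8_chk2_6 : allR (6 * 15) 15 (tabE8.chk2 chevE8) = true := by decide +kernel
theorem tabE8_chk2_7 : allR (7 * 15) 15 (tabE8.chk2 chevE8) = true := by decide +kernel
theorem tabE8_chk2_8 : allR (8 * 15) 15 (tabE8.chk2 chevE8) = true := by decide +kernel
theorem tabE8_chk2_9 : allR (9 * 15) 15 (tabE8.chk2 chevE8) = true := by decide +kernel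
theorem tabE8_chk2_10 : allR (10 * 15) 15 (tabE8.chk2 chevE8) = true := by decide +kernel
theorem tabE8_chk2_11 : allR (11 * 15) 15 (tabE8.chk2 chevE8) = true := by decide +kernel
theorem tabE8_chk2_12 : allR (12 * 15) 15 (tabE8.chk2 chevE8) = true := by decide +kernel
theorem tabE8_chk2_13 : allR (13 * 15) 15 (tabE8.chk2 chevE8) = true := by decide +kernel
theorem tabE8_chk2_14 : allR (14 * 15) 15 (tabE8.chk2 chevE8) = true := by decide +kernel
theorem tabE8_chk2_15 : allR (15 * 15) 15 (tabE8.chk2 chevE8) = true := by decide +kernel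
theorem tabE8_chk2 : ∀ r < tabE8.n, tabE8.chk2 chevE8 r = true :=
  forall_of_chunks 16 15 (fun c hc =>
    match c, hc with
    | 0, _ => tabE8_chk2_0
    | 1, _ => tabE8_chk2_1
    | 2, _ => tabE8_chk2_2
    | 3, _ => tabE8_chk2_3
    | 4, _ => tabE8_chk2_4
    | 5, _ => tabE8_chk2_5
    | 6, _ => tabE8_chk2_6
    | 7, _ => tabE8_chk2_7
    | 8, _ => tabE8_chk2_8
    | 9, _ => tabE8_chk2_9
    | 10, _ => tabE8_chk2_10
    | 11, _ => tabE8_chk2_11
    | 12, _ => tabE8_chk2_12
    | 13, _ => tabE8_chk2_13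
    | 14, _ => tabE8_chk2_14
    | 15, _ => tabE8_chk2_15
    | k + 16, h => absurd h (by omega))

end Cfsg.Agent.Lie
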