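import Cfsg.Agent.Lie.ChkE8A
import Cfsg.Agent.Lie.ChkE8B
import Cfsg.Agent.Lie.ChkE8E
import Cfsg.Agent.Lie.ChkE8C
import Cfsg.Agent.Lie.ChkE8D

set_option autoImplicit false
set_option maxRecDepth 100000
set_option Elab.async false

namespace Cfsg.Agent.Lie

open Cfsg.Lie

theorem isGoodE8 : IsGood chevE8 tabE8.cof tabE8.lenf tabE8.N tabE8.add tabE8.ordf :=
  tabE8.isGood chevE8 tabE8_chk0 tabE8_chkI tabE8_chk1 tabE8_chk2 tabE8_chk3 (fun i hi =>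
    match i, hi with
    | 0, _ => ⟨tabE8_chk4_0p, tabE8_chk4_0m⟩
    | 1, _ => ⟨tabE8_chk4_1p, tabE8_chk4_1m⟩
    | 2, _ => ⟨tabE8_chk4_2p, tabE8_chk4_2m⟩
    | 3, _ => ⟨tabE8_chk4_3p, tabE8_chk4_3m⟩
    | 4, _ => ⟨tabE8_chk4_4p, tabE8_chk4_4m⟩
    | 5, _ => ⟨tabE8_chk4_5p, tabE8_chk4_5m⟩
    | 6, _ => ⟨tabE8_chk4_6p, tabE8_chk4_6m⟩
    | 7, _ => ⟨tabE8_chk4_7p, tabE8_chk4_7m⟩
    | k + 8, h => absurd h (by change ¬ (k + 8 < 8); omega)) (fun i hi =>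
    match i, hi with
    | 0, _ => ⟨tabE8_chk5_0p, tabE8_chk5_0m⟩
    | 1, _ => ⟨tabE8_chk5_1p, tabE8_chk5_1m⟩
    | 2, _ => ⟨tabE8_chk5_2p, tabE8_chk5_2m⟩
    | 3, _ => ⟨tabE8_chk5_3p, tabE8_chk5_3m⟩
    | 4, _ => ⟨tabE8_chk5_4p, tabE8_chk5_4m⟩
    | 5, _ => ⟨tabE8_chk5_5p, tabE8_chk5_5m⟩
    | 6, _ => ⟨tabE8_chk5_6p, tabE8_chk5_6m⟩
    | 7, _ => ⟨tabE8_chk5_7p, tabE8_chk5_7m⟩
    | k + 8, h => absurd h (by change ¬ (k + 8 < 8); omega))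

noncomputable instance goodE8 : Good chevE8 := ⟨_, _, _, _, _, isGoodE8⟩

end Cfsg.Agent.Lie
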