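import Cfsg.Agent.Lie.TabF4

set_option autoImplicit false
set_option maxRecDepth 100000
set_option Elab.async false

namespace Cfsg.Agent.Lie

open Cfsg.Lie

theorem tabF4_chk0 : tabF4.chk0 chevF4 = true := by decide +kernel
theorem tabF4_chkI : tabF4.chkI = true := by decide +kernel
theorem tabF4_chk1_0 : allR (0 * 48) 48 (tabF4.chk1) = true := by decide +kernel
theorem tabF4_chk1 : ∀ r < tabF4.n, tabF4.chk1 r = true :=
  forall_of_chunks 1 48 (fun c hc =>
    match c, hc with
    | 0, _ => tabF4_chk1_0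
    | k + 1, h => absurd h (by omega))
theorem tabF4_chk2_0 : allR (0 * 48) 48 (tabF4.chk2 chevF4) = true := by decide +kernel
theorem tabF4_chk2 : ∀ r < tabF4.n, tabF4.chk2 chevF4 r = true :=
  forall_of_chunks 1 48 (fun c hc =>
    match c, hc with
    | 0, _ => tabF4_chk2_0
    | k + 1, h => absurd h (by omega))
theorem tabF4_chk3_0 : allR (0 * 48) 48 (tabF4.chk3) = true := by decide +kernel
theorem tabF4_chk3 : ∀ r < tabF4.n, tabF4.chk3 r = true :=
  forall_of_chunks 1 48 (fun c hc =>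
    match c, hc with
    | 0, _ => tabF4_chk3_0
    | k + 1, h => absurd h (by omega))
theorem tabF4_chk4_0p : tabF4.chk4p 33 = true := by decide +kernel
theorem tabF4_chk4_0m : tabF4.chk4p 14 = true := by decide +kernel
theorem tabF4_chk5_0p : tabF4.chk5p 48 33 = true := by decide +kernel
theorem tabF4_chk5_0m : tabF4.chk5p 48 14 = true := by decide +kernel
theorem tabF4_chk4_1p : tabF4.chk4p 27 = true := by decide +kernel
theorem tabF4_chk4_1m : tabF4.chk4p 20 = true := by decide +kernel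
theorem tabF4_chk5_1p : tabF4.chk5p 48 27 = true := by decide +kernel
theorem tabF4_chk5_1m : tabF4.chk5p 48 20 = true := by decide +kernel
theorem tabF4_chk4_2p : tabF4.chk4p 25 = true := by decide +kernel
theorem tabF4_chk4_2m : tabF4.chk4p 22 = true := by decide +kernel
theorem tabF4_chk5_2p : tabF4.chk5p 48 25 = true := by decide +kernel
theorem tabF4_chk5_2m : tabF4.chk5p 48 22 = true := by decide +kernel
theorem tabF4_chk4_3p : tabF4.chk4p 24 = true := by decide +kernel
theorem tabF4_chk4_3m : tabF4.chk4p 23 = true := by decide +kernel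
theorem tabF4_chk5_3p : tabF4.chk5p 48 24 = true := by decide +kernel
theorem tabF4_chk5_3m : tabF4.chk5p 48 23 = true := by decide +kernel

theorem isGoodF4 : IsGood chevF4 tabF4.cof tabF4.lenf tabF4.N tabF4.add tabF4.ordf :=
  tabF4.isGood chevF4 tabF4_chk0 tabF4_chkI tabF4_chk1 tabF4_chk2 tabF4_chk3 (fun i hi =>
    match i, hi with
    | 0, _ => ⟨tabF4_chk4_0p, tabF4_chk4_0m⟩
    | 1, _ => ⟨tabF4_chk4_1p, tabF4_chk4_1m⟩
    | 2, _ => ⟨tabF4_chk4_2p, tabF4_chk4_2m⟩
    | 3, _ => ⟨tabF4_chk4_3p, tabF4_chk4_3m⟩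
    | k + 4, h => absurd h (by change ¬ (k + 4 < 4); omega)) (fun i hi =>
    match i, hi with
    | 0, _ => ⟨tabF4_chk5_0p, tabF4_chk5_0m⟩
    | 1, _ => ⟨tabF4_chk5_1p, tabF4_chk5_1m⟩
    | 2, _ => ⟨tabF4_chk5_2p, tabF4_chk5_2m⟩
    | 3, _ => ⟨tabF4_chk5_3p, tabF4_chk5_3m⟩
    | k + 4, h => absurd h (by change ¬ (k + 4 < 4); omega))

noncomputable instance goodF4 : Good chevF4 := ⟨_, _, _, _, _, isGoodF4⟩

end Cfsg.Agent.Lie
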