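import Cfsg.Agent.Lie.St

set_option autoImplicit false
set_option linter.unusedSectionVars false
set_option linter.unusedSimpArgs false

/-! Homomorphisms from `SL₂`. -/

namespace Cfsg.Agent.Lie

open Cfsg.Lie
open scoped Matrix MatrixGroups

section SL

variable {K : Type*} [Field K]

/-- upper unitriangular matrices -/
def sU (t : K) : SL(2, K) := ⟨!![1, t; 0, 1], by simp [Matrix.det_fin_two]⟩
/-- lower unitriangular matrices -/
def sL (t : K) : SL(2, K) := ⟨!![1, 0; t, 1], by simp [Matrix.det_fin_two]⟩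
/-- diagonal matrices -/
def sD (t : Kˣ) : SL(2, K) := ⟨!![(t : K), 0; 0, (t : K)⁻¹], by simp [Matrix.det_fin_two]⟩
/-- monomial matrices -/
def sN (t : Kˣ) : SL(2, K) := ⟨!![0, (t : K); -(t : K)⁻¹, 0], by simp [Matrix.det_fin_two]⟩

@[simp] theorem coe_sU (t : K) : (sU t).1 = !![1, t; 0, 1] := rfl
@[simp] theorem coe_sL (t : K) : (sL t).1 = !![1, 0; t, 1] := rfl
@[simp] theorem coe_sD (t : Kˣ) : (sD t).1 = !![(t : K), 0; 0, (t : K)⁻¹] := rfl
@[simp] theorem coe_sN (t : Kˣ) : (sN t).1 = !![0, (t : K); -(t : K)⁻¹, 0] := rfl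

theorem sl2_det (g : SL(2, K)) : g 0 0 * g 1 1 - g 0 1 * g 1 0 = 1 := by
  rw [← Matrix.det_fin_two]; exact g.2

theorem sl2_cases (g : SL(2, K)) : (∃ a t, g = sD a * sU t) ∨ ∃ t a u, g = sU t * sN a * sU u := by
  have h := sl2_det g
  by_cases hc : g 1 0 = 0
  · rw [hc, mul_zero, sub_zero] at h
    have h0 := left_ne_zero_of_mul_eq_one h
    refine Or.inl ⟨Units.mk0 _ h0, g 0 1 / g 0 0, ?_⟩
    ext i j
    fin_cases i <;> fin_cases j <;> simp [hc] <;> field_simp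
    linear_combination h
  · refine Or.inr ⟨g 0 0 / g 1 0, -(Units.mk0 _ hc)⁻¹, g 1 1 / g 1 0, ?_⟩
    ext i j
    fin_cases i <;> fin_cases j <;> simp [hc] <;> field_simp
    linear_combination -h

theorem sN_eq (a : Kˣ) : sN a = sU (a : K) * sL (-(a : K)⁻¹) * sU (a : K) := by
  ext i j
  fin_cases i <;> fin_cases j <;> simp

theorem sD_eq (a : Kˣ) : sD a = sN a * sN (-1) := by
  ext i j
  fin_cases i <;> fin_cases j <;> simp

theorem sl2_le {S : Submonoid SL(2, K)} (h : ∀ t, sU t ∈ S) (h' : ∀ t, sL t ∈ S) (g : SL(2, K)) : g ∈ S := by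
  have hN : ∀ a, sN a ∈ S := fun a => sN_eq a ▸ mul_mem (mul_mem (h _) (h' _)) (h _)
  rcases sl2_cases g with ⟨a, t, rfl⟩ | ⟨t, a, u, rfl⟩
  · exact mul_mem (sD_eq a ▸ mul_mem (hN _) (hN _)) (h _)
  · exact mul_mem (mul_mem (h _) (hN _)) (h _)

theorem exists_sl2 {Γ : Type*} [Group Γ] (X : K → Γ) (N H : Kˣ → Γ) (hX : ∀ t u, X t * X u = X (t + u))
    (h1 : H 1 = 1) (hHX : ∀ s u, H s * X u = X (s ^ 2 * u) * H s) (hNN : ∀ s t, N s * N t = H (-s * t⁻¹))
    (hHN : ∀ s t, H s * N t = N (s * t)) (hNH : ∀ s t, N s * H t = N (s * t⁻¹))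
    (hNXN : ∀ s t : Kˣ, N s * X t * (N s)⁻¹ = X (-(s ^ 2 / t)) * N (s ^ 2 / t) * X (-(s ^ 2 / t))) :
    ∃ f : SL(2, K) →* Γ, (∀ t, f (sU t) = X t) ∧ ∀ a, f (sN a) = N a := by
  classical
  have h0 : X 0 = 1 := by simpa using hX 0 0
  let f : SL(2, K) → Γ := fun g =>
    if hc : g 1 0 = 0 then H (Units.mk0 (g 0 0) fun h => by simpa [h, hc] using sl2_det g) * X (g 0 1 / g 0 0)
    else X (g 0 0 / g 1 0) * N (-(Units.mk0 _ hc)⁻¹) * X (g 1 1 / g 1 0)
  have f1 : ∀ a t, f (sD a * sU t) = H a * X t := fun a t => by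
    simp [f]
  have f2 : ∀ t a u, f (sU t * sN a * sU u) = X t * N a * X u := fun t a u => by
    have : (sU t * sN a * sU u) 1 0 = -(a : K)⁻¹ := by simp
    have h2 : (sU t * sN a * sU u) 1 0 ≠ 0 := by simp [this]
    simp only [f, dif_neg h2]
    congr 2
    · simp
    · congr 1; ext; simp [this]
    · simp; field_simp
  have sUU : ∀ t u : K, sU t * sU u = sU (t + u) := fun t u => by
    ext i j; fin_cases i <;> fin_cases j <;> simp [add_comm]
  have sU0 : sU (0 : K) = 1 := by ext i j; fin_cases i <;> fin_cases j <;> simp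
  have sD1 : sD (1 : Kˣ) = 1 := by ext i j; fin_cases i <;> fin_cases j <;> simp
  have fU : ∀ t, f (sU t) = X t := fun t => by simpa [sD1, h1] using f1 1 t
  have fN : ∀ a, f (sN a) = N a := fun a => by simpa [sU0, h0] using f2 0 a 0
  have hXH : ∀ (s : Kˣ) u, X u * H s = H s * X (u / s ^ 2) := fun s u => by
    rw [hHX]; congr 2; field_simp
  have mU : ∀ g v, f (g * sU v) = f g * X v := fun g v => by
    rcases sl2_cases g with ⟨a, t, rfl⟩ | ⟨t, a, u, rfl⟩
    · rw [mul_assoc, sUU, f1, f1, mul_assoc, hX]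
    · rw [mul_assoc, sUU, f2, f2, mul_assoc _ (X u), hX]
  have mN : ∀ g b, f (g * sN b) = f g * N b := fun g b => by
    rcases sl2_cases g with ⟨a, t, rfl⟩ | ⟨t, a, u, rfl⟩
    · rw [f1, hHX, mul_assoc (X _), hHN, ← mul_one (_ * N _), ← h0, ← f2]
      congr 1
      ext i j; fin_cases i <;> fin_cases j <;> simp <;> field_simp
    · by_cases hu : u = 0
      · rw [f2, hu, h0, mul_one, mul_assoc (X t), hNN, hXH, ← f1]
        congr 1
        ext i j; fin_cases i <;> fin_cases j <;> simp <;> field_simp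
      · have : X t * N a * X u * N b = X t * (N a * X (Units.mk0 u hu) * (N a)⁻¹) * (N a * N b) := by simp [mul_assoc]
        rw [f2, this, hNXN, hNN]
        simp only [mul_assoc]
        rw [hXH, ← mul_assoc (N _), hNH, ← mul_assoc (X t), hX, ← mul_assoc (X _), ← f2]
        congr 1
        ext i j; fin_cases i <;> fin_cases j <;> simp <;> field_simp <;> ring
  have f0 : f 1 = 1 := by rw [← sU0, fU, h0]
  let S : Submonoid SL(2, K) :=
    { carrier := {s | ∀ g, f (g * s) = f g * f s}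
      one_mem' := fun g => by rw [mul_one, f0, mul_one]
      mul_mem' := fun {a b} ha hb g => by rw [← mul_assoc, hb, ha, hb, mul_assoc] }
  have hU : ∀ t, sU t ∈ S := fun t g => by rw [mU, fU]
  have hN : ∀ t, sN t ∈ S := fun t g => by rw [mN, fN]
  refine ⟨MonoidHom.mk' f fun a b => ?_, fU, fN⟩
  suffices b ∈ S from this a
  rcases sl2_cases b with ⟨a, t, rfl⟩ | ⟨t, a, u, rfl⟩
  · exact mul_mem (sD_eq a ▸ mul_mem (hN _) (hN _)) (hU _)
  · exact mul_mem (mul_mem (hU _) (hN _)) (hU _)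

end SL

variable {D : ChevalleyDatum} [G : Good D] {F : Type*} [Field F] {Γ : Type*} [Group Γ]

theorem Sys.exists_sl2 {x : Rt D → F → Γ} {θ : Γ →* GL D.Idx F} (hS : Sys x θ) (r : Rt D) :
    ∃ f : SL(2, F) →* Γ, (∀ t, f (sU t) = x r t) ∧ (∀ t, f (sL t) = x (ng r) t) ∧ (∀ a, f (sN a) = nX x r a) ∧
      ∀ a, f (sD a) = hX x r a := by
  obtain ⟨f, h1, h2⟩ := Lie.exists_sl2 (x r) (nX x r) (hX x r) (hS.x_add r) (hS.h_one r)
    (fun s u => by
      rw [← mul_inv_eq_iff_eq_mul, hS.hX_conj, A_self]; simp [zpow_ofNat])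
    (hS.n_mul_n r) (fun s t => by rw [hS.n_eq r t, ← mul_assoc, hS.hmul, ← hS.n_eq])
    (fun s t => by
      rw [show hX x r t = nX x r t * nX x r (-1) from rfl, ← mul_assoc, hS.n_mul_n, hS.n_eq r (-1), ← mul_assoc,
        hS.hmul, ← hS.n_eq]
      congr 1; simp)
    (fun s t => by
      have := hS.x_ng_eq r (s ^ 2 / t)
      simp only [Units.val_div_eq_div_val, Units.val_pow_eq_pow_val] at this
      rw [← this, hS.n_conj, rf_self, A_self]
      congr 1
      simp [etaU, eta_self, zpow_ofNat]; field_simp)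
  refine ⟨f, h1, fun t => ?_, h2, fun a => by rw [sD_eq, map_mul, h2, h2]; rfl⟩
  by_cases ht : t = 0
  · rw [ht, hS.x_zero, ← map_one f]; congr 1
    ext i j; fin_cases i <;> fin_cases j <;> simp
  · have := h2 (-(Units.mk0 t ht)⁻¹)
    rw [sN_eq, map_mul, map_mul, h1, nX] at this
    simpa using this

omit G in
theorem range_sl2 {x : Rt D → F → Γ} {r s : Rt D} {f : SL(2, F) →* Γ} (h : ∀ t, f (sU t) = x r t)
    (h' : ∀ t, f (sL t) = x s t) : f.range = XS x {r} ⊔ XS x {s} := by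
  refine le_antisymm ?_ (sup_le (XS_le.2 ?_) (XS_le.2 ?_))
  · rintro _ ⟨g, rfl⟩
    refine sl2_le (S := ((XS x {r} ⊔ XS x {s}).comap f).toSubmonoid) (fun t => ?_) (fun t => ?_) g
    · change f _ ∈ XS x {r} ⊔ XS x {s}
      rw [h]; exact Subgroup.mem_sup_left (mem_XS (S := {r}) rfl t)
    · change f _ ∈ XS x {r} ⊔ XS x {s}
      rw [h']; exact Subgroup.mem_sup_right (mem_XS (S := {s}) rfl t)
  · rintro _ rfl t; exact ⟨_, h t⟩
  · rintro _ rfl t; exact ⟨_, h' t⟩

end Cfsg.Agent.Lie
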