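import Cfsg.Agent.Lie.TabG2

set_option autoImplicit false
set_option maxRecDepth 100000
set_option Elab.async false

namespace Cfsg.Agent.Lie

open Cfsg.Lie

theorem tabG2_chk0 : tabG2.chk0 chevG2 = true := by decide +kernel
theorem tabG2_chkI : tabG2.chkI = true := by decide +kernel
theorem tabG2_chk1_0 : allR (0 * 12) 12 (tabG2.chk1) = true := by decide +kernel
theorem tabG2_chk1 : ∀ r < tabG2.n, tabG2.chk1 r = true :=
  forall_of_chunks 1 12 (fun c hc =>
    match c, hc with
    | 0, _ => tabG2_chk1_0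
    | k + 1, h => absurd h (by omega))
theorem tabG2_chk2_0 : allR (0 * 12) 12 (tabG2.chk2 chevG2) = true := by decide +kernel
theorem tabG2_chk2 : ∀ r < tabG2.n, tabG2.chk2 chevG2 r = true :=
  forall_of_chunks 1 12 (fun c hc =>
    match c, hc with
    | 0, _ => tabG2_chk2_0
    | k + 1, h => absurd h (by omega))
theorem tabG2_chk3_0 : allR (0 * 12) 12 (tabG2.chk3) = true := by decide +kernel
theorem tabG2_chk3 : ∀ r < tabG2.n, tabG2.chk3 r = true :=
  forall_of_chunks 1 12 (fun c hc =>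
    match c, hc with
    | 0, _ => tabG2_chk3_0
    | k + 1, h => absurd h (by omega))
theorem tabG2_chk4_0p : tabG2.chk4p 7 = true := by decide +kernel
theorem tabG2_chk4_0m : tabG2.chk4p 4 = true := by decide +kernel
theorem tabG2_chk5_0p : tabG2.chk5p 12 7 = true := by decide +kernel
theorem tabG2_chk5_0m : tabG2.chk5p 12 4 = true := by decide +kernel
theorem tabG2_chk4_1p : tabG2.chk4p 6 = true := by decide +kernel
theorem tabG2_chk4_1m : tabG2.chk4p 5 = true := by decide +kernel
theorem tabG2_chk5_1p : tabG2.chk5p 12 6 = true := by decide +kernel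
theorem tabG2_chk5_1m : tabG2.chk5p 12 5 = true := by decide +kernel

theorem isGoodG2 : IsGood chevG2 tabG2.cof tabG2.lenf tabG2.N tabG2.add tabG2.ordf :=
  tabG2.isGood chevG2 tabG2_chk0 tabG2_chkI tabG2_chk1 tabG2_chk2 tabG2_chk3 (fun i hi =>
    match i, hi with
    | 0, _ => ⟨tabG2_chk4_0p, tabG2_chk4_0m⟩
    | 1, _ => ⟨tabG2_chk4_1p, tabG2_chk4_1m⟩
    | k + 2, h => absurd h (by change ¬ (k + 2 < 2); omega)) (fun i hi =>
    match i, hi with
    | 0, _ => ⟨tabG2_chk5_0p, tabG2_chk5_0m⟩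
    | 1, _ => ⟨tabG2_chk5_1p, tabG2_chk5_1m⟩
    | k + 2, h => absurd h (by change ¬ (k + 2 < 2); omega))

noncomputable instance goodG2 : Good chevG2 := ⟨_, _, _, _, _, isGoodG2⟩

end Cfsg.Agent.Lie
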