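import Cfsg.Agent.Lie.Compute
import Cfsg.Agent.Lie.GoodG2

set_option autoImplicit false
set_option maxRecDepth 100000
set_option Elab.async false

/-! Computations for type G2. -/

namespace Cfsg.Agent.Lie

open Cfsg.Lie

/-- the Cartan matrix -/
def carG2 : List (List ℤ) := [[2, -3], [-1, 2]]

theorem cartanIsG2 : CartanIs chevG2 carG2 := by decide +kernel

theorem coxG2 : ∃ e : W chevG2 ≃* CoxeterMatrix.G₂.Group, ∀ i, e (sw i) = CoxeterMatrix.G₂.simple i :=
  exists_cox cartanIsG2 CoxeterMatrix.G₂ [[1, 6], [6, 1]]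
    (show ∀ i j : Fin 2, CoxeterMatrix.G₂.M i j = (List.getD [[1, 6], [6, 1]] i []).getD j 0 by
      intro i j; fin_cases i <;> fin_cases j <;> rfl) (by decide +kernel)

theorem coxNumG2 : orderOf (toW (List.range chevG2.rank) : W chevG2) = 6 :=
  orderOf_toW2 cartanIsG2 (O := 0x180808080808081818080808080807e858080808080807d848080808080807f7f808080808080827b808080808080837c8080808080808181) (by decide +kernel)

theorem kerG2 (M : Type*) [CommGroup M] [IsCyclic M] [Finite M] :
    Nat.card (carH (D := chevG2) M).ker = 1 := by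
  rw [card_ker_carH cartanIsG2 (P := [[0, -1], [1, 2]]) (P' := [[2, 1], [-1, 0]])
    (Q := [[1, 2], [0, 1]]) (Q' := [[1, -2], [0, 1]]) (d := [1, 1]) (by decide +kernel)]
  simp [show chevG2.rank = 2 from rfl, Finset.prod_range_succ, Nat.gcd_comm, sq]

theorem pchkG2_0 : pchk carG2 chevG2.rank (fun i => [i]) (fun i => [i]) (fun _ => 1) [0, 1] [1]
    [0, 1, 2, 3, 4, 5]
    0x1808080808080807f8080808080807f81808080808080817e8080808080807f82808080808080817f8080808080808081
    0x1000000000000050400000000000003050000000000000402000000000000010300000000000002000000000000000001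
    0x1000100010000 = true := by decide +kernel

theorem pchkG2_1 : pchk carG2 chevG2.rank (fun i => [i]) (fun i => [i]) (fun _ => 1) [1] []
    [0, 1]
    0x18080808080807f838080808080808180
    0x100000000000000000000000000000100
    0x10100 = true := by decide +kernel

theorem psG2 {c : W chevG2 → ℕ} {q : ℕ}
    (hc : ∀ w ∈ Wf (1 : Equiv.Perm (Rt chevG2)), ∀ i : Ix chevG2, Pos (w⁻¹.1 (sim i)) →
      c (gO 1 i * w) = q ^ (fun _ : ℕ => 1) i * c w) :
    PS 1 c Set.univ = (q ^ 0 + q ^ 1 + q ^ 2 + q ^ 3 + q ^ 4 + q ^ 5) * (q ^ 0 + q ^ 1) * c 1 := by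
  rw [univ_eq_range, show List.range chevG2.rank = [0, 1] from rfl,
    poincare_chk cartanIsG2 sym_one orbData_one hc pchkG2_0, poincare_chk cartanIsG2 sym_one orbData_one hc pchkG2_1,
    empty_eq_nil, PS_empty]
  simp only [List.map_cons, List.map_nil, List.sum_cons, List.sum_nil, ← mul_assoc]
  refine congrArg₂ _ (congrArg₂ _ (?_) ?_) rfl <;> ring

theorem cardWG2 : Nat.card (W chevG2) = 12 := by
  rw [card_W_eq, psG2 hc_one]; norm_num

theorem orderG2 {F : Type*} [Field F] [Fintype F] {q : ℕ} (hq : Fintype.card F = q) :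
    1 * Nat.card (chevG2.group F) = q ^ 6 * (q ^ 2 - 1) * (q ^ 6 - 1) := by
  have hk := kerG2 Fˣ
  
  rw [order_eq hq hk (psG2 (hc_wl q)), invGen_sw.wl_one, show chevG2.rank = 2 from rfl,
    show chevG2.nroots / 2 = 6 from rfl]
  simp only [mul_assoc]
  congr 1
  have h1 : 1 ≤ q := hq ▸ Fintype.card_pos
  zify [h1, Nat.one_le_pow 2 q h1, Nat.one_le_pow 6 q h1]
  ring

theorem perfectG2 {F : Type*} [Field F] {a : F} (h0 : a ≠ 0) (h1 : a ≠ 1) :
    commutator (chevG2.group F) = ⊤ := by
  refine perfect_of_sim fun i t => ?_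
  fin_cases i
  · exact mem_comm_of_A h0 h1 (s := ⟨1, by decide⟩) (by decide +kernel) t
  · exact mem_comm_of_A h0 h1 (s := ⟨0, by decide⟩) (by decide +kernel) t

end Cfsg.Agent.Lie
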