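import Cfsg.Agent.Lie.Sz1

set_option autoImplicit false
set_option linter.unusedSectionVars false
set_option linter.unusedSimpArgs false
set_option linter.unnecessarySeqFocus false

/-! Actions and Sylow subgroups of the Suzuki groups. -/

namespace Cfsg.Agent.Lie

open Subgroup Cfsg.Lie MulAction
open scoped Matrix MatrixGroups Pointwise

section act

variable {G M : Type*} [Group G] [CommGroup M] (X : Rk1 G M) {Ω : Type*} [MulAction G Ω] {ω : Ω}
  (hs : stabilizer G ω = X.B) (ht : ∀ x, ∃ g : G, g • ω = x)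
include hs ht

theorem Rk1.exists_equiv : ∃ φ : G ⧸ X.B ≃ Ω, (∀ (g : G) x, φ (g • x) = g • φ x) ∧ φ (1 : G) = ω := by
  let φ : G ⧸ X.B → Ω := Quotient.lift (· • ω) fun a b h => by
    rw [eq_comm, ← inv_smul_eq_iff, ← mul_smul]; exact hs.ge (QuotientGroup.leftRel_apply.1 h)
  refine ⟨Equiv.ofBijective φ ⟨fun a b h => ?_, fun x => let ⟨g, h⟩ := ht x; ⟨g, h⟩⟩, fun g x => ?_, one_smul _ _⟩
  · obtain ⟨a, rfl⟩ := QuotientGroup.mk_surjective a
    obtain ⟨b, rfl⟩ := QuotientGroup.mk_surjective b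
    exact QuotientGroup.eq.2 (hs.le (by rw [mem_stabilizer_iff, mul_smul, inv_smul_eq_iff]; exact h.symm))
  · obtain ⟨a, rfl⟩ := QuotientGroup.mk_surjective x
    exact mul_smul _ _ _

theorem Rk1.two_pre : IsMultiplyPretransitive G Ω 2 := by
  obtain ⟨φ, h, -⟩ := X.exists_equiv hs ht
  refine is_two_pretransitive_iff.2 fun {a b c d} h1 h2 => ?_
  obtain ⟨g, e1, e2⟩ := X.two_trans (φ.symm.injective.ne h1)
  obtain ⟨g', e3, e4⟩ := X.two_trans (φ.symm.injective.ne h2)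
  refine ⟨g'⁻¹ * g, ?_, ?_⟩ <;> rw [mul_smul, inv_smul_eq_iff]
  · simpa [h] using congrArg φ (e1.trans e3.symm)
  · simpa [h] using congrArg φ (e2.trans e4.symm)

theorem Rk1.regular {x y : Ω} (hx : x ≠ ω) (hy : y ≠ ω) : ∃! s : X.U, (s : G) • x = y := by
  obtain ⟨φ, h, rfl⟩ := X.exists_equiv hs ht
  obtain ⟨x, rfl⟩ := φ.surjective x
  obtain ⟨y, rfl⟩ := φ.surjective y
  obtain ⟨u, hu, rfl⟩ := (X.coset_cases x).resolve_left fun e => hx (by rw [e])
  obtain ⟨v, hv, rfl⟩ := (X.coset_cases y).resolve_left fun e => hy (by rw [e])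
  simp only [← h, φ.apply_eq_iff_eq, Rk1.smul_mk, ← mul_assoc]
  exact ⟨⟨v * u⁻¹, mul_mem hv (inv_mem hu)⟩, by simp, fun s e =>
    Subtype.ext (eq_mul_inv_iff_mul_eq.2 (X.U_regular (mul_mem s.2 hu) hv e))⟩

end act

namespace Szk

variable {G K : Type*} [Group G] [Finite G] [Field K] [Fintype K] (X : Szk G K) {m : ℕ}
  (hK : Fintype.card K = 2 ^ (2 * m + 1))

theorem three {g : G} {x y z : G ⧸ X.B} (h1 : x ≠ y) (h2 : y ≠ z) (h3 : x ≠ z) (e1 : g • x = x) (e2 : g • y = y)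
    (e3 : g • z = z) : g = 1 := by
  obtain ⟨c, hx, hy⟩ := X.two_trans h1
  have h : ∀ {x : G ⧸ X.B}, g • x = x → (c * g * c⁻¹) • c • x = c • x := fun e => by simp [mul_smul, e]
  obtain ⟨k, hk⟩ := X.stab_two.le ⟨hx ▸ h e1, hy ▸ h e2⟩
  obtain ⟨u, hu, e⟩ := (X.coset_cases (c • z)).resolve_left fun e => h3 (smul_left_cancel c (hx.trans e.symm))
  by_contra hg
  have := X.fpf k (by rintro rfl; exact hg (conj_eq_one_iff.1 (hk.symm.trans (map_one _)))) u hu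
    ((X.h_smul_eq hu).1 (e ▸ hk ▸ h e3))
  exact h2 (smul_left_cancel c (by rw [hy, e, this, one_mul]))

include hK

theorem zass (hm : 1 ≤ m) {Ω : Type*} [MulAction G Ω] {ω : Ω} (hs : stabilizer G ω = X.B)
    (ht : ∀ x, ∃ g : G, g • ω = x) : IsZassenhausGroup G Ω := by
  obtain ⟨φ, h, rfl⟩ := X.exists_equiv hs ht
  have := X.simple hK hm
  have hB : X.B ≠ ⊤ := fun e => X.n_not_mem (e ▸ mem_top _)
  obtain ⟨-, k, hk⟩ := exists_k hK hm
  refine ⟨⟨fun {a b} e => ?_⟩, X.two_pre hs ht, fun g a b c h1 h2 h3 e1 e2 e3 => X.three (φ.symm.injective.ne h1)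
    (φ.symm.injective.ne h2) (φ.symm.injective.ne h3) (φ.injective (by simpa [h])) (φ.injective (by simpa [h]))
    (φ.injective (by simpa [h])), ⟨X.h k, fun e => hk (X.h_inj (e.trans (map_one _).symm)), _, _, φ.injective.ne X.n_ne,
      by rw [← h, (X.stab_two.ge ⟨k, rfl⟩).1], by rw [← h, (X.stab_two.ge ⟨k, rfl⟩).2]⟩, fun N hN hN' => ⟨φ (1 : G), ?_⟩⟩
  · have h1 := (MonoidHom.normal_ker (toPermHom G Ω)).eq_bot_or_eq_top.resolve_right fun e => hB (top_le_iff.1 fun x hx =>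
      hs.le (Equiv.congr_fun (MonoidHom.mem_ker.1 (e.ge hx)) _))
    exact (MonoidHom.ker_eq_bot_iff _).1 h1 (Equiv.ext e)
  · rcases hN.eq_bot_or_eq_top with rfl | rfl
    · obtain ⟨⟨_, rfl⟩, e⟩ := hN'.exists_smul_eq (φ (1 : G)) (φ X.n)
      exact absurd (φ.injective ((one_smul _ _).symm.trans e)) X.n_ne
    · exact fun e => hk (X.h_inj ((congrArg Subtype.val (e.le (x := ⟨X.h k, trivial⟩)
        (hs.ge (X.h_mem_B k)))).trans (map_one _).symm))

theorem exists_sylow : ∃ S : Sylow 2 G, S = X.U ∧ normalizer ((S : Subgroup G) : Set G) = X.B :=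
  have : Fact (Nat.Prime 2) := ⟨Nat.prime_two⟩
  ⟨(X.U_pgroup hK).toSylow (X.index_U' hK), rfl, X.normalizer_U X.U_ne_bot⟩

end Szk

namespace Suz

variable {F : Type*} [Field F]

theorem exists_setup [Fintype F] {m : ℕ} (hm : 1 ≤ m) (hF : Fintype.card F = 2 ^ (2 * m + 1)) : ∃ (_ : CharP F 2)
    (θ : F →+* F), (∀ x, θ (θ x) = x ^ 2) ∧ (∀ x, θ x = x ^ 2 ^ (m + 1)) ∧ ∃ k : F, k ≠ 0 ∧ k ≠ 1 := by
  have := charP_of_card Nat.prime_two hF
  obtain ⟨-, k, hk⟩ := Szk.exists_k hF hm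
  refine ⟨this, iterateFrobenius F 2 (m + 1), fun x => ?_, fun _ => rfl, k, k.ne_zero, fun e => hk (Units.ext e)⟩
  rw [iterateFrobenius_def, iterateFrobenius_def, ← pow_mul, ← pow_add, show m + 1 + (m + 1) = 2 * m + 1 + 1 by ring,
    pow_succ, pow_mul, ← hF, FiniteField.pow_card]

theorem card_O [Fintype F] (m : ℕ) : Nat.card (suzukiOvoid F m) = Fintype.card F ^ 2 + 1 := by
  rw [sq, ← Fintype.card_prod, ← Fintype.card_option, ← Nat.card_eq_fintype_card]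
  refine (Nat.card_eq_of_bijective (fun p => p.elim ⟨_, _, by simp, rfl, Or.inl rfl⟩
    fun p => ⟨_, _, by simp, rfl, Or.inr ⟨p.1, p.2, rfl⟩⟩) ⟨?_, ?_⟩).symm
  · rintro (_ | a) (_ | b) e <;> obtain ⟨c, h⟩ := (Projectivization.mk_eq_mk_iff F _ _ _ _).1 (congrArg Subtype.val e) <;>
      have h3 := congrFun h 3 <;> simp [Units.smul_def] at h3
    exacts [rfl, congrArg _ (Prod.ext (by simpa [h3] using (congrFun h 2).symm) (by simpa [h3] using (congrFun h 1).symm))]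
  · rintro ⟨_, _, _, rfl, rfl | ⟨x, y, rfl⟩⟩
    exacts [⟨none, rfl⟩, ⟨some (x, y), rfl⟩]

theorem mem_Sp4 {g : GL (Fin 4) F} : g ∈ Sp4 F ↔ g.1ᵀ * suzukiForm F * g.1 = suzukiForm F := by
  have h : ∀ u v, altForm4 u v = u ⬝ᵥ suzukiForm F *ᵥ v := fun u v => by
    simp [altForm4, suzukiForm, Matrix.mulVec, dotProduct, Fin.sum_univ_four]
  change (∀ u v, altForm4 (g.1 *ᵥ u) (g.1 *ᵥ v) = altForm4 u v) ↔ _
  simp only [h, Matrix.mulVec_mulVec]
  simp only [Matrix.dotProduct_mulVec, Matrix.vecMul_mulVec, ← mul_assoc]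
  exact ⟨fun h => by ext i j; simpa using h (Pi.single i 1) (Pi.single j 1), fun h => by simp [h]⟩

variable [CharP F 2] {θ : F →+* F} (hθ : ∀ x, θ (θ x) = x ^ 2) [Fintype F] {m : ℕ}
  (hθ' : ∀ x, θ x = x ^ 2 ^ (m + 1)) {k : F} (hk : k ≠ 0 ∧ k ≠ 1)
include hθ hθ' hk

theorem Sz_le {S : Subgroup SL(4, F)} (h : ∀ g : SL(4, F), SS θ g.1 → g ∈ S) : Cfsg.Sz F m ≤ S := fun g hg => by
  rcases (szk hθ hθ' hk).bruhat ⟨g, hg⟩ with ⟨u, ⟨a, b, h1⟩, t, e⟩ | ⟨u, ⟨a, b, h1⟩, t, v, ⟨c, d, h2⟩, e⟩ <;>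
    rw [show g = _ from congrArg Subtype.val e]
  exacts [mul_mem (h1 ▸ h _ (ss_mU hθ a b)) (h _ (ss_mH hθ t)), mul_mem (mul_mem (h1 ▸ h _ (ss_mU hθ a b))
    (mul_mem (h _ (ss_mH hθ t)) (h _ ss_mN))) (h2 ▸ h _ (ss_mU hθ c d))]

theorem sz_equiv : Nonempty (Cfsg.Sz F m ≃* Cfsg.Lie.Sz F (2 ^ (m + 1))) := by
  have h : ∀ g : Matrix (Fin 4) (Fin 4) F, g.map θ = g.map (· ^ 2 ^ (m + 1)) := fun g => by ext; simp [hθ']
  refine ⟨((Cfsg.Sz F m).equivMapOfInjective Matrix.SpecialLinearGroup.toGL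
    Matrix.SpecialLinearGroup.toGL_injective).trans (MulEquiv.subgroupCongr (le_antisymm (map_le_iff_le_comap.2
    (Sz_le hθ hθ' hk fun g hg => subset_closure ⟨mem_Sp4.2 hg.1, h _ ▸ hg.2⟩)) ((closure_le _).2 fun g hg => ?_)))⟩
  have h1 : SS θ g.1 := ⟨mem_Sp4.1 hg.1, h _ ▸ hg.2⟩
  exact ⟨⟨g.1, h1.det⟩, h1.mem hθ hθ', Units.ext rfl⟩

theorem stab_B : stabilizer (Cfsg.Sz F m) (suzukiPointInfinity F) = (szk hθ hθ' hk).B := by
  ext g
  rw [mem_stabilizer_iff, Rk1.mem_B, Subgroup.smul_def, stab_inf hθ hθ']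
  constructor
  · rintro ⟨h1, h2, h3⟩
    obtain ⟨a, b, t, e⟩ := mem_B hθ hθ' hk g.2 h1 h2 h3
    exact ⟨⟨_, (ss_mU hθ a b).mem hθ hθ'⟩, ⟨a, b, rfl⟩, t, Subtype.ext e⟩
  · rintro ⟨u, ⟨a, b, h⟩, t, rfl⟩
    simp [h, szk, Matrix.mul_apply, Fin.sum_univ_four]

theorem smul_inf (a b : F) : (mU θ a b * mN F) • suzukiPointInfinity F =
    Projectivization.mk F ![fz θ a b, b, a, 1] (by simp) := by
  rw [suzukiPointInfinity, Projectivization.smul_mk]; congr 1
  ext i; fin_cases i <;>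
    simp [Matrix.SpecialLinearGroup.smul_def, Matrix.mulVec, dotProduct, Fin.sum_univ_four, Matrix.mul_apply]

theorem stab_H : stabilizer (Cfsg.Sz F m) (suzukiPointInfinity F) ⊓ stabilizer (Cfsg.Sz F m) (suzukiPointZero F) =
    (szk hθ hθ' hk).h.range := by
  have : suzukiPointZero F = (szk hθ hθ' hk).n • suzukiPointInfinity F := by
    simpa [mU_zero, fz] using! (smul_inf hθ hθ' hk 0 0).symm
  rw [← Rk1.stab_two, Rk1.stab_one, stab_B hθ hθ' hk, this]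
  congr 1; ext g
  rw [Rk1.mem_stab, ← stab_B hθ hθ' hk, mem_stabilizer_iff, mem_stabilizer_iff, mul_smul, mul_smul, inv_smul_eq_iff]

omit hk in
theorem inf_mem : suzukiPointInfinity F ∈ suzukiOvoid F m := (mem_O hθ hθ' _).2 ov_inf

theorem trans_O (x : suzukiOvoid F m) : ∃ g : Cfsg.Sz F m, g • (⟨_, inf_mem hθ hθ'⟩ : suzukiOvoid F m) = x := by
  obtain ⟨_, _, _, rfl, rfl | ⟨x, y, rfl⟩⟩ := x
  · exact ⟨1, one_smul _ _⟩
  · refine ⟨⟨_, mul_mem ((ss_mU hθ x y).mem hθ hθ') (ss_mN.mem hθ hθ')⟩, Subtype.ext ((smul_inf hθ hθ' hk x y).trans ?_)⟩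
    simp only [fz, hθ', pow_add x]

theorem stab_O : stabilizer (Cfsg.Sz F m) (⟨_, inf_mem hθ hθ'⟩ : suzukiOvoid F m) = (szk hθ hθ' hk).B := by
  rw [← stab_B hθ hθ' hk]; ext g; exact Subtype.ext_iff

theorem indep3 (p : Fin 3 ↪ suzukiOvoid F m) :
    Projectivization.Independent (fun i => (p i : Projectivization F (Fin 4 → F))) := by
  let X := szk hθ hθ' hk
  obtain ⟨g, h0, h1⟩ := is_two_pretransitive_iff.1 (X.two_pre (stab_O hθ hθ' hk) (trans_O hθ hθ' hk))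
    (p.injective.ne (show (0 : Fin 3) ≠ 1 by decide)) (c := ⟨_, inf_mem hθ hθ'⟩)
    (d := ⟨_, (mem_O hθ hθ' (by simp)).2 (ov_aff hθ 0 0)⟩) (fun e => by
      obtain ⟨c, h⟩ := (Projectivization.mk_eq_mk_iff F _ _ _ _).1 (congrArg Subtype.val e)
      simpa [Units.smul_def] using congrFun h 3)
  obtain ⟨v, hv, e, h2⟩ := (g • p 2).2
  obtain ⟨x, y, rfl⟩ := h2.resolve_left (by
    rintro rfl; exact absurd (p.injective (smul_left_cancel g (h0.trans (Subtype.ext e.symm)))) (by decide))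
  have h3 : ¬ (x = 0 ∧ y = 0) := by
    rintro ⟨rfl, rfl⟩
    exact absurd (p.injective (smul_left_cancel g (h1.trans (Subtype.ext (e.trans (by simp [fz])).symm)))) (by decide)
  have h4 : LinearIndependent F ![![1, 0, 0, 0], ![fz θ 0 0, 0, 0, 1],
      ![x * y + x ^ (2 ^ (m + 1) + 2) + y ^ 2 ^ (m + 1), y, x, 1]] := by
    refine Fintype.linearIndependent_iff.2 fun c hc => ?_
    have a0 := congrFun hc 0
    have a1 := congrFun hc 1
    have a2 := congrFun hc 2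
    have a3 := congrFun hc 3
    simp [Fin.sum_univ_three, fz] at a0 a1 a2 a3
    have : c 2 = 0 := by tauto
    intro i; fin_cases i <;> simp_all
  convert Projectivization.Independent.mk _ (h4.map' (Matrix.SpecialLinearGroup.toLin' g⁻¹.1).toLinearMap
    (LinearEquiv.ker _)).ne_zero (h4.map' _ (LinearEquiv.ker _)) with i
  fin_cases i
  exacts [congrArg Subtype.val (eq_inv_smul_iff.2 h0), congrArg Subtype.val (eq_inv_smul_iff.2 h1),
    eq_inv_smul_iff.2 e]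

omit hθ' in
theorem θ_ne : θ k ≠ k := fun e => by
  have h5 := hθ k
  rw [e, e] at h5
  grind

omit hθ' hk in
theorem norm_inj : Function.Injective fun c => θ c * c := fun c d e => by
  have e' := congrArg θ e
  simp only [map_mul, hθ] at e e'
  by_cases hd : d = 0
  · simpa [hd] using e
  by_cases hc : c = 0
  · simpa [hc, hd] using e
  have := (map_ne_zero θ).2 hd
  have := (map_ne_zero θ).2 hc
  grind

theorem sylow_facts : Monoid.exponent (UU hθ (m := m)) = 4 ∧ center (UU hθ (m := m)) = commutator _ ∧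
    Nat.card (center (UU hθ (m := m))) = Nat.card F := by
  let u : F → F → UU hθ (m := m) := fun a b => ⟨⟨mU θ a b, (ss_mU hθ a b).mem hθ hθ'⟩, a, b, rfl⟩
  have hu : ∀ x, ∃ a b, x = u a b := fun ⟨x, a, b, h⟩ => ⟨a, b, Subtype.ext (Subtype.ext h)⟩
  have hm : ∀ a b c d, u a b * u c d = u (a + c) (b + d + θ a * c) := fun a b c d =>
    Subtype.ext (Subtype.ext (mU_mul hθ a b c d))
  have h1 : 1 = u 0 0 := Subtype.ext (Subtype.ext (mU_zero θ).symm)
  have hi : ∀ {a b c d}, u a b = u c d ↔ a = c ∧ b = d := ⟨fun e => mU_inj θ (congrArg (·.1.1) e), by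
    rintro ⟨rfl, rfl⟩; rfl⟩
  clear_value u
  have hk' := θ_ne hθ hk
  have hc : ∀ {a b}, u a b ∈ center _ ↔ a = 0 := fun {a b} => by
    refine ⟨fun h => ?_, fun h => mem_center_iff.2 fun x => ?_⟩
    · have h2 : ∀ c, θ c * a = θ a * c := fun c => by
        have := mem_center_iff.1 h (u c 0); rw [hm, hm, hi] at this; grind
      by_contra ha
      have h3 := h2 1
      have h4 := h2 k
      rw [map_one, one_mul] at h3
      grind
    · obtain ⟨c, d, rfl⟩ := hu x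
      simp [hm, hi, h, add_comm]
  have hinv : ∀ a b, (u a b)⁻¹ = u a (b + θ a * a) := fun a b => by
    rw [inv_eq_iff_mul_eq_one, hm, h1, hi]; grind
  have : Fact (Nat.Prime 2) := ⟨Nat.prime_two⟩
  refine ⟨Nat.dvd_antisymm (Monoid.exponent_dvd_of_forall_pow_eq_one fun x => ?_) ?_, le_antisymm (fun x hx => ?_) ?_, ?_⟩
  · obtain ⟨a, b, rfl⟩ := hu x
    simp only [pow_succ, pow_zero, one_mul, hm, h1, hi, map_add]; grind
  · exact (orderOf_eq_prime_pow (p := 2) (n := 1) (x := u 1 0) (by simp [pow_succ, hm, h1, hi]) (by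
      simp only [pow_succ, pow_zero, one_mul, hm, h1, hi, map_add, Nat.reduceMul]; grind)).symm.dvd.trans
      (Monoid.order_dvd_exponent _)
  · obtain ⟨a, b, rfl⟩ := hu x
    obtain rfl := hc.1 hx
    obtain ⟨c, hc⟩ : ∃ c, θ c * c = b / (θ k + k) := Finite.surjective_of_injective (norm_inj hθ) _
    refine (?_ : _ = u 0 b) ▸ commutator_mem_commutator (mem_top (u c 0)) (mem_top (u (k * c) 0))
    simp only [commutatorElement_def, hinv, hm, hi, map_add, map_mul]; grind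
  · refine commutator_le.2 fun x _ y _ => ?_
    obtain ⟨a, b, rfl⟩ := hu x
    obtain ⟨c, d, rfl⟩ := hu y
    simp only [commutatorElement_def, hinv, hm, hc]; grind
  · refine (Nat.card_eq_of_bijective (fun b => ⟨u 0 b, hc.2 rfl⟩) ⟨fun a b e => (hi.1 (congrArg Subtype.val e)).2, ?_⟩).symm
    rintro ⟨x, hx⟩
    obtain ⟨a, b, rfl⟩ := hu x
    obtain rfl := hc.1 hx
    exact ⟨b, rfl⟩

end Suz

end Cfsg.Agent.Lie
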