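import Cfsg.Agent.Lie.Aut
import Cfsg.Agent.Lie.GoodD4

set_option autoImplicit false
set_option maxRecDepth 100000
set_option Elab.async false

/-! A map of root systems D4 → D4. -/

namespace Cfsg.Agent.Lie

open Cfsg.Lie

/-- the data of the map -/
noncomputable def embD4 : Emb chevD4 chevD4 where
  ρ := tb _ _ 0x117161115100d140f130e0c12050b090408030a0702060100
  γ := fun r => sbyte 0x181817f817f817f817f8181818181817f817f817f817f8181 r
  lam := fun _ => 1
  p := 0

theorem embD4_chk0 : allLt 24 (fun r => embD4.chk (0 + r)) = true := by decide +kernel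

theorem embD4_ok : embD4.OK := by
  refine Emb.ok_of_chk _ fun r hr => ?_
  change r < 24 at hr
  simpa [show 0 + (r - 0) = r by omega] using allLt_spec embD4_chk0 (r - 0) (by omega)

theorem embD4_pos : ∀ r, Pos (embD4.ρ r) ↔ Pos r := by decide +kernel

/-- the permutation of the fundamental roots -/
def embD40 : Equiv.Perm (Ix chevD4) :=
  ⟨tbI [2, 1, 3, 0], tbI [3, 1, 0, 2], fun i => by revert i; decide +kernel, fun i => by revert i; decide +kernel⟩

theorem embD4_sim : ∀ i, embD4.ρ (sim i) = sim (embD40 i) ∧ embD4.γ (sim i) = 1 := by decide +kernel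

end Cfsg.Agent.Lie
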