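import Cfsg.Agent.Lie.Aut
import Cfsg.Agent.Lie.GoodE6

set_option autoImplicit false
set_option maxRecDepth 100000
set_option Elab.async false

/-! A map of root systems E6 → E6. -/

namespace Cfsg.Agent.Lie

open Cfsg.Lie

/-- the data of the map -/
noncomputable def embE6 : Emb chevE6 chevE6 where
  ρ := tb _ _ 0x147464542374441363f34313c2d2926244340353e33303d322f2e3b2c28253a2b27392a380f1d0e201c0d221f1b0c1918150a17140912070423211e1a0b1613081106031005020100
  γ := fun r => sbyte 0x1818181817f81817f817f7f817f817f817f7f817f81817f8181817f817f81817f817f818181817f817f81817f817f8181817f81817f817f7f817f817f817f7f817f81817f81818181 r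
  lam := fun _ => 1
  p := 0

theorem embE6_chk0 : allLt 24 (fun r => embE6.chk (0 + r)) = true := by decide +kernel
theorem embE6_chk24 : allLt 24 (fun r => embE6.chk (24 + r)) = true := by decide +kernel
theorem embE6_chk48 : allLt 24 (fun r => embE6.chk (48 + r)) = true := by decide +kernel

theorem embE6_ok : embE6.OK := by
  refine Emb.ok_of_chk _ fun r hr => ?_
  change r < 72 at hr
  by_cases h0 : r < 24
  · simpa [show 0 + (r - 0) = r by omega] using allLt_spec embE6_chk0 (r - 0) (by omega)
  by_cases h24 : r < 48
  · simpa [show 24 + (r - 24) = r by omega] using allLt_spec embE6_chk24 (r - 24) (by omega)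
  simpa [show 48 + (r - 48) = r by omega] using allLt_spec embE6_chk48 (r - 48) (by omega)

theorem embE6_pos : ∀ r, Pos (embE6.ρ r) ↔ Pos r := by decide +kernel

/-- the permutation of the fundamental roots -/
def embE60 : Equiv.Perm (Ix chevE6) :=
  ⟨tbI [5, 1, 4, 3, 2, 0], tbI [5, 1, 4, 3, 2, 0], fun i => by revert i; decide +kernel, fun i => by revert i; decide +kernel⟩

theorem embE6_sim : ∀ i, embE6.ρ (sim i) = sim (embE60 i) ∧ embE6.γ (sim i) = 1 := by decide +kernel

end Cfsg.Agent.Lie
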