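import Cfsg.Agent.Lie.Aut
import Cfsg.Agent.Lie.GoodB2

set_option autoImplicit false
set_option maxRecDepth 100000
set_option Elab.async false

/-! A map of root systems B2 → B2. -/

namespace Cfsg.Agent.Lie

open Cfsg.Lie

/-- the data of the map -/
noncomputable def embB2 : Emb chevB2 chevB2 where
  ρ := tb _ _ 0x10607040502030001
  γ := fun _ => 1
  lam := fun r => byte 0x10102020101020201 r
  p := 2

theorem embB2_chk0 : allLt 8 (fun r => embB2.chk (0 + r)) = true := by decide +kernel

theorem embB2_ok : embB2.OK := by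
  refine Emb.ok_of_chk _ fun r hr => ?_
  change r < 8 at hr
  simpa [show 0 + (r - 0) = r by omega] using allLt_spec embB2_chk0 (r - 0) (by omega)

theorem embB2_pos : ∀ r, Pos (embB2.ρ r) ↔ Pos r := by decide +kernel

/-- the permutation of the fundamental roots -/
def embB20 : Equiv.Perm (Ix chevB2) :=
  ⟨tbI [1, 0], tbI [1, 0], fun i => by revert i; decide +kernel, fun i => by revert i; decide +kernel⟩

theorem embB2_sim : ∀ i, embB2.ρ (sim i) = sim (embB20 i) ∧ embB2.γ (sim i) = 1 := by decide +kernel

theorem embB2_fits {F : Type*} [Field F] [CharP F 2] : embB2.Fits F :=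
  haveI : Fact (Nat.Prime 2) := ⟨by norm_num⟩
  Emb.fits_char _ 2 rfl (by decide +kernel)

end Cfsg.Agent.Lie
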