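import Cfsg.Agent.Lie.Aut
import Cfsg.Agent.Lie.GoodF4

set_option autoImplicit false
set_option maxRecDepth 100000
set_option Elab.async false

/-! A map of root systems F4 → F4. -/

namespace Cfsg.Agent.Lie

open Cfsg.Lie

/-- the data of the map -/
noncomputable def embF4 : Emb chevF4 chevF4 where
  ρ := tb _ _ 0x12c28272f26241d2e2d2b202a1f1a1825231c291e19221b210e140d161106130c0a171510050f040201120b0900080703
  γ := fun _ => 1
  lam := fun r => byte 0x1010101020101010202020202020202010101020202010101010101020202010101020202020202020201010102010101 r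
  p := 2

theorem embF4_chk0 : allLt 16 (fun r => embF4.chk (0 + r)) = true := by decide +kernel
theorem embF4_chk16 : allLt 16 (fun r => embF4.chk (16 + r)) = true := by decide +kernel
theorem embF4_chk32 : allLt 16 (fun r => embF4.chk (32 + r)) = true := by decide +kernel

theorem embF4_ok : embF4.OK := by
  refine Emb.ok_of_chk _ fun r hr => ?_
  change r < 48 at hr
  by_cases h0 : r < 16
  · simpa [show 0 + (r - 0) = r by omega] using allLt_spec embF4_chk0 (r - 0) (by omega)
  by_cases h16 : r < 32
  · simpa [show 16 + (r - 16) = r by omega] using allLt_spec embF4_chk16 (r - 16) (by omega)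
  simpa [show 32 + (r - 32) = r by omega] using allLt_spec embF4_chk32 (r - 32) (by omega)

theorem embF4_pos : ∀ r, Pos (embF4.ρ r) ↔ Pos r := by decide +kernel

/-- the permutation of the fundamental roots -/
def embF40 : Equiv.Perm (Ix chevF4) :=
  ⟨tbI [3, 2, 1, 0], tbI [3, 2, 1, 0], fun i => by revert i; decide +kernel, fun i => by revert i; decide +kernel⟩

theorem embF4_sim : ∀ i, embF4.ρ (sim i) = sim (embF40 i) ∧ embF4.γ (sim i) = 1 := by decide +kernel

theorem embF4_fits {F : Type*} [Field F] [CharP F 2] : embF4.Fits F :=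
  haveI : Fact (Nat.Prime 2) := ⟨by norm_num⟩
  Emb.fits_char _ 2 rfl (by decide +kernel)

end Cfsg.Agent.Lie
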