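import Cfsg.Agent.Lie.Compute
import Cfsg.Agent.Lie.GoodB2

set_option autoImplicit false
set_option maxRecDepth 100000
set_option Elab.async false

/-! Computations for type B2. -/

namespace Cfsg.Agent.Lie

open Cfsg.Lie

/-- the Cartan matrix -/
def carB2 : List (List ℤ) := [[2, -2], [-1, 2]]

theorem cartanIsB2 : CartanIs chevB2 carB2 := by decide +kernel

theorem coxB2 : ∃ e : W chevB2 ≃* (CoxeterMatrix.B 2).Group, ∀ i, e (sw i) = (CoxeterMatrix.B 2).simple i :=
  exists_cox cartanIsB2 (CoxeterMatrix.B 2) [[1, 4], [4, 1]]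
    (show ∀ i j : Fin 2, (CoxeterMatrix.B 2).M i j = (List.getD [[1, 4], [4, 1]] i []).getD j 0 by
      intro i j; fin_cases i <;> fin_cases j <;> rfl) (by decide +kernel)

theorem coxNumB2 : orderOf (toW (List.range chevB2.rank) : W chevB2) = 4 :=
  orderOf_toW2 cartanIsB2 (O := 0x180808080808081818080808080807e838080808080807f7f808080808080827d8080808080808181) (by decide +kernel)

theorem kerB2 (M : Type*) [CommGroup M] [IsCyclic M] [Finite M] :
    Nat.card (carH (D := chevB2) M).ker = Nat.gcd 2 (Nat.card M) := by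
  rw [card_ker_carH cartanIsB2 (P := [[0, -1], [1, 2]]) (P' := [[2, 1], [-1, 0]])
    (Q := [[1, 2], [0, 1]]) (Q' := [[1, -2], [0, 1]]) (d := [1, 2]) (by decide +kernel)]
  simp [show chevB2.rank = 2 from rfl, Finset.prod_range_succ, Nat.gcd_comm, sq]

theorem pchkB2_0 : pchk carB2 chevB2.rank (fun i => [i]) (fun i => [i]) (fun _ => 1) [0, 1] [1]
    [0, 1, 2, 3]
    0x1808080808080807f8080808080807f81808080808080817f8080808080808081
    0x10000000000000302000000000000010300000000000002000000000000000001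
    0x100010000 = true := by decide +kernel

theorem pchkB2_1 : pchk carB2 chevB2.rank (fun i => [i]) (fun i => [i]) (fun _ => 1) [1] []
    [0, 1]
    0x18080808080807f828080808080808180
    0x100000000000000000000000000000100
    0x10100 = true := by decide +kernel

theorem psB2 {c : W chevB2 → ℕ} {q : ℕ}
    (hc : ∀ w ∈ Wf (1 : Equiv.Perm (Rt chevB2)), ∀ i : Ix chevB2, Pos (w⁻¹.1 (sim i)) →
      c (gO 1 i * w) = q ^ (fun _ : ℕ => 1) i * c w) :
    PS 1 c Set.univ = (q ^ 0 + q ^ 1 + q ^ 2 + q ^ 3) * (q ^ 0 + q ^ 1) * c 1 := by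
  rw [univ_eq_range, show List.range chevB2.rank = [0, 1] from rfl,
    poincare_chk cartanIsB2 sym_one orbData_one hc pchkB2_0, poincare_chk cartanIsB2 sym_one orbData_one hc pchkB2_1,
    empty_eq_nil, PS_empty]
  simp only [List.map_cons, List.map_nil, List.sum_cons, List.sum_nil, ← mul_assoc]
  refine congrArg₂ _ (congrArg₂ _ (?_) ?_) rfl <;> ring

theorem cardWB2 : Nat.card (W chevB2) = 8 := by
  rw [card_W_eq, psB2 hc_one]; norm_num

theorem orderB2 {F : Type*} [Field F] [Fintype F] {q : ℕ} (hq : Fintype.card F = q) :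
    Nat.gcd 2 (q - 1) * Nat.card (chevB2.group F) = q ^ 4 * (q ^ 2 - 1) * (q ^ 4 - 1) := by
  have hk := kerB2 Fˣ
  rw [Nat.card_units, Nat.card_eq_fintype_card (α := F), hq] at hk
  rw [order_eq hq hk (psB2 (hc_wl q)), invGen_sw.wl_one, show chevB2.rank = 2 from rfl,
    show chevB2.nroots / 2 = 4 from rfl]
  simp only [mul_assoc]
  congr 1
  have h1 : 1 ≤ q := hq ▸ Fintype.card_pos
  zify [h1, Nat.one_le_pow 2 q h1, Nat.one_le_pow 4 q h1]
  ring

theorem perfectB2 {F : Type*} [Field F] {a : F} (h0 : a ≠ 0) (h1 : a ≠ 1) :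
    commutator (chevB2.group F) = ⊤ := by
  refine perfect_of_sim fun i t => ?_
  fin_cases i
  · exact mem_comm_of_A h0 h1 (s := ⟨0, by decide⟩) (by decide +kernel) t
  · have hT : cT (⟨2, by decide⟩ : Rt chevB2) ⟨7, by decide⟩ =
        [(⟨6, by decide⟩, 1, 1, 1), (⟨4, by decide⟩, -1, 2, 1)] := by decide +kernel
    refine sys_xG.mem_comm_of_cT (a := ⟨2, by decide⟩) (b := ⟨7, by decide⟩)
      (c := (⟨4, by decide⟩, -1, 2, 1)) (by simp [hT]) (by simp) rfl t (mem_XS (Set.mem_univ _) _)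
      (mem_XS (Set.mem_univ _) _) fun c hc hc' t => ?_
    rw [hT] at hc
    simp only [List.mem_cons, List.not_mem_nil, or_false, hc'] at hc
    subst hc
    exact mem_comm_of_A h0 h1 (s := ⟨0, by decide⟩) (by decide +kernel) t

end Cfsg.Agent.Lie
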