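import Cfsg.Agent.Lie.Compute
import Cfsg.Agent.Lie.GoodD4

set_option autoImplicit false
set_option maxRecDepth 100000
set_option Elab.async false

/-! Computations for type D4. -/

namespace Cfsg.Agent.Lie

open Cfsg.Lie

/-- the Cartan matrix -/
def carD4 : List (List ℤ) := [[2, -1, 0, 0], [-1, 2, -1, -1], [0, -1, 2, 0], [0, -1, 0, 2]]

theorem cartanIsD4 : CartanIs chevD4 carD4 := by decide +kernel

theorem coxD4 : ∃ e : W chevD4 ≃* coxeterD4.Group, ∀ i, e (sw i) = coxeterD4.simple i :=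
  exists_cox cartanIsD4 coxeterD4 [[1, 3, 2, 2], [3, 1, 3, 3], [2, 3, 1, 2], [2, 3, 2, 1]]
    (show ∀ i j : Fin 4, coxeterD4.M i j = (List.getD [[1, 3, 2, 2], [3, 1, 3, 3], [2, 3, 1, 2], [2, 3, 2, 1]] i []).getD j 0 by
      intro i j; fin_cases i <;> fin_cases j <;> rfl) (by decide +kernel)

theorem coxNumD4 : orderOf (toW (List.range chevD4.rank) : W chevD4) = 6 :=
  orderOf_toW2 cartanIsD4 (O := 0x18080808081818181808080807d7d8481808080807e7e7f84808080807f7f7f7f8080808083837c7f808080808282817c8080808081818181) (by decide +kernel)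

theorem kerD4 (M : Type*) [CommGroup M] [IsCyclic M] [Finite M] :
    Nat.card (carH (D := chevD4) M).ker = Nat.gcd 2 (Nat.card M) ^ 2 := by
  rw [card_ker_carH cartanIsD4 (P := [[-1, 0, 0, 0], [-2, -1, 0, 0], [-3, -2, -1, 0], [2, 2, 1, 1]]) (P' := [[-1, 0, 0, 0], [2, -1, 0, 0], [-1, 2, -1, 0], [-1, 0, 1, 1]])
    (Q := [[0, 0, 0, 1], [1, 0, 0, 2], [0, 1, -1, 1], [0, 0, 1, 2]]) (Q' := [[-2, 1, 0, 0], [-3, 0, 1, 1], [-2, 0, 0, 1], [1, 0, 0, 0]]) (d := [1, 1, 2, 2]) (by decide +kernel)]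
  simp [show chevD4.rank = 4 from rfl, Finset.prod_range_succ, Nat.gcd_comm, sq]

theorem pchkD4_0 : pchk carD4 chevD4.rank (fun i => [i]) (fun i => [i]) (fun _ => 1) [0, 1, 2, 3] [1, 2, 3]
    [0, 1, 2, 3, 3, 4, 5, 6]
    0x1808080808080807f8080808080807f81808080807f7f8180808080807f81808080808080817f80808080808081817f80808080808080817f8080808080808081
    0x100000000070707060000000006060507000000000304060500000000020504040000000005020303000000000403010200000000010102000000000000000001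
    0x10001030302010000 = true := by decide +kernel

theorem pchkD4_1 : pchk carD4 chevD4.rank (fun i => [i]) (fun i => [i]) (fun _ => 1) [1, 2, 3] [1, 3]
    [0, 1, 2, 3]
    0x1808080807f8080818080808081807f8180808080807f81808080808080818080
    0x10000000002030300000000000302010000000000010002000000000000010000
    0x103010200 = true := by decide +kernel

theorem pchkD4_2 : pchk carD4 chevD4.rank (fun i => [i]) (fun i => [i]) (fun _ => 1) [1, 3] [3]
    [0, 1, 2]
    0x1808080807f8180818080808081817f818080808080808180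
    0x1000000000100020000000000020000000000000000000100
    0x1030100 = true := by decide +kernel

theorem pchkD4_3 : pchk carD4 chevD4.rank (fun i => [i]) (fun i => [i]) (fun _ => 1) [3] []
    [0, 1]
    0x1808080807f8081808080808081808080
    0x100000000000000000000000001000000
    0x10300 = true := by decide +kernel

theorem psD4 {c : W chevD4 → ℕ} {q : ℕ}
    (hc : ∀ w ∈ Wf (1 : Equiv.Perm (Rt chevD4)), ∀ i : Ix chevD4, Pos (w⁻¹.1 (sim i)) →
      c (gO 1 i * w) = q ^ (fun _ : ℕ => 1) i * c w) :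
    PS 1 c Set.univ = (q ^ 0 + q ^ 1 + q ^ 2 + 2 * q ^ 3 + q ^ 4 + q ^ 5 + q ^ 6) * (q ^ 0 + q ^ 1 + q ^ 2 + q ^ 3) * (q ^ 0 + q ^ 1 + q ^ 2) * (q ^ 0 + q ^ 1) * c 1 := by
  rw [univ_eq_range, show List.range chevD4.rank = [0, 1, 2, 3] from rfl,
    poincare_chk cartanIsD4 sym_one orbData_one hc pchkD4_0, poincare_chk cartanIsD4 sym_one orbData_one hc pchkD4_1, poincare_chk cartanIsD4 sym_one orbData_one hc pchkD4_2, poincare_chk cartanIsD4 sym_one orbData_one hc pchkD4_3,
    empty_eq_nil, PS_empty]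
  simp only [List.map_cons, List.map_nil, List.sum_cons, List.sum_nil, ← mul_assoc]
  refine congrArg₂ _ (congrArg₂ _ (congrArg₂ _ (congrArg₂ _ (?_) ?_) ?_) ?_) rfl <;> ring

theorem cardWD4 : Nat.card (W chevD4) = 192 := by
  rw [card_W_eq, psD4 hc_one]; norm_num

theorem orderD4 {F : Type*} [Field F] [Fintype F] {q : ℕ} (hq : Fintype.card F = q) :
    Nat.gcd 2 (q - 1) ^ 2 * Nat.card (chevD4.group F) = q ^ 12 * (q ^ 2 - 1) * (q ^ 4 - 1) * (q ^ 4 - 1) * (q ^ 6 - 1) := by
  have hk := kerD4 Fˣ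
  rw [Nat.card_units, Nat.card_eq_fintype_card (α := F), hq] at hk
  rw [order_eq hq hk (psD4 (hc_wl q)), invGen_sw.wl_one, show chevD4.rank = 4 from rfl,
    show chevD4.nroots / 2 = 12 from rfl]
  simp only [mul_assoc]
  congr 1
  have h1 : 1 ≤ q := hq ▸ Fintype.card_pos
  zify [h1, Nat.one_le_pow 2 q h1, Nat.one_le_pow 4 q h1, Nat.one_le_pow 6 q h1]
  ring

theorem perfectD4 {F : Type*} [Field F] : commutator (chevD4.group F) = ⊤ :=
  perfect_of_A2 [6, 1, 3, 2] [22, 23, 22, 22] (by decide +kernel)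

end Cfsg.Agent.Lie
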