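import Cfsg.Agent.Comp.PLocal
import Cfsg.Prelude.Def_EvenType

/-! Involution centralisers of characteristic 2: the transfer lemmas used for the Borel–Tits theorem. -/

set_option autoImplicit false

namespace Cfsg.Agent.Lie

open Subgroup

variable {S T : Type*} [Group S] [Group T]

/-- the centraliser of `x` normalises a 2-subgroup that is centralised only by central elements of odd order -/
def P2 (x : S) : Prop :=
  ∃ Q : Subgroup S, IsPGroup 2 Q ∧ (∀ c, Commute c x → c ∈ normalizer (Q : Set S)) ∧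
    ∀ a, Commute a x → Odd (orderOf a) → (∀ q ∈ Q, Commute a q) → a ∈ center S

/-- `P2` for all involutions -/
def P2All (S : Type*) [Group S] : Prop := ∀ x : S, x * x = 1 → x ≠ 1 → P2 x

theorem eq_one_of_odd_two {z : S} {n k : ℕ} (hn : Odd n) (h1 : z ^ n = 1) (h2 : z ^ 2 ^ k = 1) : z = 1 := by
  have h3 : Nat.Coprime n (2 ^ k) := (Nat.coprime_two_right.2 hn).pow_right k
  have := Nat.dvd_gcd (orderOf_dvd_of_pow_eq_one h1) (orderOf_dvd_of_pow_eq_one h2)
  rw [h3.gcd_eq_one, Nat.dvd_one, orderOf_eq_one_iff] at this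
  exact this

theorem pow_two_of_mem {Q : Subgroup S} (hQ : IsPGroup 2 Q) {z : S} (hz : z ∈ Q) : ∃ k, z ^ 2 ^ k = 1 := by
  obtain ⟨k, hk⟩ := hQ ⟨z, hz⟩
  exact ⟨k, congrArg Subtype.val hk⟩

theorem mem_normalizer_of_conj {Q : Subgroup S} [Finite S] {c : S} (h : ∀ q ∈ Q, c * q * c⁻¹ ∈ Q) :
    c ∈ normalizer (Q : Set S) :=
  mem_normalizer_fintype (S := (Q : Set S)) h

theorem odd_orderOf_of_pow {a : S} {n : ℕ} (hn : Odd n) (h : a ^ n = 1) : Odd (orderOf a) :=
  hn.of_dvd_nat (orderOf_dvd_of_pow_eq_one h)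

/-- coprime action: `[q, a]` a 2-element commuting with `a` of odd order forces `[q, a] = 1` -/
theorem commute_of_comm {a q : S} (ha : Odd (orderOf a)) {k : ℕ} (h2 : (q * a * q⁻¹ * a⁻¹) ^ 2 ^ k = 1)
    (h : Commute a (q * a * q⁻¹ * a⁻¹)) : Commute a q := by
  have h1 : (q * a * q⁻¹ * a⁻¹ * a) ^ orderOf a = 1 := by
    rw [inv_mul_cancel_right, conj_pow, pow_orderOf_eq_one, mul_one, mul_inv_cancel]
  rw [h.symm.mul_pow, pow_orderOf_eq_one, mul_one] at h1
  have h3 := eq_one_of_odd_two ha h1 h2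
  rw [mul_inv_eq_one, mul_inv_eq_iff_eq_mul] at h3
  exact h3.symm

theorem P2.strong [Finite S] {x : S} (h : P2 x) (hx : x * x = 1) :
    ∃ Q : Subgroup S, IsPGroup 2 Q ∧ (∀ q ∈ Q, Commute q x) ∧ (∀ c, Commute c x → c ∈ normalizer (Q : Set S)) ∧
      ∀ a, Commute a x → Odd (orderOf a) → (∀ q ∈ Q, Commute a q) → a ∈ center S := by
  obtain ⟨Q, h1, h2, h3⟩ := h
  have hP : IsPGroup 2 (zpowers x) := by
    refine IsPGroup.of_card_dvd_pow (n := 1) ?_
    rw [Nat.card_zpowers]; exact orderOf_dvd_of_pow_eq_one (by rw [pow_one, pow_two, hx])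
  have hc : ∀ c, c ∈ centralizer (zpowers x : Set S) ↔ Commute c x := fun c => by
    constructor
    · intro hc; exact (hc x (mem_zpowers x)).symm
    · rintro hc _ ⟨k, rfl⟩; exact (hc.zpow_right k).symm
  refine ⟨Q ⊓ centralizer (zpowers x : Set S), h1.to_inf_left, fun q hq => (hc q).1 hq.2, fun c hcx => ?_,
    fun a ha ho hq => h3 a ha ho ?_⟩
  · refine mem_normalizer_of_conj fun q hq => ⟨(h2 c hcx q).1 hq.1, (hc _).2 ?_⟩
    exact (hcx.mul_left ((hc q).1 hq.2)).mul_left hcx.inv_left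
  · have := Comp.mem_centralizer_of_PxQ (p := 2) hP h1 (zpowers_le.2 (h2 x (Commute.refl x)))
      (Nat.coprime_two_right.2 ho) ((hc a).2 ha) (h2 a ha) (fun q hq' => (hq q hq').symm)
    exact fun q hq => (this q hq).symm

theorem P2.of_normal [Finite T] (f : T →* S) (hf : Function.Injective f) (hn : f.range.Normal) {y : T}
    (h : P2 (f y)) : P2 y := by
  obtain ⟨Q, h1, h2, h3⟩ := h
  refine ⟨Q.comap f, h1.comap_of_injective f hf, fun c hc => mem_normalizer_of_conj fun q hq => ?_,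
    fun a ha ho hq => ?_⟩
  · rw [mem_comap, map_mul, map_mul, map_inv]
    exact (h2 _ (hc.map f) _).1 hq
  · have ho' : Odd (orderOf (f a)) := by rwa [orderOf_injective f hf]
    have := h3 (f a) (ha.map f) ho' fun q hq' => by
      have e1 : q * f a * q⁻¹ * (f a)⁻¹ ∈ Q := by
        have := Q.mul_mem hq' ((h2 _ (ha.map f) _).1 (Q.inv_mem hq'))
        simpa only [mul_assoc] using this
      obtain ⟨z, hz⟩ : q * f a * q⁻¹ * (f a)⁻¹ ∈ f.range :=
        f.range.mul_mem (hn.conj_mem _ ⟨a, rfl⟩ q) (f.range.inv_mem ⟨a, rfl⟩)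
      obtain ⟨k, hk⟩ := pow_two_of_mem h1 e1
      refine commute_of_comm ho' hk ?_
      rw [← hz]
      exact (hq z (by rwa [mem_comap, hz])).map f
    rw [mem_center_iff] at this ⊢
    intro g
    exact hf (by rw [map_mul, map_mul, this])

theorem P2All.of_normal [Finite T] (f : T →* S) (hf : Function.Injective f) (hn : f.range.Normal)
    (h : P2All S) : P2All T := fun y hy hy' =>
  P2.of_normal f hf hn (h _ (by rw [← map_mul, hy, map_one]) fun e => hy' (hf (by rw [e, map_one])))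

theorem P2All.subgroup [Finite S] (h : P2All S) (K : Subgroup S) [hK : K.Normal] : P2All K :=
  h.of_normal K.subtype K.subtype_injective (by rwa [range_subtype])

theorem P2All.of_equiv [Finite T] (e : T ≃* S) (h : P2All S) : P2All T :=
  h.of_normal e.toMonoidHom e.injective (by
    rw [MonoidHom.range_eq_top.2 e.surjective]; infer_instance)

theorem P2All.quot [Finite S] (h : P2All S) (π : S →* T) (hπ : Function.Surjective π)
    (hk : ∀ z, π z = 1 → z ∈ center S ∧ Odd (orderOf z)) : P2All T := by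
  have := Finite.of_surjective π hπ
  intro x hx hx1
  obtain ⟨y0, rfl⟩ := hπ x
  obtain ⟨y, hy, hy'⟩ : ∃ y, π y = π y0 ∧ y * y = 1 := by
    have h1 := (hk (y0 * y0) (by rw [map_mul, hx])).2
    refine ⟨y0 ^ orderOf (y0 * y0), ?_, by rw [← (Commute.refl y0).mul_pow, pow_orderOf_eq_one]⟩
    obtain ⟨m, hm⟩ := h1
    rw [map_pow, hm, pow_succ, pow_mul, pow_two, hx, one_pow, one_mul]
  rw [← hy] at hx1 ⊢
  have hcom : ∀ c, Commute (π c) (π y) → Commute c y := fun c hc => by
    obtain ⟨h1, h2⟩ := hk (c * y * c⁻¹ * y⁻¹) (by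
      rw [map_mul, map_mul, map_mul, map_inv, map_inv, hc.eq]; group)
    have h3 : (c * y * c⁻¹ * y⁻¹) ^ 2 ^ 1 = 1 := by
      have e : (c * y * c⁻¹ * y⁻¹ * y) ^ 2 = 1 := by
        rw [inv_mul_cancel_right, conj_pow, pow_two, hy', mul_one, mul_inv_cancel]
      have e' : Commute (c * y * c⁻¹ * y⁻¹) y := (mem_center_iff.1 h1 y).symm
      rwa [e'.mul_pow, pow_two y, hy', mul_one] at e
    have h4 := eq_one_of_odd_two h2 (pow_orderOf_eq_one _) h3
    rw [mul_inv_eq_one, mul_inv_eq_iff_eq_mul] at h4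
    exact h4
  obtain ⟨Q, h1, h2, h3⟩ := h y hy' fun e => hx1 (by rw [e, map_one])
  refine ⟨Q.map π, h1.map π, fun c hc => mem_normalizer_of_conj ?_, fun a ha ho hq => ?_⟩
  · obtain ⟨c, rfl⟩ := hπ c
    rintro _ ⟨q, hq, rfl⟩
    exact ⟨c * q * c⁻¹, (h2 c (hcom c hc) q).1 hq, by simp⟩
  · obtain ⟨a, rfl⟩ := hπ a
    have ho' : Odd (orderOf a) := by
      have h4 := (hk (a ^ orderOf (π a)) (by rw [map_pow, pow_orderOf_eq_one])).2
      refine odd_orderOf_of_pow (ho.mul h4) ?_
      rw [pow_mul, pow_orderOf_eq_one]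
    have := h3 a (hcom a ha) ho' fun q hq' => by
      have e1 : a * q * a⁻¹ * q⁻¹ ∈ Q := Q.mul_mem ((h2 a (hcom a ha) q).1 hq') (Q.inv_mem hq')
      obtain ⟨k, hk'⟩ := pow_two_of_mem h1 e1
      have e2 := (hk (a * q * a⁻¹ * q⁻¹) (by
        rw [map_mul, map_mul, map_mul, map_inv, map_inv, (hq _ ⟨q, hq', rfl⟩).eq]; group)).2
      have h4 := eq_one_of_odd_two e2 (pow_orderOf_eq_one _) hk'
      rw [mul_inv_eq_one, mul_inv_eq_iff_eq_mul] at h4
      exact h4
    rw [mem_center_iff] at this ⊢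
    intro g
    obtain ⟨g, rfl⟩ := hπ g
    rw [← map_mul, this, map_mul]

theorem P2All.quot_center [Finite S] (h : P2All S) (hk : ∀ z ∈ center S, Odd (orderOf z)) :
    P2All (S ⧸ center S) :=
  h.quot (QuotientGroup.mk' _) (QuotientGroup.mk'_surjective _) fun z hz => by
    have : z ∈ center S := by rwa [← QuotientGroup.ker_mk' (center S), MonoidHom.mem_ker]
    exact ⟨this, hk z this⟩

/-- fixed points of an involutory automorphism -/
theorem P2All.fix [Finite S] (h : P2All S) (σ : S →* S) (hσ : ∀ g, σ (σ g) = g) :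
    P2All (σ.eqLocus (MonoidHom.id S)) := by
  rintro ⟨x, hxσ⟩ hx hx1
  have hxσ' : σ x = x := hxσ
  have hx' : x * x = 1 := congrArg Subtype.val hx
  obtain ⟨Q0, h1, h1', h2, h3⟩ := (h x hx' fun e => hx1 (Subtype.ext e)).strong hx'
  have hσc : ∀ c, Commute c x → Commute (σ c) x := fun c hc => by simpa [hxσ'] using hc.map σ
  have h2' : ∀ c, Commute c x → c ∈ normalizer (Q0.map σ : Set S) := fun c hc =>
    mem_normalizer_of_conj (by
      rintro _ ⟨q, hq, rfl⟩
      exact ⟨σ c * q * (σ c)⁻¹, (h2 _ (hσc c hc) q).1 hq, by simp [hσ]⟩)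
  set Q := Q0 ⊔ Q0.map σ with hQ
  have hQ1 : IsPGroup 2 Q := IsPGroup.to_sup_of_normal_right' h1 (h1.map σ) fun q hq => h2' q (h1' q hq)
  have hQ2 : ∀ c, Commute c x → c ∈ normalizer (Q : Set S) := fun c hc =>
    Comp.sup_normalizer' (H := zpowers c) (zpowers_le.2 (h2 c hc)) (zpowers_le.2 (h2' c hc)) (mem_zpowers c)
  have hQ3 : ∀ q ∈ Q, σ q ∈ Q := by
    have : Q ≤ Q.comap σ := sup_le (fun q hq => mem_sup_right ⟨q, hq, rfl⟩)
      (by rintro _ ⟨q, hq, rfl⟩; rw [mem_comap, hσ]; exact mem_sup_left hq)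
    exact this
  refine ⟨Q.comap (Subgroup.subtype _), hQ1.comap_of_injective _ (subtype_injective _),
    fun c hc => mem_normalizer_of_conj fun q hq => (hQ2 c (congrArg Subtype.val hc) q).1 hq,
    fun a ha ho hq => ?_⟩
  have ha' : Commute (a : S) x := congrArg Subtype.val ha
  have ho' : Odd (orderOf (a : S)) := by rwa [Subgroup.orderOf_coe]
  let τ : MulAut S := { σ with invFun := σ, left_inv := hσ, right_inv := hσ }
  have hτ : τ * τ = 1 := MulEquiv.ext hσ
  have key : ∀ q ∈ Q, Commute (a : S) q := by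
    let Γ := S ⋊[(zpowers τ).subtype] zpowers τ
    have : Finite Γ := Finite.of_equiv _ SemidirectProduct.equivProd.symm
    let t : Γ := SemidirectProduct.inr ⟨τ, mem_zpowers τ⟩
    have ht : ∀ g : S, t * SemidirectProduct.inl g * t⁻¹ = SemidirectProduct.inl (σ g) := fun g => by
      rw [← map_inv, ← SemidirectProduct.inl_aut]; rfl
    have hP : IsPGroup 2 (zpowers t) := by
      refine IsPGroup.of_card_dvd_pow (n := 1) ?_
      rw [Nat.card_zpowers]
      refine orderOf_dvd_of_pow_eq_one ?_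
      rw [pow_one, pow_two, ← map_mul, ← map_one SemidirectProduct.inr]
      exact congrArg _ (Subtype.ext hτ)
    have hc : ∀ c, c ∈ centralizer (zpowers t : Set Γ) ↔ Commute c t := fun c => by
      constructor
      · intro hc; exact (hc t (mem_zpowers t)).symm
      · rintro hc _ ⟨k, rfl⟩; exact (hc.zpow_right k).symm
    have hc' : ∀ g : S, Commute (SemidirectProduct.inl g : Γ) t ↔ σ g = g := fun g => by
      rw [← SemidirectProduct.inl_inj (φ := (zpowers τ).subtype), ← ht, mul_inv_eq_iff_eq_mul]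
      exact ⟨fun h => h.symm, fun h => h.symm⟩
    have := Comp.mem_centralizer_of_PxQ (p := 2) (U := Q.map (SemidirectProduct.inl : S →* Γ)) hP (hQ1.map _)
      (zpowers_le.2 (mem_normalizer_of_conj (by
        rintro _ ⟨q, hq, rfl⟩
        exact ⟨σ q, hQ3 q hq, (ht q).symm⟩))) (x := SemidirectProduct.inl (a : S))
      (by rw [orderOf_injective _ SemidirectProduct.inl_injective]; exact Nat.coprime_two_right.2 ho')
      ((hc _).2 ((hc' _).2 a.2)) (mem_normalizer_of_conj (by
        rintro _ ⟨q, hq, rfl⟩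
        exact ⟨a * q * (a : S)⁻¹, (hQ2 a ha' q).1 hq, by simp⟩)) (by
        rintro _ ⟨⟨q, hq', rfl⟩, hq''⟩
        have e := hq ⟨q, (hc' q).1 ((hc _).1 hq'')⟩ hq'
        have e' : Commute (a : S) q := congrArg Subtype.val e
        exact (e'.map SemidirectProduct.inl).symm)
    intro q hq
    exact SemidirectProduct.inl_injective (φ := (zpowers τ).subtype)
      (by rw [map_mul, map_mul]; exact (this _ ⟨q, hq, rfl⟩).symm)
  have := h3 a ha' ho' fun q hq => key q (mem_sup_left hq)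
  rw [mem_center_iff] at this ⊢
  exact fun g => Subtype.ext (this g)

/-- if involution centralisers contain no nontrivial elements of odd order -/
theorem p2All_of_cit (h : ∀ x a : S, x * x = 1 → x ≠ 1 → Commute a x → Odd (orderOf a) → a = 1) : P2All S :=
  fun x hx hx1 => ⟨⊥, IsPGroup.of_bot, fun c _ => by rw [normalizer_eq_top]; trivial,
    fun a ha ho _ => by rw [h x a hx hx1 ha ho]; exact one_mem _⟩

theorem isPGroup_of_odd [Finite S] {K : Subgroup S} (h : ∀ a ∈ K, Odd (orderOf a) → a = 1) : IsPGroup 2 K := by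
  intro g
  obtain ⟨k, m, hm, e⟩ := Nat.exists_eq_two_pow_mul_odd (orderOf_pos (g : S)).ne'
  refine ⟨k, Subtype.ext (h _ (K.pow_mem g.2 _) (odd_orderOf_of_pow hm ?_))⟩
  rw [Subgroup.coe_pow, ← pow_mul, ← e, pow_orderOf_eq_one]

theorem P2All.result [Finite S] (h : P2All S) (hZ : center S = ⊥) :
    (∀ x : S, orderOf x = 2 →
      ∀ K : Subgroup (↥(centralizer ({x} : Set S)) ⧸ pPrimeCore 2 ↥(centralizer ({x} : Set S))),
        ¬ IsComponent K) ∧
    (∀ x : S, orderOf x = 2 → centralizerPPrimeCore 2 x = ⊥) := by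
  have key : ∀ x : S, orderOf x = 2 → pPrimeCore 2 ↥(centralizer ({x} : Set S)) = ⊥ ∧
      ∀ K, ¬ Comp.CompIn K (centralizer ({x} : Set S)) := by
    intro x hx
    have hx' : x * x = 1 := by rw [← pow_two, ← hx, pow_orderOf_eq_one]
    obtain ⟨Q, h1, h1', h2, h3⟩ := (h x hx' (by rintro rfl; simp at hx)).strong hx'
    have hc : ∀ c, c ∈ centralizer ({x} : Set S) ↔ Commute c x := fun c => mem_centralizer_singleton_iff
    constructor
    · rw [eq_bot_iff]
      intro a ha
      have ho : Odd (orderOf (a : S)) := by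
        rw [Subgroup.orderOf_coe]
        exact (Nat.coprime_two_right.1 (Core.pPrimeCore_coprime 2)).of_dvd_nat
          ((pPrimeCore 2 _).orderOf_dvd_natCard ha)
      have := h3 a ((hc _).1 a.2) ho fun q hq => by
        have e1 : a * q * (a : S)⁻¹ * q⁻¹ ∈ Q := Q.mul_mem ((h2 a ((hc _).1 a.2) q).1 hq) (Q.inv_mem hq)
        obtain ⟨k, hk⟩ := pow_two_of_mem h1 e1
        let q' : centralizer ({x} : Set S) := ⟨q, (hc _).2 (h1' q hq)⟩
        have e2 : a * (q' * a⁻¹ * q'⁻¹) ∈ pPrimeCore 2 _ :=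
          mul_mem ha (Subgroup.Normal.conj_mem inferInstance _ (inv_mem ha) q')
        have e3 : Odd (orderOf (a * (q' * a⁻¹ * q'⁻¹))) :=
          (Nat.coprime_two_right.1 (Core.pPrimeCore_coprime 2)).of_dvd_nat
            ((pPrimeCore 2 _).orderOf_dvd_natCard e2)
        rw [← Subgroup.orderOf_coe] at e3
        have e4 : ((a * (q' * a⁻¹ * q'⁻¹) : centralizer ({x} : Set S)) : S) = a * q * (a : S)⁻¹ * q⁻¹ := by
          simp [q', mul_assoc]
        rw [e4] at e3
        have h4 := eq_one_of_odd_two e3 (pow_orderOf_eq_one _) hk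
        rw [mul_inv_eq_one, mul_inv_eq_iff_eq_mul] at h4
        exact h4
      rw [hZ, mem_bot] at this
      exact Subtype.ext this
    · intro K hK
      have hQs : Group.IsSolvable Q := by
        have := h1.isNilpotent; infer_instance
      have e1 := hK.comm_of_solvable (H := Q) (fun q hq => (hc q).2 (h1' q hq)) hQs
        fun c hc' => h2 c ((hc c).1 (hK.le hc'))
      rw [Comp.comm_bot_iff] at e1
      have e2 : IsPGroup 2 K := isPGroup_of_odd fun a ha ho => by
        have := h3 a ((hc a).1 (hK.le ha)) ho fun q hq => e1 a ha q hq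
        rwa [hZ, mem_bot] at this
      have := e2.isNilpotent
      exact hK.qs.not_solvable inferInstance
  refine ⟨fun x hx K hK => ?_, fun x hx => by rw [centralizerPPrimeCore, (key x hx).1, Subgroup.map_bot]⟩
  obtain ⟨h1, h2⟩ := key x hx
  let e : (↥(centralizer ({x} : Set S)) ⧸ pPrimeCore 2 ↥(centralizer ({x} : Set S))) ≃*
      ↥(centralizer ({x} : Set S)) := (QuotientGroup.quotientMulEquivOfEq h1).trans QuotientGroup.quotientBot
  have h3 := (Comp.compIn_top.2 hK).map_inj (f := e.toMonoidHom) e.injective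
  rw [← MonoidHom.range_eq_map, MonoidHom.range_eq_top.2 e.surjective, Comp.compIn_top,
    ← Comp.compIn_map_subtype] at h3
  exact h2 _ h3

end Cfsg.Agent.Lie
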