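import Cfsg.Agent.Lie.Twist

set_option autoImplicit false
set_option linter.unusedSectionVars false
set_option linter.unusedSimpArgs false

/-! Fixed points in products of commuting root subgroups, and finite fields. -/

namespace Cfsg.Agent.Lie

open Cfsg.Lie
open scoped Matrix MatrixGroups commutatorElement

variable {D : ChevalleyDatum} [G : Good D] {F : Type*} [Field F] {Γ : Type*} [Group Γ]

theorem exists_frob [Fintype F] {q k : ℕ} (hq : IsPrimePow q) (hK : Fintype.card F = q ^ k) :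
    ∃ φ : F →+* F, ∀ t, φ t = t ^ q := by
  obtain ⟨p, n, hp, hn, rfl⟩ := hq
  obtain ⟨p', hc, m, hp', hm⟩ := FiniteField.card' F
  have hp1 := hp.nat_prime
  obtain rfl : p' = p := by
    refine (Nat.prime_dvd_prime_iff_eq hp' hp1).1 (hp'.dvd_of_dvd_pow (n := n * k) ?_)
    rw [pow_mul, ← hK, hm]; exact dvd_pow_self _ m.ne_zero
  have : Fact p'.Prime := ⟨hp'⟩
  exact ⟨iterateFrobenius F p' n, fun t => rfl⟩

theorem charP_of_card [Fintype F] {p k : ℕ} (hp : p.Prime) (hK : Fintype.card F = p ^ k) : CharP F p := by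
  obtain ⟨p', hc, m, hp', hm⟩ := FiniteField.card' F
  obtain rfl : p' = p := by
    refine (Nat.prime_dvd_prime_iff_eq hp' hp).1 (hp'.dvd_of_dvd_pow (n := k) ?_)
    rw [← hK, hm]; exact dvd_pow_self _ m.ne_zero
  exact hc

theorem card_ker_pow [Fintype F] (d : ℕ) :
    Nat.card (powMonoidHom d : Fˣ →* Fˣ).ker = Nat.gcd (Fintype.card F - 1) d := by
  rw [IsCyclic.card_powMonoidHom_ker, Nat.card_units, Nat.card_eq_fintype_card]

theorem card_fixed_units [Fintype F] {q k : ℕ} (hq : 1 < q) (hK : Fintype.card F = q ^ k) :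
    Nat.card {t : Fˣ // (t : F) ^ q = t} = q - 1 := by
  rw [← Nat.gcd_eq_right (Nat.sub_one_dvd_pow_sub_one q k), ← hK, ← card_ker_pow]
  refine Nat.card_congr (Equiv.subtypeEquivRight fun t => ?_)
  rw [MonoidHom.mem_ker, powMonoidHom_apply, ← Units.val_pow_eq_pow_val, Units.val_inj,
    ← mul_left_inj t (b := t ^ (q - 1)), ← pow_succ, Nat.sub_add_cancel hq.le, one_mul]

theorem card_fixed [Fintype F] {q k : ℕ} (hq : 1 < q) (hK : Fintype.card F = q ^ k) :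
    Nat.card {t : F // t ^ q = t} = q := by
  have := Nat.card_eq_of_bijective (fun t : Option {t : Fˣ // (t : F) ^ q = t} =>
    (t.elim ⟨0, zero_pow (by omega)⟩ (fun t => ⟨t.1, t.2⟩) : {t : F // t ^ q = t})) ⟨?_, ?_⟩
  · rw [← this, Finite.card_option, card_fixed_units hq hK]; omega
  · rintro (_ | a) (_ | b) h
    · rfl
    · exact absurd (congrArg Subtype.val h).symm b.1.ne_zero
    · exact absurd (congrArg Subtype.val h) a.1.ne_zero
    · exact congrArg _ (Subtype.ext (Units.ext (congrArg Subtype.val h)))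
  · rintro ⟨t, ht⟩
    by_cases h : t = 0
    · exact ⟨none, Subtype.ext h.symm⟩
    · exact ⟨some ⟨Units.mk0 t h, ht⟩, rfl⟩

theorem exists_unit_pow_ne [Fintype F] {d : ℕ} (hd : d ≠ 0) (h : d + 1 < Fintype.card F) :
    ∃ c : Fˣ, c ^ d ≠ 1 := by
  by_contra hc
  push Not at hc
  have h1 := card_ker_pow (F := F) d
  rw [show (powMonoidHom d : Fˣ →* Fˣ).ker = ⊤ from eq_top_iff.2 fun c _ => hc c, Subgroup.card_top,
    Nat.card_units, Nat.card_eq_fintype_card] at h1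
  have := Nat.gcd_le_right (Fintype.card F - 1) (Nat.pos_of_ne_zero hd)
  omega

omit G in
theorem Emb.Fits.surj [Finite F] {E : Emb D D} (h : E.Fits F) (φ : F →+* F) (r : Rt D) :
    Function.Surjective fun t : F => φ t ^ E.lam r := by
  refine Finite.surjective_of_injective fun a b e => ?_
  have := h.pow r (φ a) (- φ b)
  rw [h.neg, show φ a ^ E.lam r = φ b ^ E.lam r from e, add_neg_cancel] at this
  exact φ.injective (add_neg_eq_zero.1 (pow_eq_zero_iff (h.ne_zero r) |>.1 this))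

theorem ncard_of_srt {l : Fn D} {L : List (Rt D)} (hL : Srt l L) {S : Set (Rt D)} (h : ∀ r, r ∈ S ↔ r ∈ L) :
    S.ncard = L.length := by
  rw [← List.toFinset_card_of_nodup (hL.1.imp fun h => h.2), ← Set.ncard_coe_finset]
  congr 1
  ext r; simp [h]

namespace Sys

variable {x : Rt D → F → Γ} {θ : Γ →* GL D.Idx F} (hS : Sys x θ) {σ : Γ →* Γ}
include hS

theorem fix1 {a : Rt D} {S : Set (Rt D)} (h : ∀ r, r ∈ S ↔ r ∈ [a]) {f : F → F}
    (ha : ∀ t, σ (x a t) = x a (f t)) (g : Γ) : g ∈ XS x S ∧ σ g = g ↔ ∃ t : {t // f t = t}, g = x a t := by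
  obtain rfl : S = {a} := Set.ext (by simpa using h)
  rw [hS.mem_single (Set.mem_univ _)]
  exact ⟨by rintro ⟨⟨t, rfl⟩, e⟩; exact ⟨⟨t, hS.x_inj ((ha t).symm.trans e)⟩, rfl⟩,
    by rintro ⟨t, rfl⟩; exact ⟨⟨t, rfl⟩, by rw [ha, t.2]⟩⟩

theorem inj2 {l : Fn D} {a b : Rt D} (hL : Srt l [a, b]) {t u t' u' : F} (h : x a t * x b u = x a t' * x b u') :
    t = t' ∧ u = u' := by
  simpa using hS.wd_inj (w := [(a, t), (b, u)]) (w' := [(a, t'), (b, u')]) hL rfl (by simpa [wd] using h)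

theorem inj3 {l : Fn D} {a b c : Rt D} (hL : Srt l [a, b, c]) {t u v t' u' v' : F}
    (h : x a t * x b u * x c v = x a t' * x b u' * x c v') : t = t' ∧ u = u' ∧ v = v' := by
  simpa using hS.wd_inj (w := [(a, t), (b, u), (c, v)]) (w' := [(a, t'), (b, u'), (c, v')]) hL rfl
    (by simpa [wd, mul_assoc] using h)

theorem wd_ne_one {l : Fn D} {w : List (Rt D × F)} (hL : Srt l (w.map Prod.fst)) (h : ∃ p ∈ w, p.2 ≠ 0) :
    wd x w ≠ 1 := fun e => by
  obtain ⟨p, hp, h⟩ := h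
  have := hS.wd_inj (w' := w.map fun p => (p.1, 0)) hL (by simp) (by
    rw [e, wd, List.map_map]
    exact (List.prod_eq_one fun g hg => by obtain ⟨p, -, rfl⟩ := List.mem_map.1 hg; exact hS.x_zero _).symm)
  rw [this] at hp
  obtain ⟨p, -, rfl⟩ := List.mem_map.1 hp
  exact h rfl

theorem ne2 {l : Fn D} {a b : Rt D} (hL : Srt l [a, b]) (u : F) : x a 1 * x b u ≠ 1 := by
  simpa [wd] using hS.wd_ne_one (w := [(a, 1), (b, u)]) hL (by simp)

theorem ne3 {l : Fn D} {a b c : Rt D} (hL : Srt l [a, b, c]) (u v : F) : x a 1 * x b u * x c v ≠ 1 := by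
  simpa [wd, mul_assoc] using hS.wd_ne_one (w := [(a, 1), (b, u), (c, v)]) hL (by simp)

theorem fix2 {l : Fn D} {a b : Rt D} (hL : Srt l [a, b]) {S : Set (Rt D)} (hc : Closed S)
    (h : ∀ r, r ∈ S ↔ r ∈ [a, b]) (hab : ∀ t u, Commute (x a t) (x b u)) {f f' : F → F}
    (ha : ∀ t, σ (x a t) = x b (f t)) (hb : ∀ t, σ (x b t) = x a (f' t)) (hf : ∀ t, f' (f t) = t) (g : Γ) :
    g ∈ XS x S ∧ σ g = g ↔ ∃ t, g = x a t * x b (f t) := by
  constructor
  · rintro ⟨hg, e⟩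
    obtain ⟨t, rfl⟩ := hS.exists_wd hL hc h hg
    simp only [List.map_cons, List.map_nil, List.prod_cons, List.prod_nil, mul_one, map_mul, ha, hb,
      ← (hab _ _).eq] at e ⊢
    exact ⟨_, by rw [(hS.inj2 hL e).2]⟩
  · rintro ⟨t, rfl⟩
    exact ⟨mul_mem (mem_XS ((h _).2 (by simp)) _) (mem_XS ((h _).2 (by simp)) _),
      by rw [map_mul, ha, hb, hf, (hab _ _).eq]⟩

theorem fix3 {l : Fn D} {a b c : Rt D} (hL : Srt l [a, b, c]) {S : Set (Rt D)} (hc : Closed S)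
    (h : ∀ r, r ∈ S ↔ r ∈ [a, b, c]) (hab : ∀ t u, Commute (x a t) (x b u))
    (hac : ∀ t u, Commute (x a t) (x c u)) (hbc : ∀ t u, Commute (x b t) (x c u)) {f : F → F}
    (ha : ∀ t, σ (x a t) = x b (f t)) (hb : ∀ t, σ (x b t) = x c (f t)) (hc' : ∀ t, σ (x c t) = x a (f t))
    (hf : ∀ t, f (f (f t)) = t) (g : Γ) :
    g ∈ XS x S ∧ σ g = g ↔ ∃ t, g = x a t * x b (f t) * x c (f (f t)) := by
  have key : ∀ t u v, σ (x a t * x b u * x c v) = x a (f v) * x b (f t) * x c (f u) := fun t u v => by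
    rw [map_mul, map_mul, ha, hb, hc', ← ((hab _ _).mul_right (hac _ _)).eq, mul_assoc]
  constructor
  · rintro ⟨hg, e⟩
    obtain ⟨t, rfl⟩ := hS.exists_wd hL hc h hg
    simp only [List.map_cons, List.map_nil, List.prod_cons, List.prod_nil, mul_one, ← mul_assoc, key] at e ⊢
    obtain ⟨-, h1, h2⟩ := hS.inj3 hL e
    exact ⟨_, by rw [h1, h2]⟩
  · rintro ⟨t, rfl⟩
    exact ⟨mul_mem (mul_mem (mem_XS ((h _).2 (by simp)) _) (mem_XS ((h _).2 (by simp)) _))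
      (mem_XS ((h _).2 (by simp)) _), by rw [key, hf]⟩

omit hS G in
theorem h_mem1 {K : Subgroup Γ} {a : Rt D} {φ : F →+* F} (h : ∀ t, φ t = t → x a t ∈ K)
    (h' : ∀ t, φ t = t → x (ng a) t ∈ K) {t : Fˣ} (ht : φ t = t) : hX x a t ∈ K := by
  have : ∀ t : Fˣ, φ t = t → nX x a t ∈ K := fun t ht =>
    mul_mem (mul_mem (h _ ht) (h' _ (by simp [ht]))) (h _ ht)
  exact mul_mem (this t ht) (this _ (by simp))

theorem h_mem2 {K : Subgroup Γ} {a b : Rt D} {φ : F →+* F}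
    (hc : ∀ a' ∈ [a, ng a], ∀ b' ∈ [b, ng b], ∀ t u, Commute (x a' t) (x b' u))
    (h : ∀ t, x a t * x b (φ t) ∈ K) (h' : ∀ t, x (ng a) t * x (ng b) (φ t) ∈ K) {t t' : Fˣ} (ht : φ t = t') :
    hX x a t * hX x b t' ∈ K := by
  have hc' := hc
  simp only [List.forall_mem_cons, List.not_mem_nil] at hc'
  have : ∀ t t' : Fˣ, φ t = t' → nX x a t * nX x b t' ∈ K := fun t t' ht => by
    have := mul_mem (mul_mem (h t) (h' (-(t⁻¹ : Fˣ)))) (h t)
    rw [(hc'.2.1.1 _ _).symm.mul_mul_mul_comm,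
      ((hc'.1.1 _ _).mul_right (hc'.1.2.1 _ _)).symm.mul_mul_mul_comm] at this
    simpa [nX, ht] using this
  rw [hX, hX, (hS.n_mul_n_comm hc _ _).mul_mul_mul_comm]
  exact mul_mem (this _ _ ht) (this _ _ (by simp))

theorem h_mem3 {K : Subgroup Γ} {a b c : Rt D} {φ : F →+* F}
    (hab : ∀ a' ∈ [a, ng a], ∀ b' ∈ [b, ng b], ∀ t u, Commute (x a' t) (x b' u))
    (hac : ∀ a' ∈ [a, ng a], ∀ b' ∈ [c, ng c], ∀ t u, Commute (x a' t) (x b' u))
    (hbc : ∀ a' ∈ [b, ng b], ∀ b' ∈ [c, ng c], ∀ t u, Commute (x a' t) (x b' u))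
    (h : ∀ t, x a t * x b (φ t) * x c (φ (φ t)) ∈ K)
    (h' : ∀ t, x (ng a) t * x (ng b) (φ t) * x (ng c) (φ (φ t)) ∈ K) {t t' t'' : Fˣ} (ht : φ t = t')
    (ht' : φ t' = t'') : hX x a t * hX x b t' * hX x c t'' ∈ K := by
  have h1 := hab
  have h2 := hac
  have h3 := hbc
  simp only [List.forall_mem_cons, List.not_mem_nil] at h1 h2 h3
  have : ∀ t t' t'' : Fˣ, φ t = t' → φ t' = t'' → nX x a t * nX x b t' * nX x c t'' ∈ K := fun t t' t'' ht ht' => by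
    have := mul_mem (mul_mem (h t) (h' (-(t⁻¹ : Fˣ)))) (h t)
    rw [((h2.2.1.1 _ _).mul_left (h3.2.1.1 _ _)).symm.mul_mul_mul_comm,
      (((h2.1.1 _ _).mul_left (h3.1.1 _ _)).mul_right
        ((h2.1.2.1 _ _).mul_left (h3.1.2.1 _ _))).symm.mul_mul_mul_comm,
      (h1.2.1.1 _ _).symm.mul_mul_mul_comm,
      ((h1.1.1 _ _).mul_right (h1.1.2.1 _ _)).symm.mul_mul_mul_comm] at this
    simpa [nX, ht, ht'] using this
  rw [hX, hX, hX, (hS.n_mul_n_comm hab _ _).mul_mul_mul_comm,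
    ((hS.n_mul_n_comm hac _ _).mul_left (hS.n_mul_n_comm hbc _ _)).mul_mul_mul_comm]
  exact mul_mem (this _ _ _ ht ht') (this _ _ _ (by simp) (by simp))

theorem hP_eq_perm (L : List (Ix D)) (h : L.Perm (List.finRange D.rank)) (c : Ix D → Fˣ) :
    hS.hP c = (L.map fun i => hX x (sim i) (c i)).prod := by
  have : c = (L.map fun i => Pi.mulSingle i (c i)).prod := by
    rw [(h.map _).prod_eq, ← Fin.prod_univ_def, Finset.univ_prod_mulSingle]
  conv_lhs => rw [this, map_list_prod, List.map_map]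
  congr 1
  exact List.map_congr_left fun i _ => hS.hP_single i _

theorem comm4 {p : ℤ} (hp : (p : F) = 0) {a b : Rt D} (h : ∀ a' ∈ [a, ng a], ∀ b' ∈ [b, ng b], CommOK p a' b') :
    ∀ a' ∈ [a, ng a], ∀ b' ∈ [b, ng b], ∀ t u, Commute (x a' t) (x b' u) :=
  fun a' ha b' hb => hS.commute_of_OK hp (h a' ha b' hb)

theorem θ_hh (a b : Rt D) (t t' : Fˣ) : θ (hX x a t * hX x b t') = dg (coch a t * coch b t') := by
  rw [map_mul, hS.θ_h, hS.θ_h, map_mul]

end Sys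

theorem mem_ker_carH {C : List (List ℤ)} (hC : CartanIs D C) {M : Type*} [CommGroup M] {c : Ix D → M} :
    c ∈ (carH M).ker ↔ ∀ j : Ix D, ∑ i : Ix D, mL C i j • Additive.ofMul (c i) = 0 := by
  rw [MonoidHom.mem_ker, funext_iff]
  refine forall_congr' fun j => ?_
  rw [carH_apply, ← Additive.ofMul.injective.eq_iff]
  simp [hC.ca, ofMul_prod]

theorem Fold.mem_comm_of_A2 {x : Rt D → F → Γ} {θ : Γ →* GL D.Idx F} {σ : Γ →* Γ} {ρ : Equiv.Perm (Rt D)}
    {ρ0 : Equiv.Perm (Ix D)} {E : Emb D D} {φ : F →+* F} (hF : Fold x σ ρ ρ0) (hS : Sys x θ)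
    (hT : Tw x σ E φ ρ0) {a b c : Rt D} {k : ℤ} (h : cT a b = [(c, k, 1, 1)] ∧ (k = 1 ∨ k = -1) ∧
      E.ρ a = a ∧ E.γ a = 1 ∧ E.lam a = 1 ∧ E.ρ b = b ∧ E.γ b = 1 ∧ E.lam b = 1) {t : F} (ht : φ t = t) :
    x c t ∈ ⁅G1 x σ ρ0, G1 x σ ρ0⁆ := by
  obtain ⟨h1, h2, h3, h4, h5, h6, h7, h8⟩ := h
  exact hS.mem_comm_of_cT (a := a) (b := b) (c := (c, k, 1, 1)) (by simp [h1]) h2 rfl t
    (hF.x_mem hS (by simp [hT.map, Emb.f, h3, h4, h5])) (hF.x_mem hS (by simp [hT.map, Emb.f, h6, h7, h8, ht]))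
    (by simp [h1])

end Cfsg.Agent.Lie
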