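import Mathlib

set_option autoImplicit false
set_option linter.unusedSectionVars false

/-! Word length with respect to a family of generating involutions; the exchange condition implies
the Coxeter presentation. -/

namespace Cfsg.Agent.Lie

variable {W : Type*} [Group W] {ι : Type*}

/-- product of a word -/
def wp (s : ι → W) (L : List ι) : W := (L.map s).prod

@[simp] theorem wp_nil (s : ι → W) : wp s [] = 1 := by simp [wp]
@[simp] theorem wp_cons (s : ι → W) (i : ι) (L : List ι) : wp s (i :: L) = s i * wp s L := by simp [wp]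
@[simp] theorem wp_append (s : ι → W) (L L' : List ι) : wp s (L ++ L') = wp s L * wp s L' := by
  simp [wp]
theorem wp_singleton (s : ι → W) (i : ι) : wp s [i] = s i := by simp

theorem map_wp {W' : Type*} [Group W'] (f : W →* W') (s : ι → W) (L : List ι) :
    f (wp s L) = wp (fun i => f (s i)) L := by
  induction L with
  | nil => simp
  | cons i L ih => simp [ih]

/-- a family of involutions generating the group -/
structure InvGen (s : ι → W) : Prop where
  sq : ∀ i, s i * s i = 1
  gen : ∀ w, ∃ L, wp s L = w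

theorem wp_reverse {s : ι → W} (hs : ∀ i, s i * s i = 1) (L : List ι) :
    wp s L.reverse = (wp s L)⁻¹ := by
  induction L with
  | nil => simp
  | cons i L ih => simp [ih, inv_eq_of_mul_eq_one_right (hs i)]

theorem exists_wp_of_mem_closure {s : ι → W} (hs : ∀ i, s i * s i = 1) (J : Set ι) {w : W}
    (hw : w ∈ Subgroup.closure (s '' J)) : ∃ L : List ι, (∀ i ∈ L, i ∈ J) ∧ wp s L = w := by
  induction hw using Subgroup.closure_induction with
  | mem x hx =>
    obtain ⟨i, hi, rfl⟩ := hx
    exact ⟨[i], by simpa using hi, by simp⟩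
  | one => exact ⟨[], by simp, by simp⟩
  | mul x y _ _ ihx ihy =>
    obtain ⟨L, hL, rfl⟩ := ihx
    obtain ⟨L', hL', rfl⟩ := ihy
    refine ⟨L ++ L', ?_, by simp⟩
    intro i hi
    rcases List.mem_append.1 hi with h | h
    · exact hL i h
    · exact hL' i h
  | inv x _ ih =>
    obtain ⟨L, hL, rfl⟩ := ih
    exact ⟨L.reverse, by simpa using hL, wp_reverse hs L⟩

theorem wp_mem_closure (s : ι → W) (J : Set ι) (L : List ι) (hL : ∀ i ∈ L, i ∈ J) :
    wp s L ∈ Subgroup.closure (s '' J) := by
  induction L with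
  | nil => simp
  | cons i L ih =>
    rw [wp_cons]
    exact Subgroup.mul_mem _ (Subgroup.subset_closure ⟨i, hL i (by simp), rfl⟩)
      (ih fun j hj => hL j (by simp [hj]))

/-- word length -/
noncomputable def wl (s : ι → W) (w : W) : ℕ := sInf {k | ∃ L : List ι, L.length = k ∧ wp s L = w}

theorem wl_le (s : ι → W) (L : List ι) : wl s (wp s L) ≤ L.length :=
  Nat.sInf_le ⟨L, rfl, rfl⟩

/-- reduced words -/
def Red (s : ι → W) (L : List ι) : Prop := wl s (wp s L) = L.length

theorem exists_red_of_wp (s : ι → W) (L : List ι) : ∃ R, Red s R ∧ wp s R = wp s L := by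
  have : (sInf {k | ∃ L' : List ι, L'.length = k ∧ wp s L' = wp s L}) ∈
      {k | ∃ L' : List ι, L'.length = k ∧ wp s L' = wp s L} := Nat.sInf_mem ⟨_, L, rfl, rfl⟩
  obtain ⟨R, h1, h2⟩ := this
  exact ⟨R, by rw [Red, h2, h1]; rfl, h2⟩

namespace InvGen

variable {s : ι → W} (h : InvGen s)
include h

theorem exists_red (w : W) : ∃ R, Red s R ∧ wp s R = w := by
  obtain ⟨L, rfl⟩ := h.gen w
  exact exists_red_of_wp s L

theorem inv_s (i : ι) : (s i)⁻¹ = s i := inv_eq_of_mul_eq_one_right (h.sq i)

theorem s_mul_s_mul (i : ι) (w : W) : s i * (s i * w) = w := by rw [← mul_assoc, h.sq, one_mul]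

theorem mul_s_mul_s (i : ι) (w : W) : w * s i * s i = w := by rw [mul_assoc, h.sq, mul_one]

theorem wl_mul_le (w w' : W) : wl s (w * w') ≤ wl s w + wl s w' := by
  obtain ⟨R, hR, rfl⟩ := h.exists_red w
  obtain ⟨R', hR', rfl⟩ := h.exists_red w'
  rw [hR, hR', ← wp_append, ← List.length_append]
  exact wl_le s _

theorem wl_inv (w : W) : wl s w⁻¹ = wl s w := by
  have key : ∀ w : W, wl s w⁻¹ ≤ wl s w := by
    intro w
    obtain ⟨R, hR, rfl⟩ := h.exists_red w
    rw [hR, ← wp_reverse h.sq, ← List.length_reverse]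
    exact wl_le s _
  exact le_antisymm (key w) (by simpa using key w⁻¹)

theorem wl_eq_zero {w : W} : wl s w = 0 ↔ w = 1 := by
  constructor
  · intro h0
    obtain ⟨R, hR, rfl⟩ := h.exists_red w
    rw [hR, List.length_eq_zero_iff] at h0
    simp [h0]
  · rintro rfl
    simpa using wl_le s []

theorem wl_one : wl s (1 : W) = 0 := h.wl_eq_zero.2 rfl

omit h in
theorem wl_s_le (i : ι) : wl s (s i) ≤ 1 := by simpa using wl_le s [i]

theorem wl_s_mul_le (i : ι) (w : W) : wl s (s i * w) ≤ wl s w + 1 := by
  have := h.wl_mul_le (s i) w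
  have := wl_s_le (s := s) i
  omega

theorem wl_mul_s_le (i : ι) (w : W) : wl s (w * s i) ≤ wl s w + 1 := by
  have := h.wl_mul_le w (s i)
  have := wl_s_le (s := s) i
  omega

theorem le_wl_s_mul (i : ι) (w : W) : wl s w ≤ wl s (s i * w) + 1 := by
  simpa [h.s_mul_s_mul] using h.wl_s_mul_le i (s i * w)

theorem le_wl_mul_s (i : ι) (w : W) : wl s w ≤ wl s (w * s i) + 1 := by
  simpa [h.mul_s_mul_s] using h.wl_mul_s_le i (w * s i)

theorem red_append {L L' : List ι} (hL : Red s (L ++ L')) : Red s L ∧ Red s L' := by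
  have h1 := wl_le s L
  have h2 := wl_le s L'
  have h3 := h.wl_mul_le (wp s L) (wp s L')
  rw [Red, wp_append, List.length_append] at hL
  constructor <;> (unfold Red; omega)

theorem red_cons {i : ι} {L : List ι} (hL : Red s (i :: L)) : Red s L :=
  (h.red_append (L := [i]) hL).2

/-- induction on the length, multiplying on the left -/
theorem induction_left {p : W → Prop} (one : p 1)
    (step : ∀ i w, wl s (s i * w) = wl s w + 1 → p w → p (s i * w)) (w : W) : p w := by
  obtain ⟨R, hR, rfl⟩ := h.exists_red w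
  induction R with
  | nil => simpa using one
  | cons i R ih =>
    have h' := h.red_cons hR
    rw [wp_cons]
    refine step i _ ?_ (ih h')
    rw [← wp_cons, hR, h', List.length_cons]

theorem induction_right {p : W → Prop} (one : p 1)
    (step : ∀ i w, wl s (w * s i) = wl s w + 1 → p w → p (w * s i)) (w : W) : p w := by
  have : ∀ w : W, p w⁻¹ := by
    intro w
    induction w using h.induction_left with
    | one => simpa using one
    | step i w h1 ih =>
      rw [mul_inv_rev, h.inv_s]
      refine step i _ ?_ ih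
      rw [← h.wl_inv, mul_inv_rev, h.inv_s, inv_inv, h1, h.wl_inv]
  simpa using this w⁻¹

end InvGen

theorem red_nil (s : ι → W) : Red s [] := by simpa [Red] using wl_le s []

/-- the exchange condition -/
def Exch (s : ι → W) : Prop :=
  ∀ (i : ι) (L : List ι), Red s L → wl s (s i * wp s L) ≤ L.length →
    ∃ (L1 : List ι) (j : ι) (L2 : List ι), L = L1 ++ j :: L2 ∧ s i * wp s L1 = wp s L1 * s j

/-- A convenient criterion for the exchange condition. -/
theorem exch_of_step {s : ι → W} (h : InvGen s) (hne : ∀ i, s i ≠ 1)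
    (hstep : ∀ (i j : ι) (w : W), wl s (w * s j) = wl s w + 1 → wl s w < wl s (s i * w) →
      wl s (s i * (w * s j)) ≤ wl s (w * s j) → s i * w = w * s j) : Exch s := by
  intro i L hL hle
  induction L using List.reverseRecOn with
  | nil =>
    simp only [wp_nil, mul_one, List.length_nil, Nat.le_zero, h.wl_eq_zero] at hle
    exact absurd hle (hne i)
  | append_singleton L j ih =>
    have hL' := (h.red_append hL).1
    by_cases hc : wl s (s i * wp s L) ≤ L.length
    · obtain ⟨L1, k, L2, h1, h2⟩ := ih hL' hc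
      exact ⟨L1, k, L2 ++ [j], by simp [h1], h2⟩
    · refine ⟨L, j, [], rfl, hstep i j _ ?_ ?_ ?_⟩
      · have := hL
        rw [Red, wp_append, wp_singleton, List.length_append] at this
        rw [this, hL']; rfl
      · rw [hL']; omega
      · have := hL
        rw [Red, wp_append, wp_singleton] at this
        rw [this]
        simpa using hle

namespace Exch

variable {s : ι → W} (h : InvGen s) (he : Exch s)
include h he

theorem exists_red_cons (i : ι) (L : List ι) (hL : Red s L) (hle : wl s (s i * wp s L) ≤ L.length) :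
    ∃ (L1 : List ι) (j : ι) (L2 : List ι), L = L1 ++ j :: L2 ∧ s i * wp s L1 = wp s L1 * s j ∧
      wp s (i :: (L1 ++ L2)) = wp s L ∧ Red s (i :: (L1 ++ L2)) := by
  obtain ⟨L1, j, L2, h1, h2⟩ := he i L hL hle
  have h3 : wp s (i :: (L1 ++ L2)) = wp s L := by
    rw [h1]; simp only [wp_cons, wp_append]; rw [← mul_assoc, h2, mul_assoc]
  refine ⟨L1, j, L2, h1, h2, h3, ?_⟩
  rw [Red, h3, hL, h1]; simp; omega

theorem wl_s_mul_cases (i : ι) (w : W) :
    wl s (s i * w) = wl s w + 1 ∨ wl s (s i * w) + 1 = wl s w := by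
  by_cases hc : wl s (s i * w) ≤ wl s w
  · right
    obtain ⟨R, hR, rfl⟩ := h.exists_red w
    obtain ⟨L1, j, L2, h1, -, h3, h4⟩ := he.exists_red_cons h i R hR (by rwa [← hR])
    have h5 := h.red_cons h4
    rw [← h3, wp_cons, h.s_mul_s_mul, h5, ← wp_cons, h4]; rfl
  · left
    have := h.wl_s_mul_le i w
    omega

theorem wl_mul_s_cases (i : ι) (w : W) :
    wl s (w * s i) = wl s w + 1 ∨ wl s (w * s i) + 1 = wl s w := by
  have := he.wl_s_mul_cases h i w⁻¹
  rwa [← h.wl_inv (s i * w⁻¹), mul_inv_rev, inv_inv, h.inv_s, h.wl_inv] at this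

/-- every word can be shortened to a reduced word with letters among the old ones -/
theorem exists_red_sub (J : Set ι) (L : List ι) (hL : ∀ i ∈ L, i ∈ J) :
    ∃ R, Red s R ∧ (∀ i ∈ R, i ∈ J) ∧ wp s R = wp s L := by
  induction L with
  | nil => exact ⟨[], red_nil s, by simp, rfl⟩
  | cons i L ih =>
    obtain ⟨R, hR, hJ, hw⟩ := ih fun j hj => hL j (by simp [hj])
    by_cases hc : wl s (s i * wp s R) ≤ R.length
    · obtain ⟨L1, j, L2, h1, -, h3, h4⟩ := he.exists_red_cons h i R hR hc
      refine ⟨L1 ++ L2, h.red_cons h4, ?_, ?_⟩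
      · intro k hk
        apply hJ; rw [h1]
        rcases List.mem_append.1 hk with hk | hk <;> simp [hk]
      · rw [wp_cons, ← hw, ← h3, wp_cons, h.s_mul_s_mul]
    · refine ⟨i :: R, ?_, ?_, by simp [hw]⟩
      · have := h.wl_s_mul_le i (wp s R)
        rw [hR] at this
        rw [Red, wp_cons, List.length_cons]; omega
      · intro k hk
        rcases List.mem_cons.1 hk with rfl | hk
        · exact hL _ (by simp)
        · exact hJ k hk

end Exch

/-- alternating word starting with `a` -/
def alt (a b : ι) : ℕ → List ι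
  | 0 => []
  | k + 1 => a :: alt b a k

@[simp] theorem alt_zero (a b : ι) : alt a b 0 = [] := rfl
@[simp] theorem alt_succ (a b : ι) (k : ℕ) : alt a b (k + 1) = a :: alt b a k := rfl
@[simp] theorem length_alt (a b : ι) (k : ℕ) : (alt a b k).length = k := by
  induction k generalizing a b with
  | zero => rfl
  | succ k ih => simp [ih]

theorem alt_add (a b : ι) (k m : ℕ) : ∃ L, alt a b (k + m) = alt a b k ++ L := by
  induction k generalizing a b with
  | zero => exact ⟨alt a b m, by simp⟩
  | succ k ih =>
    obtain ⟨L, hL⟩ := ih b a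
    exact ⟨L, by rw [Nat.add_right_comm, alt_succ, hL]; simp⟩

theorem wp_alt_mul_inv {s : ι → W} {a b : ι} (ha : s a * s a = 1) (hb : s b * s b = 1) (k : ℕ) :
    wp s (alt a b k) * (wp s (alt b a k))⁻¹ = (s a * s b) ^ k := by
  induction k generalizing a b with
  | zero => simp
  | succ k ih =>
    simp only [alt_succ, wp_cons, mul_inv_rev]
    rw [inv_eq_of_mul_eq_one_right hb]
    have : s a * wp s (alt b a k) * ((wp s (alt a b k))⁻¹ * s b)
        = s a * (wp s (alt b a k) * (wp s (alt a b k))⁻¹) * s b := by group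
    rw [this, ih hb ha, ← mul_pow_mul, pow_succ, mul_assoc]

theorem wp_alt_eq_iff {s : ι → W} {a b : ι} (ha : s a * s a = 1) (hb : s b * s b = 1) (k : ℕ) :
    wp s (alt a b k) = wp s (alt b a k) ↔ (s a * s b) ^ k = 1 := by
  rw [← wp_alt_mul_inv ha hb, mul_inv_eq_one]

namespace Exch

variable {s : ι → W} (h : InvGen s) (he : Exch s)
include h he

/-- Matsumoto-type lemma, for a group-valued map satisfying the Coxeter relations. -/
theorem red_indep {G : Type*} [Group G] (f : ι → G) (hf : ∀ i, f i * f i = 1)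
    (hrel : ∀ i j, (f i * f j) ^ orderOf (s i * s j) = 1) (q : ℕ) :
    ∀ L L' : List ι, L.length = q → Red s L → Red s L' → wp s L = wp s L' → wp f L = wp f L' := by
  induction q using Nat.strong_induction_on with
  | _ q ih =>
  -- same first letter
  have hhead : ∀ (a : ι) (L L' : List ι), (a :: L).length = q → Red s (a :: L) → Red s (a :: L') →
      wp s (a :: L) = wp s (a :: L') → wp f (a :: L) = wp f (a :: L') := by
    intro a L L' hq h1 h2 h3
    simp only [wp_cons, mul_right_inj] at h3 ⊢
    exact ih L.length (by simp at hq; omega) L L' rfl (h.red_cons h1) (h.red_cons h2) h3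
  -- the basic step
  have hstep : ∀ (t : ι) (L L' : List ι), L.length = q → Red s L → Red s (t :: L') →
      wp s L = wp s (t :: L') → wp f L ≠ wp f (t :: L') →
      Red s (t :: L.dropLast) ∧ wp s (t :: L.dropLast) = wp s L ∧ wp f (t :: L.dropLast) ≠ wp f L := by
    intro t L L' hq h1 h2 h3 h4
    have hlen : L.length = (t :: L').length := by rw [← h1, h3, h2]
    have hle : wl s (s t * wp s L) ≤ L.length := by
      rw [h3, wp_cons, h.s_mul_s_mul, h.red_cons h2, hlen]; simp
    obtain ⟨L1, j, L2, e1, e2, e3, e4⟩ := he.exists_red_cons h t L h1 hle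
    have e5 : wp f (t :: (L1 ++ L2)) = wp f (t :: L') := by
      apply hhead t _ _ _ e4 h2 (e3.trans h3)
      rw [← hq, e1]; simp; omega
    by_cases hL2 : L2 = []
    · subst hL2
      have : L.dropLast = L1 := by rw [e1]; simp
      rw [this]
      simp only [List.append_nil] at e3 e4 e5
      exact ⟨e4, e3, by rw [e5]; exact fun h => h4 h.symm⟩
    · exfalso
      apply h4
      rw [← e5, e1]
      have hr1 : Red s (t :: L1) := (h.red_append (L := t :: L1) (L' := L2) e4).1
      have hr2 : Red s (L1 ++ [j]) := by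
        have : L = (L1 ++ [j]) ++ L2 := by rw [e1]; simp
        exact (h.red_append (this ▸ h1)).1
      have := ih (t :: L1).length (by
        rw [← hq, e1]
        have := List.length_pos_iff.2 hL2
        simp; omega) (t :: L1) (L1 ++ [j]) rfl hr1 hr2 (by simpa using e2)
      simp only [wp_cons, wp_append, wp_nil, mul_one] at this ⊢
      rw [← mul_assoc, ← this, mul_assoc]
  have hmain : ∀ (d k : ℕ) (a t : ι) (rest L' : List ι), k + d = q → 1 ≤ k → a ≠ t →
      rest.length = d → Red s (alt a t k ++ rest) → Red s (t :: L') →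
      wp s (alt a t k ++ rest) = wp s (t :: L') → wp f (alt a t k ++ rest) ≠ wp f (t :: L') → False := by
    intro d
    induction d with
    | zero =>
      intro k a t rest L' hk hk1 hat hr h1 h2 h3 h4
      rw [List.length_eq_zero_iff] at hr
      subst hr
      simp only [List.append_nil, Nat.add_zero] at *
      subst hk
      obtain ⟨e1, e2, e3⟩ := hstep t _ L' (by simp) h1 h2 h3 h4
      have hd : ∀ (k : ℕ) (a t : ι), t :: (alt a t (k + 1)).dropLast = alt t a (k + 1) := by
        intro k
        induction k with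
        | zero => intro a t; simp
        | succ k ih2 =>
          intro a t
          rw [alt_succ a t, List.dropLast_cons_of_ne_nil (by simp), ih2 t a]
          rfl
      obtain ⟨k, rfl⟩ : ∃ k', k = k' + 1 := ⟨k - 1, by omega⟩
      rw [hd] at e1 e2 e3
      apply e3
      rw [wp_alt_eq_iff (h.sq t) (h.sq a)] at e2
      rw [wp_alt_eq_iff (hf t) (hf a)]
      obtain ⟨c, hc⟩ := orderOf_dvd_of_pow_eq_one e2
      rw [hc, pow_mul, hrel, one_pow]
    | succ d ihd =>
      intro k a t rest L' hk hk1 hat hr h1 h2 h3 h4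
      obtain ⟨e1, e2, e3⟩ := hstep t _ L' (by simp; omega) h1 h2 h3 h4
      have hne : rest ≠ [] := by rintro rfl; simp at hr
      rw [List.dropLast_append_of_ne_nil hne] at e1 e2 e3
      obtain ⟨k, rfl⟩ : ∃ k', k = k' + 1 := ⟨k - 1, by omega⟩
      exact ihd (k + 1 + 1) t a rest.dropLast (alt t a k ++ rest) (by omega) (by omega) hat.symm
        (by simp [hr]) e1 h1 e2 e3
  intro L L' hq h1 h2 h3
  by_contra h4
  have hlen : L.length = L'.length := by rw [← h1, h3, h2]
  cases L with
  | nil =>
    cases L' with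
    | nil => exact h4 rfl
    | cons => simp at hlen
  | cons a L =>
    cases L' with
    | nil => simp at hlen
    | cons t L' =>
      by_cases hat : a = t
      · subst hat
        exact h4 (hhead a L L' hq h1 h2 h3)
      · exact hmain L.length 1 a t L L' (by simp at hq; omega) le_rfl hat rfl h1 h2 h3 h4

theorem wp_indep {G : Type*} [Group G] (f : ι → G) (hf : ∀ i, f i * f i = 1)
    (hrel : ∀ i j, (f i * f j) ^ orderOf (s i * s j) = 1) (L : List ι) (hL : wp s L = 1) :
    wp f L = 1 := by
  have key : ∀ L : List ι, ∃ R, Red s R ∧ wp s R = wp s L ∧ wp f R = wp f L := by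
    intro L
    induction L with
    | nil => exact ⟨[], red_nil s, rfl, rfl⟩
    | cons i L ih =>
      obtain ⟨R, hR, hw, hfw⟩ := ih
      by_cases hc : wl s (s i * wp s R) ≤ R.length
      · obtain ⟨L1, j, L2, h1, -, h3, h4⟩ := he.exists_red_cons h i R hR hc
        refine ⟨L1 ++ L2, h.red_cons h4, ?_, ?_⟩
        · rw [wp_cons, ← hw, ← h3, wp_cons, h.s_mul_s_mul]
        · rw [wp_cons, ← hfw, ← he.red_indep h f hf hrel _ _ _ rfl h4 hR h3, wp_cons, ← mul_assoc, hf,
            one_mul]
      · refine ⟨i :: R, ?_, by simp [hw], by simp [hfw]⟩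
        have := h.wl_s_mul_le i (wp s R)
        rw [hR] at this
        rw [Red, wp_cons, List.length_cons]; omega
  obtain ⟨R, hR, hw, hfw⟩ := key L
  rw [Red, hw, hL, h.wl_one, eq_comm, List.length_eq_zero_iff] at hR
  rw [← hfw, hR, wp_nil]

/-- The exchange condition gives a Coxeter system. -/
theorem exists_coxeterSystem (M : CoxeterMatrix ι) (hM : ∀ i j, M i j = orderOf (s i * s j)) :
    ∃ cs : CoxeterSystem M W, ∀ i, cs.simple i = s i := by
  let cs0 := M.toCoxeterSystem
  have hl : M.IsLiftable s := fun i j => by rw [hM]; exact pow_orderOf_eq_one _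
  let π : M.Group →* W := cs0.lift ⟨s, hl⟩
  have hπ : ∀ i, π (cs0.simple i) = s i := fun i => cs0.lift_apply_simple hl i
  have hw : ∀ L, π (wp cs0.simple L) = wp s L := by
    intro L; rw [map_wp]; congr 1; funext i; exact hπ i
  have hsurj : Function.Surjective π := by
    intro w
    obtain ⟨L, rfl⟩ := h.gen w
    exact ⟨_, hw L⟩
  have hinj : Function.Injective π := by
    rw [injective_iff_map_eq_one]
    intro g hg
    obtain ⟨L, rfl⟩ := cs0.wordProd_surjective g
    change π (wp cs0.simple L) = 1 at hg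
    rw [hw] at hg
    exact he.wp_indep h cs0.simple cs0.simple_mul_simple_self
      (fun i j => by rw [← hM]; exact cs0.simple_mul_simple_pow i j) L hg
  refine ⟨cs0.map (MulEquiv.ofBijective π ⟨hinj, hsurj⟩), fun i => ?_⟩
  rw [CoxeterSystem.map_simple]
  exact hπ i

end Exch

end Cfsg.Agent.Lie
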