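import Cfsg.Prelude.Def_LieExceptional
import Cfsg.Agent.Lie.WordLen

set_option autoImplicit false
set_option linter.unusedSectionVars false

/-! Abstract theory of (B,N)-pairs. -/

namespace Cfsg.Agent.Lie.BN

open Cfsg.Agent.Lie DoubleCoset

variable {G : Type*} [Group G] (P : Cfsg.BNPair G)

instance instNormalT : ((P.B ⊓ P.N).subgroupOf P.N).Normal := by
  constructor
  intro t ht n
  rw [Subgroup.mem_subgroupOf] at ht ⊢
  exact ⟨P.conj_mem n n.2 t ht, (n * t * n⁻¹).2⟩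

/-- the Weyl group -/
abbrev W : Type _ := P.N ⧸ (P.B ⊓ P.N).subgroupOf P.N

/-- the projection to the Weyl group -/
def π : P.N →* W P := QuotientGroup.mk' _

theorem π_surj : Function.Surjective (π P) := QuotientGroup.mk'_surjective _

theorem π_eq_iff (n n' : P.N) : π P n = π P n' ↔ (n : G)⁻¹ * n' ∈ P.B := by
  change (n : W P) = (n' : W P) ↔ _
  rw [QuotientGroup.eq, Subgroup.mem_subgroupOf]
  exact ⟨fun h => h.1, fun h => ⟨h, (n⁻¹ * n').2⟩⟩

theorem π_eq_one_iff (n : P.N) : π P n = 1 ↔ (n : G) ∈ P.B := by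
  rw [eq_comm, ← map_one (π P), π_eq_iff]; simp

/-- representative in `N` of a distinguished generator -/
def sN (i : P.S) : P.N := ⟨i, P.subset i.2⟩

/-- the distinguished generators of `W` -/
def s (i : P.S) : W P := π P (sN P i)

theorem s_sq (i : P.S) : s P i * s P i = 1 := by
  rw [s, ← map_mul, π_eq_one_iff]; exact P.sq_mem i i.2

theorem π_wp (L : List P.S) : π P (wp (sN P) L) = wp (s P) L := map_wp _ _ _

theorem coe_wp (L : List P.S) : ((wp (sN P) L : P.N) : G) = wp (fun i : P.S => (i : G)) L :=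
  map_wp P.N.subtype _ _

theorem invGen : InvGen (s P) := by
  refine ⟨s_sq P, fun w => ?_⟩
  obtain ⟨n, rfl⟩ := π_surj P w
  have key : ∀ g ∈ Subgroup.closure P.S ⊔ (P.B ⊓ P.N), ∀ hg : g ∈ P.N,
      π P ⟨g, hg⟩ ∈ Subgroup.closure (s P '' Set.univ) := by
    intro g hg hgN
    let K : Subgroup G := ((Subgroup.closure (s P '' Set.univ)).comap (π P)).map P.N.subtype
    have : Subgroup.closure P.S ⊔ (P.B ⊓ P.N) ≤ K := by
      apply sup_le
      · rw [Subgroup.closure_le]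
        intro x hx
        exact ⟨sN P ⟨x, hx⟩, Subgroup.subset_closure ⟨⟨x, hx⟩, trivial, rfl⟩, rfl⟩
      · intro x hx
        refine ⟨⟨x, hx.2⟩, ?_, rfl⟩
        change π P _ ∈ Subgroup.closure _
        rw [(π_eq_one_iff P _).2 hx.1]; exact Subgroup.one_mem _
    obtain ⟨y, hy, rfl⟩ := this hg
    exact hy
  obtain ⟨L, -, hL⟩ := exists_wp_of_mem_closure (s_sq P) Set.univ
    (key n (by rw [P.closure_sup]; exact n.2) n.2)
  exact ⟨L, hL⟩

theorem not_mem_B {x : G} (hx : x ∈ P.S) : x ∉ P.B := by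
  intro h
  apply P.conj_ne x hx
  ext g
  constructor
  · rintro ⟨b, hb, rfl⟩
    exact P.B.mul_mem (P.B.mul_mem h hb) h
  · intro hg
    exact ⟨x⁻¹ * g * x⁻¹, P.B.mul_mem (P.B.mul_mem (P.B.inv_mem h) hg) (P.B.inv_mem h), by group⟩

theorem s_ne_one (i : P.S) : s P i ≠ 1 := by
  rw [s, Ne, π_eq_one_iff]; exact not_mem_B P i.2

theorem s_inj : Function.Injective (s P) := by
  intro i j h
  rw [s, s, π_eq_iff] at h
  exact Subtype.ext (P.inj _ i.2 _ j.2 h)

/-- the double coset attached to an element of `W` -/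
def C (w : W P) : Set G := {g | ∃ n : P.N, π P n = w ∧ g ∈ doubleCoset (n : G) (P.B : Set G) P.B}

theorem C_π (n : P.N) : C P (π P n) = doubleCoset (n : G) (P.B : Set G) P.B := by
  ext g
  constructor
  · rintro ⟨n', h1, h2⟩
    rw [π_eq_iff] at h1
    obtain ⟨x, hx, y, hy, rfl⟩ := mem_doubleCoset.1 h2
    exact mem_doubleCoset.2 ⟨x, hx, ((n' : G)⁻¹ * n)⁻¹ * y, P.B.mul_mem (P.B.inv_mem h1) hy, by group⟩
  · intro h; exact ⟨n, rfl, h⟩

variable {P}

theorem mem_C {w : W P} {g : G} (n : P.N) (hn : π P n = w) :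
    g ∈ C P w ↔ ∃ x ∈ P.B, ∃ y ∈ P.B, g = x * n * y := by
  rw [← hn, C_π, mem_doubleCoset]; rfl

theorem self_mem_C (n : P.N) : (n : G) ∈ C P (π P n) := by
  rw [C_π]; exact mem_doubleCoset_self _ _ _

theorem B_mul_mem_C {w : W P} {g b : G} (hb : b ∈ P.B) (hg : g ∈ C P w) : b * g ∈ C P w := by
  obtain ⟨n, rfl⟩ := π_surj P w
  obtain ⟨x, hx, y, hy, rfl⟩ := (mem_C n rfl).1 hg
  exact (mem_C n rfl).2 ⟨b * x, P.B.mul_mem hb hx, y, hy, by group⟩

theorem mul_B_mem_C {w : W P} {g b : G} (hg : g ∈ C P w) (hb : b ∈ P.B) : g * b ∈ C P w := by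
  obtain ⟨n, rfl⟩ := π_surj P w
  obtain ⟨x, hx, y, hy, rfl⟩ := (mem_C n rfl).1 hg
  exact (mem_C n rfl).2 ⟨x, hx, y * b, P.B.mul_mem hy hb, by group⟩

theorem inv_mem_C {w : W P} {g : G} (hg : g ∈ C P w) : g⁻¹ ∈ C P w⁻¹ := by
  obtain ⟨n, rfl⟩ := π_surj P w
  obtain ⟨x, hx, y, hy, rfl⟩ := (mem_C n rfl).1 hg
  exact (mem_C n⁻¹ (map_inv _ _)).2 ⟨y⁻¹, P.B.inv_mem hy, x⁻¹, P.B.inv_mem hx, by simp [mul_assoc]⟩

theorem mem_C_one {g : G} : g ∈ C P 1 ↔ g ∈ P.B := by
  rw [mem_C 1 (map_one _)]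
  constructor
  · rintro ⟨x, hx, y, hy, rfl⟩
    simpa using P.B.mul_mem hx hy
  · intro h; exact ⟨g, h, 1, P.B.one_mem, by simp⟩

theorem C_nonempty (w : W P) : ∃ g, g ∈ C P w := by
  obtain ⟨n, rfl⟩ := π_surj P w
  exact ⟨_, self_mem_C n⟩

theorem C_eq_of_mem {w w' : W P} {g : G} (h : g ∈ C P w) (h' : g ∈ C P w') : C P w = C P w' := by
  obtain ⟨n, rfl⟩ := π_surj P w
  obtain ⟨n', rfl⟩ := π_surj P w'
  rw [C_π] at h h' ⊢
  rw [C_π, ← doubleCoset_eq_of_mem h, ← doubleCoset_eq_of_mem h']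

theorem s_mul_C {i : P.S} {w : W P} {x y : G} (hx : x ∈ C P (s P i)) (hy : y ∈ C P w) :
    x * y ∈ C P (s P i * w) ∨ x * y ∈ C P w := by
  obtain ⟨n, rfl⟩ := π_surj P w
  obtain ⟨a, ha, b, hb, rfl⟩ := (mem_C (sN P i) rfl).1 hx
  obtain ⟨c, hc, d, hd, rfl⟩ := (mem_C n rfl).1 hy
  have e : a * (sN P i : G) * b * (c * n * d) = a * ((i : G) * (b * c) * n) * d := by
    simp only [sN, mul_assoc]
  rw [e]
  rcases P.mul_mem_union i i.2 n n.2 (b * c) (P.B.mul_mem hb hc) with h | h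
  · left
    refine mul_B_mem_C (B_mul_mem_C ha ?_) hd
    rw [s, ← map_mul, C_π]; exact h
  · right
    refine mul_B_mem_C (B_mul_mem_C ha ?_) hd
    rw [C_π]; exact h

theorem C_mul_s {i : P.S} {w : W P} {x y : G} (hx : x ∈ C P w) (hy : y ∈ C P (s P i)) :
    x * y ∈ C P (w * s P i) ∨ x * y ∈ C P w := by
  have h1 := inv_mem_C hy
  rw [(invGen P).inv_s] at h1
  rcases s_mul_C h1 (inv_mem_C hx) with h | h
  · left; simpa [(invGen P).inv_s] using inv_mem_C h
  · right; simpa using inv_mem_C h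

theorem exists_mul_of_mem_C {w w' : W P} {g : G} (hg : g ∈ C P (w * w')) :
    ∃ x ∈ C P w, ∃ y ∈ C P w', g = x * y := by
  obtain ⟨n, rfl⟩ := π_surj P w
  obtain ⟨n', rfl⟩ := π_surj P w'
  obtain ⟨a, ha, b, hb, rfl⟩ := (mem_C (n * n') (map_mul _ _ _)).1 hg
  exact ⟨a * n, B_mul_mem_C ha (self_mem_C n), n' * b, mul_B_mem_C (self_mem_C n') hb,
    by simp [mul_assoc]⟩

theorem C_inj_aux (k : ℕ) : ∀ w w' : W P, wl (s P) w' = k → k ≤ wl (s P) w → C P w = C P w' → w = w' := by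
  have h := invGen P
  induction k with
  | zero =>
    intro w w' h1 _ h3
    rw [h.wl_eq_zero] at h1
    subst h1
    obtain ⟨n, rfl⟩ := π_surj P w
    rw [π_eq_one_iff, ← mem_C_one, ← h3]
    exact self_mem_C n
  | succ k ih =>
    intro w w' h1 h2 h3
    obtain ⟨R, hR, rfl⟩ := h.exists_red w'
    cases R with
    | nil => rw [hR] at h1; simp at h1
    | cons i R =>
      have hR' := h.red_cons hR
      have hk : wl (s P) (wp (s P) R) = k := by
        rw [hR] at h1; rw [hR']; simpa using h1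
      have hx : ((wp (sN P) (i :: R) : P.N) : G) ∈ C P w := by
        rw [h3, ← π_wp]; exact self_mem_C _
      have hy : ((sN P i : P.N) : G)⁻¹ ∈ C P (s P i) := by
        have := inv_mem_C (self_mem_C (sN P i))
        rwa [show π P (sN P i) = s P i from rfl, h.inv_s] at this
      have hz : ((sN P i : P.N) : G)⁻¹ * ((wp (sN P) (i :: R) : P.N) : G) ∈ C P (wp (s P) R) := by
        rw [← π_wp]
        simpa using self_mem_C (wp (sN P) R)
      rcases s_mul_C hy hx with h4 | h4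
      · have := ih _ _ hk (by have := h.le_wl_s_mul i w; omega) (C_eq_of_mem h4 hz)
        rw [wp_cons, ← this, h.s_mul_s_mul]
      · have := ih _ _ hk (by omega) (C_eq_of_mem h4 hz)
        rw [← this] at hk; omega

theorem C_inj {w w' : W P} (h : C P w = C P w') : w = w' := by
  rcases le_total (wl (s P) w') (wl (s P) w) with h1 | h1
  · exact C_inj_aux _ _ _ rfl h1 h
  · exact (C_inj_aux _ _ _ rfl h1 h.symm).symm

theorem eq_of_mem_C {w w' : W P} {g : G} (h : g ∈ C P w) (h' : g ∈ C P w') : w = w' :=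
  C_inj (C_eq_of_mem h h')

theorem s_mul_C_of_le (i : P.S) (w : W P) : wl (s P) w ≤ wl (s P) (s P i * w) →
    ∀ x ∈ C P (s P i), ∀ y ∈ C P w, x * y ∈ C P (s P i * w) := by
  have h := invGen P
  induction w using h.induction_right with
  | one =>
    intro _ x hx y hy
    rw [mul_one]; exact mul_B_mem_C hx (mem_C_one.1 hy)
  | step j w h1 ih =>
    intro h2 x hx y hy
    rcases s_mul_C hx hy with h3 | h3
    · exact h3
    obtain ⟨y1, hy1, y2, hy2, rfl⟩ := exists_mul_of_mem_C hy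
    have h4 : wl (s P) w ≤ wl (s P) (s P i * w) := by
      have := h.wl_mul_s_le j (s P i * w)
      rw [mul_assoc] at this; omega
    have h5 := ih h4 x hx y1 hy1
    rcases C_mul_s h5 hy2 with h6 | h6
    · rwa [mul_assoc, mul_assoc] at h6
    · rw [mul_assoc] at h6
      have h7 := eq_of_mem_C h3 h6
      rw [h7, h.s_mul_s_mul] at h2
      rw [h7] at h1; omega

theorem exists_conj_not_mem (i : P.S) : ∃ b ∈ P.B, (i : G) * b * i ∉ P.B := by
  by_contra hc
  push Not at hc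
  apply P.conj_ne i i.2
  have h2 := P.B.inv_mem (P.sq_mem i i.2)
  ext g
  constructor
  · rintro ⟨b, hb, rfl⟩; exact hc b hb
  · intro hg
    refine ⟨(i : G)⁻¹ * g * (i : G)⁻¹, ?_, by group⟩
    have := hc _ (P.B.mul_mem (P.B.mul_mem h2 hg) h2)
    have e : (i : G) * (((i : G) * i)⁻¹ * g * ((i : G) * i)⁻¹) * i = (i : G)⁻¹ * g * (i : G)⁻¹ := by group
    rwa [e] at this

theorem exists_mul_eq_of_le (i : P.S) (w : W P) (hle : wl (s P) (s P i * w) ≤ wl (s P) w) {z : G}
    (hz : z ∈ C P w) : ∃ x ∈ C P (s P i), ∃ y ∈ C P w, x * y = z := by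
  have h := invGen P
  obtain ⟨b, hb, hb'⟩ := exists_conj_not_mem i
  have hi : (i : G) ∈ C P (s P i) := self_mem_C (sN P i)
  have h1 : (i : G) * b * i ∈ C P (s P i) := by
    rcases s_mul_C (mul_B_mem_C hi hb) hi with h2 | h2
    · rw [s_sq, mem_C_one] at h2; exact absurd h2 hb'
    · exact h2
  have key := s_mul_C_of_le i (s P i * w) (by rwa [h.s_mul_s_mul])
  rw [h.s_mul_s_mul] at key
  obtain ⟨m, hm⟩ := C_nonempty (s P i * w)
  have h2 := key _ h1 _ hm
  have h3 := key _ hi _ hm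
  obtain ⟨n, rfl⟩ := π_surj P w
  obtain ⟨a, ha, c, hc, e1⟩ := (mem_C n rfl).1 h2
  obtain ⟨a', ha', c', hc', rfl⟩ := (mem_C n rfl).1 hz
  refine ⟨a' * a⁻¹ * (i * b), B_mul_mem_C (P.B.mul_mem ha' (P.B.inv_mem ha)) (mul_B_mem_C hi hb),
    i * m * (c⁻¹ * c'), mul_B_mem_C h3 (P.B.mul_mem (P.B.inv_mem hc) hc'), ?_⟩
  calc a' * a⁻¹ * (i * b) * (i * m * (c⁻¹ * c')) = a' * a⁻¹ * (i * b * i * m) * (c⁻¹ * c') := by group
    _ = _ := by rw [e1]; group

theorem exch : Exch (s P) := by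
  have h := invGen P
  refine exch_of_step h (s_ne_one P) ?_
  intro i j w h1 h2 h3
  obtain ⟨z, hz⟩ := C_nonempty (w * s P j)
  obtain ⟨x, hx, y, hy, rfl⟩ := exists_mul_eq_of_le i _ h3 hz
  obtain ⟨y1, hy1, y2, hy2, rfl⟩ := exists_mul_of_mem_C hy
  have h5 := s_mul_C_of_le i w h2.le x hx y1 hy1
  rcases C_mul_s h5 hy2 with h6 | h6
  · rw [mul_assoc x] at h6
    have := eq_of_mem_C hz h6
    rw [mul_assoc, eq_comm, mul_eq_right] at this
    exact absurd this (s_ne_one P i)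
  · rw [mul_assoc] at h6
    exact eq_of_mem_C h6 hz

/-- union of the double cosets over a standard parabolic subgroup of `W` -/
def PJ (P : Cfsg.BNPair G) (J : Set P.S) : Subgroup G where
  carrier := {g | ∃ w ∈ Subgroup.closure (s P '' J), g ∈ C P w}
  one_mem' := ⟨1, Subgroup.one_mem _, mem_C_one.2 P.B.one_mem⟩
  inv_mem' := by
    rintro g ⟨w, hw, hg⟩
    exact ⟨w⁻¹, Subgroup.inv_mem _ hw, inv_mem_C hg⟩
  mul_mem' := by
    rintro a b ⟨w, hw, ha⟩ hb
    obtain ⟨L, hL, rfl⟩ := exists_wp_of_mem_closure (s_sq P) J hw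
    clear hw
    induction L generalizing a with
    | nil =>
      obtain ⟨w', hw', hb⟩ := hb
      exact ⟨w', hw', B_mul_mem_C (mem_C_one.1 ha) hb⟩
    | cons i L ih =>
      obtain ⟨x, hx, y, hy, rfl⟩ := exists_mul_of_mem_C (by rwa [wp_cons] at ha)
      obtain ⟨w', hw', hc⟩ := ih (fun j hj => hL j (by simp [hj])) hy
      rw [mul_assoc]
      rcases s_mul_C hx hc with h | h
      · exact ⟨_, Subgroup.mul_mem _ (Subgroup.subset_closure ⟨i, hL i (by simp), rfl⟩) hw', h⟩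
      · exact ⟨_, hw', h⟩

theorem wp_mem_of_letters {M : Subgroup G} (L : List P.S) (hL : ∀ i ∈ L, (i : G) ∈ M) :
    ((wp (sN P) L : P.N) : G) ∈ M := by
  induction L with
  | nil => simp
  | cons i L ih =>
    rw [wp_cons]
    exact M.mul_mem (hL i (by simp)) (ih fun j hj => hL j (by simp [hj]))

theorem parabolic_eq_PJ {J : Set G} (hJ : J ⊆ P.S) : P.parabolic J = PJ P {i | (i : G) ∈ J} := by
  apply le_antisymm
  · apply sup_le
    · intro b hb
      exact ⟨1, Subgroup.one_mem _, mem_C_one.2 hb⟩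
    · rw [Subgroup.closure_le]
      intro x hx
      exact ⟨s P ⟨x, hJ hx⟩, Subgroup.subset_closure ⟨⟨x, hJ hx⟩, hx, rfl⟩, self_mem_C (sN P ⟨x, hJ hx⟩)⟩
  · rintro g ⟨w, hw, hg⟩
    obtain ⟨L, hL, rfl⟩ := exists_wp_of_mem_closure (s_sq P) _ hw
    obtain ⟨a, ha, b, hb, rfl⟩ := (mem_C _ (π_wp P L)).1 hg
    have hB : P.B ≤ P.parabolic J := le_sup_left
    refine Subgroup.mul_mem _ (Subgroup.mul_mem _ (hB ha) ?_) (hB hb)
    exact wp_mem_of_letters L fun i hi => Subgroup.mem_sup_right (Subgroup.subset_closure (hL i hi))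

theorem parabolic_S : P.parabolic P.S = ⊤ := by
  rw [eq_top_iff, ← P.sup_eq_top]
  refine sup_le le_sup_left ?_
  rw [← P.closure_sup]
  exact sup_le le_sup_right (inf_le_left.trans le_sup_left)

theorem exists_mem_C (g : G) : ∃ w, g ∈ C P w := by
  have : g ∈ P.parabolic P.S := by rw [parabolic_S]; trivial
  rw [parabolic_eq_PJ subset_rfl] at this
  obtain ⟨w, -, hw⟩ := this
  exact ⟨w, hw⟩

theorem letters_mem {M : Subgroup G} (hM : P.B ≤ M) (L : List P.S) (hL : Red (s P) L) :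
    ∀ n : P.N, π P n = wp (s P) L → (∀ b ∈ P.B, (n : G) * b * (n : G)⁻¹ ∈ M) → ∀ i ∈ L, (i : G) ∈ M := by
  have h := invGen P
  induction L with
  | nil => simp
  | cons i L ih =>
    intro n hn hc
    have hL' := h.red_cons hL
    have hle : wl (s P) (s P i * π P n) ≤ wl (s P) (π P n) := by
      rw [hn, hL, wp_cons, h.s_mul_s_mul, hL']; simp
    obtain ⟨x, hx, y, hy, e⟩ := exists_mul_eq_of_le i _ hle (self_mem_C n)
    obtain ⟨a, ha, b, hb, rfl⟩ := (mem_C (sN P i) rfl).1 hx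
    obtain ⟨c, hc', d, hd, rfl⟩ := (mem_C n rfl).1 hy
    have hi : (i : G) ∈ M := by
      have e2 : (i : G) = a⁻¹ * ((n : G) * d⁻¹ * (n : G)⁻¹) * (b * c)⁻¹ := by
        have : (sN P i : G) = i := rfl
        rw [← this]
        conv_rhs => enter [1, 2, 1, 1]; rw [← e]
        group
      rw [e2]
      exact M.mul_mem (M.mul_mem (M.inv_mem (hM ha)) (hc _ (P.B.inv_mem hd)))
        (M.inv_mem (hM (P.B.mul_mem hb hc')))
    intro j hj
    rcases List.mem_cons.1 hj with rfl | hj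
    · exact hi
    refine ih hL' ((sN P i)⁻¹ * n) ?_ ?_ j hj
    · rw [map_mul, map_inv, hn, wp_cons]; exact inv_mul_cancel_left _ _
    · intro b hb
      have := M.mul_mem (M.mul_mem (M.inv_mem hi) (hc b hb)) hi
      simpa [sN, mul_assoc] using this

theorem mem_of_conj {M : Subgroup G} (hM : P.B ≤ M) (n : P.N)
    (hc : ∀ b ∈ P.B, (n : G) * b * (n : G)⁻¹ ∈ M) : (n : G) ∈ M := by
  obtain ⟨L, hL, e⟩ := (invGen P).exists_red (π P n)
  have h1 := wp_mem_of_letters L (letters_mem hM L hL n e.symm hc)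
  rw [← π_wp, π_eq_iff] at e
  simpa using M.mul_mem h1 (hM e)

theorem mem_of_mem_C {M : Subgroup G} (hM : P.B ≤ M) {g : G} (hg : g ∈ M) (n : P.N)
    (hn : g ∈ C P (π P n)) : (n : G) ∈ M := by
  obtain ⟨a, ha, b, hb, rfl⟩ := (mem_C n rfl).1 hn
  simpa [mul_assoc] using M.mul_mem (M.mul_mem (M.inv_mem (hM ha)) hg) (M.inv_mem (hM hb))

theorem eq_parabolic {M : Subgroup G} (hM : P.B ≤ M) : M = P.parabolic (P.S ∩ M) := by
  apply le_antisymm
  · intro g hg
    obtain ⟨w, hw⟩ := exists_mem_C (P := P) g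
    obtain ⟨n, rfl⟩ := π_surj P w
    have hn := mem_of_mem_C hM hg n hw
    obtain ⟨L, hL, e⟩ := (invGen P).exists_red (π P n)
    have h1 := letters_mem hM L hL n e.symm
      (fun b hb => M.mul_mem (M.mul_mem hn (hM hb)) (M.inv_mem hn))
    rw [parabolic_eq_PJ Set.inter_subset_left]
    refine ⟨π P n, ?_, hw⟩
    rw [← e]
    exact wp_mem_closure _ _ L fun i hi => ⟨i.2, h1 i hi⟩
  · exact sup_le hM ((Subgroup.closure_le _).2 Set.inter_subset_right)

theorem wl_s (i : P.S) : wl (s P) (s P i) = 1 := by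
  have h1 := InvGen.wl_s_le (s := s P) i
  have h2 : wl (s P) (s P i) ≠ 0 := by rw [Ne, (invGen P).wl_eq_zero]; exact s_ne_one P i
  omega

theorem mem_of_s_mem_closure {J : Set P.S} {i : P.S} (hi : s P i ∈ Subgroup.closure (s P '' J)) :
    i ∈ J := by
  obtain ⟨L, hL, e⟩ := exists_wp_of_mem_closure (s_sq P) _ hi
  obtain ⟨R, hR, hJ, e'⟩ := exch.exists_red_sub (invGen P) _ L hL
  rw [Red, e', e, wl_s, eq_comm, List.length_eq_one_iff] at hR
  obtain ⟨j, rfl⟩ := hR
  rw [e, wp_singleton] at e'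
  rw [← s_inj P e']
  exact hJ j (by simp)

theorem mem_of_mem_parabolic {J : Set G} (hJ : J ⊆ P.S) {x : G} (hx : x ∈ P.S)
    (h : x ∈ P.parabolic J) : x ∈ J := by
  rw [parabolic_eq_PJ hJ] at h
  obtain ⟨w, hw, h⟩ := h
  rw [eq_of_mem_C h (self_mem_C (sN P ⟨x, hx⟩))] at hw
  exact mem_of_s_mem_closure (i := ⟨x, hx⟩) hw

theorem subset_parabolic (J : Set G) : J ⊆ P.parabolic J := fun _ hx =>
  Subgroup.mem_sup_right (Subgroup.subset_closure hx)

theorem B_le_parabolic (J : Set G) : P.B ≤ P.parabolic J := le_sup_left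

theorem inter_parabolic {J : Set G} (hJ : J ⊆ P.S) : P.S ∩ P.parabolic J = J := by
  ext x
  exact ⟨fun h => mem_of_mem_parabolic hJ h.1 h.2, fun h => ⟨hJ h, subset_parabolic J h⟩⟩

theorem mem_of_conj_B {M : Subgroup G} (hM : P.B ≤ M) (g : G)
    (hc : ∀ b ∈ P.B, g * b * g⁻¹ ∈ M) : g ∈ M := by
  obtain ⟨w, hw⟩ := exists_mem_C (P := P) g
  obtain ⟨n, rfl⟩ := π_surj P w
  obtain ⟨a, ha, c, hc', rfl⟩ := (mem_C n rfl).1 hw
  refine M.mul_mem (M.mul_mem (hM ha) (mem_of_conj hM n fun b hb => ?_)) (hM hc')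
  have := M.mul_mem (M.mul_mem (M.inv_mem (hM ha))
    (hc _ (P.B.mul_mem (P.B.mul_mem (P.B.inv_mem hc') hb) hc'))) (hM ha)
  simpa [mul_assoc] using this

theorem isSimpleGroup [Nontrivial G] (hirr : P.Irreducible) (hsolv : Group.IsSolvable P.B)
    (hperf : commutator G = ⊤) (hcore : P.B.normalCore = ⊥) : IsSimpleGroup G := by
  have h := invGen P
  refine ⟨fun K hK => ?_⟩
  by_cases hKB : K ≤ P.B
  · left
    rw [eq_bot_iff, ← hcore]
    exact Subgroup.normal_le_normalCore.2 hKB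
  right
  have hM : P.B ≤ K ⊔ P.B := le_sup_right
  set J := P.S ∩ (K ⊔ P.B : Subgroup G) with hJdef
  have hJ : J ⊆ P.S := Set.inter_subset_left
  have hP : K ⊔ P.B = P.parabolic J := eq_parabolic hM
  have hne : J.Nonempty := by
    by_contra hc
    rw [Set.not_nonempty_iff_eq_empty] at hc
    rw [hc, Cfsg.BNPair.parabolic, Subgroup.closure_empty, sup_bot_eq] at hP
    exact hKB (hP ▸ le_sup_left)
  have hall : P.S \ J = ∅ := by
    by_contra hc
    obtain ⟨x, hx, y, hy, hxy⟩ := hirr J hJ hne (Set.nonempty_iff_ne_empty.2 hc)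
    apply hxy
    let i : P.S := ⟨x, hJ hx⟩
    let j : P.S := ⟨y, hy.1⟩
    let J' : Set P.S := {i | (i : G) ∈ J}
    have hiJ : s P i ∈ Subgroup.closure (s P '' J') := Subgroup.subset_closure ⟨i, hx, rfl⟩
    have hjJ : s P j ∉ Subgroup.closure (s P '' J') := fun hh => hy.2 (mem_of_s_mem_closure hh)
    have hij : s P j ≠ s P i := fun hh => hjJ (hh ▸ hiJ)
    have hx2 : x ∈ ((K ⊔ P.B : Subgroup G) : Set G) := hx.2
    rw [Subgroup.normal_mul] at hx2
    obtain ⟨k, hk, b, hb, e⟩ := hx2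
    have hkC : k ∈ C P (s P i) := by
      have : k = x * b⁻¹ := by rw [← e]; simp
      rw [this]; exact mul_B_mem_C (self_mem_C (sN P i)) (P.B.inv_mem hb)
    have hyC : y ∈ C P (s P j) := self_mem_C (sN P j)
    have hyC' : y⁻¹ ∈ C P (s P j) := by simpa [h.inv_s] using inv_mem_C hyC
    have hl1 : wl (s P) (s P j * s P i) ≠ 0 := by
      rw [Ne, h.wl_eq_zero, mul_eq_one_iff_eq_inv, h.inv_s]; exact hij
    have h1 := s_mul_C_of_le j (s P i) (by rw [wl_s]; omega) _ hyC _ hkC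
    have h2 : y * k * y⁻¹ ∈ PJ P J' := by
      rw [← parabolic_eq_PJ hJ, ← hP]
      exact Subgroup.mem_sup_left (hK.conj_mem k hk y)
    obtain ⟨w, hw, h2⟩ := h2
    have hw' : s P j * s P i * s P j ∈ Subgroup.closure (s P '' J') := by
      rcases C_mul_s h1 hyC' with h3 | h3
      · rwa [eq_of_mem_C h3 h2]
      · rw [← eq_of_mem_C h3 h2] at hw
        exact absurd ((Subgroup.mul_mem_cancel_right _ hiJ).1 hw) hjJ
    have hred : Red (s P) [i, j] := by
      have := exch.wl_s_mul_cases h i (s P j)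
      rw [wl_s] at this
      have hl2 : wl (s P) (s P i * s P j) ≠ 0 := by
        rw [Ne, h.wl_eq_zero, mul_eq_one_iff_eq_inv, h.inv_s]; exact hij.symm
      simp only [Red, wp_cons, wp_nil, mul_one, List.length_cons, List.length_nil]
      omega
    have hcomm : s P j * s P i = s P i * s P j := by
      by_cases hc2 : wl (s P) (s P j * wp (s P) [i, j]) ≤ [i, j].length
      · obtain ⟨L1, k', L2, e1, e2⟩ := exch j _ hred hc2
        rcases L1 with _ | ⟨a, L1⟩
        · simp only [List.nil_append, List.cons.injEq] at e1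
          rw [← e1.1] at e2
          simp only [wp_nil, mul_one, one_mul] at e2
          exact absurd e2 hij
        · rcases L1 with _ | ⟨a', L1⟩
          · simp only [List.cons_append, List.nil_append, List.cons.injEq] at e1
            rw [← e1.1, ← e1.2.1] at e2
            simpa using e2
          · simp at e1
      · exfalso
        have hred2 : Red (s P) [j, i, j] := by
          have := h.wl_s_mul_le j (wp (s P) [i, j])
          rw [hred] at this
          rw [Red, wp_cons]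
          simp only [List.length_cons, List.length_nil] at *
          omega
        have hn : ((wp (sN P) [j, i, j] : P.N) : G) ∈ PJ P J' := by
          refine ⟨_, hw', ?_⟩
          have := self_mem_C (wp (sN P) [j, i, j])
          rw [π_wp] at this
          simpa [mul_assoc] using this
        have hB : P.B ≤ PJ P J' := by rw [← parabolic_eq_PJ hJ]; exact B_le_parabolic J
        have := letters_mem hB _ hred2 _ (π_wp P _)
          (fun b hb => Subgroup.mul_mem _ (Subgroup.mul_mem _ hn (hB hb)) (Subgroup.inv_mem _ hn))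
          j (by simp)
        rw [← parabolic_eq_PJ hJ] at this
        exact hy.2 (mem_of_mem_parabolic hJ hy.1 this)
    have : π P (sN P i * sN P j * (sN P i)⁻¹ * (sN P j)⁻¹) = 1 := by
      simp only [map_mul, map_inv]
      change s P i * s P j * (s P i)⁻¹ * (s P j)⁻¹ = 1
      rw [← hcomm]; group
    exact (π_eq_one_iff P _).1 this
  have hJS : J = P.S := Set.Subset.antisymm hJ (Set.sdiff_eq_empty.1 hall)
  rw [hJS, parabolic_S] at hP
  have hsurj : Function.Surjective ((QuotientGroup.mk' K).comp P.B.subtype) := by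
    intro q
    obtain ⟨g, rfl⟩ := QuotientGroup.mk'_surjective K q
    have hg : g ∈ ((K ⊔ P.B : Subgroup G) : Set G) := by rw [hP]; trivial
    rw [Subgroup.normal_mul] at hg
    obtain ⟨k, hk, b, hb, rfl⟩ := hg
    refine ⟨⟨b, hb⟩, ?_⟩
    simp [(QuotientGroup.eq_one_iff k).2 hk]
  have hs : Group.IsSolvable (G ⧸ K) := Group.isSolvable_of_surjective hsurj
  by_contra hKt
  have : Nontrivial (G ⧸ K) := QuotientGroup.nontrivial_iff.2 hKt
  have h1 := Group.IsSolvable.commutator_lt_top_of_nontrivial (G ⧸ K)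
  apply h1.ne
  have := Subgroup.map_commutator (⊤ : Subgroup G) ⊤ (QuotientGroup.mk' K)
  rw [← commutator_def, hperf, Subgroup.map_top_of_surjective _ (QuotientGroup.mk'_surjective K)] at this
  exact this.symm

end Cfsg.Agent.Lie.BN
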