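import Cfsg.Agent.Lie.St

set_option autoImplicit false
set_option linter.unusedSectionVars false
set_option linter.unusedSimpArgs false

/-! Homomorphisms between Chevalley groups given by maps of root systems. -/

namespace Cfsg.Agent.Lie

open Cfsg.Lie
open scoped Matrix MatrixGroups commutatorElement

variable {D D' : ChevalleyDatum} [G : Good D] [G' : Good D'] {F F' : Type*} [Field F] [Field F']
  {Γ : Type*} [Group Γ]

/-- terms of a commutator formula -/
abbrev Tm (D : ChevalleyDatum) : Type := Rt D × ℤ × ℕ × ℕ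

/-- reduce the coefficients and drop the trivial terms -/
def nrm (p : ℤ) (L : List (Tm D)) : List (Tm D) :=
  (L.map fun c => (c.1, c.2.1 % p, c.2.2)).filter fun c => c.2.1 ≠ 0

/-- evaluation of a list of terms -/
def ev (x : Rt D → F → Γ) (T U : F) (L : List (Tm D)) : Γ :=
  (L.map fun c => x c.1 (c.2.1 * T ^ c.2.2.1 * U ^ c.2.2.2)).prod

omit G in
theorem ev_nrm {x : Rt D → F → Γ} (h0 : ∀ r, x r 0 = 1) {p : ℤ} (hp : (p : F) = 0) (T U : F) (L : List (Tm D)) :
    ev x T U (nrm p L) = ev x T U L := by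
  have h : ∀ k : ℤ, ((k % p : ℤ) : F) = k := fun k => by rw [Int.emod_def]; simp [hp]
  induction L with
  | nil => rfl
  | cons c L ih =>
    simp only [ev, nrm, List.map_cons, List.prod_cons, List.filter_cons] at ih ⊢
    split_ifs with h1
    · simp only [List.map_cons, List.prod_cons, ih, h]
    · rw [ih, ← h c.2.1, show c.2.1 % p = 0 by simpa using h1]; simp [h0]

/-- the root subgroups commute in characteristic `p` -/
def CommOK (p : ℤ) (a b : Rt D) : Prop := b = a ∨ (b ≠ ng a ∧ nrm p (cT a b) = [])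

instance instDecCommOK (p : ℤ) (a b : Rt D) : Decidable (CommOK p a b) := by unfold CommOK; infer_instance

theorem cwL_eq_ev (x : Rt D → F → Γ) (L : List (Tm D)) (t u : F) : cwL x L t u = ev x (-t) u L := rfl

theorem Sys.commute_of_OK {x : Rt D → F → Γ} {θ : Γ →* GL D.Idx F} (hS : Sys x θ) {p : ℤ} (hp : (p : F) = 0)
    {a b : Rt D} (h : CommOK p a b) (t u : F) : Commute (x a t) (x b u) := by
  by_cases e : b = a
  · subst e; rw [Commute, SemiconjBy, hS.x_add, hS.x_add, add_comm]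
  · obtain ⟨h1, h2⟩ := h.resolve_left e
    rw [Commute, SemiconjBy, hS.rel.comm a b e h1, cwL_eq_ev, ← ev_nrm hS.x_zero hp, h2]
    simp [ev]

/-- data describing a map `x_r(t) ↦ x_{ρ r}(γ_r φ(t)^{λ_r})` -/
structure Emb (D D' : ChevalleyDatum) where
  ρ : Rt D → Rt D'
  γ : Rt D → ℤ
  lam : Rt D → ℕ
  p : ℤ

namespace Emb

variable (E : Emb D D')

/-- the map on parameters -/
def f (φ : F →+* F') (r : Rt D) (t : F) : F' := E.γ r * φ t ^ E.lam r

/-- image of the commutator formula -/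
def L1 (r s : Rt D) : List (Tm D') := (cT r s).map fun c =>
  (E.ρ c.1, E.γ c.1 * (c.2.1 * (-1) ^ c.2.2.1) ^ E.lam c.1, c.2.2.1 * E.lam c.1, c.2.2.2 * E.lam c.1)

/-- commutator formula for the images -/
def L2 (r s : Rt D) : List (Tm D') := (cT (E.ρ r) (E.ρ s)).map fun c =>
  (c.1, c.2.1 * (- E.γ r) ^ c.2.2.1 * E.γ s ^ c.2.2.2, E.lam r * c.2.2.1, E.lam s * c.2.2.2)

/-- condition for a single root -/
def OK1 (r : Rt D) : Prop :=
  E.ρ (ng r) = ng (E.ρ r) ∧ E.γ (ng r) = E.γ r ∧ E.lam (ng r) = E.lam r ∧ (E.γ r = 1 ∨ E.γ r = -1)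

/-- condition for a pair of roots -/
def OK2 (r s : Rt D) : Prop := s = r ∨ (E.ρ s ≠ E.ρ r ∧ (s = ng r ∨ nrm E.p (E.L1 r s) = nrm E.p (E.L2 r s) ∨
  ((nrm E.p (E.L1 r s)).Perm (nrm E.p (E.L2 r s)) ∧
    (nrm E.p (E.L2 r s)).Pairwise fun a b => CommOK E.p a.1 b.1)))

instance instDecOK1 (r : Rt D) : Decidable (E.OK1 r) := by unfold OK1; infer_instance
instance instDecOK2 (r s : Rt D) : Decidable (E.OK2 r s) := by unfold OK2; infer_instance

/-- all conditions -/
structure OK : Prop where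
  one : ∀ r, E.OK1 r
  two : ∀ r s, E.OK2 r s

/-- checker for one row -/
noncomputable def chk (r : ℕ) : Bool := if h : r < D.nroots then decide (E.OK1 ⟨r, h⟩) &&
  allLt D.nroots fun s => if h' : s < D.nroots then decide (E.OK2 ⟨r, h⟩ ⟨s, h'⟩) else true else true

theorem ok_of_chk (h : ∀ r < D.nroots, E.chk r = true) : E.OK := by
  have : ∀ r : Rt D, E.OK1 r ∧ ∀ s, E.OK2 r s := fun r => by
    have := h r r.2
    rw [chk, dif_pos r.2, Bool.and_eq_true, decide_eq_true_eq] at this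
    refine ⟨this.1, fun s => ?_⟩
    have := allLt_spec this.2 s s.2
    rwa [dif_pos s.2, decide_eq_true_eq] at this
  exact ⟨fun r => (this r).1, fun r => (this r).2⟩

/-- the field is adapted to the data -/
structure Fits (F' : Type*) [Field F'] : Prop where
  char : (E.p : F') = 0
  pow : ∀ r (a b : F'), (a + b) ^ E.lam r = a ^ E.lam r + b ^ E.lam r

omit G G' in
theorem fits_one (h : E.p = 0) (h' : ∀ r, E.lam r = 1) : E.Fits F' := ⟨by simp [h], by simp [h']⟩

omit G G' in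
theorem fits_char (p : ℕ) [Fact p.Prime] [CharP F' p] (h : E.p = p) (h' : ∀ r, E.lam r = 1 ∨ E.lam r = p) :
    E.Fits F' := ⟨by simp [h], fun r a b => by rcases h' r with h | h <;> simp [h, add_pow_char]⟩

variable {E}

omit G G' in
theorem Fits.ne_zero (h : E.Fits F') (r : Rt D) : E.lam r ≠ 0 := fun e => by simpa [e] using h.pow r 0 0

omit G G' in
theorem Fits.neg (h : E.Fits F') (r : Rt D) (a : F') : (-a) ^ E.lam r = - a ^ E.lam r := by
  have := h.pow r a (-a)
  rw [add_neg_cancel, zero_pow (h.ne_zero r)] at this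
  linear_combination -this

theorem OK.inj (h : E.OK) : Function.Injective E.ρ := fun r s e => by
  by_contra hc
  exact ((h.two s r).resolve_left hc).1 e

theorem OK.γ_sq (h : E.OK) (r : Rt D) : (E.γ r : F') * E.γ r = 1 := by
  rcases (h.one r).2.2.2 with h | h <;> simp [h]

/-- the sign as a unit -/
def OK.sg (h : E.OK) (F' : Type*) [Field F'] (r : Rt D) : F'ˣ := ⟨E.γ r, E.γ r, h.γ_sq r, h.γ_sq r⟩

variable (E) in
/-- the map on units -/
def uE (φ : F →+* F') (r : Rt D) : Fˣ →* F'ˣ := (powMonoidHom (E.lam r)).comp (Units.map φ.toMonoidHom)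

omit G G' in
theorem coe_uE (φ : F →+* F') (r : Rt D) (t : Fˣ) : (E.uE φ r t : F') = φ t ^ E.lam r := by simp [uE]

variable (h : E.OK) (hf : E.Fits F') (φ : F →+* F')
include h hf

omit h G G' in
theorem f_add (r : Rt D) (t u : F) : E.f φ r (t + u) = E.f φ r t + E.f φ r u := by
  simp [f, hf.pow, mul_add]

omit hf in
theorem f_ne_zero (r : Rt D) {t : F} (ht : t ≠ 0) : E.f φ r t ≠ 0 :=
  mul_ne_zero (h.sg F' r).ne_zero (pow_ne_zero _ ((map_ne_zero φ).2 ht))

theorem nX_eq (x : Rt D' → F' → Γ) (r : Rt D) (t : Fˣ) :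
    nX (fun r t => x (E.ρ r) (E.f φ r t)) r t = nX x (E.ρ r) (h.sg F' r * E.uE φ r t) := by
  obtain ⟨h1, h2, h3, -⟩ := h.one r
  simp only [nX, f, h1, h2, h3, map_neg, hf.neg, Units.val_mul, coe_uE, mul_inv, ← map_inv]
  simp [OK.sg]

theorem hX_eq {x : Rt D' → F' → Γ} {θ : Γ →* GL D'.Idx F'} (hS : Sys x θ) (r : Rt D) (t : Fˣ) :
    hX (fun r t => x (E.ρ r) (E.f φ r t)) r t = hX x (E.ρ r) (E.uE φ r t) := by
  rw [hX, nX_eq h hf, nX_eq h hf, hS.n_mul_n]
  congr 1
  have : E.uE φ r (-1) = -1 := Units.ext (by simp [coe_uE, hf.neg])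
  rw [this]; simp [mul_comm (h.sg F' r)]

theorem rel {x : Rt D' → F' → Γ} {θ : Γ →* GL D'.Idx F'} (hS : Sys x θ) :
    Rel fun r t => x (E.ρ r) (E.f φ r t) := by
  refine ⟨fun r t u => by rw [hS.x_add, f_add hf], fun r s h1 h2 t u => ?_, fun r t u => ?_⟩
  · obtain ⟨h3, h4⟩ := (h.two r s).resolve_left h1
    have e1 : cwL (fun r t => x (E.ρ r) (E.f φ r t)) (cT r s) t u = ev x (φ t) (φ u) (E.L1 r s) := by
      simp only [cwL, ev, L1, List.map_map]
      congr 1
      refine List.map_congr_left fun c _ => ?_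
      simp only [Function.comp, f, map_mul, map_pow, map_neg, map_intCast, pow_mul]
      congr 1
      rw [neg_pow (φ t)]; push_cast; ring
    have e2 : cwL x (cT (E.ρ r) (E.ρ s)) (E.f φ r t) (E.f φ s u) = ev x (φ t) (φ u) (E.L2 r s) := by
      simp only [cwL, ev, L2, List.map_map]
      congr 1
      refine List.map_congr_left fun c _ => ?_
      simp only [Function.comp, f, pow_mul]
      congr 1
      push_cast
      rw [← neg_mul, mul_pow, mul_pow]; ring
    rw [hS.rel.comm _ _ h3 (fun e => h2 (h.inj (e.trans (h.one r).1.symm))), e1, e2,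
      ← ev_nrm hS.x_zero hf.char _ _ (E.L1 r s), ← ev_nrm hS.x_zero hf.char _ _ (E.L2 r s)]
    congr 1
    rcases h4.resolve_left h2 with h5 | ⟨h5, h6⟩
    · rw [h5]
    exact ((h5.map _).symm.prod_eq' (List.pairwise_map.2 (h6.imp fun h7 => hS.commute_of_OK hf.char h7 _ _)))
  · rw [hX_eq h hf φ hS, hX_eq h hf φ hS, hX_eq h hf φ hS, hS.hmul, map_mul]

variable {Γ' : Type*} [Group Γ'] {x : Rt D → F → Γ} {y : Rt D' → F' → Γ'} {α : Γ →* Γ'}
  (hα : ∀ r t, α (x r t) = y (E.ρ r) (E.f φ r t))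
include hα

theorem map_n (r : Rt D) (t : Fˣ) : α (nX x r t) = nX y (E.ρ r) (h.sg F' r * E.uE φ r t) := by
  rw [← nX_eq h hf]; exact map_nX α (hα r) (hα _) t

theorem map_h {θ : Γ' →* GL D'.Idx F'} (hS : Sys y θ) (r : Rt D) (t : Fˣ) :
    α (hX x r t) = hX y (E.ρ r) (E.uE φ r t) := by
  rw [← hX_eq h hf φ hS]; exact map_hX α (hα r) (hα _) t

theorem inj {θ : Γ →* GL D.Idx F} {θ' : Γ' →* GL D'.Idx F'} (hS : Sys x θ) (hS' : Sys y θ')
    (hx : XS x Set.univ = ⊤) (hcore : (BX x).normalCore = ⊥) (hpos : ∀ r, Pos r → Pos (E.ρ r)) :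
    Function.Injective α := by
  rw [← MonoidHom.ker_eq_bot_iff, eq_bot_iff, ← hcore, Subgroup.normal_le_normalCore]
  intro g hg
  obtain ⟨w, hw⟩ := hS.exists_cell (g := g) (by simp [hx])
  obtain ⟨a, ha, n, hn, u, hu, rfl⟩ := hS.sharp' hw
  have hU : UX x ≤ (UX y).comap α := XS_le.2 fun r hr t => by
    rw [Subgroup.mem_comap, hα]; exact mem_UX (hpos r hr) _
  have hN : NX x ≤ (NX y).comap α := NX_le.2 fun r t => by
    rw [Subgroup.mem_comap, map_n h hf φ hα]; exact nX_mem_NX _ _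
  have h1 : α n ∈ BX y := by
    have : α n = (α a)⁻¹ * (α u)⁻¹ := by
      rw [eq_inv_mul_iff_mul_eq, eq_inv_iff_mul_eq_one, ← map_mul, ← map_mul]; exact hg
    rw [this]
    exact UX_le_BX (mul_mem (inv_mem (hU ha)) (inv_mem (hU (UW_le_UX _ _ hu))))
  have h2 := hS'.lift_of_mem_H (hS'.mem_H_of_B_N h1 (hN hn.1))
  obtain rfl : w = 1 := Subtype.ext (Equiv.ext fun r => by
    obtain ⟨c, hc⟩ := hn.2 r
    obtain ⟨c', hc'⟩ := h2.2 (E.ρ r)
    have := congrArg α (hc 1)
    rw [map_mul, map_mul, map_inv, hα, hα, hc'] at this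
    exact h.inj (hS'.eq_of_x_eq (f_ne_zero h φ _ (by simp)) this.symm))
  exact hS.mem_Cell_one.1 hw

end Emb

theorem BX_xA : BX (xA : Rt D → F → D.group F) = (D.borelSubgroup F).subgroupOf (D.group F) := by
  rw [borel_eq, ← map_BX sys_xA.θ_x, Subgroup.subgroupOf,
    Subgroup.comap_map_eq_self_of_injective (D.group F).subtype_injective]

theorem core_xA : (BX (xA : Rt D → F → D.group F)).normalCore = ⊥ := by rw [BX_xA, core_eq_bot]

/-- automorphisms of the adjoint group -/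
theorem Emb.exists_aut {E : Emb D D} (h : E.OK) (hf : E.Fits F) (φ : F →+* F)
    (hs : ∀ r, Function.Surjective fun t : F => φ t ^ E.lam r) (hpos : ∀ r, Pos r → Pos (E.ρ r)) :
    ∃ α : D.group F ≃* D.group F, ∀ r t, α (xA r t) = xA (E.ρ r) (E.f φ r t) := by
  have h1 : ∀ r (t : F), ∃ s u, (xA r t : D.group F) = xA (E.ρ s) (E.f φ s u) := fun r t => by
    obtain ⟨s, rfl⟩ := Finite.surjective_of_injective h.inj r
    obtain ⟨u, hu⟩ := hs s (E.γ s * t)
    exact ⟨s, u, by rw [Emb.f, show φ u ^ E.lam s = _ from hu, ← mul_assoc, h.γ_sq, one_mul]⟩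
  obtain ⟨α, hα⟩ := (Emb.rel h hf φ (sys_xA (D := D))).exists_hom (by
    rw [eq_top_iff, ← XS_xA]
    refine XS_le.2 fun r _ t => ?_
    obtain ⟨s, u, e⟩ := h1 r t
    rw [e]; exact mem_XS (x := fun r t => xA (E.ρ r) (E.f φ r t)) (Set.mem_univ s) u) center_group
  refine ⟨MulEquiv.ofBijective α ⟨Emb.inj h hf φ hα sys_xA sys_xA XS_xA core_xA hpos,
    surj_of_XS XS_xA fun r t => ?_⟩, hα⟩
  obtain ⟨s, u, e⟩ := h1 r t
  exact ⟨_, (hα s u).trans e.symm⟩

/-- the identity -/
def Emb.one (D : ChevalleyDatum) : Emb D D := ⟨id, fun _ => 1, fun _ => 1, 0⟩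

theorem Emb.one_ok : (Emb.one D).OK :=
  ⟨fun _ => ⟨rfl, rfl, rfl, Or.inl rfl⟩, fun r s => (em (s = r)).imp_right fun h =>
    ⟨h, Or.inr (Or.inl (by simp [Emb.one, L1, L2]))⟩⟩

theorem Sys.hP_inj_of_emb {E : Emb D D'} (h : E.OK) (hf : E.Fits F)
    (hi : ∀ c : Ix D → Fˣ, (∀ j : Ix D', ∏ i, c i ^ (E.lam (sim i) * A (E.ρ (sim i)) (sim j)) = 1) → c = 1) :
    Function.Injective (sys_xS (D := D) (F := F)).hP := by
  rw [← MonoidHom.ker_eq_bot_iff, eq_bot_iff]
  intro c hc
  have h1 := (Emb.rel h hf (RingHom.id F) (sys_xG (D := D'))).lift_xS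
  have h2 := congrArg (Emb.rel h hf (RingHom.id F) (sys_xG (D := D'))).lift hc
  rw [Sys.hP_eq_prod, map_list_prod, List.map_map, map_one] at h2
  have h3 : dg (∏ i, coch (E.ρ (sim i)) (E.uE (RingHom.id F) (sim i) (c i))) = (1 : GL D'.Idx F) := by
    rw [← h2, Fin.prod_univ_def, map_list_prod, List.map_map]
    congr 1
    exact List.map_congr_left fun i _ => by
      simp only [Function.comp, Emb.map_h h hf _ h1 sys_xG, hG_eq]
  refine hi c fun j => ?_
  have := congrFun (dg_inj (h3.trans (map_one _).symm)) j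
  simpa [coch, Emb.uE, zpow_mul] using this

theorem Sys.hP_inj_of_emb' {E : Emb D D'} (h : E.OK) (hf : E.Fits F) (B : List (List ℤ))
    (hB : ∀ i k : Ix D, ∑ j : Ix D', (E.lam (sim i) * A (E.ρ (sim i)) (sim j)) * mL B j k = if i = k then 1 else 0) :
    Function.Injective (sys_xS (D := D) (F := F)).hP := by
  refine Sys.hP_inj_of_emb h hf fun c hc => funext fun k => ?_
  have : ∏ j : Ix D', (∏ i, c i ^ (E.lam (sim i) * A (E.ρ (sim i)) (sim j))) ^ mL B j k = c k := by
    simp only [← Finset.prod_zpow, ← zpow_mul]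
    rw [Finset.prod_comm]
    simp only [← zpow_finset_sum, hB]
    simp
  simpa [hc] using this.symm

/-- a map of root indices given by a packed table -/
def tb (D D' : ChevalleyDatum) [G' : Good D'] (X : ℕ) (r : Rt D) : Rt D' :=
  if h : byte X r < D'.nroots then ⟨byte X r, h⟩ else sim ⟨0, G'.is.rank_pos⟩

/-- a map of indices of fundamental roots given by a list -/
def tbI {D : ChevalleyDatum} (L : List ℕ) (i : Ix D) : Ix D :=
  if h : L.getD i 0 < D.rank then ⟨L.getD i 0, h⟩ else i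

end Cfsg.Agent.Lie
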