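import Cfsg.Agent.Lie.Sys
import Cfsg.Agent.Lie.BN

set_option autoImplicit false
set_option linter.unusedSectionVars false
set_option linter.unusedSimpArgs false

/-! Bruhat decomposition, parabolic subgroups and the BN-pair. -/

namespace Cfsg.Agent.Lie

open Cfsg.Lie
open scoped Matrix MatrixGroups

variable {D : ChevalleyDatum} [G : Good D] {F : Type*} [Field F] {Γ : Type*} [Group Γ]

/-- the Bruhat cells -/
def Cell (x : Rt D → F → Γ) (w : W D) : Set Γ :=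
  {g | ∃ b ∈ BX x, ∃ n, Lift x n w ∧ ∃ b' ∈ BX x, g = b * n * b'}

/-- the subgroup `U_w^-` -/
def UW (x : Rt D → F → Γ) (w : W D) : Subgroup Γ := XS x (inv w.1 : Set (Rt D))

/-- standard parabolic subgroups -/
def PX (x : Rt D → F → Γ) (J : Set (Ix D)) : Subgroup Γ := BX x ⊔ Subgroup.closure (nS x '' J)

/-- unipotent radicals -/
def UJ (x : Rt D → F → Γ) (J : Set (Ix D)) : Subgroup Γ := XS x {r | Pos r ∧ ¬ InJ J r}

/-- Levi subgroups -/
def LX (x : Rt D → F → Γ) (J : Set (Ix D)) : Subgroup Γ := HX x ⊔ XS x {r | InJ J r}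

open Classical in
/-- the sum of the coordinates outside `J` -/
noncomputable def lJ (J : Set (Ix D)) : Fn D where
  toFun v := ∑ i, if i ∈ J then 0 else v i
  map_zero' := by simp
  map_add' v w := by
    rw [← Finset.sum_add_distrib]
    exact Finset.sum_congr rfl fun i _ => by split_ifs <;> simp

open Classical in
omit G in
theorem lJ_apply (J : Set (Ix D)) (v : Ix D → ℤ) : lJ J v = ∑ i, if i ∈ J then 0 else v i := rfl

theorem lJ_of_InJ {J : Set (Ix D)} {r : Rt D} (h : InJ J r) : lJ J (co r) = 0 := by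
  rw [lJ_apply]
  exact Finset.sum_eq_zero fun i _ => by split_ifs with hi; exacts [rfl, h i hi]

theorem lJ_pos {J : Set (Ix D)} {r : Rt D} (hr : Pos r) (h : ¬ InJ J r) : 0 < lJ J (co r) := by
  simp only [InJ, not_forall] at h
  obtain ⟨i, hi, h⟩ := h
  have h0 := (pos_iff r).1 hr
  refine Finset.sum_pos' (fun j _ => ?_) ⟨i, Finset.mem_univ _, ?_⟩
  · split_ifs; exacts [le_rfl, h0 j]
  · rw [if_neg hi]; exact lt_of_le_of_ne (h0 i) (Ne.symm h)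

theorem lJ_pos_iff {J : Set (Ix D)} {r : Rt D} : 0 < lJ J (co r) ↔ Pos r ∧ ¬ InJ J r := by
  refine ⟨fun h => ?_, fun h => lJ_pos h.1 h.2⟩
  have h1 : ¬ InJ J r := fun h' => by rw [lJ_of_InJ h'] at h; omega
  refine ⟨?_, h1⟩
  by_contra hc
  have := lJ_pos ((pos_ng r).2 hc) (mt InJ_ng.1 h1)
  rw [co_ng, map_neg] at this
  omega

theorem lJ_nonneg_iff {J : Set (Ix D)} {r : Rt D} : 0 ≤ lJ J (co r) ↔ Pos r ∨ InJ J r := by
  have := lJ_pos_iff (J := J) (r := ng r)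
  rw [co_ng, map_neg, pos_ng, InJ_ng] at this
  rw [← not_iff_not, not_or, ← this]; omega

theorem lJ_eq_zero_iff {J : Set (Ix D)} {r : Rt D} : lJ J (co r) = 0 ↔ InJ J r := by
  refine ⟨fun h => ?_, lJ_of_InJ⟩
  by_contra hc
  rcases lJ_nonneg_iff.1 h.ge with h1 | h1
  · have := lJ_pos h1 hc; omega
  · exact hc h1

theorem closed_InJ (J : Set (Ix D)) : Closed {r | InJ J r} := by
  intro r hr s hs u hu
  obtain ⟨i, j, -, -, e⟩ := hu.apply (lJ J)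
  rw [lJ_of_InJ hr, lJ_of_InJ hs] at e
  exact lJ_eq_zero_iff.1 (by simpa using e)

theorem InJ_single {i : Ix D} {r : Rt D} : InJ {i} r ↔ r = sim i ∨ r = ng (sim i) :=
  ⟨fun h => eq_sim_of_co h, by rintro (rfl | rfl) <;> simp [InJ_ng, InJ_sim]⟩

theorem pos_not_InJ_single {i : Ix D} {r : Rt D} : Pos r ∧ ¬ InJ {i} r ↔ Pos r ∧ r ≠ sim i := by
  rw [InJ_single]
  refine and_congr_right fun h => ⟨fun h1 h2 => h1 (Or.inl h2), ?_⟩
  rintro h1 (h2 | rfl)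
  · exact h1 h2
  · exact (pos_ng _).1 h (pos_sim i)

theorem mem_WJ_of_pos {J : Set (Ix D)} {w : W D} (h : ∀ r, Pos r → ¬ InJ J r → Pos (w.1 r)) : w ∈ WJ J := by
  induction w using invGen_sw.induction_right with
  | one => exact one_mem _
  | step i w h1 ih =>
    have h2 : Pos (w.1 (sim i)) := lt_wl_mul_sw_iff.1 (by omega)
    have hi : i ∈ J := by
      by_contra hc
      have := h _ (pos_sim i) (mt InJ_sim.1 hc)
      rw [W_mul_apply, sw_coe, refl_sim, W_ng, pos_ng] at this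
      exact this h2
    refine mul_mem (ih fun r hr hJ => ?_) (sw_mem_WJ hi)
    have := h ((sw i).1 r) ((pos_WJ (sw_mem_WJ hi) hJ).2 hr) (mt (InJ_WJ (sw_mem_WJ hi) r).1 hJ)
    simpa [W_mul_apply] using this

theorem inv_subset_InJ {J : Set (Ix D)} {w : W D} (hw : w ∈ WJ J) : (inv w.1 : Set (Rt D)) ⊆ {r | InJ J r} := by
  intro r hr
  by_contra hc
  obtain ⟨h1, h2⟩ := mem_inv.1 hr
  exact h2 ((pos_WJ hw hc).2 h1)

theorem UW_le_UX (x : Rt D → F → Γ) (w : W D) : UW x w ≤ UX x := XS_mono (inv_subset _)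

theorem Lift.conj_UW {x : Rt D → F → Γ} {n : Γ} {w : W D} (h : Lift x n w) {u : Γ} (hu : u ∈ UW x w) :
    n * u * n⁻¹ ∈ VX x := h.conj_mem (fun _ hs => (mem_inv.1 hs).2) hu

theorem Cell.B_mul {x : Rt D → F → Γ} {w : W D} {g b : Γ} (hb : b ∈ BX x) (hg : g ∈ Cell x w) :
    b * g ∈ Cell x w := by
  obtain ⟨b1, h1, n, hn, b2, h2, rfl⟩ := hg
  exact ⟨_, mul_mem hb h1, n, hn, b2, h2, by group⟩

theorem Cell.mul_B {x : Rt D → F → Γ} {w : W D} {g b : Γ} (hg : g ∈ Cell x w) (hb : b ∈ BX x) :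
    g * b ∈ Cell x w := by
  obtain ⟨b1, h1, n, hn, b2, h2, rfl⟩ := hg
  exact ⟨b1, h1, n, hn, _, mul_mem h2 hb, by group⟩

theorem Lift.mem_Cell {x : Rt D → F → Γ} {w : W D} {n : Γ} (h : Lift x n w) : n ∈ Cell x w :=
  ⟨1, one_mem _, n, h, 1, one_mem _, by simp⟩

theorem Cell.inv {x : Rt D → F → Γ} {w : W D} {g : Γ} (hg : g ∈ Cell x w) : g⁻¹ ∈ Cell x w⁻¹ := by
  obtain ⟨b1, h1, n, hn, b2, h2, rfl⟩ := hg
  exact ⟨_, inv_mem h2, _, hn.inv, _, inv_mem h1, by group⟩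

namespace Sys

variable {x : Rt D → F → Γ} {θ : Γ →* GL D.Idx F} (hS : Sys x θ)
include hS

theorem θ_XS {l : Fn D} {k : ℕ} {S : Set (Rt D)} (h : ∀ s ∈ S, (k : ℤ) ≤ l (co s)) :
    XS x S ≤ (Tri l k).comap θ := fun _ hg => XS_le_Tri h (hS.map_mem (Set.subset_univ _) hg)

theorem θ_H (l : Fn D) : HX x ≤ (Tri l 0).comap θ := fun h hh => by
  obtain ⟨χ, hχ⟩ := hS.exists_dg hh
  rw [Subgroup.mem_comap, hχ]; exact dg_mem_Tri χ

theorem θ_U : UX x ≤ (Tri (fF D) 1).comap θ := hS.θ_XS fun _ h => h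
theorem θ_V : VX x ≤ (Tri (- fF D) 1).comap θ := hS.θ_XS fun s h => (not_pos_iff' s).1 h
theorem θ_B : BX x ≤ (Tri (fF D) 0).comap θ :=
  sup_le (hS.θ_U.trans (Subgroup.comap_mono (Tri_mono zero_le_one))) (hS.θ_H _)

theorem U_inj {g : Γ} (hg : g ∈ UX x) (h : θ g = 1) : g = 1 :=
  hS.inj (Set.subset_univ _) closed_pos posOn_pos hg h
theorem V_inj {g : Γ} (hg : g ∈ VX x) (h : θ g = 1) : g = 1 :=
  hS.inj (Set.subset_univ _) closed_neg posOn_neg hg h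

theorem eq_one_of_B_V {g : Γ} (hb : g ∈ BX x) (hv : g ∈ VX x) : g = 1 :=
  hS.V_inj hv (eq_one_of_Tri (hS.θ_V hv) (by rw [neg_neg]; exact hS.θ_B hb))

theorem eq_one_of_U_VH {g : Γ} (hu : g ∈ UX x) (hv : g ∈ VX x ⊔ HX x) : g = 1 :=
  hS.U_inj hu (eq_one_of_Tri (hS.θ_U hu)
    ((sup_le (hS.θ_V.trans (Subgroup.comap_mono (Tri_mono zero_le_one))) (hS.θ_H _) :
      VX x ⊔ HX x ≤ (Tri (- fF D) 0).comap θ) hv))

theorem eq_one_of_U_H {g : Γ} (hu : g ∈ UX x) (hh : g ∈ HX x) : g = 1 :=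
  hS.eq_one_of_U_VH hu (Subgroup.mem_sup_right hh)

theorem pos_of_x_mem_B {r : Rt D} {t : F} (ht : t ≠ 0) (h : x r t ∈ BX x) : Pos r := by
  by_contra hc
  exact ht (hS.x_eq_one (hS.eq_one_of_B_V h (mem_VX hc t)))

theorem not_pos_of_x_mem_V {r : Rt D} {t : F} (ht : t ≠ 0) (h : x r t ∈ VX x) : ¬ Pos r := fun hc =>
  ht (hS.x_eq_one (hS.eq_one_of_B_V (UX_le_BX (mem_UX hc t)) h))

theorem H_conj_XS {h g : Γ} (hh : h ∈ HX x) {S : Set (Rt D)} (hg : g ∈ XS x S) : h * g * h⁻¹ ∈ XS x S :=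
  (hS.lift_of_mem_H hh).conj_mem (fun _ hs => hs) hg

theorem H_conj_XS' {h g : Γ} (hh : h ∈ HX x) {S : Set (Rt D)} (hg : g ∈ XS x S) : h⁻¹ * g * h ∈ XS x S := by
  simpa using hS.H_conj_XS (inv_mem hh) hg

theorem H_le_normalizer (S : Set (Rt D)) : HX x ≤ Subgroup.normalizer (XS x S : Set Γ) := by
  intro h hh
  rw [Subgroup.mem_normalizer_iff]
  refine fun g => ⟨hS.H_conj_XS hh, fun hg => ?_⟩
  simpa [mul_assoc] using hS.H_conj_XS' hh hg

theorem mem_XS_sup_H {S : Set (Rt D)} {g : Γ} : g ∈ XS x S ⊔ HX x ↔ ∃ u ∈ XS x S, ∃ h ∈ HX x, g = u * h := by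
  rw [← SetLike.mem_coe, Subgroup.coe_mul_of_right_le_normalizer_left _ _ (hS.H_le_normalizer S)]
  exact ⟨fun ⟨u, hu, h, hh, e⟩ => ⟨u, hu, h, hh, e.symm⟩, fun ⟨u, hu, h, hh, e⟩ => ⟨u, hu, h, hh, e.symm⟩⟩

theorem mem_B {g : Γ} : g ∈ BX x ↔ ∃ u ∈ UX x, ∃ h ∈ HX x, g = u * h := hS.mem_XS_sup_H

theorem B_conj_U {b u : Γ} (hb : b ∈ BX x) (hu : u ∈ UX x) : b * u * b⁻¹ ∈ UX x := by
  obtain ⟨u', hu', h, hh, rfl⟩ := hS.mem_B.1 hb
  have := mul_mem (mul_mem hu' (hS.H_conj_XS hh hu)) (inv_mem hu')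
  convert this using 1; group

theorem B_conj_U' {b u : Γ} (hb : b ∈ BX x) (hu : u ∈ UX x) : b⁻¹ * u * b ∈ UX x := by
  simpa using hS.B_conj_U (inv_mem hb) hu

theorem mem_H_of_B_VH {g : Γ} (hb : g ∈ BX x) (hv : g ∈ VX x ⊔ HX x) : g ∈ HX x := by
  obtain ⟨u, hu, h, hh, rfl⟩ := hS.mem_B.1 hb
  rw [Subgroup.mul_mem_cancel_right _ (Subgroup.mem_sup_right hh)] at hv
  rw [hS.eq_one_of_U_VH hu hv, one_mul]; exact hh

theorem eq_one_of_BV {n b v : Γ} {w : W D} (h : Lift x n w) (hb : b ∈ BX x) (hv : v ∈ VX x)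
    (e : n = b * v) : w = 1 := by
  apply eq_one_of_pos
  intro i
  by_contra hc
  obtain ⟨c, hc'⟩ := h.2 (ng (sim i))
  have h1 : n * x (ng (sim i)) 1 * n⁻¹ ∈ UX x := by
    rw [hc', W_ng]; exact mem_UX ((pos_ng _).2 hc) _
  have h2 : x (ng (sim i)) 1 ∈ VX x := mem_VX (by rw [pos_ng, not_not]; exact pos_sim i) _
  have h3 := hS.eq_one_of_B_V (UX_le_BX (hS.B_conj_U' hb h1)) (by
    have := mul_mem (mul_mem hv h2) (inv_mem hv)
    rw [e]; convert this using 1; group)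
  have : x (ng (sim i)) 1 = 1 := by
    calc _ = n⁻¹ * b * (b⁻¹ * (n * x (ng (sim i)) 1 * n⁻¹) * b) * b⁻¹ * n := by group
      _ = 1 := by rw [h3]; group
  exact one_ne_zero (hS.x_eq_one this)

theorem mem_H_of_B_N {g : Γ} (hb : g ∈ BX x) (hn : g ∈ NX x) : g ∈ HX x := by
  obtain ⟨w, hw⟩ := hS.exists_lift_of_mem hn
  exact hS.mem_H_of_lift (hS.eq_one_of_BV hw hb (one_mem _) (mul_one g).symm ▸ hw)

theorem B_inf_N : BX x ⊓ NX x = HX x :=
  le_antisymm (fun _ h => hS.mem_H_of_B_N h.1 h.2) (le_inf HX_le_BX HX_le_NX)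

theorem U_split (w : W D) {u : Γ} (hu : u ∈ UX x) :
    ∃ a ∈ XS x {r | Pos r ∧ Pos (w.1 r)}, ∃ b ∈ UW x w, u = a * b :=
  hS.exists_mul (Set.subset_univ _) closed_pos posOn_pos (inv_subset _)
    (fun s hs => by by_cases h : Pos (w.1 s) <;> simp_all [mem_inv]) hu

theorem sharp {w : W D} {g n : Γ} (hg : g ∈ Cell x w) (hn : Lift x n w) :
    ∃ b ∈ BX x, ∃ u ∈ UW x w, g = b * n * u := by
  obtain ⟨b1, h1, n', hn', b2, h2, rfl⟩ := hg
  obtain ⟨u, hu, h, hh, rfl⟩ := hS.mem_B.1 h2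
  obtain ⟨a, ha, c, hc, e⟩ := hS.U_split w (hS.H_conj_XS' hh hu)
  have h3 : n * a * n⁻¹ ∈ UX x := hn.conj_mem (fun _ hs => hs.2) ha
  have h4 : n' * h * n⁻¹ ∈ HX x := by
    have := mul_mem (hS.conj_mem_H hn'.1 hh) (hS.lift_mul_inv hn' hn)
    convert this using 1; group
  refine ⟨_, mul_mem (mul_mem h1 (HX_le_BX h4)) (UX_le_BX h3), c, hc, ?_⟩
  calc b1 * n' * (u * h) = b1 * n' * h * (h⁻¹ * u * h) := by group
    _ = _ := by rw [e]; group

theorem sharp' {w : W D} {g : Γ} (hg : g ∈ Cell x w) :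
    ∃ u' ∈ UX x, ∃ n, Lift x n w ∧ ∃ u ∈ UW x w, g = u' * n * u := by
  obtain ⟨n, hn⟩ := hS.exists_lift w
  obtain ⟨b, hb, u, hu, rfl⟩ := hS.sharp hg hn
  obtain ⟨u', hu', h, hh, rfl⟩ := hS.mem_B.1 hb
  exact ⟨u', hu', h * n, by simpa using (hS.lift_of_mem_H hh).mul hn, u, hu, by group⟩

theorem cell_unique {w w' : W D} {g : Γ} (hg : g ∈ Cell x w) (hg' : g ∈ Cell x w') : w = w' := by
  obtain ⟨b1, h1, n', hn', b2, h2, rfl⟩ := hg'
  obtain ⟨n, hn⟩ := hS.exists_lift w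
  have := Cell.mul_B (Cell.B_mul (inv_mem h1) hg) (inv_mem h2)
  obtain ⟨b, hb, u, hu, e⟩ := hS.sharp this hn
  have h3 := hS.eq_one_of_BV (hn'.mul hn.inv) hb (hn.conj_UW hu) (by
    calc n' * n⁻¹ = (b1⁻¹ * (b1 * n' * b2) * b2⁻¹) * n⁻¹ := by group
      _ = _ := by rw [e]; group)
  exact (mul_inv_eq_one.1 h3).symm

theorem sharp_unique {w : W D} {n b b' u u' : Γ} (hn : Lift x n w) (hb : b ∈ BX x) (hb' : b' ∈ BX x)
    (hu : u ∈ UW x w) (hu' : u' ∈ UW x w) (e : b * n * u = b' * n * u') : b = b' ∧ u = u' := by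
  have h1 : b'⁻¹ * b = n * (u' * u⁻¹) * n⁻¹ := by
    calc b'⁻¹ * b = b'⁻¹ * (b * n * u) * u⁻¹ * n⁻¹ := by group
      _ = _ := by rw [e]; group
  have h2 := hS.eq_one_of_B_V (mul_mem (inv_mem hb') hb) (h1 ▸ hn.conj_UW (mul_mem hu' (inv_mem hu)))
  obtain rfl : b' = b := inv_mul_eq_one.1 h2
  exact ⟨rfl, by simpa using e⟩

theorem sharp_unique' {w w' : W D} {n n' a a' u u' : Γ} (hn : Lift x n w) (hn' : Lift x n' w')
    (ha : a ∈ UX x) (ha' : a' ∈ UX x) (hu : u ∈ UW x w) (hu' : u' ∈ UW x w')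
    (e : a * n * u = a' * n' * u') : a = a' ∧ n = n' ∧ u = u' := by
  obtain rfl : w = w' := hS.cell_unique (g := a * n * u)
    ⟨a, UX_le_BX ha, n, hn, u, UX_le_BX (UW_le_UX x w hu), rfl⟩
    ⟨a', UX_le_BX ha', n', hn', u', UX_le_BX (UW_le_UX x w' hu'), e⟩
  have hh := hS.lift_mul_inv hn' hn
  obtain ⟨h1, h2⟩ := hS.sharp_unique hn (UX_le_BX ha) (mul_mem (UX_le_BX ha') (HX_le_BX hh)) hu hu'
    (by rw [e]; group)
  have h3 : n' * n⁻¹ = 1 := hS.eq_one_of_U_H (by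
    have := mul_mem (inv_mem ha') ha
    rw [h1] at this; simpa using this) hh
  rw [h3, mul_one] at h1
  exact ⟨h1, (mul_inv_eq_one.1 h3).symm, h2⟩

theorem mem_Cell_one {g : Γ} : g ∈ Cell x 1 ↔ g ∈ BX x := by
  refine ⟨?_, fun h => ⟨g, h, 1, Lift.one, 1, one_mem _, by simp⟩⟩
  rintro ⟨b, hb, n, hn, b', hb', rfl⟩
  exact mul_mem (mul_mem hb (HX_le_BX (hS.mem_H_of_lift hn))) hb'

theorem x_ng_eq (r : Rt D) (t : Fˣ) : x (ng r) (-(t⁻¹ : Fˣ)) = x r (-t) * nX x r t * x r (-t) := by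
  rw [hS.x_neg r, nX]; group

theorem U_split_sim (i : Ix D) {u : Γ} (hu : u ∈ UX x) :
    ∃ a ∈ XS x {r | Pos r ∧ r ≠ sim i}, ∃ t, u = a * x (sim i) t := by
  obtain ⟨a, ha, c, hc, e⟩ := hS.exists_mul (Set.subset_univ _) closed_pos posOn_pos
    (S₁ := {r | Pos r ∧ r ≠ sim i}) (S₂ := {sim i}) (Set.singleton_subset_iff.2 (pos_sim i))
    (fun s hs => (em (s = sim i)).symm.imp (fun h => ⟨hs, h⟩) id) hu
  obtain ⟨t, rfl⟩ := (hS.mem_single (Set.mem_univ (sim i))).1 hc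
  exact ⟨a, ha, t, e⟩

theorem step_aux (i : Ix D) {w : W D} {n : Γ} (hn : Lift x n w) (hp : ¬ Pos (w⁻¹.1 (sim i))) {t : F}
    (ht : t ≠ 0) : nS x i * x (sim i) t * n ∈ Cell x w := by
  have hs := hS.lift_nS i
  obtain ⟨d, e2⟩ : ∃ d : Fˣ, nS x i * x (sim i) t * (nS x i)⁻¹ =
      x (sim i) (-d) * nX x (sim i) d * x (sim i) (-d) := by
    obtain ⟨c, hc⟩ := hs.2 (sim i)
    refine ⟨-(c * Units.mk0 t ht)⁻¹, ?_⟩
    rw [hc, sw_coe, refl_sim, ← hS.x_ng_eq]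
    congr 1
    simp [mul_comm]
  have h6 : Pos ((sw i * w)⁻¹.1 (sim i)) := by
    rw [mul_inv_rev, W_mul_apply, invGen_sw.inv_s, sw_coe, refl_sim, W_ng, pos_ng]; exact hp
  have h4 : (nS x i * n)⁻¹ * x (sim i) (-d) * (nS x i * n) ∈ UX x :=
    (hs.mul hn).conj_mem' (S := {sim i}) (T := {r | Pos r}) (fun s hs => hs ▸ h6) (mem_XS (S := {sim i}) rfl _)
  have h5 : nX x (sim i) d * nS x i ∈ HX x := by rw [nS, hS.n_mul_n]; exact hX_mem _ _
  refine ⟨_, mul_mem (UX_le_BX (mem_UX (pos_sim i) (-(d : F)))) (HX_le_BX h5), n, hn, _, UX_le_BX h4, ?_⟩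
  calc nS x i * x (sim i) t * n = (nS x i * x (sim i) t * (nS x i)⁻¹) * nS x i * n := by group
    _ = _ := by rw [e2]; group

theorem step (i : Ix D) {w : W D} {g : Γ} (hg : g ∈ Cell x w) :
    nS x i * g ∈ Cell x (sw i * w) ∨ (¬ Pos (w⁻¹.1 (sim i)) ∧ nS x i * g ∈ Cell x w) := by
  obtain ⟨b1, h1, n', hn', b2, h2, rfl⟩ := hg
  obtain ⟨u, hu, h, hh, rfl⟩ := hS.mem_B.1 h1
  have hn : Lift x (h * n') w := by simpa using (hS.lift_of_mem_H hh).mul hn'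
  rw [mul_assoc u h]
  generalize h * n' = n at hn
  obtain ⟨a, ha, t, rfl⟩ := hS.U_split_sim i hu
  have hs := hS.lift_nS i
  have h3 : nS x i * a * (nS x i)⁻¹ ∈ BX x :=
    UX_le_BX (hs.conj_mem (T := {r | Pos r}) (fun _ hs => pos_refl hs.1 hs.2) ha)
  have e : nS x i * (a * x (sim i) t * n * b2) = nS x i * a * (nS x i)⁻¹ * (nS x i * x (sim i) t * n) * b2 := by
    group
  rw [e]
  by_cases hp : Pos (w⁻¹.1 (sim i))
  · left
    refine Cell.mul_B (Cell.B_mul h3 ?_) h2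
    have : n⁻¹ * x (sim i) t * n ∈ UX x :=
      hn.conj_mem' (S := {sim i}) (T := {r | Pos r}) (by rintro _ rfl; exact hp) (mem_XS (S := {sim i}) rfl t)
    exact ⟨1, one_mem _, _, hs.mul hn, _, UX_le_BX this, by group⟩
  by_cases ht : t = 0
  · left
    refine Cell.mul_B (Cell.B_mul h3 ?_) h2
    rw [ht, hS.x_zero, mul_one]
    exact (hs.mul hn).mem_Cell
  · exact Or.inr ⟨hp, Cell.mul_B (Cell.B_mul h3 (hS.step_aux i hn hp ht)) h2⟩

theorem mul_cell {J : Set (Ix D)} {y : Γ} (hy : y ∈ PX x J) {w : W D} {g : Γ} (hg : g ∈ Cell x w) :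
    ∃ v ∈ WJ J, y * g ∈ Cell x (v * w) := by
  have hy' : y ∈ Subgroup.closure ((BX x : Set Γ) ∪ nS x '' J) := by
    rwa [Subgroup.closure_union, Subgroup.closure_eq]
  clear hy
  have key : ∀ i ∈ J, ∀ {w : W D} {g : Γ}, g ∈ Cell x w → ∃ v ∈ WJ J, nS x i * g ∈ Cell x (v * w) := by
    intro i hi w g hg
    rcases hS.step i hg with h | h
    · exact ⟨_, sw_mem_WJ hi, h⟩
    · exact ⟨1, one_mem _, by simpa using h.2⟩
  induction hy' using Subgroup.closure_induction_left with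
  | one => exact ⟨1, one_mem _, by simpa using hg⟩
  | mul_left a ha y _ ih =>
    obtain ⟨v, hv, ih⟩ := ih
    rw [mul_assoc]
    rcases ha with ha | ⟨i, hi, rfl⟩
    · exact ⟨v, hv, Cell.B_mul ha ih⟩
    · obtain ⟨v', hv', h⟩ := key i hi ih
      exact ⟨_, mul_mem hv' hv, by rwa [mul_assoc v']⟩
  | inv_mul_cancel a ha y _ ih =>
    obtain ⟨v, hv, ih⟩ := ih
    rw [mul_assoc]
    rcases ha with ha | ⟨i, hi, rfl⟩
    · exact ⟨v, hv, Cell.B_mul (inv_mem ha) ih⟩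
    · obtain ⟨v', hv', h⟩ := key i hi ih
      refine ⟨_, mul_mem hv' hv, ?_⟩
      have := Cell.B_mul (inv_mem (HX_le_BX (hS.nS_sq i))) h
      rw [mul_assoc v']
      convert this using 1; group

theorem mem_P_of_lift {J : Set (Ix D)} {n : Γ} {w : W D} (hn : Lift x n w) (hw : w ∈ WJ J) : n ∈ PX x J := by
  obtain ⟨L, hL, rfl⟩ := exists_wp_of_mem_closure sw_sq J hw
  have := mul_mem (Subgroup.mem_sup_left (HX_le_BX (hS.lift_mul_inv hn (hS.lift_wp L))))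
    (Subgroup.mem_sup_right (wp_mem_closure (nS x) J L hL))
  simpa [PX] using this

theorem mem_P {J : Set (Ix D)} {y : Γ} : y ∈ PX x J ↔ ∃ v ∈ WJ J, y ∈ Cell x v := by
  constructor
  · intro hy
    simpa using hS.mul_cell hy (Lift.one.mem_Cell)
  · rintro ⟨v, hv, b, hb, n, hn, b', hb', rfl⟩
    exact mul_mem (mul_mem (Subgroup.mem_sup_left hb) (hS.mem_P_of_lift hn hv)) (Subgroup.mem_sup_left hb')

theorem x_mem_P {J : Set (Ix D)} {r : Rt D} (hr : InJ J r) (t : F) : x r t ∈ PX x J := by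
  obtain ⟨w, hw, i, -, rfl⟩ := exists_conj_sim_J r hr
  obtain ⟨n, hn⟩ := hS.exists_lift w
  obtain ⟨c, hc⟩ := hn.2 (sim i)
  have h1 := hS.mem_P_of_lift hn hw
  rw [← Units.mul_inv_cancel_left c t, ← hc]
  exact mul_mem (mul_mem h1 (Subgroup.mem_sup_left (UX_le_BX (mem_UX (pos_sim i) _)))) (inv_mem h1)

theorem P_eq (J : Set (Ix D)) : PX x J = HX x ⊔ XS x {r | Pos r ∨ InJ J r} := by
  refine le_antisymm (sup_le (sup_le (le_sup_of_le_right (XS_mono fun _ h => Or.inl h)) le_sup_left) ?_)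
    (sup_le (le_sup_of_le_left HX_le_BX) (XS_le.2 ?_))
  · rw [Subgroup.closure_le]
    rintro _ ⟨i, hi, rfl⟩
    exact Subgroup.mem_sup_right (nX_mem (fun _ => mem_XS (Or.inr (InJ_sim.2 hi)) _)
      (fun _ => mem_XS (Or.inr (InJ_ng.2 (InJ_sim.2 hi))) _) _)
  · rintro r (h | h) t
    · exact Subgroup.mem_sup_left (UX_le_BX (mem_UX h t))
    · exact hS.x_mem_P h t

theorem P_univ : PX x Set.univ = XS x Set.univ := by
  rw [hS.P_eq]
  refine le_antisymm (sup_le (HX_le_NX.trans NX_le_XS) (XS_mono (Set.subset_univ _)))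
    (le_sup_of_le_right (XS_mono fun r _ => Or.inr fun i hi => absurd trivial hi))

theorem exists_cell {g : Γ} (hg : g ∈ XS x Set.univ) : ∃ w, g ∈ Cell x w := by
  rw [← hS.P_univ, hS.mem_P] at hg
  obtain ⟨w, -, h⟩ := hg
  exact ⟨w, h⟩

theorem B_sup_N : BX x ⊔ NX x = XS x Set.univ := by
  refine le_antisymm (sup_le BX_le_XS NX_le_XS) fun g hg => ?_
  obtain ⟨w, b, hb, n, hn, b', hb', rfl⟩ := hS.exists_cell hg
  exact mul_mem (mul_mem (Subgroup.mem_sup_left hb) (Subgroup.mem_sup_right hn.1)) (Subgroup.mem_sup_left hb')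

/-! ### Levi decomposition -/

theorem XS_le_normalizer_UJ (J : Set (Ix D)) :
    XS x {r | Pos r ∨ InJ J r} ≤ Subgroup.normalizer (UJ x J : Set Γ) := by
  refine hS.le_normalizer (Set.subset_univ _) (Set.subset_univ _) fun r hr s hs => ?_
  have h1 := lJ_nonneg_iff.2 hr
  have h2 := lJ_pos_iff.2 hs
  refine ⟨?_, fun u hu => lJ_pos_iff.1 ?_⟩
  · rintro rfl
    rw [co_ng, map_neg] at h2; omega
  · have := hu.le h1 h2.le
    omega

theorem P_le_normalizer (J : Set (Ix D)) : PX x J ≤ Subgroup.normalizer (UJ x J : Set Γ) := by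
  rw [hS.P_eq]; exact sup_le (hS.H_le_normalizer _) (hS.XS_le_normalizer_UJ J)

theorem UJ_sup_L (J : Set (Ix D)) : UJ x J ⊔ LX x J = PX x J := by
  rw [hS.P_eq, UJ, LX, sup_left_comm, ← XS_union]
  congr 2
  ext r; simp only [Set.mem_union, Set.mem_ofPred_eq]; tauto

theorem eq_one_of_UJ_L {J : Set (Ix D)} {g : Γ} (h : g ∈ UJ x J) (h' : g ∈ LX x J) : g = 1 := by
  refine hS.U_inj (XS_mono (fun _ h => h.1) h) (eq_one_of_Tri (l := lJ J) (hS.θ_XS (k := 1) ?_ h) ?_)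
  · exact fun s hs => lJ_pos_iff.2 hs
  · refine (sup_le (hS.θ_H _) (hS.θ_XS ?_) : LX x J ≤ (Tri (- lJ J) 0).comap θ) h'
    intro s hs
    simp [lJ_of_InJ hs]

theorem mem_of_U_L {J : Set (Ix D)} {g : Γ} (h : g ∈ UX x) (h' : g ∈ LX x J) :
    g ∈ XS x {r | Pos r ∧ InJ J r} := by
  obtain ⟨a, ha, b, hb, rfl⟩ := hS.exists_mul (Set.subset_univ _) closed_pos posOn_pos
    (S₁ := {r | Pos r ∧ InJ J r}) (S₂ := {r | Pos r ∧ ¬ InJ J r}) (fun _ h => h.1)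
    (fun s hs => by by_cases h : InJ J s <;> simp_all) h
  have ha' : a ∈ LX x J := Subgroup.mem_sup_right (XS_mono (T := {r | InJ J r}) (fun _ h => h.2) ha)
  rw [Subgroup.mul_mem_cancel_left _ ha'] at h'
  rw [hS.eq_one_of_UJ_L hb h', mul_one]; exact ha

theorem mem_P_of_normalizer {J : Set (Ix D)} {g : Γ} (hg : g ∈ XS x Set.univ)
    (h : g ∈ Subgroup.normalizer (UJ x J : Set Γ)) : g ∈ PX x J := by
  obtain ⟨w, hw⟩ := hS.exists_cell hg
  refine hS.mem_P.2 ⟨w, mem_WJ_of_pos fun r h1 h2 => ?_, hw⟩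
  obtain ⟨b, hb, n, hn, b', hb', rfl⟩ := hw
  have hB : BX x ≤ Subgroup.normalizer (UJ x J : Set Γ) := le_sup_left.trans (hS.P_le_normalizer J)
  rw [Subgroup.mul_mem_cancel_right _ (hB hb'), Subgroup.mul_mem_cancel_left _ (hB hb),
    Subgroup.mem_normalizer_iff] at h
  have := (h _).1 (mem_XS (S := {r | Pos r ∧ ¬ InJ J r}) ⟨h1, h2⟩ 1)
  obtain ⟨c, hc⟩ := hn.2 r
  rw [hc] at this
  exact hS.pos_of_x_mem_B (by simp) (UX_le_BX (XS_mono (fun _ h => h.1) this))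

theorem exists_w0 : ∃ (n : Γ) (w : W D), Lift x n w ∧ (∀ r, Pos (w.1 r) ↔ ¬ Pos r) ∧
    ∀ r, Pos (w⁻¹.1 r) ↔ ¬ Pos r := by
  obtain ⟨w, hw⟩ := exists_longest (D := D)
  obtain ⟨n, hn⟩ := hS.exists_lift w
  have h1 : ∀ r, Pos (w.1 r) ↔ ¬ Pos r := fun r => ⟨fun h h' => hw r h' h, fun h => by
    have := hw _ ((pos_ng r).2 h)
    rwa [W_ng, pos_ng, not_not] at this⟩
  refine ⟨n, w, hn, h1, fun r => ?_⟩
  have := h1 (w⁻¹.1 r)
  rw [W_apply_inv] at this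
  tauto

theorem isSolvable_B : Group.IsSolvable (BX x) := by
  have hU : Group.IsSolvable (UX x) := by
    have : Group.IsNilpotent (UX x) := hS.isNilpotent (Set.subset_univ _) closed_pos posOn_pos
    infer_instance
  have hn : ((UX x).subgroupOf (BX x)).Normal := ⟨fun u hu b => hS.B_conj_U b.2 hu⟩
  have h1 : Group.IsSolvable ((UX x).subgroupOf (BX x)) :=
    Group.isSolvable_of_surjective (f := (Subgroup.subgroupOfEquivOfLe UX_le_BX).symm.toMonoidHom)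
      (MulEquiv.surjective _)
  have h2 : Group.IsSolvable (BX x ⧸ (UX x).subgroupOf (BX x)) := by
    apply Group.isSolvable_of_comm
    intro a b
    obtain ⟨⟨a, ha⟩, rfl⟩ := QuotientGroup.mk_surjective a
    obtain ⟨⟨b, hb⟩, rfl⟩ := QuotientGroup.mk_surjective b
    rw [← QuotientGroup.mk_mul, ← QuotientGroup.mk_mul, QuotientGroup.eq, Subgroup.mem_subgroupOf]
    obtain ⟨u, hu, h, hh, rfl⟩ := hS.mem_B.1 ha
    obtain ⟨u', hu', h', hh', rfl⟩ := hS.mem_B.1 hb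
    have := hS.H_conj_XS' (mul_mem hh hh') (mul_mem (mul_mem (mul_mem (inv_mem (hS.H_conj_XS hh hu'))
      (inv_mem hu)) hu') (hS.H_conj_XS hh' hu))
    change (u * h * (u' * h'))⁻¹ * (u' * h' * (u * h)) ∈ XS x _
    convert this using 1
    calc _ = (u * h * (u' * h'))⁻¹ * (u' * h' * u * h'⁻¹) * (h' * h) := by group
      _ = _ := by rw [hS.H_comm hh' hh]; group
  exact Group.isSolvable_of_ker_le_range ((UX x).subgroupOf (BX x)).subtype (QuotientGroup.mk' ((UX x).subgroupOf (BX x)))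
    (by simp)

end Sys

end Cfsg.Agent.Lie
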