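import Cfsg.Agent.Lie.CT0
import Cfsg.Prelude.Def_CurtisTits

set_option autoImplicit false
set_option linter.unusedSectionVars false

/-! The Curtis–Tits theorem. -/

namespace Cfsg.Agent.Lie

open Cfsg.Lie
open scoped Matrix MatrixGroups

variable {D : ChevalleyDatum} [G : Good D] {F : Type*} [Field F] {Γ : Type*} [Group Γ]

/-- conjugation by `n` carries the rank one data of `r` to that of `r'` -/
def Cj (x : Rt D → F → Γ) (n : Γ) (r r' : Rt D) : Prop :=
  ∃ c : Fˣ, (∀ u, n * x r u * n⁻¹ = x r' (c * u)) ∧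
    ∀ u, n * x (ng r) u * n⁻¹ = x (ng r') ((c⁻¹ : Fˣ) * u)

section Cj
variable {x : Rt D → F → Γ}

omit G in
theorem Cj.one (r : Rt D) : Cj x 1 r r := ⟨1, by simp, by simp⟩

omit G in
theorem Cj.mul {n n' : Γ} {r r' r'' : Rt D} (h : Cj x n r' r'') (h' : Cj x n' r r') :
    Cj x (n * n') r r'' := by
  obtain ⟨c, h1, h2⟩ := h
  obtain ⟨c', h3, h4⟩ := h'
  refine ⟨c * c', fun u => ?_, fun u => ?_⟩
  · rw [Units.val_mul, mul_assoc (c : F), ← h1, ← h3]; group
  · rw [mul_inv c, Units.val_mul, mul_assoc ((c⁻¹ : Fˣ) : F), ← h2, ← h4]; group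

omit G in
theorem Cj.inv {n : Γ} {r r' : Rt D} (h : Cj x n r r') : Cj x n⁻¹ r' r := by
  obtain ⟨c, h1, h2⟩ := h
  refine ⟨c⁻¹, fun u => ?_, fun u => ?_⟩
  · have := h1 ((c⁻¹ : Fˣ) * u)
    rw [Units.mul_inv_cancel_left] at this
    rw [← this]; group
  · have := h2 (c * u)
    rw [Units.inv_mul_cancel_left] at this
    rw [← this, inv_inv c]; group

omit G in
theorem Cj.nX {n : Γ} {r r' : Rt D} (h : Cj x n r r') :
    ∃ c : Fˣ, ∀ t, n * nX x r t * n⁻¹ = nX x r' (c * t) := by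
  obtain ⟨c, h1, h2⟩ := h
  exact ⟨c, conj_nX h1 h2⟩

theorem Cj.of_formula {r s : Rt D} {t : Fˣ}
    (h1 : ∀ u, Lie.nX x r t * x s u * (Lie.nX x r t)⁻¹ =
      x ((rf r).1 s) ((eta r s : F) * (t ^ (- A r s) : Fˣ) * u))
    (h2 : ∀ u, Lie.nX x r t * x (ng s) u * (Lie.nX x r t)⁻¹ =
      x ((rf r).1 (ng s)) ((eta r (ng s) : F) * (t ^ (- A r (ng s)) : Fˣ) * u)) :
    Cj x (Lie.nX x r t) s ((rf r).1 s) := by
  refine ⟨etaU F r s * t ^ (- A r s), h1, fun u => ?_⟩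
  rw [h2, W_ng, mul_inv, etaU_inv, A_ng_right, zpow_neg t (- A r s)]
  simp only [etaU, eta_ng, zpow_neg, Units.val_mul]

theorem Sys.cj_of_lift {θ : Γ →* GL D.Idx F} (hS : Sys x θ) {n : Γ} {w : W D} (h : Lift x n w)
    (s : Rt D) : Cj x n s (w.1 s) := by
  have key : ∀ n ∈ NX x, ∃ w, Lift x n w ∧ ∀ s, Cj x n s (w.1 s) := by
    intro n hn
    induction hn using Subgroup.closure_induction with
    | mem g hg =>
      obtain ⟨r, t, rfl⟩ := hg
      exact ⟨_, hS.lift_n r t, fun s => Cj.of_formula (hS.nconj r t s) (hS.nconj r t (ng s))⟩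
    | one => exact ⟨_, Lift.one, fun s => Cj.one s⟩
    | mul a b _ _ ha hb =>
      obtain ⟨w, hw, ha⟩ := ha
      obtain ⟨w', hw', hb⟩ := hb
      exact ⟨_, hw.mul hw', fun s => (ha _).mul (hb s)⟩
    | inv a _ ha =>
      obtain ⟨w, hw, ha⟩ := ha
      refine ⟨_, hw.inv, fun s => ?_⟩
      have := (ha (w⁻¹.1 s)).inv
      rwa [W_apply_inv] at this
  obtain ⟨w', hw', h'⟩ := key n h.1
  rw [hS.lift_unique h hw']
  exact h' s

end Cj

/-- every fundamental root has a neighbour spanning a subsystem of type `A₂` with it -/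
def HasA2 (D : ChevalleyDatum) [Good D] : Prop :=
  ∀ i : Ix D, ∃ j : Ix D, N (sim i) (sim j) ≠ 0 ∧
    (N (add (sim i) (sim j)) (ng (sim j)) = 1 ∨ N (add (sim i) (sim j)) (ng (sim j)) = -1)

/-- the Curtis–Tits relations -/
structure CT (x : Rt D → F → Γ) (θ : Γ →* GL D.Idx F) : Prop where
  loc : ∀ i j : Ix D, Loc {r | InJ {i, j} r} x θ
  hmul : ∀ i t u, hX x (sim i) t * hX x (sim i) u = hX x (sim i) (t * u)
  a2 : HasA2 D

/-- the torus -/
def H0 (x : Rt D → F → Γ) : Subgroup Γ := Subgroup.closure {g | ∃ i t, g = hX x (sim i) t}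
/-- the monomial subgroup -/
def N0 (x : Rt D → F → Γ) : Subgroup Γ := Subgroup.closure {g | ∃ i t, g = nX x (sim i) t}
/-- lifts of elements of the Weyl group -/
def LN (x : Rt D → F → Γ) (n : Γ) (w : W D) : Prop := ∃ h ∈ H0 x, ∃ L, n = h * wp (nS x) L ∧ wp sw L = w

theorem mem_cT_one {a b : Rt D} (h : N a b ≠ 0) : (add a b, N a b, 1, 1) ∈ cT a b := by
  unfold cT; split_ifs <;> simp_all

theorem inJ_l (i j : Ix D) : InJ {i, j} (sim i) := InJ_sim.2 (by simp)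
theorem inJ_r (i j : Ix D) : InJ {i, j} (sim j) := InJ_sim.2 (by simp)

namespace CT

variable {x : Rt D → F → Γ} {θ : Γ →* GL D.Idx F} (hC : CT x θ)
include hC

theorem n_neg (i : Ix D) (t : Fˣ) : nX x (sim i) (-t) = (nX x (sim i) t)⁻¹ :=
  (hC.loc i i).nX_neg (inJ_l i i) (InJ_ng.2 (inJ_l i i)) t
theorem n_eq (i : Ix D) (t : Fˣ) : nX x (sim i) t = hX x (sim i) t * nS x i := by
  rw [hX, hC.n_neg, nS]; simp
theorem h_one (i : Ix D) : hX x (sim i) 1 = 1 := by rw [hX, hC.n_neg]; simp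
theorem h_inv (i : Ix D) (t : Fˣ) : hX x (sim i) t⁻¹ = (hX x (sim i) t)⁻¹ :=
  eq_inv_of_mul_eq_one_left (by rw [hC.hmul, inv_mul_cancel, hC.h_one])
theorem n_mul_n (i : Ix D) (t u : Fˣ) :
    nX x (sim i) t * nX x (sim i) u = hX x (sim i) (- t * u⁻¹) := by
  rw [← neg_neg u, hC.n_neg, hC.n_eq i t, hC.n_eq i (-u), mul_inv_rev, mul_assoc, mul_inv_cancel_left,
    ← hC.h_inv, hC.hmul]
  simp

omit hC in
theorem h_mem (i : Ix D) (t : Fˣ) : hX x (sim i) t ∈ H0 x := Subgroup.subset_closure ⟨i, t, rfl⟩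
omit hC in
theorem n_mem (i : Ix D) (t : Fˣ) : nX x (sim i) t ∈ N0 x := Subgroup.subset_closure ⟨i, t, rfl⟩
omit hC in
theorem wp_mem (L : List (Ix D)) : wp (nS x) L ∈ N0 x := by
  induction L with
  | nil => exact one_mem _
  | cons i L ih => rw [wp_cons]; exact mul_mem (n_mem i 1) ih

theorem nconj {i j : Ix D} {s : Rt D} (hs : InJ {i, j} s) (t : Fˣ) (u : F) :
    nX x (sim i) t * x s u * (nX x (sim i) t)⁻¹ =
      x ((rf (sim i)).1 s) ((eta (sim i) s : F) * (t ^ (- A (sim i) s) : Fˣ) * u) := by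
  obtain ⟨k, h1, h2⟩ := hC.a2 i
  have ha : InJ {i, k} (add (sim i) (sim k)) :=
    Span2_InJ (inJ_l i k) (inJ_r i k) ⟨1, 1, by rw [add_co h1]; simp⟩
  have hb : InJ {i, k} (ng (sim k)) := InJ_ng.2 (inJ_r i k)
  have h0 : N (add (sim i) (sim k)) (ng (sim k)) ≠ 0 := by omega
  have h3 : add (add (sim i) (sim k)) (ng (sim k)) = sim i := add_eq (by rw [add_co h1]; simp)
  by_cases e1 : s = sim i
  · subst e1
    exact (hC.loc i k).nconj_self (mem_cT_one h0) h3 h2 rfl (Span2_InJ ha hb) (Or.inl rfl) t u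
  by_cases e2 : s = ng (sim i)
  · subst e2
    have h0' : N (ng (add (sim i) (sim k))) (ng (ng (sim k))) ≠ 0 := by rw [N_ng]; omega
    exact (hC.loc i k).nconj_self (mem_cT_one h0') (by rw [add_ng h0, h3]) (by dsimp only; rw [N_ng]; omega) rfl
      (Span2_InJ (InJ_ng.2 ha) (InJ_ng.2 hb)) (Or.inr (ng_ng _).symm) t u
  exact (hC.loc i j).nconj_of_ne e1 e2 (Span2_InJ (inJ_l i j) hs) t u

theorem cj_n {i j : Ix D} {s : Rt D} (hs : InJ {i, j} s) (t : Fˣ) :
    Cj x (nX x (sim i) t) s ((sw i).1 s) :=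
  rf_sim i ▸ Cj.of_formula (hC.nconj hs t) (hC.nconj (InJ_ng.2 hs) t)

theorem cj_wp {i j : Ix D} (L : List (Ix D)) (hL : ∀ k ∈ L, k ∈ ({i, j} : Set (Ix D))) {s : Rt D}
    (hs : InJ {i, j} s) : Cj x (wp (nS x) L) s ((wp sw L).1 s) := by
  induction L with
  | nil => exact Cj.one s
  | cons k L ih =>
    have hL' : ∀ k ∈ L, k ∈ ({i, j} : Set (Ix D)) := fun k hk => hL k (List.mem_cons_of_mem _ hk)
    rw [wp_cons, wp_cons, W_mul_apply]
    refine Cj.mul ?_ (ih hL')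
    have h1 : InJ {i, j} ((wp sw L).1 s) := (InJ_WJ (wp_mem_closure sw _ L hL') s).2 hs
    rcases hL k List.mem_cons_self with rfl | rfl
    · exact hC.cj_n h1 1
    · exact hC.cj_n (j := i) (by rwa [Set.pair_comm]) 1

theorem cj_h {h : Γ} (hh : h ∈ H0 x) (j : Ix D) : Cj x h (sim j) (sim j) := by
  induction hh using Subgroup.closure_induction with
  | mem g hg =>
    obtain ⟨i, t, rfl⟩ := hg
    have h1 : InJ {i, j} ((sw i).1 (sim j)) := (InJ_WJ (sw_mem_WJ (by simp)) _).2 (inJ_r i j)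
    have := (hC.cj_n h1 t).mul (hC.cj_n (inJ_r i j) (-1))
    rwa [sw_coe, refl_refl] at this
  | one => exact Cj.one _
  | mul a b _ _ ha hb => exact ha.mul hb
  | inv a _ ha => exact ha.inv

theorem conj_mem_H {n h : Γ} (hn : n ∈ N0 x) (hh : h ∈ H0 x) : n * h * n⁻¹ ∈ H0 x := by
  have key : ∀ i t, ∀ h ∈ H0 x, nX x (sim i) t * h * (nX x (sim i) t)⁻¹ ∈ H0 x := by
    intro i t h hh
    obtain ⟨c, hc⟩ := (hC.cj_h (inv_mem hh) i).nX
    have : nX x (sim i) t * h * (nX x (sim i) t)⁻¹ =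
        h * ((h⁻¹ * nX x (sim i) t * h⁻¹⁻¹) * nX x (sim i) (-t)) := by rw [hC.n_neg]; group
    rw [this, hc, hC.n_mul_n]
    exact mul_mem hh (h_mem _ _)
  have : N0 x ≤ Subgroup.normalizer (H0 x : Set Γ) := by
    rw [N0, Subgroup.closure_le]
    rintro _ ⟨i, t, rfl⟩
    rw [SetLike.mem_coe, Subgroup.mem_normalizer_iff]
    refine fun h => ⟨key i t h, fun hh => ?_⟩
    have := key i (-t) _ hh
    simpa [hC.n_neg, mul_assoc] using this
  exact (Subgroup.mem_normalizer_iff.1 (this hn) h).1 hh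

theorem wp_mem_H_loc {i j : Ix D} (L : List (Ix D)) (hL : ∀ k ∈ L, k ∈ ({i, j} : Set (Ix D)))
    (h : wp sw L = 1) : wp (nS x) L ∈ H0 x := by
  induction hk : L.length using Nat.strong_induction_on generalizing L with
  | _ k ih =>
  rcases List.eq_nil_or_concat L with rfl | ⟨L0, a, rfl⟩
  · exact one_mem _
  rw [List.concat_eq_append] at h hk hL ⊢
  rw [wp_append, wp_singleton, mul_eq_one_iff_eq_inv, invGen_sw.inv_s] at h
  obtain ⟨L1, b, L2, rfl, e⟩ := exists_split_of_neg a L0 (by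
    rw [h, sw_coe, refl_sim, pos_ng, not_not]; exact pos_sim a)
  obtain ⟨c, hc⟩ := (hC.cj_wp L2 (fun k hk => hL k (by simp [hk]))
    (InJ_sim.2 (hL a (by simp)))).nX
  have h1 := ih _ (by rw [← hk]; simp) (L1 ++ L2) (fun k hk => hL k (by
    simp only [List.mem_append, List.mem_cons] at hk ⊢; tauto)) (by
    rw [wp_append, wp_cons] at h
    have := mul_sw_of_eq e
    rw [wp_append, ← mul_left_inj (sw a), one_mul, mul_assoc, this, h]) rfl
  rw [e] at hc
  have h2 : nS x b * nX x (sim b) (c * 1) ∈ H0 x := by rw [nS, hC.n_mul_n]; exact h_mem _ _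
  have := mul_mem (hC.conj_mem_H (wp_mem L1) h2) h1
  rw [← hc] at this
  convert this using 1
  simp only [wp_append, wp_cons, wp_nil, nS]; group

theorem wp_mem_H (L : List (Ix D)) (h : wp sw L = 1) : wp (nS x) L ∈ H0 x := by
  have : ((H0 x).subgroupOf (N0 x)).Normal :=
    ⟨fun h hh n => hC.conj_mem_H n.2 hh⟩
  let g : Ix D → N0 x := fun i => ⟨nS x i, n_mem i 1⟩
  let φ := QuotientGroup.mk' ((H0 x).subgroupOf (N0 x))
  have key : ∀ L, wp (fun i => φ (g i)) L = 1 ↔ wp (nS x) L ∈ H0 x := by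
    intro L
    rw [← map_wp, QuotientGroup.mk'_apply, QuotientGroup.eq_one_iff, Subgroup.mem_subgroupOf]
    have := map_wp (N0 x).subtype g L
    rw [Subgroup.subtype_apply] at this
    rw [this]; rfl
  rw [← key]
  refine exch_sw.wp_indep invGen_sw _ (fun i => ?_) (fun i j => ?_) L h
  · have := (key [i, i]).2 (hC.wp_mem_H_loc (i := i) (j := i) _ (by simp) (by simp [sw_sq]))
    simpa using this
  · rw [← wp_alt_two (fun i => φ (g i)), key]
    exact hC.wp_mem_H_loc (i := i) (j := j) _ (fun k hk => mem_alt _ i j k hk)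
      (by rw [wp_alt_two, pow_orderOf_eq_one])

omit hC in
theorem ln_wp (L : List (Ix D)) : LN x (wp (nS x) L) (wp sw L) := ⟨1, one_mem _, L, by simp, rfl⟩

omit hC in
theorem exists_ln (w : W D) : ∃ n, LN x n w := by
  obtain ⟨L, rfl⟩ := invGen_sw.gen w
  exact ⟨_, ln_wp L⟩

theorem ln_mul {n n' : Γ} {w w' : W D} (h : LN x n w) (h' : LN x n' w') : LN x (n * n') (w * w') := by
  obtain ⟨a, ha, L, rfl, rfl⟩ := h
  obtain ⟨a', ha', L', rfl, rfl⟩ := h'
  refine ⟨_, mul_mem ha (hC.conj_mem_H (wp_mem L) ha'), L ++ L', ?_, wp_append _ _ _⟩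
  rw [wp_append]; group

theorem ln_inv {n : Γ} {w : W D} (h : LN x n w) : LN x n⁻¹ w⁻¹ := by
  obtain ⟨a, ha, L, rfl, rfl⟩ := h
  have := hC.wp_mem_H (L.reverse ++ L) (by rw [wp_append, wp_reverse sw_sq, inv_mul_cancel])
  rw [wp_append] at this
  refine ⟨_, mul_mem (hC.conj_mem_H (inv_mem (wp_mem L)) (inv_mem ha)) (inv_mem this), L.reverse, ?_,
    wp_reverse sw_sq L⟩
  group

theorem mem_H_of_ln {n : Γ} (h : LN x n 1) : n ∈ H0 x := by
  obtain ⟨a, ha, L, rfl, h⟩ := h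
  exact mul_mem ha (hC.wp_mem_H L h)

theorem θ_n (i : Ix D) (t : Fˣ) : θ (nX x (sim i) t) = nX xG (sim i) t :=
  (hC.loc i i).map_nX (inJ_l i i) (InJ_ng.2 (inJ_l i i)) t

theorem lift_of_ln {n : Γ} {w : W D} (h : LN x n w) : Lift xG (θ n) w := by
  obtain ⟨a, ha, L, rfl, rfl⟩ := h
  have h1 : θ a ∈ HX (xG : Rt D → F → GL D.Idx F) := by
    refine (Subgroup.closure_le ((HX xG).comap θ)).2 ?_ ha
    rintro _ ⟨i, t, rfl⟩
    change θ _ ∈ HX xG
    rw [hX, map_mul, hC.θ_n, hC.θ_n]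
    exact hX_mem _ _
  have := (sys_xG.lift_of_mem_H h1).mul (sys_xG.lift_wp L)
  rw [one_mul] at this
  rw [map_mul, map_wp]
  simp only [nS, hC.θ_n]
  exact this

theorem cj_ln (k : ℕ) : ∀ {w : W D} {n : Γ}, wl sw w = k → LN x n w → ∀ {i j : Ix D},
    w.1 (sim i) = sim j → Cj x n (sim i) (sim j) := by
  induction k using Nat.strong_induction_on with
  | _ k ih =>
  intro w n hk hn i j hij
  by_cases hw : ∀ a, Pos (w.1 (sim a))
  · obtain rfl := eq_one_of_pos hw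
    obtain rfl : i = j := sim_inj hij
    exact hC.cj_h (hC.mem_H_of_ln hn) i
  push Not at hw
  obtain ⟨a, ha⟩ := hw
  obtain ⟨v, hv, h1, h2⟩ := exists_parab {i, a} w
  have h3 := h2 (sw a) (sw_mem_WJ (by simp))
  have h4 := wl_mul_sw_lt ha
  obtain ⟨i', hi', e⟩ := eq_sim_of_W h1 ((InJ_WJ (inv_mem hv) _).2 (inJ_l i a)) (j := j)
    (by rw [W_mul_apply, W_apply_inv, hij])
  obtain ⟨L, hL, rfl⟩ := exists_wp_of_mem_closure sw_sq _ hv
  have h5 := ih _ (by omega) rfl (hC.ln_mul hn (ln_wp L)) (i := i') (j := j)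
    (by rw [← e, W_mul_apply, W_apply_inv, hij])
  have h6 := (hC.cj_wp L hL (InJ_sim.2 hi')).inv
  rw [← e, W_apply_inv, e] at h6
  simpa using h5.mul h6

theorem exists_y : ∃ y : Rt D → F → Γ, (∀ r t, θ (y r t) = xG r t) ∧
    ∀ r, ∃ (n : Γ) (w : W D) (i : Ix D) (c : Fˣ), LN x n w ∧ w.1 (sim i) = r ∧
      ∀ u, n * x (sim i) u * n⁻¹ = y r (c * u) := by
  have : ∀ r : Rt D, ∃ yr : F → Γ, (∀ t, θ (yr t) = xG r t) ∧
      ∃ (n : Γ) (w : W D) (i : Ix D) (c : Fˣ), LN x n w ∧ w.1 (sim i) = r ∧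
      ∀ u, n * x (sim i) u * n⁻¹ = yr (c * u) := by
    intro r
    obtain ⟨w, i, rfl⟩ := exists_conj_sim r
    obtain ⟨n, hn⟩ := exists_ln (x := x) w
    obtain ⟨c, hc⟩ := (hC.lift_of_ln hn).2 (sim i)
    refine ⟨fun t => n * x (sim i) ((c⁻¹ : Fˣ) * t) * n⁻¹, fun t => ?_, n, w, i, c, hn, rfl, fun u => ?_⟩
    · rw [map_mul, map_mul, map_inv, (hC.loc i i).map _ (inJ_l i i), hc, Units.mul_inv_cancel_left]
    · simp only [Units.inv_mul_cancel_left]
  choose y h1 h2 using this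
  exact ⟨y, h1, h2⟩

theorem exists_rel : ∃ y : Rt D → F → Γ, Rel y ∧ (∀ i j r, InJ {i, j} r → y r = x r) ∧
    ∀ r t, y r t ∈ XS x {r | ∃ i j, InJ {i, j} r} := by
  obtain ⟨y, hθ, hy⟩ := hC.exists_y
  have Y1 : ∀ {n w}, LN x n w → ∀ i, ∃ c : Fˣ, ∀ u, n * x (sim i) u * n⁻¹ = y (w.1 (sim i)) (c * u) := by
    intro n w hn i
    obtain ⟨n', w', i', c', h1, h2, h3⟩ := hy (w.1 (sim i))
    obtain ⟨c, h4, -⟩ := hC.cj_ln _ rfl (hC.ln_mul (hC.ln_inv h1) hn) (i := i) (j := i')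
      (by rw [W_mul_apply, ← h2, W_inv_apply])
    refine ⟨c' * c, fun u => ?_⟩
    rw [Units.val_mul, mul_assoc (c' : F), ← h3, ← h4]; group
  have Y2 : ∀ {n w}, LN x n w → ∀ r, ∃ c : Fˣ, ∀ u, n * y r u * n⁻¹ = y (w.1 r) (c * u) := by
    intro n w hn r
    obtain ⟨n', w', i', c', h1, rfl, h3⟩ := hy r
    obtain ⟨c, hc⟩ := Y1 (hC.ln_mul hn h1) i'
    refine ⟨c * c'⁻¹, fun u => ?_⟩
    rw [Units.val_mul, mul_assoc (c : F), ← W_mul_apply, ← hc]
    have := h3 ((c'⁻¹ : Fˣ) * u)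
    rw [Units.mul_inv_cancel_left] at this
    rw [← this]; group
  have Y3 : ∀ i j r, InJ {i, j} r → y r = x r := by
    intro i j r hr
    obtain ⟨v, hv, a, ha, rfl⟩ := exists_conj_sim_J r hr
    obtain ⟨L, hL, rfl⟩ := exists_wp_of_mem_closure sw_sq _ hv
    obtain ⟨c, hc⟩ := Y1 (ln_wp L) a
    obtain ⟨c', hc', -⟩ := hC.cj_wp L hL (InJ_sim.2 ha)
    funext t
    have h1 := (hc ((c⁻¹ : Fˣ) * t)).symm.trans (hc' _)
    rw [Units.mul_inv_cancel_left] at h1
    have h2 := congrArg θ h1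
    rw [hθ, (hC.loc i j).map _ hr] at h2
    rw [h1, ← xG_inj h2]
  have Y4 : ∀ {n w}, LN x n w → ∀ r, Cj y n r (w.1 r) := by
    intro n w hn r
    obtain ⟨c, h1, h2⟩ := sys_xG.cj_of_lift (hC.lift_of_ln hn) r
    obtain ⟨c1, h3⟩ := Y2 hn r
    obtain ⟨c2, h4⟩ := Y2 hn (ng r)
    refine ⟨c, fun u => ?_, fun u => ?_⟩
    · have := congrArg θ (h3 u)
      rw [map_mul, map_mul, map_inv, hθ, hθ, h1] at this
      rw [h3, xG_inj this]
    · have := congrArg θ (h4 u)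
      rw [map_mul, map_mul, map_inv, hθ, hθ, h2, W_ng] at this
      rw [h4, xG_inj this, W_ng]
  refine ⟨y, ⟨fun r t u => ?_, fun r s h1 h2 t u => ?_, fun r t u => ?_⟩, Y3, fun r t => ?_⟩
  · obtain ⟨n, w, i, c, -, -, h3⟩ := hy r
    have e : ∀ t, y r t = n * x (sim i) ((c⁻¹ : Fˣ) * t) * n⁻¹ := fun t => by
      rw [h3, Units.mul_inv_cancel_left]
    rw [e, e, e, mul_add, ← (hC.loc i i).add _ (inJ_l i i)]; group
  · obtain ⟨w, i, j, hr, hs⟩ := exists_conj_pair r s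
    obtain ⟨n, hn⟩ := exists_ln (x := x) w
    obtain ⟨l, hl1, hl2⟩ := exists_fn2 (r := w.1 r) (s := w.1 s) (fun h => h1 (w.1.injective h))
      (fun h => h2 (w.1.injective (by rw [h, W_ng])))
    let T : Set (Rt D) := {v | InJ {i, j} v} ∩ {v | 0 < l (co v)}
    have hT : ∀ v, w.1 v ∈ T → ∀ t, y v t ∈ (XS x T).comap (MulAut.conj n).toMonoidHom := by
      intro v hv t
      obtain ⟨c, hc⟩ := Y2 hn v
      change n * y v t * n⁻¹ ∈ XS x T
      rw [hc, Y3 i j _ hv.1]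
      exact mem_XS hv _
    have hcl : Closed T := (closed_InJ _).inter (closed_of_fn l)
    have e := (hC.loc i j).eq_of_map_eq (S := T) Set.inter_subset_left hcl (fun v hv => hv.2)
      (mul_mem (hT s ⟨hs, hl2⟩ u) (hT r ⟨hr, hl1⟩ t))
      (mul_mem (mul_mem (hT r ⟨hr, hl1⟩ t) (hT s ⟨hs, hl2⟩ u)) (cwL_mem (fun c hc => hT _
        (hcl _ ⟨hr, hl1⟩ _ ⟨hs, hl2⟩ _ ((comb_of_mem_cT hc).aut (W_aut w)))) t u)) (by
        simp only [MulEquiv.coe_toMonoidHom, MulAut.conj_apply, map_mul, map_inv, hθ]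
        rw [map_cwL' θ (fun c _ => hθ c.1)]
        have := sys_xG.rel.comm r s h1 h2 t u
        simp only [mul_assoc, inv_mul_cancel_left] at this ⊢
        rw [← mul_assoc (xG s u), this]; simp only [mul_assoc])
    exact (MulAut.conj n).injective (by rw [map_mul, map_mul, map_mul]; exact e)
  · obtain ⟨w, i, rfl⟩ := exists_conj_sim r
    obtain ⟨n, hn⟩ := exists_ln (x := x) w
    obtain ⟨c, hc⟩ := (Y4 hn (sim i)).inv.nX
    have e : ∀ t, nX y (sim i) t = nX x (sim i) t := fun t => by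
      rw [nX, nX, Y3 i i _ (inJ_l i i), Y3 i i _ (InJ_ng.2 (inJ_l i i))]
    have h1 : ∀ t, n⁻¹ * hX y (w.1 (sim i)) t * n⁻¹⁻¹ = hX x (sim i) t := fun t => by
      have : n⁻¹ * hX y (w.1 (sim i)) t * n⁻¹⁻¹ =
          (n⁻¹ * nX y (w.1 (sim i)) t * n⁻¹⁻¹) * (n⁻¹ * nX y (w.1 (sim i)) (-1) * n⁻¹⁻¹) := by
        rw [hX]; group
      rw [this, hc, hc, e, e, hC.n_mul_n]
      congr 1
      simp [mul_comm c t]
    have := hC.hmul i t u
    rw [← h1, ← h1, ← h1] at this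
    apply (MulAut.conj n⁻¹).injective
    rw [map_mul]
    exact this
  · obtain ⟨n, w, i, c, h1, -, h3⟩ := hy r
    have hm : ∀ i j r, InJ {i, j} r → ∀ t, x r t ∈ XS x {r | ∃ i j, InJ {i, j} r} :=
      fun i j r h t => mem_XS (S := {r | ∃ i j, InJ {i, j} r}) ⟨i, j, h⟩ t
    have hN : N0 x ≤ XS x {r | ∃ i j, InJ {i, j} r} := by
      rw [N0, Subgroup.closure_le]
      rintro _ ⟨i, t, rfl⟩
      exact nX_mem (hm i i _ (inJ_l i i)) (hm i i _ (InJ_ng.2 (inJ_l i i))) t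
    have hH : H0 x ≤ N0 x := by
      rw [H0, Subgroup.closure_le]
      rintro _ ⟨i, t, rfl⟩
      exact mul_mem (n_mem _ _) (n_mem _ _)
    obtain ⟨a, ha, L, rfl, -⟩ := h1
    have hn := hN (mul_mem (hH ha) (wp_mem L))
    have := h3 ((c⁻¹ : Fˣ) * t)
    rw [Units.mul_inv_cancel_left] at this
    rw [← this]
    exact mul_mem (mul_mem hn (hm i i _ (inJ_l i i) _)) (inv_mem hn)

end CT

theorem inRankTwoSub_iff (i j : Ix D) (r : Rt D) : D.InRankTwoSub i j r ↔ InJ {i, j} r := by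
  constructor
  · rintro ⟨-, -, -, h⟩ k hk
    simp only [Set.mem_insert_iff, Set.mem_singleton_iff, not_or] at hk
    exact (cr_sign r k).2.2.1 (h k k.2 (fun e => hk.1 (Fin.ext e)) (fun e => hk.2 (Fin.ext e)))
  · intro h
    refine ⟨r.2, i.2, j.2, fun k hk h1 h2 => (cr_sign r ⟨k, hk⟩).2.2.2 (h _ ?_)⟩
    simp only [Set.mem_insert_iff, Set.mem_singleton_iff, not_or]
    exact ⟨fun e => h1 (congrArg Fin.val e), fun e => h2 (congrArg Fin.val e)⟩

omit G in
theorem map_stX (g : Fin D.nroots × F → Γ) (r : Rt D) (t : F) :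
    FreeGroup.lift g (D.stX r t) = g (r, t) := by rw [stX_eq, FreeGroup.lift_apply_of]

open Classical in
theorem ct_rels {y : Rt D → F → Γ} (h : Rel y) : ∀ g ∈ D.curtisTitsRels F,
    FreeGroup.lift (fun p : Fin D.nroots × F =>
      if ∃ i j : Ix D, InJ {i, j} p.1 then y p.1 p.2 else 1) g = 1 := by
  set φ := FreeGroup.lift (fun p : Fin D.nroots × F =>
      if ∃ i j : Ix D, InJ {i, j} p.1 then y p.1 p.2 else 1) with hφ
  have key : ∀ (i j : Ix D) (r : Rt D), InJ {i, j} r → ∀ t, φ (D.stX r t) = y r t := by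
    intro i j r hr t
    rw [hφ, map_stX, if_pos ⟨i, j, hr⟩]
  rintro g (((⟨r, t, hr, h1, rfl⟩ | ⟨i, j, r, t, u, hr, rfl⟩) | ⟨i, j, r, s, t, u, hr, hs, h1, h2, rfl⟩) |
    ⟨i, j, r, t, u, hr, ht, hu, rfl⟩)
  · lift r to Rt D using hr
    rw [hφ, map_stX, if_neg]
    rintro ⟨i, j, h⟩
    exact h1 i j ((inRankTwoSub_iff i j r).2 h)
  · lift r to Rt D using hr.1
    lift i to Ix D using hr.2.1
    lift j to Ix D using hr.2.2.1
    rw [inRankTwoSub_iff] at hr
    simp only [map_mul, map_inv, mul_inv_eq_one, key i j r hr]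
    exact h.add r t u
  · lift r to Rt D using hr.1
    lift s to Rt D using hs.1
    lift i to Ix D using hr.2.1
    lift j to Ix D using hr.2.2.1
    rw [inRankTwoSub_iff] at hr hs
    simp only [map_mul, map_inv, mul_inv_eq_one, map_commWord, key i j r hr, key i j s hs]
    have := h.comm r s (fun e => h1 (by rw [e])) (fun e => h2 (by rw [e, neg_val])) t u
    have e := map_cwL' (MonoidHom.id Γ) (x := fun r t => φ (D.stX (r : Rt D) t)) (y := y) (L := cT r s)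
      (fun c hc => key i j _ (closed_InJ _ r hr s hs _ (comb_of_mem_cT hc))) t u
    rw [MonoidHom.id_apply] at e
    rw [e]
    simp only [mul_assoc] at this ⊢
    rw [this]; group
  · lift r to Rt D using hr.1
    lift i to Ix D using hr.2.1
    lift j to Ix D using hr.2.2.1
    rw [inRankTwoSub_iff] at hr
    lift t to Fˣ using ht.isUnit
    lift u to Fˣ using hu.isUnit
    simp only [map_mul, map_inv, mul_inv_eq_one, ← Units.val_mul, map_stH]
    have e : ∀ t, hX (fun r t => φ (D.stX (r : Rt D) t)) r t = hX y r t := fun t =>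
      map_hX (MonoidHom.id Γ) (key i j r hr) (key i j _ (InJ_ng.2 hr)) t
    rw [e, e, e]
    exact h.hmul r t u

theorem curtis_tits (h2 : HasA2 D) : ∃ e : D.CurtisTitsGroup F ≃* D.SteinbergGroup F,
    ∀ (i j r : ℕ) (t : F), D.InRankTwoSub i j r →
      e (PresentedGroup.mk (D.curtisTitsRels F) (D.stX r t)) = D.stGen F r t := by
  classical
  let μ := PresentedGroup.mk (D.curtisTitsRels F)
  let x : Rt D → F → D.CurtisTitsGroup F := fun r t => μ (D.stX r t)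
  let φ : D.CurtisTitsGroup F →* D.SteinbergGroup F := PresentedGroup.toGroup (ct_rels rel_xS)
  have hφ : ∀ r t, φ (x r t) = if ∃ i j : Ix D, InJ {i, j} r then xS r t else 1 := by
    intro r t
    simp only [x, stX_eq]
    exact PresentedGroup.toGroup.of _
  have hφ' : ∀ (i j : Ix D) r, InJ {i, j} r → ∀ t, φ (x r t) = xS r t := fun i j r h t => by
    rw [hφ, if_pos ⟨i, j, h⟩]
  have hμ : ∀ g ∈ D.curtisTitsRels F, μ g = 1 := fun _ hg => PresentedGroup.one_of_mem hg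
  have hC : CT x (sys_xG.rel.lift.comp φ) := by
    refine ⟨fun i j => ⟨fun r hr t u => ?_, fun r hr s hs h1 h2 t u => ?_, fun r hr t => ?_⟩,
      fun i t u => ?_, h2⟩
    · simpa only [map_mul, map_inv, mul_inv_eq_one] using
        hμ _ (Or.inl (Or.inl (Or.inr ⟨i, j, r, t, u, (inRankTwoSub_iff i j r).2 hr, rfl⟩)))
    · have := hμ _ (Or.inl (Or.inr ⟨i, j, r, s, t, u, (inRankTwoSub_iff i j r).2 hr,
        (inRankTwoSub_iff i j s).2 hs, fun e => h1 (Fin.ext e),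
        fun e => h2 (Fin.ext (e.trans (neg_val r))), rfl⟩))
      simp only [map_mul, map_inv, mul_inv_eq_one, map_commWord] at this
      simp only [x]
      rw [← this]; group
    · rw [MonoidHom.comp_apply, hφ' i j r hr, Rel.lift_xS]
    · simpa only [map_mul, map_inv, mul_inv_eq_one, ← Units.val_mul, map_stH] using
        hμ _ (Or.inr ⟨i, i, sim i, t, u, (inRankTwoSub_iff i i _).2 (inJ_l i i), t.ne_zero, u.ne_zero, rfl⟩)
  obtain ⟨y, hy, h3, h4⟩ := hC.exists_rel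
  have e1 : hy.lift.comp φ = MonoidHom.id _ := by
    refine PresentedGroup.ext fun ⟨r, t⟩ => ?_
    have : PresentedGroup.of (r, t) = x r t := by simp only [x, stX_eq]; rfl
    rw [this, MonoidHom.comp_apply, MonoidHom.id_apply, hφ]
    split_ifs with h
    · obtain ⟨i, j, h⟩ := h
      rw [Rel.lift_xS, h3 i j r h]
    · rw [map_one, eq_comm]
      refine hμ _ (Or.inl (Or.inl (Or.inl ⟨r, t, r.2, fun i j hij => h ?_, rfl⟩)))
      exact ⟨⟨i, hij.2.1⟩, ⟨j, hij.2.2.1⟩, (inRankTwoSub_iff _ _ r).1 hij⟩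
  have hinj : Function.Injective φ := by
    intro a b h
    have := congrArg hy.lift h
    rwa [← MonoidHom.comp_apply, ← MonoidHom.comp_apply, e1] at this
  have hsurj : Function.Surjective φ := by
    refine surj_of_XS XS_xS fun r t => ?_
    have hm : ∀ (i j : Ix D) r, InJ {i, j} r → ∀ t, xS r t ∈ φ.range :=
      fun i j r h t => ⟨_, hφ' i j r h t⟩
    obtain ⟨w, i, rfl⟩ := exists_conj_sim r
    obtain ⟨L, rfl⟩ := invGen_sw.gen w
    obtain ⟨c, hc⟩ := ((sys_xS (F := F)).lift_wp L).2 (sim i)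
    have hn : wp (nS xS) L ∈ φ.range := by
      clear hc
      induction L with
      | nil => exact one_mem _
      | cons k L ih =>
        rw [wp_cons]
        exact mul_mem (nX_mem (hm k k _ (inJ_l k k)) (hm k k _ (InJ_ng.2 (inJ_l k k))) 1) ih
    have := hc ((c⁻¹ : Fˣ) * t)
    rw [Units.mul_inv_cancel_left] at this
    rw [← this]
    exact mul_mem (mul_mem hn (hm i i _ (inJ_l i i) _)) (inv_mem hn)
  refine ⟨MulEquiv.ofBijective φ ⟨hinj, hsurj⟩, fun i j r t h => ?_⟩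
  lift r to Rt D using h.1
  lift i to Ix D using h.2.1
  lift j to Ix D using h.2.2.1
  exact hφ' i j r ((inRankTwoSub_iff i j r).1 h) t

end Cfsg.Agent.Lie
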