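import Cfsg.Agent.Lie.St

set_option autoImplicit false
set_option linter.unusedSectionVars false

/-! Root-system lemmas for the Curtis–Tits theorem. -/

namespace Cfsg.Agent.Lie

open Cfsg.Lie

variable {D : ChevalleyDatum} [G : Good D]

/-- rational coordinates -/
def cq (u : Rt D) : Ix D → ℚ := fun k => co u k

/-- rational extension of the action of `w` -/
def LQ (w : W D) : (Ix D → ℚ) →ₗ[ℚ] (Ix D → ℚ) where
  toFun v := ∑ j, v j • cq (w.1 (sim j))
  map_add' v v' := by simp [add_smul, Finset.sum_add_distrib]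
  map_smul' a v := by simp [Finset.smul_sum, mul_smul]

theorem cq_W (w : W D) (u : Rt D) : cq (w.1 u) = ∑ j, (co u j : ℚ) • cq (w.1 (sim j)) := by
  funext k
  have := congrFun (co_aut (W_aut w) u) k
  simp only [Lw, LinearMap.coe_mk, AddHom.coe_mk, Finset.sum_apply, Pi.smul_apply, smul_eq_mul] at this
  simp only [cq, this, Finset.sum_apply, Pi.smul_apply, smul_eq_mul]
  push_cast; rfl

theorem LQ_cq (w : W D) (u : Rt D) : LQ w (cq u) = cq (w.1 u) := (cq_W w u).symm

theorem cq_sim (i : Ix D) : cq (sim i) = Pi.single i 1 := by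
  funext k; simp [cq, co_sim, Pi.single_apply]

theorem cq_ng (u : Rt D) : cq (ng u) = - cq u := by funext k; simp [cq]

theorem exists_dominant (l : Rt D → ℚ) (hl : ∀ u, l (ng u) = - l u) :
    ∃ w : W D, ∀ i, 0 ≤ l (w.1 (sim i)) := by
  classical
  obtain ⟨w, hw⟩ := Finite.exists_max (fun w : W D => ∑ u ∈ Finset.univ.filter Pos, l (w.1 u))
  refine ⟨w, fun i => ?_⟩
  have h := hw (w * sw i)
  have hi : sim i ∈ Finset.univ.filter (Pos (D := D)) := by simp [pos_sim]
  rw [← Finset.add_sum_erase _ _ hi, ← Finset.add_sum_erase _ _ hi] at h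
  have e : ∑ u ∈ (Finset.univ.filter Pos).erase (sim i), l ((w * sw i).1 u) =
      ∑ u ∈ (Finset.univ.filter Pos).erase (sim i), l (w.1 u) := by
    refine Finset.sum_bijective (refl i) (refl i).bijective (fun u => ?_) (fun u _ => rfl)
    simp only [Finset.mem_erase, Finset.mem_filter, Finset.mem_univ, true_and]
    constructor
    · rintro ⟨h1, h2⟩
      refine ⟨fun h3 => ?_, pos_refl h2 h1⟩
      have : u = ng (sim i) := by rw [← refl_sim, ← h3, refl_refl]
      rw [this, pos_ng] at h2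
      exact h2 (pos_sim i)
    · rintro ⟨h1, h2⟩
      have := pos_refl (i := i) h2 h1
      rw [refl_refl] at this
      refine ⟨?_, this⟩
      rintro rfl
      rw [refl_sim, pos_ng] at h2
      exact h2 (pos_sim i)
  rw [e, W_mul_apply, sw_coe, refl_sim, W_ng, hl] at h
  linarith

theorem exists_conj_pair (r s : Rt D) :
    ∃ (w : W D) (i j : Ix D), InJ {i, j} (w.1 r) ∧ InJ {i, j} (w.1 s) := by
  classical
  let Sp : Submodule ℚ (Ix D → ℚ) := Submodule.span ℚ ({cq r, cq s} : Finset (Ix D → ℚ))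
  obtain ⟨f, hf⟩ := Module.exists_dual_forall_apply_ne_zero (K := ℚ)
    (fun u : {u : Rt D // cq u ∉ Sp} => Sp.mkQ (cq u.1))
    (fun u => by simpa using u.2)
  let l : (Ix D → ℚ) →ₗ[ℚ] ℚ := f ∘ₗ Sp.mkQ
  have hl : ∀ u, l (cq u) = 0 ↔ cq u ∈ Sp := fun u =>
    ⟨fun h => by_contra fun h' => hf ⟨u, h'⟩ h, fun h => by
      simp only [l, LinearMap.comp_apply, Submodule.mkQ_apply]
      rw [(Submodule.Quotient.mk_eq_zero Sp).2 h, map_zero]⟩
  obtain ⟨w, hw⟩ := exists_dominant (fun u => l (cq u)) (fun u => by rw [cq_ng, map_neg])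
  let J : Finset (Ix D) := Finset.univ.filter fun i => l (cq (w.1 (sim i))) = 0
  have hJ : ∀ u, l (cq u) = 0 → InJ J (w⁻¹.1 u) := by
    intro u hu k hk
    have h1 := cq_W w (w⁻¹.1 u)
    rw [W_apply_inv] at h1
    rw [h1, map_sum] at hu
    simp only [map_smul, smul_eq_mul] at hu
    have hk' : l (cq (w.1 (sim k))) ≠ 0 := by simpa [J] using hk
    rcases sign_co (w⁻¹.1 u) with h | h
    · rw [Finset.sum_eq_zero_iff_of_nonneg (fun j _ => mul_nonneg (by exact_mod_cast h j) (hw j))] at hu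
      exact_mod_cast (mul_eq_zero.1 (hu k (Finset.mem_univ _))).resolve_right hk'
    · rw [Finset.sum_eq_zero_iff_of_nonpos
        (fun j _ => mul_nonpos_of_nonpos_of_nonneg (by exact_mod_cast h j) (hw j))] at hu
      exact_mod_cast (mul_eq_zero.1 (hu k (Finset.mem_univ _))).resolve_right hk'
  have hcard : J.card ≤ 2 := by
    have hind : LinearIndependent ℚ (fun k : J => (⟨cq (w.1 (sim k)), (hl _).1 (Finset.mem_filter.1 k.2).2⟩ : Sp)) := by
      apply LinearIndependent.of_comp ((LQ w⁻¹) ∘ₗ Sp.subtype)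
      have : (⇑((LQ w⁻¹) ∘ₗ Sp.subtype) ∘ fun k : J => (⟨cq (w.1 (sim k)), (hl _).1 (Finset.mem_filter.1 k.2).2⟩ : Sp)) = (Pi.basisFun ℚ (Ix D)) ∘ Subtype.val := by
        funext k
        simp [LQ_cq, cq_sim]
      rw [this]
      exact (Pi.basisFun ℚ (Ix D)).linearIndependent.comp _ Subtype.val_injective
    have h1 := hind.fintype_card_le_finrank
    have h2 := finrank_span_finset_le_card (R := ℚ) ({cq r, cq s} : Finset (Ix D → ℚ))
    have h3 : ({cq r, cq s} : Finset (Ix D → ℚ)).card ≤ 2 := Finset.card_le_two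
    rw [Fintype.card_coe] at h1
    exact h1.trans (h2.trans h3)
  obtain ⟨i, j, hij⟩ : ∃ i j : Ix D, (J : Set (Ix D)) ⊆ {i, j} := by
    let i0 : Ix D := ⟨0, G.is.rank_pos⟩
    obtain h | h | h : J.card = 0 ∨ J.card = 1 ∨ J.card = 2 := by omega
    · rw [Finset.card_eq_zero] at h; exact ⟨i0, i0, by simp [h]⟩
    · obtain ⟨a, h⟩ := Finset.card_eq_one.1 h; exact ⟨a, a, by simp [h]⟩
    · obtain ⟨a, b, -, h⟩ := Finset.card_eq_two.1 h; exact ⟨a, b, by simp [h]⟩
  refine ⟨w⁻¹, i, j, fun k hk => hJ r ((hl r).2 ?_) k (fun h => hk (hij h)),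
    fun k hk => hJ s ((hl s).2 ?_) k (fun h => hk (hij h))⟩
  · exact Submodule.subset_span (by simp)
  · exact Submodule.subset_span (by simp)

theorem exists_parab (J : Set (Ix D)) (w : W D) :
    ∃ v ∈ WJ J, (∀ j ∈ J, Pos ((w * v).1 (sim j))) ∧ ∀ v' ∈ WJ J, wl sw (w * v) ≤ wl sw (w * v') := by
  obtain ⟨v, hv, hmin⟩ := Set.exists_min_image (WJ J : Set (W D)) (fun v => wl sw (w * v))
    (Set.toFinite _) ⟨1, one_mem _⟩
  refine ⟨v, hv, fun j hj => ?_, hmin⟩
  by_contra h
  have := wl_mul_sw_lt h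
  have := hmin (v * sw j) (mul_mem hv (sw_mem_WJ hj))
  rw [← mul_assoc] at this
  omega

theorem one_le_ht {u : Rt D} (hu : Pos u) : 1 ≤ ∑ k, co u k := by
  obtain ⟨i, hi, -⟩ := exists_A_pos hu
  exact le_trans hi (Finset.single_le_sum (fun k _ => (pos_iff u).1 hu k) (Finset.mem_univ i))

theorem eq_sim_of_W {J : Set (Ix D)} {w : W D} (hw : ∀ j ∈ J, Pos (w.1 (sim j))) {r : Rt D}
    (hr : InJ J r) {j : Ix D} (h : w.1 r = sim j) : ∃ i ∈ J, r = sim i := by
  classical
  have hp : Pos r := by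
    by_contra hp
    have := pos_of_sim_pos hw ((pos_ng r).2 hp) (InJ_ng.2 hr)
    rw [W_ng, h, pos_ng] at this
    exact this (pos_sim j)
  obtain ⟨i, hi, -⟩ := exists_A_pos hp
  have hiJ : i ∈ J := by by_contra h'; rw [hr i h'] at hi; omega
  have h1 : ∑ k, co r k * ∑ m, co (w.1 (sim k)) m = 1 := by
    have := co_aut (W_aut w) r
    have h2 : ∑ m, co (w.1 r) m = 1 := by rw [h, co_sim]; simp
    rw [← h2, this]
    simp only [Lw, LinearMap.coe_mk, AddHom.coe_mk, Finset.sum_apply, Pi.smul_apply, smul_eq_mul,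
      Finset.mul_sum]
    exact Finset.sum_comm
  have h2 : ∀ k, co r k ≤ co r k * ∑ m, co (w.1 (sim k)) m := by
    intro k
    by_cases hk : k ∈ J
    · have := one_le_ht (hw k hk)
      have := (pos_iff r).1 hp k
      nlinarith
    · rw [hr k hk]; simp
  have h3 : ∑ k, co r k ≤ 1 := h1 ▸ Finset.sum_le_sum fun k _ => h2 k
  refine ⟨i, hiJ, (eq_sim_of_co (i := i) fun k hk => ?_).resolve_right ?_⟩
  · have h4 : ∑ m ∈ {i, k}, co r m ≤ ∑ m, co r m :=
      Finset.sum_le_sum_of_subset_of_nonneg (Finset.subset_univ _) fun m _ _ => (pos_iff r).1 hp m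
    rw [Finset.sum_pair hk.symm] at h4
    have := (pos_iff r).1 hp k
    omega
  · rintro rfl
    rw [pos_ng] at hp
    exact hp (pos_sim i)

theorem Span2_InJ {J : Set (Ix D)} {r s : Rt D} (hr : InJ J r) (hs : InJ J s) :
    Span2 r s ⊆ {u | InJ J u} := by
  rintro u ⟨a, b, h⟩ k hk
  simp [h, hr k hk, hs k hk]

theorem wp_alt_two {M ι : Type*} [Group M] (g : ι → M) (i j : ι) (k : ℕ) :
    wp g (alt i j (2 * k)) = (g i * g j) ^ k := by
  induction k with
  | zero => simp
  | succ k ih => rw [mul_add, mul_one, alt_succ, alt_succ, wp_cons, wp_cons, ih, pow_succ', mul_assoc]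

theorem mem_alt {ι : Type*} (k : ℕ) : ∀ i j : ι, ∀ a ∈ alt i j k, a = i ∨ a = j := by
  induction k with
  | zero => simp
  | succ k ih =>
    intro i j a ha
    rw [alt_succ, List.mem_cons] at ha
    rcases ha with h | h
    · exact Or.inl h
    · exact (ih j i a h).symm

end Cfsg.Agent.Lie
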