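import Cfsg.Agent.Lie.TabE7

set_option autoImplicit false
set_option maxRecDepth 100000
set_option Elab.async false

namespace Cfsg.Agent.Lie

open Cfsg.Lie

theorem tabE7_chk0 : tabE7.chk0 chevE7 = true := by decide +kernel
theorem tabE7_chkI : tabE7.chkI = true := by decide +kernel
theorem tabE7_chk1_0 : allR (0 * 63) 63 (tabE7.chk1) = true := by decide +kernel
theorem tabE7_chk1_1 : allR (1 * 63) 63 (tabE7.chk1) = true := by decide +kernel
theorem tabE7_chk1 : ∀ r < tabE7.n, tabE7.chk1 r = true :=
  forall_of_chunks 2 63 (fun c hc =>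
    match c, hc with
    | 0, _ => tabE7_chk1_0
    | 1, _ => tabE7_chk1_1
    | k + 2, h => absurd h (by omega))
theorem tabE7_chk4_0p : tabE7.chk4p 93 = true := by decide +kernel
theorem tabE7_chk4_0m : tabE7.chk4p 32 = true := by decide +kernel
theorem tabE7_chk4_1p : tabE7.chk4p 78 = true := by decide +kernel
theorem tabE7_chk4_1m : tabE7.chk4p 47 = true := by decide +kernel
theorem tabE7_chk4_2p : tabE7.chk4p 73 = true := by decide +kernel
theorem tabE7_chk4_2m : tabE7.chk4p 52 = true := by decide +kernel
theorem tabE7_chk4_3p : tabE7.chk4p 69 = true := by decide +kernel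
theorem tabE7_chk4_3m : tabE7.chk4p 56 = true := by decide +kernel
theorem tabE7_chk4_4p : tabE7.chk4p 66 = true := by decide +kernel
theorem tabE7_chk4_4m : tabE7.chk4p 59 = true := by decide +kernel
theorem tabE7_chk4_5p : tabE7.chk4p 64 = true := by decide +kernel
theorem tabE7_chk4_5m : tabE7.chk4p 61 = true := by decide +kernel
theorem tabE7_chk4_6p : tabE7.chk4p 63 = true := by decide +kernel
theorem tabE7_chk4_6m : tabE7.chk4p 62 = true := by decide +kernel

end Cfsg.Agent.Lie
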