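import Cfsg.Agent.Lie.TabE8

set_option autoImplicit false
set_option maxRecDepth 100000
set_option Elab.async false

namespace Cfsg.Agent.Lie

open Cfsg.Lie

theorem tabE8_chk0 : tabE8.chk0 chevE8 = true := by decide +kernel
theorem tabE8_chkI : tabE8.chkI = true := by decide +kernel
theorem tabE8_chk1_0 : allR (0 * 60) 60 (tabE8.chk1) = true := by decide +kernel
theorem tabE8_chk1_1 : allR (1 * 60) 60 (tabE8.chk1) = true := by decide +kernel
theorem tabE8_chk1_2 : allR (2 * 60) 60 (tabE8.chk1) = true := by decide +kernel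
theorem tabE8_chk1_3 : allR (3 * 60) 60 (tabE8.chk1) = true := by decide +kernel
theorem tabE8_chk1 : ∀ r < tabE8.n, tabE8.chk1 r = true :=
  forall_of_chunks 4 60 (fun c hc =>
    match c, hc with
    | 0, _ => tabE8_chk1_0
    | 1, _ => tabE8_chk1_1
    | 2, _ => tabE8_chk1_2
    | 3, _ => tabE8_chk1_3
    | k + 4, h => absurd h (by omega))
theorem tabE8_chk4_0p : tabE8.chk4p 162 = true := by decide +kernel
theorem tabE8_chk4_0m : tabE8.chk4p 77 = true := by decide +kernel
theorem tabE8_chk4_1p : tabE8.chk4p 141 = true := by decide +kernel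
theorem tabE8_chk4_1m : tabE8.chk4p 98 = true := by decide +kernel
theorem tabE8_chk4_2p : tabE8.chk4p 135 = true := by decide +kernel
theorem tabE8_chk4_2m : tabE8.chk4p 104 = true := by decide +kernel
theorem tabE8_chk4_3p : tabE8.chk4p 130 = true := by decide +kernel
theorem tabE8_chk4_3m : tabE8.chk4p 109 = true := by decide +kernel
theorem tabE8_chk4_4p : tabE8.chk4p 126 = true := by decide +kernel
theorem tabE8_chk4_4m : tabE8.chk4p 113 = true := by decide +kernel
theorem tabE8_chk4_5p : tabE8.chk4p 123 = true := by decide +kernel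
theorem tabE8_chk4_5m : tabE8.chk4p 116 = true := by decide +kernel
theorem tabE8_chk4_6p : tabE8.chk4p 121 = true := by decide +kernel
theorem tabE8_chk4_6m : tabE8.chk4p 118 = true := by decide +kernel
theorem tabE8_chk4_7p : tabE8.chk4p 120 = true := by decide +kernel
theorem tabE8_chk4_7m : tabE8.chk4p 119 = true := by decide +kernel

end Cfsg.Agent.Lie
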