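import Cfsg.Agent.Lie.XMat

set_option autoImplicit false
set_option linter.unusedSectionVars false

/-! Chevalley's commutator formula. -/

namespace Cfsg.Agent.Lie

open Cfsg.Lie Matrix Polynomial

variable {D : ChevalleyDatum} [G : Good D]

section ode

variable {S : Type*} [CommRing S]

/-- entrywise derivative -/
noncomputable def dM (M : Matrix D.Idx D.Idx S[X]) : Matrix D.Idx D.Idx S[X] := M.map derivative

omit G in
theorem dM_mul (M M' : Matrix D.Idx D.Idx S[X]) : dM (M * M') = dM M * M' + M * dM M' := by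
  refine Matrix.ext fun a b => ?_
  simp only [dM, Matrix.mul_apply, Matrix.map_apply, Matrix.add_apply, derivative_sum, derivative_mul,
    Finset.sum_add_distrib]
omit G in
theorem dM_add (M M' : Matrix D.Idx D.Idx S[X]) : dM (M + M') = dM M + dM M' := by
  ext a b : 2
  simp [dM]
omit G in
theorem dM_sub (M M' : Matrix D.Idx D.Idx S[X]) : dM (M - M') = dM M - dM M' := by
  ext a b : 2
  simp [dM]
omit G in
theorem dM_smul (p : S[X]) (M : Matrix D.Idx D.Idx S[X]) : dM (p • M) = derivative p • M + p • dM M := by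
  ext a b : 2
  simp [dM]
omit G in
theorem dM_cM (M : Matrix D.Idx D.Idx ℤ) : dM (cM S[X] M) = 0 := by
  ext a b : 2
  simp [dM, cM_apply]
omit G in
theorem dM_one : dM (1 : Matrix D.Idx D.Idx S[X]) = 0 := by
  rw [← map_one (cM S[X]), dM_cM]

theorem dM_xR (r : Rt D) (p : S[X]) : dM (xR S[X] r p) = derivative p • ER S[X] r * xR S[X] r p := by
  rw [smul_mul_assoc, ER_mul_xR]
  simp only [xR, ER, dM_add, dM_smul, dM_cM, dM_one, derivative_pow, Nat.cast_ofNat, map_ofNat]
  module

theorem dM_adR (v : D.Idx → S[X]) : dM (adR S[X] v) = adR S[X] (fun a => derivative (v a)) := by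
  ext a b : 2
  simp [dM, adR, Fintype.linearCombination_apply, Matrix.sum_apply, cM_apply]

omit G in
theorem d_mulVec_eB (M : Matrix D.Idx D.Idx S[X]) (b : D.Idx) :
    (fun a => derivative ((M *ᵥ eB S[X] b) a)) = dM M *ᵥ eB S[X] b := by
  rw [mulVec_eB, mulVec_eB]; rfl

omit G in
theorem ode_unique [IsDomain S] [CharZero S] {P Q Y : Matrix D.Idx D.Idx S[X]} (hP : dM P = Y * P)
    (hQ : dM Q = Y * Q) (h0 : (evalRingHom 0).mapMatrix P = (evalRingHom 0).mapMatrix Q) : P = Q := by
  have h1 : dM (P - Q) = Y * (P - Q) := by rw [dM_sub, hP, hQ, mul_sub]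
  have h2 : ∀ a b, ((P - Q) a b).coeff 0 = 0 := by
    intro a b
    have := congrFun (congrFun h0 a) b
    simp only [RingHom.mapMatrix_apply, Matrix.map_apply, coe_evalRingHom] at this
    rw [coeff_zero_eq_eval_zero, Matrix.sub_apply, eval_sub, this, sub_self]
  rw [← sub_eq_zero]
  generalize P - Q = M at h1 h2
  have key : ∀ k, ∀ a b, X ^ k ∣ M a b := by
    intro k
    induction k with
    | zero => simp
    | succ k ih =>
      intro a b
      have h3 : X ^ k ∣ derivative (M a b) := by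
        have := congrFun (congrFun h1 a) b
        rw [show derivative (M a b) = dM M a b from rfl, this, Matrix.mul_apply]
        exact Finset.dvd_sum fun c _ => Dvd.dvd.mul_left (ih c b) _
      rw [X_pow_dvd_iff] at h3 ⊢
      intro d hd
      cases d with
      | zero => exact h2 a b
      | succ d =>
        have := h3 d (by omega)
        rw [coeff_derivative, mul_eq_zero] at this
        exact this.resolve_right (by exact_mod_cast Nat.succ_ne_zero d)
  ext a b k
  have := key (k + 1) a b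
  rw [X_pow_dvd_iff] at this
  simpa using this k (by omega)

end ode

section aut

variable {R : Type*} [CommRing R]

theorem isDer_ER (r : Rt D) (y : D.Idx → R) :
    adR R (ER R r *ᵥ y) = ER R r * adR R y - adR R y * ER R r := by
  have : adR R ∘ₗ Matrix.toLin' (ER R r) =
      (LinearMap.mulLeft R (ER R r) - LinearMap.mulRight R (ER R r)) ∘ₗ adR R := by
    refine lin_ext_eB fun a => ?_
    simp only [LinearMap.comp_apply, Matrix.toLin'_apply, LinearMap.sub_apply, LinearMap.mulLeft_apply,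
      LinearMap.mulRight_apply, ER, ← cV_eV, cM_mulVec, adR_cV, ← map_mul, ← map_sub]
    rw [isDer_E]
  exact LinearMap.congr_fun this y

/-- matrices compatible with the adjoint map -/
def Aut (P : Matrix D.Idx D.Idx R) : Prop := ∀ y, P * adR R y = adR R (P *ᵥ y) * P

theorem Aut.mul {P Q : Matrix D.Idx D.Idx R} (hP : Aut P) (hQ : Aut Q) : Aut (P * Q) := fun y => by
  rw [mul_assoc, hQ, ← mul_assoc, hP, Matrix.mulVec_mulVec, mul_assoc]

theorem Aut.one : Aut (1 : Matrix D.Idx D.Idx R) := fun y => by simp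

theorem aut_of_eB {P : Matrix D.Idx D.Idx R}
    (h : ∀ a, P * adR R (eB R a) = adR R (P *ᵥ eB R a) * P) : Aut P := by
  intro y
  have : LinearMap.mulLeft R P ∘ₗ adR R = LinearMap.mulRight R P ∘ₗ adR R ∘ₗ Matrix.toLin' P :=
    lin_ext_eB fun a => by simpa using h a
  exact LinearMap.congr_fun this y

theorem aut_xR (r : Rt D) (t : R) : Aut (xR R r t) := by
  refine aut_of_eB fun a => ?_
  have key : xR ℤ[X] r X * adR ℤ[X] (eB _ a) = adR ℤ[X] (xR ℤ[X] r X *ᵥ eB _ a) * xR ℤ[X] r X := by
    apply ode_unique (Y := ER _ r)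
    · rw [dM_mul, dM_xR, adR_eB, dM_cM]; simp [mul_assoc]
    · rw [dM_mul, dM_xR, dM_adR, d_mulVec_eB, dM_xR, derivative_X, one_smul, ← Matrix.mulVec_mulVec,
        isDer_ER]
      noncomm_ring
    · simp only [map_mul, map_xR, map_adR, comp_mulVec]
      simp
  have := congrArg (eval₂RingHom (Int.castRingHom R) t).mapMatrix key
  simp only [map_mul, map_xR, map_adR, comp_mulVec, comp_eB] at this
  simpa only [coe_eval₂RingHom, eval₂_X] using this

end aut

/-! ### the commutator formula -/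

/-- the product on the right of the commutator formula -/
def cwL {M R : Type*} [Monoid M] [CommRing R] (x : Rt D → R → M) (L : List (Rt D × ℤ × ℕ × ℕ)) (t u : R) : M :=
  (L.map fun c => x c.1 (c.2.1 * (-t) ^ c.2.2.1 * u ^ c.2.2.2)).prod

omit G in
@[simp] theorem cwL_nil {M R : Type*} [Monoid M] [CommRing R] (x : Rt D → R → M) (t u : R) :
    cwL x [] t u = 1 := rfl
omit G in
@[simp] theorem cwL_cons {M R : Type*} [Monoid M] [CommRing R] (x : Rt D → R → M) (v : Rt D) (c : ℤ)
    (i j : ℕ) (L : List (Rt D × ℤ × ℕ × ℕ)) (t u : R) :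
    cwL x ((v, c, i, j) :: L) t u = x v (c * (-t) ^ i * u ^ j) * cwL x L t u := rfl

/-- logarithmic derivative of the product -/
noncomputable def ldL {S : Type*} [CommRing S] (t : S) : List (Rt D × ℤ × ℕ × ℕ) → D.Idx → S[X]
  | [] => 0
  | (v, c, i, j) :: L => ((c : S[X]) * (- C t) ^ i * ((j : S[X]) * X ^ (j - 1))) • eE S[X] v +
      xR S[X] v ((c : S[X]) * (- C t) ^ i * X ^ j) *ᵥ ldL t L

theorem dM_cwL {S : Type*} [CommRing S] (t : S) (L : List (Rt D × ℤ × ℕ × ℕ)) :
    dM (cwL (xR S[X]) L (C t) X) = adR S[X] (ldL t L) * cwL (xR S[X]) L (C t) X := by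
  induction L with
  | nil => simp [dM_one, ldL]
  | cons c L ih =>
    obtain ⟨v, c, i, j⟩ := c
    rw [cwL_cons, dM_mul, ih, dM_xR, ← mul_assoc, aut_xR, ldL, map_add, map_smul, adR_eE, add_mul,
      mul_assoc, mul_assoc (adR _ _)]
    congr 2
    simp [derivative_pow]

theorem map_cwL {R S : Type*} [CommRing R] [CommRing S] (φ : R →+* S) (L : List (Rt D × ℤ × ℕ × ℕ))
    (t u : R) : φ.mapMatrix (cwL (xR R) L t u) = cwL (xR S) L (φ t) (φ u) := by
  induction L with
  | nil => simp
  | cons c L ih =>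
    obtain ⟨v, c, i, j⟩ := c
    rw [cwL_cons, cwL_cons, map_mul, ih, map_xR]; simp

theorem cwL_zero {R : Type*} [CommRing R] (L : List (Rt D × ℤ × ℕ × ℕ)) (hL : ∀ c ∈ L, 0 < c.2.2.2)
    (t : R) : cwL (xR R) L t 0 = 1 := by
  induction L with
  | nil => simp
  | cons c L ih =>
    obtain ⟨v, c, i, j⟩ := c
    have : j ≠ 0 := (hL _ List.mem_cons_self).ne'
    rw [cwL_cons, ih fun c hc => hL c (List.mem_cons_of_mem _ hc)]; simp [this]

local notation "TT" => (C X : ℤ[X][X])

theorem comm_of_ode {r s : Rt D} (L : List (Rt D × ℤ × ℕ × ℕ)) (hL : ∀ c ∈ L, 0 < c.2.2.2)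
    (h : xR ℤ[X][X] r (- TT) *ᵥ eE _ s = eE _ s + xR ℤ[X][X] s X *ᵥ ldL X L)
    {R : Type*} [CommRing R] (t u : R) :
    xR R s u * xR R r t = xR R r t * xR R s u * cwL (xR R) L t u := by
  have key : xR ℤ[X][X] r (- TT) * xR ℤ[X][X] s X * xR ℤ[X][X] r TT =
      xR ℤ[X][X] s X * cwL (xR ℤ[X][X]) L TT X := by
    apply ode_unique (Y := adR _ (xR ℤ[X][X] r (- TT) *ᵥ eE _ s))
    · simp only [dM_mul, dM_xR, derivative_neg, derivative_C, derivative_X, neg_zero, zero_smul, zero_mul,
        mul_zero, zero_add, add_zero, one_smul]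
      rw [← adR_eE, ← mul_assoc, aut_xR]
      simp only [mul_assoc]
    · rw [dM_mul, dM_cwL, dM_xR, h, ← mul_assoc, aut_xR, map_add, adR_eE, add_mul]
      simp only [mul_assoc, derivative_X, one_smul]
    · simp only [map_mul, map_xR, map_cwL, coe_evalRingHom, eval_X, xR_zero, eval_neg, eval_C,
        cwL_zero L hL, mul_one, xR_neg_mul]
  have := congrArg (eval₂RingHom (eval₂RingHom (Int.castRingHom R) t) u).mapMatrix key
  simp only [map_mul, map_xR, map_cwL, coe_eval₂RingHom, eval₂_X, map_neg, eval₂_C] at this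
  rw [mul_assoc, ← this, ← mul_assoc, ← mul_assoc, xR_mul_neg, one_mul]

theorem ne_ng_comb {r s : Rt D} (h : N r s ≠ 0) {u v : Rt D} {i j k l : ℤ}
    (hu : co u = i • co r + j • co s) (hv : co v = k • co r + l • co s) (hj : j + l ≠ 0) : u ≠ ng v :=
  ne_ng_of_comb (ne_of_N h).1 (ne_of_N h).2 (i := i + k) hj (by rw [hu, hv]; module)

variable {R : Type*} [CommRing R]

theorem comm0 {r s : Rt D} (h : s ≠ ng r) (h0 : N r s = 0) (t u : R) :
    xR R s u * xR R r t = xR R r t * xR R s u := by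
  have := comm_of_ode (r := r) (s := s) [] (by simp) (by simp [ldL, xR_eE_of_N h h0]) t u
  simpa using this

theorem co_s (r s : Rt D) : co s = (0 : ℤ) • co r + (1 : ℤ) • co s := by simp
theorem co_a {r s : Rt D} (h : N r s ≠ 0) : co (add r s) = (1 : ℤ) • co r + (1 : ℤ) • co s := by
  simp [add_co h]
theorem co_b {r s : Rt D} (h : N r s ≠ 0) (h2 : N r (add r s) ≠ 0) :
    co (add r (add r s)) = (2 : ℤ) • co r + (1 : ℤ) • co s := by simp [co_add2 h h2]
theorem co_b' {r s : Rt D} (h : N r s ≠ 0) (h2 : N s (add r s) ≠ 0) :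
    co (add s (add r s)) = (1 : ℤ) • co r + (2 : ℤ) • co s := by rw [add_co h2, add_co h]; module
theorem co_c {r s : Rt D} (h : N r s ≠ 0) (h2 : N r (add r s) ≠ 0) (h3 : N r (add r (add r s)) ≠ 0) :
    co (add r (add r (add r s))) = (3 : ℤ) • co r + (1 : ℤ) • co s := by simp [co_add3 h h2 h3]
theorem co_d {r s : Rt D} (h : N r s ≠ 0) (h2 : N r (add r s) ≠ 0) (h3 : N r (add r (add r s)) ≠ 0)
    (h4 : N (add r (add r (add r s))) s ≠ 0) :
    co (add (add r (add r (add r s))) s) = (3 : ℤ) • co r + (2 : ℤ) • co s := by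
  rw [add_co h4, co_add3 h h2 h3]; module

theorem comm11 {r s : Rt D} (h : N r s ≠ 0) (h1 : N r (add r s) = 0) (h2 : N s (add r s) = 0) (t u : R) :
    xR R s u * xR R r t = xR R r t * xR R s u * cwL (xR R) [(add r s, N r s, 1, 1)] t u := by
  refine comm_of_ode _ (by simp) ?_ t u
  simp only [ldL, Matrix.mulVec_zero, add_zero, Matrix.mulVec_smul, xR_eE_of_N2 (ne_of_N h).2 h1,
    xR_eE_of_N (ne_ng_comb h (co_a h) (co_s r s) (by decide)) h2]
  module

theorem comm21 {r s : Rt D} (h : N r s ≠ 0) (h1 : N r (add r s) ≠ 0) (h2 : N s (add r s) = 0)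
    (h3 : N r (add r (add r s)) = 0) (t u : R) :
    xR R s u * xR R r t = xR R r t * xR R s u *
      cwL (xR R) [(add r s, N r s, 1, 1), (add r (add r s), M2 r s, 2, 1)] t u := by
  obtain ⟨h4, h5⟩ : N s (add r (add r s)) = 0 ∧ N (add r s) (add r (add r s)) = 0 :=
    (G.is.shape r r.2 s s.2 h).1 h1 h2 h3
  refine comm_of_ode _ (by simp) ?_ t u
  simp only [ldL, Matrix.mulVec_zero, add_zero, Matrix.mulVec_smul, Matrix.mulVec_add, xR_eE (ne_of_N h).2,
    M3_eq_zero (Or.inr (Or.inr h3)),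
    xR_eE_of_N (ne_ng_comb h (co_a h) (co_s r s) (by decide)) h2,
    xR_eE_of_N (ne_ng_comb h (co_b h h1) (co_s r s) (by decide)) h4,
    xR_eE_of_N (ne_ng_comb h (co_b h h1) (co_a h) (by decide)) h5]
  module

theorem comm12 {r s : Rt D} (h : N r s ≠ 0) (h1 : N r (add r s) = 0) (h2 : N s (add r s) ≠ 0)
    (h3 : N s (add s (add r s)) = 0) (t u : R) :
    xR R s u * xR R r t = xR R r t * xR R s u *
      cwL (xR R) [(add r s, N r s, 1, 1), (add s (add r s), M2 s r, 1, 2)] t u := by
  have h' : N s r ≠ 0 := by rw [N_anti]; simpa using h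
  have e := add_comm' h
  obtain ⟨-, h5⟩ : N r (add s (add s r)) = 0 ∧ N (add s r) (add s (add s r)) = 0 :=
    (G.is.shape s s.2 r r.2 h').1 (by change N s (add s r) ≠ 0; rwa [e])
      (by change N r (add s r) = 0; rwa [e]) (by change N s (add s (add s r)) = 0; rwa [e])
  rw [e] at h5
  have h6 := two_M2 s r
  rw [e, N_anti r s] at h6
  have h7 : (2 * M2 s r : ℤ[X][X]) = - N r s * N s (add r s) := by exact_mod_cast congrArg Int.cast h6
  refine comm_of_ode _ (by simp) ?_ t u
  simp only [ldL, Matrix.mulVec_zero, add_zero, Matrix.mulVec_smul, Matrix.mulVec_add,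
    xR_eE_of_N2 (ne_of_N h).2 h1,
    xR_eE_of_N2 (ne_ng_comb h (co_a h) (co_s r s) (by decide)) h3,
    xR_eE_of_N (ne_ng_comb h (co_b' h h2) (co_s r s) (by decide)) h3,
    xR_eE_of_N (ne_ng_comb h (co_b' h h2) (co_a h) (by decide)) h5]
  match_scalars
  · ring
  · ring
  · push_cast; linear_combination (TT * X) * h7

theorem comm22 {r s : Rt D} (h : N r s ≠ 0) (h1 : N r (add r s) ≠ 0) (h2 : N s (add r s) ≠ 0)
    (t u : R) :
    xR R s u * xR R r t = xR R r t * xR R s u * cwL (xR R)
      [(add r s, N r s, 1, 1), (add r (add r s), M2 r s, 2, 1), (add s (add r s), M2 s r, 1, 2)] t u := by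
  obtain ⟨h3, h4, h5, h6, h7, h8⟩ : N r (add r (add r s)) = 0 ∧ N s (add s (add r s)) = 0 ∧
      N s (add r (add r s)) = 0 ∧ N (add r s) (add r (add r s)) = 0 ∧ N (add r s) (add s (add r s)) = 0 ∧
      N (add r (add r s)) (add s (add r s)) = 0 := (G.is.shape r r.2 s s.2 h).2.2 h1 h2
  have h9 := two_M2 s r
  rw [add_comm' h, N_anti r s] at h9
  have h10 : (2 * M2 s r : ℤ[X][X]) = - N r s * N s (add r s) := by exact_mod_cast congrArg Int.cast h9
  refine comm_of_ode _ (by simp) ?_ t u
  simp only [ldL, Matrix.mulVec_zero, add_zero, Matrix.mulVec_smul, Matrix.mulVec_add,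
    xR_eE (ne_of_N h).2, M3_eq_zero (Or.inr (Or.inr h3)),
    xR_eE_of_N2 (ne_ng_comb h (co_a h) (co_s r s) (by decide)) h4,
    xR_eE_of_N (ne_ng_comb h (co_b h h1) (co_s r s) (by decide)) h5,
    xR_eE_of_N (ne_ng_comb h (co_b h h1) (co_a h) (by decide)) h6,
    xR_eE_of_N (ne_ng_comb h (co_b' h h2) (co_s r s) (by decide)) h4,
    xR_eE_of_N (ne_ng_comb h (co_b' h h2) (co_a h) (by decide)) h7,
    xR_eE_of_N (ne_ng_comb h (co_b' h h2) (co_b h h1) (by decide)) h8]
  match_scalars
  · ring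
  · ring
  · ring
  · ring
  · push_cast; linear_combination (TT * X) * h10

theorem shape31 {r s : Rt D} (h : N r s ≠ 0) (h1 : N r (add r s) ≠ 0) (h2 : N s (add r s) = 0)
    (h3 : N r (add r (add r s)) ≠ 0) :
    N s (add r (add r s)) = 0 ∧ N (add r (add r (add r s))) s ≠ 0 ∧
    N (add r s) (add r (add r (add r s))) = 0 ∧ N (add r (add r s)) (add r (add r (add r s))) = 0 ∧
    N s (add (add r (add r (add r s))) s) = 0 ∧ N (add r s) (add (add r (add r (add r s))) s) = 0 ∧
    N (add r (add r s)) (add (add r (add r (add r s))) s) = 0 ∧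
    N (add r (add r (add r s))) (add (add r (add r (add r s))) s) = 0 ∧
    -2 * (M2 (add r s) r / 3) = M3 r s * N s (add r (add r (add r s))) +
        N r s * M2 r s * N (add r s) (add r (add r s)) ∧
    -2 * M2 (add r s) r / 3 = M2 (add r s) r / 3 + N (add r s) (add r (add r s)) * N r s * M2 r s :=
  (G.is.shape r r.2 s s.2 h).2.1 h1 h2 h3

theorem comm31 {r s : Rt D} (h : N r s ≠ 0) (h1 : N r (add r s) ≠ 0) (h2 : N s (add r s) = 0)
    (h3 : N r (add r (add r s)) ≠ 0) (t u : R) :
    xR R s u * xR R r t = xR R r t * xR R s u * cwL (xR R)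
      [(add r s, N r s, 1, 1), (add r (add r s), M2 r s, 2, 1), (add r (add r (add r s)), M3 r s, 3, 1),
        (add (add r (add r (add r s))) s, M2 (add r s) r / 3, 3, 2)] t u := by
  obtain ⟨h4, h5, h6, h7, h8, h9, h10, h11, h12, -⟩ := shape31 h h1 h2 h3
  have ca := co_a h
  have cb := co_b h h1
  have cc := co_c h h1 h3
  have cd := co_d h h1 h3 h5
  have e1 : add (add r s) (add r (add r s)) = add (add r (add r (add r s))) s :=
    add_eq (by rw [ca, cb, cd]; module)
  have e2 : add s (add r (add r (add r s))) = add (add r (add r (add r s))) s := add_comm' h5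
  have h13 := congrArg (Int.cast : ℤ → ℤ[X][X]) h12
  push_cast at h13
  refine comm_of_ode _ (by simp) ?_ t u
  simp only [ldL, Matrix.mulVec_zero, add_zero, Matrix.mulVec_smul, Matrix.mulVec_add,
    xR_eE (ne_of_N h).2,
    xR_eE_of_N (ne_ng_comb h ca (co_s r s) (by decide)) h2,
    xR_eE_of_N (ne_ng_comb h cb (co_s r s) (by decide)) h4,
    xR_eE_of_N2 (ne_ng_comb h cb ca (by decide)) (e1 ▸ h9),
    xR_eE_of_N2 (ne_ng_comb h cc (co_s r s) (by decide)) (e2 ▸ h8),
    xR_eE_of_N (ne_ng_comb h cc ca (by decide)) h6,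
    xR_eE_of_N (ne_ng_comb h cc cb (by decide)) h7,
    xR_eE_of_N (ne_ng_comb h cd (co_s r s) (by decide)) h8,
    xR_eE_of_N (ne_ng_comb h cd ca (by decide)) h9,
    xR_eE_of_N (ne_ng_comb h cd cb (by decide)) h10,
    xR_eE_of_N (ne_ng_comb h cd cc (by decide)) h11, e1, e2]
  match_scalars
  · ring
  · ring
  · ring
  · ring
  · push_cast; linear_combination (- TT ^ 3 * X) * h13

theorem comm13 {r s : Rt D} (h : N r s ≠ 0) (h1 : N r (add r s) ≠ 0) (h2 : N s (add r s) = 0)
    (h3 : N r (add r (add r s)) ≠ 0) (t u : R) :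
    xR R r u * xR R s t = xR R s t * xR R r u * cwL (xR R)
      [(add r s, N s r, 1, 1), (add r (add r s), M2 r s, 1, 2), (add r (add r (add r s)), - M3 r s, 1, 3),
        (add (add r (add r (add r s))) s, -2 * M2 (add r s) r / 3, 2, 3)] t u := by
  obtain ⟨h4, h5, h6, h7, h8, h9, h10, h11, -, h12⟩ := shape31 h h1 h2 h3
  have ca := co_a h
  have cb := co_b h h1
  have cc := co_c h h1 h3
  have cd := co_d h h1 h3 h5
  have e0 : co (add (add r (add r (add r s))) s) = co (add r s) + co (add r (add r s)) := by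
    rw [ca, cb, cd]; module
  have e1 := add_eq e0
  have k1 := fun a b : R => comm11 (N_ne e0) (e1 ▸ h9) (e1 ▸ h10) a b
  have k2 := fun a b : R => comm0 (ne_ng_comb h cc ca (by decide)) h6 a b
  have k3 := fun a b : R => comm0 (ne_ng_comb h cc cb (by decide)) h7 a b
  have k4 := fun a b : R => comm0 (ne_ng_comb h cd ca (by decide)) h9 a b
  have k5 := fun a b : R => comm0 (ne_ng_comb h cd cb (by decide)) h10 a b
  have k6 := fun a b : R => comm0 (ne_ng_comb h cd cc (by decide)) h11 a b
  rw [comm31 h h1 h2 h3, h12, N_anti r s, mul_assoc]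
  simp only [cwL_cons, cwL_nil, mul_one, e1] at k1 ⊢
  generalize add (add r (add r (add r s))) s = d at *
  generalize add r (add r (add r s)) = c at *
  generalize add r (add r s) = b at *
  generalize add r s = a at *
  conv_lhs => rw [← mul_one (_ * _)]
  congr 1
  have l2 : ∀ p q M, xR R c p * (xR R a q * M) = xR R a q * (xR R c p * M) := fun p q M => by
    rw [← mul_assoc, k2, mul_assoc]
  have l3 : ∀ p q M, xR R c p * (xR R b q * M) = xR R b q * (xR R c p * M) := fun p q M => by
    rw [← mul_assoc, k3, mul_assoc]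
  have l4 : ∀ p q M, xR R d p * (xR R a q * M) = xR R a q * (xR R d p * M) := fun p q M => by
    rw [← mul_assoc, k4, mul_assoc]
  have l5 : ∀ p q M, xR R d p * (xR R b q * M) = xR R b q * (xR R d p * M) := fun p q M => by
    rw [← mul_assoc, k5, mul_assoc]
  have l6 : ∀ p q M, xR R d p * (xR R c q * M) = xR R c q * (xR R d p * M) := fun p q M => by
    rw [← mul_assoc, k6, mul_assoc]
  have l1 : ∀ p q M, xR R b p * (xR R a q * M) =
      xR R a q * (xR R b p * (xR R d (N a b * (-q) ^ 1 * p ^ 1) * M)) := fun p q M => by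
    rw [← mul_assoc, k1, mul_assoc, mul_assoc]
  have l0 : ∀ (v : Rt D) p q M, xR R v p * (xR R v q * M) = xR R v (p + q) * M := fun v p q M => by
    rw [← mul_assoc, xR_add]
  simp only [mul_assoc (xR R _ _), l1, l2, l3, l4, l5, l6, l0, xR_add]
  symm
  have z : ∀ (v : Rt D) (p : R) M, p = 0 → M = 1 → xR R v p * M = 1 := by
    rintro v _ _ rfl rfl; simp
  refine z _ _ _ (by push_cast; ring) (z _ _ _ (by ring) (z _ _ _ (by push_cast; ring) ?_))
  rw [← xR_zero d]
  congr 1
  push_cast; ring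

/-- the terms of the commutator formula -/
def cT (r s : Rt D) : List (Rt D × ℤ × ℕ × ℕ) :=
  if N r s = 0 then [] else
  if N r (add r s) = 0 then
    if N s (add r s) = 0 then [(add r s, N r s, 1, 1)]
    else if N s (add s (add r s)) = 0 then [(add r s, N r s, 1, 1), (add s (add r s), M2 s r, 1, 2)]
    else [(add r s, N r s, 1, 1), (add s (add r s), M2 s r, 1, 2), (add s (add s (add r s)), - M3 s r, 1, 3),
      (add (add s (add s (add r s))) r, -2 * M2 (add r s) s / 3, 2, 3)]
  else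
    if N s (add r s) = 0 then
      if N r (add r (add r s)) = 0 then [(add r s, N r s, 1, 1), (add r (add r s), M2 r s, 2, 1)]
      else [(add r s, N r s, 1, 1), (add r (add r s), M2 r s, 2, 1), (add r (add r (add r s)), M3 r s, 3, 1),
        (add (add r (add r (add r s))) s, M2 (add r s) r / 3, 3, 2)]
    else [(add r s, N r s, 1, 1), (add r (add r s), M2 r s, 2, 1), (add s (add r s), M2 s r, 1, 2)]

theorem N_ne_symm {r s : Rt D} (h : N r s ≠ 0) : N s r ≠ 0 := by rw [N_anti]; simpa using h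

theorem xR_comm {r s : Rt D} (h : s ≠ ng r) (t u : R) :
    xR R s u * xR R r t = xR R r t * xR R s u * cwL (xR R) (cT r s) t u := by
  unfold cT
  split_ifs with h0 h1 h2 h3 h2 h3
  · simpa using comm0 h h0 t u
  · exact comm11 h0 h1 h2 t u
  · exact comm12 h0 h1 h2 h3 t u
  · rw [← add_comm' h0] at h1 h2 h3 ⊢
    exact comm13 (N_ne_symm h0) h2 h1 h3 t u
  · exact comm21 h0 h1 h2 h3 t u
  · exact comm31 h0 h1 h2 h3 t u
  · exact comm22 h0 h1 h2 t u

theorem mem_cT {r s : Rt D} {c : Rt D × ℤ × ℕ × ℕ} (hc : c ∈ cT r s) :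
    co c.1 = (c.2.2.1 : ℤ) • co r + (c.2.2.2 : ℤ) • co s ∧ 0 < c.2.2.1 ∧ 0 < c.2.2.2 := by
  unfold cT at hc
  split_ifs at hc with h0 h1 h2 h3 h2 h3
  · simp at hc
  · simp only [List.mem_singleton] at hc
    subst hc; simp [co_a h0]
  · simp only [List.mem_cons, List.not_mem_nil, or_false] at hc
    rcases hc with rfl | rfl <;> simp [co_a h0, co_b' h0 h2]
  · rw [← add_comm' h0] at h1 h2 h3 hc
    have h5 := (shape31 (N_ne_symm h0) h2 h1 h3).2.1
    simp only [List.mem_cons, List.not_mem_nil, or_false] at hc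
    rcases hc with rfl | rfl | rfl | rfl <;>
      simp [co_a (N_ne_symm h0), co_b (N_ne_symm h0) h2, co_c (N_ne_symm h0) h2 h3,
        co_d (N_ne_symm h0) h2 h3 h5, add_comm]
  · simp only [List.mem_cons, List.not_mem_nil, or_false] at hc
    rcases hc with rfl | rfl <;> simp [co_a h0, co_b h0 h1]
  · have h5 := (shape31 h0 h1 h2 h3).2.1
    simp only [List.mem_cons, List.not_mem_nil, or_false] at hc
    rcases hc with rfl | rfl | rfl | rfl <;> simp [co_a h0, co_b h0 h1, co_c h0 h1 h3, co_d h0 h1 h3 h5]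
  · simp only [List.mem_cons, List.not_mem_nil, or_false] at hc
    rcases hc with rfl | rfl | rfl <;> simp [co_a h0, co_b h0 h1, co_b' h0 h2]

theorem chainRoot_one (r s : Rt D) :
    D.chainRoot r s 1 = if N r s = 0 then none else some (add r s : ℕ) := by
  rw [ChevalleyDatum.chainRoot, chainEntry_eq', chainL_eq]; split_ifs <;> rfl
theorem chainRoot_two (r s : Rt D) : D.chainRoot r s 2 =
    if N r s = 0 then none else if N r (add r s) = 0 then none else some (add r (add r s) : ℕ) := by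
  rw [ChevalleyDatum.chainRoot, chainEntry_eq', chainL_eq]; split_ifs <;> rfl
theorem chainRoot_three (r s : Rt D) : D.chainRoot r s 3 =
    if N r s = 0 then none else if N r (add r s) = 0 then none else
      if N r (add r (add r s)) = 0 then none else some (add r (add r (add r s)) : ℕ) := by
  rw [ChevalleyDatum.chainRoot, chainEntry_eq', chainL_eq]; split_ifs <;> rfl
theorem chainM_one (r s : Rt D) : D.chainM r s 1 = N r s := by
  rw [ChevalleyDatum.chainM, chainEntry_eq', chainL_eq]; split_ifs with h <;> simp [h]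
theorem chainM_two (r s : Rt D) : D.chainM r s 2 = M2 r s := by
  rw [ChevalleyDatum.chainM, chainEntry_eq', chainL_eq]
  split_ifs with h h' <;> simp
  · rw [M2_eq_zero (Or.inl h)]
  · rw [M2_eq_zero (Or.inr h')]
theorem chainM_three (r s : Rt D) : D.chainM r s 3 = M3 r s := by
  rw [ChevalleyDatum.chainM, chainEntry_eq', chainL_eq]
  split_ifs with h h' h'' <;> simp
  · rw [M3_eq_zero (Or.inl h)]
  · rw [M3_eq_zero (Or.inr (Or.inl h'))]
  · rw [M3_eq_zero (Or.inr (Or.inr h''))]

theorem commTerms_eq (r s : Rt D) : D.commTerms r s = (cT r s).map fun c => ((c.1 : ℕ), c.2) := by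
  simp only [ChevalleyDatum.commTerms, chainRoot_one, chainRoot_two, chainRoot_three, chainM_one, chainM_two,
    chainM_three, cT]
  by_cases h0 : N r s = 0
  · have : N s r = 0 := by rw [N_anti, h0, neg_zero]
    simp [h0, this]
  have h0' := N_ne_symm h0
  rw [add_comm' h0]
  simp only [h0, h0', if_false]
  split_ifs with h1 h2 h3 h2 h3 h3 h4 h4
  · simp
  · simp
  · rw [← add_comm' h0] at h1 h2 h3 ⊢
    have h5 := (shape31 h0' h2 h1 h3).2.1
    simp [chainRoot_one, chainM_two, h5]
  · simp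
  · have h5 := (shape31 h0 h1 h2 h3).2.1
    simp [chainRoot_one, chainM_two, h5]
  · simp
  · exact absurd ((G.is.shape r r.2 s s.2 h0).2.2 h1 h2).2.1 h4
  · exact absurd ((G.is.shape r r.2 s s.2 h0).2.2 h1 h2).1 h3
  · exact absurd ((G.is.shape r r.2 s s.2 h0).2.2 h1 h2).1 h3

theorem wordMat_commWord (F : Type*) [Field F] (r s : Rt D) (t u : F) :
    D.wordMat F (D.commWord F r s t u) = cwL (xR F) (cT r s) t u := by
  simp only [ChevalleyDatum.wordMat, ChevalleyDatum.commWord, commTerms_eq, List.map_map, cwL]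
  congr 1
  refine List.map_congr_left fun c _ => ?_
  simp [x_eq]

end Cfsg.Agent.Lie
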