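import Cfsg.Agent.Lie.MatGrp

set_option autoImplicit false
set_option linter.unusedSectionVars false
set_option linter.unusedSimpArgs false

/-! Checkers for computations in Weyl groups and tori. -/

namespace Cfsg.Agent.Lie

open Cfsg.Lie
open scoped Matrix MatrixGroups commutatorElement

variable {D : ChevalleyDatum} [G : Good D]

/-- matrices as lists of rows -/
def mL (L : List (List ℤ)) (i j : ℕ) : ℤ := (L.getD i []).getD j 0

/-- the Cartan matrix of `D` is `C` -/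
def CartanIs (D : ChevalleyDatum) (C : List (List ℤ)) : Prop :=
  ∀ i < D.rank, ∀ j < D.rank, D.cartan i (D.simple j) = mL C i j

instance instDecCartanIs (D : ChevalleyDatum) (C : List (List ℤ)) : Decidable (CartanIs D C) := by
  unfold CartanIs; infer_instance

omit G in
theorem CartanIs.ca [Good D] {C : List (List ℤ)} (h : CartanIs D C) (i j : Ix D) : ca i (sim j) = mL C i j :=
  h i i.2 j j.2

/-- action of a word on a weight -/
def actN (C : List (List ℤ)) : List ℕ → (ℕ → ℤ) → ℕ → ℤ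
  | [], v => v
  | j :: L, v => fun i => actN C L v i - mL C i j * actN C L v j

/-- fundamental reflections indexed by natural numbers -/
def swN (i : ℕ) : W D := if h : i < D.rank then sw ⟨i, h⟩ else 1

/-- the element of the Weyl group given by a word -/
def toW (L : List ℕ) : W D := wp swN L

theorem swN_val (i : Ix D) : swN (i : ℕ) = sw i := dif_pos i.2

theorem toW_append (L L' : List ℕ) : (toW (L ++ L') : W D) = toW L * toW L' := wp_append _ _ _

theorem toW_pow (L : List ℕ) (k : ℕ) : (toW L : W D) ^ k = toW (List.replicate k L).flatten := by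
  induction k with
  | zero => simp [toW]
  | succ k ih => rw [pow_succ', ih, List.replicate_succ, List.flatten_cons, toW_append]

theorem act_toW {C : List (List ℤ)} (hC : CartanIs D C) {L : List ℕ} (hL : ∀ j ∈ L, j < D.rank) (v : ℕ → ℤ) :
    act (toW L) (fun i : Ix D => v i) = fun i : Ix D => actN C L v i := by
  induction L with
  | nil => exact act_one _
  | cons j L ih =>
    have hj := hL j List.mem_cons_self
    funext i
    rw [toW, wp_cons, act_mul, ← toW, ih fun k hk => hL k (List.mem_cons_of_mem _ hk), swN, dif_pos hj,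
      act_sw, hC.ca]
    rfl

/-- checker for the order of a word -/
noncomputable def ordChk (C : List (List ℤ)) (l : ℕ) (L : List ℕ) (m : ℕ) : Bool :=
  Nat.blt 0 m && L.all (fun j => Nat.blt j l) &&
  allLt l (fun j => decide (actN C (List.replicate m L).flatten (fun _ => 1) j = 1)) &&
  allLt m fun k => Nat.beq k 0 || anyLt l fun j => ! decide (actN C (List.replicate k L).flatten (fun _ => 1) j = 1)

theorem orderOf_toW {C : List (List ℤ)} (hC : CartanIs D C) {L : List ℕ} {m : ℕ}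
    (h : ordChk C D.rank L m = true) : orderOf (toW L : W D) = m := by
  simp only [ordChk, Bool.and_eq_true, Nat.blt_eq, List.all_eq_true, allLt_iff, decide_eq_true_eq,
    Bool.or_eq_true, Nat.beq_eq] at h
  obtain ⟨⟨⟨h1, h2⟩, h3⟩, h4⟩ := h
  have hL : ∀ k, ∀ j ∈ (List.replicate k L).flatten, j < D.rank := by
    intro k j hj
    obtain ⟨L', h5, h6⟩ := List.mem_flatten.1 hj
    exact h2 j (List.eq_of_mem_replicate h5 ▸ h6)
  rw [orderOf_eq_iff h1]
  refine ⟨eq_one_of_act ?_, fun k hk hk0 e => ?_⟩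
  · rw [toW_pow, act_toW hC (hL m) (fun _ => 1)]
    exact funext fun i => h3 i i.2
  · obtain ⟨j, hj, h5⟩ := anyLt_spec ((h4 k hk).resolve_left hk0.ne')
    have := act_toW hC (hL k) (fun _ => 1)
    rw [← toW_pow, e, act_one] at this
    simp [← congrFun this ⟨j, hj⟩] at h5

theorem orderOf_sw_mul {C : List (List ℤ)} (hC : CartanIs D C) {M : ℕ → ℕ → ℕ}
    (h : allLt D.rank (fun i => allLt D.rank fun j => ordChk C D.rank [i, j] (M i j)) = true) (i j : Ix D) :
    M i j = orderOf (sw i * sw j) := by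
  rw [← orderOf_toW hC (allLt_spec (allLt_spec h i i.2) j j.2)]
  simp [toW, swN_val]

/-- checker for the order of a word, with the orbit of the Weyl vector as a certificate -/
noncomputable def ordChk2 (C : List (List ℤ)) (l : ℕ) (L : List ℕ) (m O : ℕ) : Bool :=
  Nat.blt 0 m && L.all (fun j => Nat.blt j l) &&
  allLt l (fun j => decide (sbyte O j = 1) && decide (sbyte O (m * 8 + j) = 1)) &&
  allLt m fun k => (Nat.beq k 0 || anyLt l fun j => ! decide (sbyte O (k * 8 + j) = 1)) &&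
    allLt l fun j => decide (actN C L (fun j => sbyte O (k * 8 + j)) j = sbyte O ((k + 1) * 8 + j))

theorem orderOf_toW2 {C : List (List ℤ)} (hC : CartanIs D C) {L : List ℕ} {m O : ℕ}
    (h : ordChk2 C D.rank L m O = true) : orderOf (toW L : W D) = m := by
  simp only [ordChk2, Bool.and_eq_true, Nat.blt_eq, List.all_eq_true, allLt_iff, decide_eq_true_eq,
    Bool.or_eq_true, Nat.beq_eq] at h
  obtain ⟨⟨⟨h1, h2⟩, h3⟩, h4⟩ := h
  have key : ∀ k ≤ m, act (toW L ^ k) (fun _ => 1) = fun j : Ix D => sbyte O (k * 8 + j) := by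
    intro k hk
    induction k with
    | zero => funext j; simpa using (h3 j j.2).1.symm
    | succ k ih =>
      rw [pow_succ', act_mul, ih (by omega), act_toW hC h2 (fun j => sbyte O (k * 8 + j))]
      exact funext fun j => (h4 k hk).2 j j.2
  rw [orderOf_eq_iff h1]
  refine ⟨eq_one_of_act ?_, fun k hk hk0 e => ?_⟩
  · rw [key m le_rfl]
    exact funext fun i => (h3 i i.2).2
  · obtain ⟨j, hj, h5⟩ := anyLt_spec ((h4 k hk).1.resolve_left hk0.ne')
    have := key k hk.le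
    rw [e, act_one] at this
    simp [← congrFun this ⟨j, hj⟩] at h5

theorem exists_cox {C : List (List ℤ)} (hC : CartanIs D C) (M : CoxeterMatrix (Ix D)) (M' : List (List ℕ))
    (hM : ∀ i j, M i j = (M'.getD i []).getD j 0)
    (h : allLt D.rank (fun i => allLt D.rank fun j => ordChk C D.rank [i, j] ((M'.getD i []).getD j 0)) = true) :
    ∃ e : W D ≃* M.Group, ∀ i, e (sw i) = M.simple i := by
  obtain ⟨cs, hcs⟩ := exch_sw.exists_coxeterSystem invGen_sw M fun i j => by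
    rw [hM]; exact orderOf_sw_mul hC (M := fun i j => (M'.getD i []).getD j 0) h i j
  exact ⟨cs.mulEquiv, fun i => by rw [← hcs]; exact cs.mulEquiv.apply_symm_apply _⟩

theorem orderOf_coxeter {M : CoxeterMatrix (Ix D)} (e : W D ≃* M.Group) (he : ∀ i, e (sw i) = M.simple i) :
    orderOf ((List.finRange D.rank).map M.simple).prod = orderOf (toW (List.range D.rank) : W D) := by
  rw [← e.orderOf_eq, toW, wp, map_list_prod, ← List.map_coe_finRange_eq_range, List.map_map, List.map_map]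
  congr 2
  exact List.map_congr_left fun i _ => by simp [swN_val, he]

theorem toW_mem_WJ {J : Set (Ix D)} {L : List ℕ} (h : ∀ j ∈ L, ∀ hj : j < D.rank, ⟨j, hj⟩ ∈ J) :
    (toW L : W D) ∈ WJ J := by
  refine Subgroup.list_prod_mem _ fun g hg => ?_
  obtain ⟨j, hj, rfl⟩ := List.mem_map.1 hg
  unfold swN
  split_ifs with h1
  exacts [sw_mem_WJ (h j hj h1), one_mem _]

/-- description of the orbits and of the longest elements -/
structure OrbData (D : ChevalleyDatum) [Good D] (ρ0 : Equiv.Perm (Ix D)) (ob wd : ℕ → List ℕ) : Prop where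
  mem : ∀ i j : Ix D, j ∈ orb ρ0 i ↔ (j : ℕ) ∈ ob i
  lt : ∀ i < D.rank, ∀ j ∈ ob i, j < D.rank
  wlt : ∀ i < D.rank, ∀ j ∈ wd i, j < D.rank
  eq : ∀ i : Ix D, gO ρ0 i = toW (wd i)

theorem orbData_one : OrbData D 1 (fun i => [i]) (fun i => [i]) where
  mem i j := by simp [orb_one, Fin.val_inj]
  lt i hi := by simpa
  wlt i hi := by simpa
  eq i := by simp [gO_one, toW, swN_val]

theorem orbData_of {C : List (List ℤ)} (hC : CartanIs D C) {ρ0 : Equiv.Perm (Ix D)} {ob wd : ℕ → List ℕ}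
    (h1 : ∀ i j : Ix D, j ∈ orb ρ0 i ↔ (j : ℕ) ∈ ob i)
    (h2 : ∀ i < D.rank, ∀ j ∈ ob i, j < D.rank ∧ actN C (wd i) (fun _ => 1) j < 0)
    (h3 : ∀ i < D.rank, ∀ j ∈ wd i, j ∈ ob i) : OrbData D ρ0 ob wd where
  mem := h1
  lt i hi j hj := (h2 i hi j hj).1
  wlt i hi j hj := (h2 i hi j (h3 i hi j hj)).1
  eq i := by
    rw [← gO_inv, eq_comm, eq_inv_iff_mul_eq_one, ← inv_eq_iff_mul_eq_one]
    refine eq_w0J (inv_mem (toW_mem_WJ fun j hj hj' => (h1 i _).2 (h3 i i.2 j hj))) fun j hj hp => ?_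
    have h4 := wt_nonneg (K := Set.univ) (v := fun _ => 1) (fun _ _ => zero_le_one) hp
      (fun _ h => absurd trivial h)
    have h5 := congrFun (act_toW hC (fun k hk => (h2 i i.2 k (h3 i i.2 k hk)).1) (fun _ => 1)) j
    have := (h2 i i.2 j ((h1 i j).1 hj)).2
    rw [act] at h5
    omega

/-- checker for one step of the Poincaré recursion -/
noncomputable def pchk (C : List (List ℤ)) (l : ℕ) (ob wd : ℕ → List ℕ) (m : ℕ → ℕ) (K K' : List ℕ)
    (E : List ℕ) (O nxt par : ℕ) : Bool :=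
  Nat.blt 0 E.length && Nat.beq (E.getD 0 0) 0 &&
  allLt l (fun i => (ob i).all (fun j => decide (j ∈ K ↔ i ∈ K)) && decide (i ∈ K → 0 ≤ sbyte O i) &&
    decide (i ∈ K' ↔ i ∈ K ∧ ∀ j ∈ ob i, sbyte O j = 0)) &&
  allLt E.length fun k =>
    K.all (fun i => Nat.blt (byte nxt (k * 8 + i)) E.length && allLt l fun j =>
      decide (actN C (wd i) (fun j => sbyte O (k * 8 + j)) j = sbyte O (byte nxt (k * 8 + i) * 8 + j))) &&
    (Nat.beq k 0 || (Nat.blt (byte nxt (k * 8 + byte par k)) k && Nat.blt (byte par k) l &&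
      decide (byte par k ∈ K) &&
      (ob (byte par k)).any (fun j => decide (0 < sbyte O (byte nxt (k * 8 + byte par k) * 8 + j))) &&
      Nat.beq (E.getD k 0) (E.getD (byte nxt (k * 8 + byte par k)) 0 + m (byte par k)))) &&
    allLt k fun k' => anyLt l fun j => ! decide (sbyte O (k * 8 + j) = sbyte O (k' * 8 + j))

theorem sum_range_getD (q : ℕ) (E : List ℕ) :
    ∑ k ∈ Finset.range E.length, q ^ E.getD k 0 = (E.map (q ^ ·)).sum := by
  induction E with
  | nil => simp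
  | cons a E ih => rw [List.length_cons, Finset.sum_range_succ']; simp [← ih, add_comm]

theorem poincare_chk {C : List (List ℤ)} (hC : CartanIs D C) {ρ : Equiv.Perm (Rt D)} {ρ0 : Equiv.Perm (Ix D)}
    (h : Sym ρ ρ0) {ob wd : ℕ → List ℕ} (hO : OrbData D ρ0 ob wd) {c : W D → ℕ} {q : ℕ} {m : ℕ → ℕ}
    (hc : ∀ w ∈ Wf ρ, ∀ i : Ix D, Pos (w⁻¹.1 (sim i)) → c (gO ρ0 i * w) = q ^ m i * c w)
    {K K' E : List ℕ} {O nxt par : ℕ} (hk : pchk C D.rank ob wd m K K' E O nxt par = true) :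
    PS ρ c {i | (i : ℕ) ∈ K} = (E.map (q ^ ·)).sum * PS ρ c {i | (i : ℕ) ∈ K'} := by
  simp only [pchk, Bool.and_eq_true, Nat.blt_eq, List.all_eq_true, allLt_iff, decide_eq_true_eq,
    Bool.or_eq_true, Nat.beq_eq, List.any_eq_true] at hk
  obtain ⟨⟨⟨h1, h2⟩, h3⟩, h4⟩ := hk
  rw [← sum_range_getD]
  have hact : ∀ k < E.length, ∀ i : Ix D, (i : ℕ) ∈ K →
      act (gO ρ0 i) (fun j => sbyte O (k * 8 + j)) = fun j : Ix D => sbyte O (byte nxt (k * 8 + i) * 8 + j) := by
    intro k hk i hi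
    rw [hO.eq, act_toW hC (hO.wlt i i.2) (fun j => sbyte O (k * 8 + j))]
    exact funext fun j => ((h4 k hk).1.1 i hi).2 j j.2
  refine h.poincare c q (fun i => m i) hc (fun i => ?_) _ h1 (fun k j => sbyte O (k * 8 + j)) _ ?_ ?_ h2 ?_ ?_ ?_
  · exact (h3 i i.2).1.1 _ ((hO.mem i _).1 ((stable_orb ρ0 i i).2 (self_mem_orb ρ0 i)))
  · intro i hi
    simpa using (h3 i i.2).1.2 hi
  · intro i
    refine (h3 i i.2).2.trans (and_congr_right fun _ => ⟨fun h5 j hj => ?_, fun h5 j hj => ?_⟩)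
    · simpa using h5 j ((hO.mem i j).1 hj)
    · simpa using h5 ⟨j, hO.lt i i.2 j hj⟩ ((hO.mem i _).2 hj)
  · exact fun k hk i hi => ⟨_, ((h4 k hk).1.1 i hi).1, hact k hk i hi⟩
  · intro k hk hk0
    obtain ⟨⟨⟨⟨h5, h6⟩, h7⟩, j, h8, h9⟩, h10⟩ := (h4 k hk).1.2.resolve_left hk0
    refine ⟨_, h5, ⟨_, h6⟩, h7, ?_, ⟨⟨j, hO.lt _ h6 j h8⟩, (hO.mem ⟨_, h6⟩ _).2 h8, h9⟩, h10⟩
    rw [← hact k hk ⟨_, h6⟩ h7, ← act_mul, gO_sq, act_one]
  · have key : ∀ k < E.length, ∀ k' < k,
        (fun j : Ix D => sbyte O (k * 8 + j)) ≠ fun j : Ix D => sbyte O (k' * 8 + j) := by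
      intro k hk k' hk' e
      obtain ⟨j, hj, h5⟩ := anyLt_spec ((h4 k hk).2 k' hk')
      simp [congrFun e ⟨j, hj⟩] at h5
    intro k hk k' hk' e
    rcases lt_trichotomy k k' with h5 | h5 | h5
    · exact absurd e.symm (key k' hk' k h5)
    · exact h5
    · exact absurd e (key k hk k' h5)

omit G in
theorem univ_eq_range : (Set.univ : Set (Ix D)) = {i : Ix D | (i : ℕ) ∈ List.range D.rank} := by
  ext i; simp
omit G in
theorem empty_eq_nil : {i : Ix D | (i : ℕ) ∈ ([] : List ℕ)} = ∅ := by ext i; simp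

theorem card_W_eq : Nat.card (W D) = PS (1 : Equiv.Perm (Rt D)) (fun _ => 1) Set.univ := by
  classical
  simp [PS, mem_WJ_univ, mem_Wf_one]

theorem card_Wf_eq (ρ : Equiv.Perm (Rt D)) : Nat.card (Wf ρ) = PS ρ (fun _ => 1) Set.univ := by
  classical
  simp [PS, mem_WJ_univ, Fintype.card_subtype]

/-! ### tori -/

section torus

variable {ι M : Type*} [Fintype ι] [DecidableEq ι] [CommGroup M]

/-- the endomorphism of a torus given by an integral matrix -/
def mH (M : Type*) [CommGroup M] (A : Matrix ι ι ℤ) : (ι → M) →* (ι → M) where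
  toFun c := fun j => ∏ i, c i ^ A i j
  map_one' := by funext j; simp
  map_mul' c c' := by funext j; simp [mul_zpow, Finset.prod_mul_distrib]

theorem mH_apply (A : Matrix ι ι ℤ) (c : ι → M) (j : ι) : mH M A c j = ∏ i, c i ^ A i j := rfl

theorem zpow_finset_sum (c : M) (s : Finset ι) (a : ι → ℤ) : c ^ (∑ i ∈ s, a i) = ∏ i ∈ s, c ^ a i := by
  induction s using Finset.induction_on with
  | empty => simp
  | insert a s ha ih => rw [Finset.prod_insert ha, Finset.sum_insert ha, ← ih, zpow_add]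

theorem mH_mul (A B : Matrix ι ι ℤ) (c : ι → M) : mH M (A * B) c = mH M B (mH M A c) := by
  funext j
  simp only [mH_apply, Matrix.mul_apply, zpow_finset_sum, ← Finset.prod_zpow, ← zpow_mul]
  exact Finset.prod_comm

theorem mH_diagonal (d : ι → ℤ) (c : ι → M) (j : ι) : mH M (Matrix.diagonal d) c j = c j ^ d j := by
  rw [mH_apply, Finset.prod_eq_single j] <;> simp +contextual [Matrix.diagonal_apply_ne]

theorem mH_one (c : ι → M) : mH M (1 : Matrix ι ι ℤ) c = c := by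
  funext j; rw [← Matrix.diagonal_one, mH_diagonal, zpow_one]

theorem card_ker_mH [IsCyclic M] [Finite M] {A P P' Q Q' : Matrix ι ι ℤ} (d : ι → ℕ) (hP : P * P' = 1)
    (hQ : Q * Q' = 1) (h : P * A * Q = Matrix.diagonal fun i => (d i : ℤ)) :
    Nat.card (mH M A).ker = ∏ i, (Nat.card M).gcd (d i) := by
  simp only [← IsCyclic.card_powMonoidHom_ker]
  rw [← Nat.card_pi]
  have hP' : P' * P = 1 := mul_eq_one_comm.1 hP
  have hA : P * A = (Matrix.diagonal fun i => (d i : ℤ)) * Q' := by rw [← h, mul_assoc (P * A), hQ, mul_one]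
  symm
  refine Nat.card_eq_of_bijective (fun c => ⟨mH M P fun i => c i, ?_⟩) ⟨fun c c' e => ?_, fun c => ?_⟩
  · rw [MonoidHom.mem_ker, ← mH_mul, hA, mH_mul, ← map_one (mH M Q')]
    congr 1
    funext j
    rw [mH_diagonal, zpow_natCast]; exact (c j).2
  · have := congrArg (mH M P') (congrArg Subtype.val e)
    simp only [← mH_mul, hP, mH_one] at this
    funext i; exact Subtype.ext (congrFun this i)
  · refine ⟨fun i => ⟨mH M P' c i, ?_⟩, Subtype.ext ?_⟩
    · have := c.2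
      rw [MonoidHom.mem_ker] at this ⊢
      rw [powMonoidHom_apply, ← zpow_natCast, ← mH_diagonal (fun i => (d i : ℤ)), ← h, ← mH_mul, ← mul_assoc,
        ← mul_assoc, hP', one_mul, mH_mul, this, map_one]; rfl
    · simp only [← mH_mul, hP', mH_one]

end torus

theorem carH_eq_mH (M : Type*) [CommGroup M] : carH M = mH M (cartanM D) := rfl

/-- checker for a Smith normal form -/
noncomputable def smithChk (l : ℕ) (C P P' Q Q' : List (List ℤ)) (d : List ℕ) : Bool :=
  allLt l fun i => allLt l fun j =>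
    decide (sumLt l (fun k => mL P i k * mL P' k j) = if i = j then 1 else 0) &&
    decide (sumLt l (fun k => mL Q i k * mL Q' k j) = if i = j then 1 else 0) &&
    decide (sumLt l (fun k => sumLt l (fun k' => mL P i k' * mL C k' k) * mL Q k j) =
      if i = j then (d.getD i 0 : ℤ) else 0)

theorem card_ker_carH {C P P' Q Q' : List (List ℤ)} {d : List ℕ} (hC : CartanIs D C)
    (h : smithChk D.rank C P P' Q Q' d = true) (M : Type*) [CommGroup M] [IsCyclic M] [Finite M] :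
    Nat.card (carH (D := D) M).ker = ∏ i ∈ Finset.range D.rank, (Nat.card M).gcd (d.getD i 0) := by
  simp only [smithChk, Bool.and_eq_true, allLt_iff, decide_eq_true_eq, sumLt_eq, sum_range_eq] at h
  rw [carH_eq_mH, card_ker_mH (P := Matrix.of fun i j : Ix D => mL P i j) (P' := Matrix.of fun i j : Ix D => mL P' i j)
    (Q := Matrix.of fun i j : Ix D => mL Q i j)
    (Q' := Matrix.of fun i j : Ix D => mL Q' i j) (fun i : Ix D => d.getD i 0),
    Fin.prod_univ_eq_prod_range (fun i => (Nat.card M).gcd (d.getD i 0))]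
  · ext i j; simpa [Matrix.mul_apply, Matrix.one_apply, Fin.val_inj] using (h i i.2 j j.2).1.1
  · ext i j; simpa [Matrix.mul_apply, Matrix.one_apply, Fin.val_inj] using (h i i.2 j j.2).1.2
  · ext i j
    simpa [Matrix.mul_apply, Matrix.diagonal_apply, Fin.val_inj, cartanM, hC.ca] using (h i i.2 j j.2).2

variable {F : Type*} [Field F]

theorem card_ker_mul_card_H [Finite F] :
    Nat.card (carH (D := D) Fˣ).ker * Nat.card (HX (xG : Rt D → F → GL D.Idx F)) = (Nat.card F - 1) ^ D.rank := by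
  rw [H_eq_range, ← MonoidHom.ker_comp_of_injective _ _ dg_inj, ← Subgroup.index_ker,
    Subgroup.card_mul_index, Nat.card_fun, Nat.card_units]
  simp

theorem card_group [Finite F] : Nat.card (D.group F) = Nat.card F ^ (D.nroots / 2) *
    Nat.card (HX (xG : Rt D → F → GL D.Idx F)) *
      PS (1 : Equiv.Perm (Rt D)) (fun w => Nat.card F ^ wl sw w) Set.univ := by
  rw [group_eq_G1, sys_xG.fold_id.card_G1 sys_xG, sys_xG.G1_id,
    inf_eq_left.2 (show UX xG ≤ _ from XS_mono (Set.subset_univ _)),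
    inf_eq_left.2 (HX_le_NX.trans NX_le_XS), card_U]
  congr 2
  funext w
  rw [inf_eq_left.2 (show UW xG _ ≤ _ from XS_mono (Set.subset_univ _)), UW,
    loc_xG.card (Set.subset_univ _) (closed_inv _) (posOn_pos.mono (inv_subset _)), Set.ncard_coe_finset,
    ← wl_eq_card_inv, invGen_sw.wl_inv]

theorem exists_hom_N {M : CoxeterMatrix (Ix D)} (e : W D ≃* M.Group) (he : ∀ i, e (sw i) = M.simple i) :
    ∃ φ : D.monomialSubgroup F →* M.Group, Function.Surjective φ ∧
      φ.ker = (D.diagonalSubgroup F).subgroupOf (D.monomialSubgroup F) ∧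
      ∀ (i : Ix D) (g : D.monomialSubgroup F),
        ((g : GL D.Idx F) : Matrix D.Idx D.Idx F) = D.nMat F (D.simple i) 1 → φ g = M.simple i := by
  rw [mono_eq, diag_eq]
  refine ⟨e.toMonoidHom.comp sys_xG.π, e.surjective.comp fun w => ?_, ?_, fun i g hg => ?_⟩
  · obtain ⟨n, hn⟩ := (sys_xG (D := D) (F := F)).exists_lift w
    exact ⟨⟨n, hn.1⟩, sys_xG.π_eq hn⟩
  · ext n
    rw [MonoidHom.mem_ker, MonoidHom.comp_apply, MulEquiv.coe_toMonoidHom, MulEquiv.map_eq_one_iff,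
      Subgroup.mem_subgroupOf, sys_xG.π_eq_one_iff]
  · have : (g : GL D.Idx F) = nS xG i := Units.ext (hg.trans (nMat_one (sim i)))
    rw [← he, ← sys_xG.π_eq (n := g) (w := sw i) (this ▸ sys_xG.lift_nS i)]; rfl

theorem order_eq [Fintype F] {q k P : ℕ} (hq : Fintype.card F = q)
    (hk : Nat.card (carH (D := D) Fˣ).ker = k)
    (hP : PS (1 : Equiv.Perm (Rt D)) (fun w => q ^ wl sw w) Set.univ = P) :
    k * Nat.card (D.group F) = q ^ (D.nroots / 2) * ((q - 1) ^ D.rank * P) := by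
  rw [card_group, ← hk, ← hP, ← hq, ← Nat.card_eq_fintype_card, ← card_ker_mul_card_H (D := D) (F := F)]
  ring

theorem hc_one : ∀ w ∈ Wf (1 : Equiv.Perm (Rt D)), ∀ i : Ix D, Pos (w⁻¹.1 (sim i)) →
    (fun _ => 1 : W D → ℕ) (gO 1 i * w) = 1 ^ (fun _ : ℕ => 1) i * (fun _ => 1 : W D → ℕ) w := by
  simp

theorem hc_wl (q : ℕ) : ∀ w ∈ Wf (1 : Equiv.Perm (Rt D)), ∀ i : Ix D, Pos (w⁻¹.1 (sim i)) →
    (fun w => q ^ wl sw w) (gO 1 i * w) = q ^ (fun _ : ℕ => 1) i * (fun w => q ^ wl sw w) w := by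
  intro w _ i h
  have h1 := lt_wl_sw_mul_iff.2 h
  have h2 := invGen_sw.wl_s_mul_le i w
  simp only [gO_one]
  rw [show wl sw (sw i * w) = 1 + wl sw w by omega, pow_add]

theorem perfect_of_A2 (wa wb : List ℕ) (h : ∀ i < D.rank, wa.getD i 0 < D.nroots ∧ wb.getD i 0 < D.nroots ∧
    (Good.N D (wa.getD i 0) (wb.getD i 0) = 1 ∨ Good.N D (wa.getD i 0) (wb.getD i 0) = -1) ∧
    Good.add D (wa.getD i 0) (wb.getD i 0) = D.simple i ∧ Good.N D (wa.getD i 0) (D.simple i) = 0 ∧
    Good.N D (wb.getD i 0) (D.simple i) = 0) : commutator (D.group F) = ⊤ := by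
  refine perfect_of_sim fun i t => ?_
  obtain ⟨h1, h2, h3, h4, h5, h6⟩ := h i i.2
  generalize wa.getD i 0 = a at *
  generalize wb.getD i 0 = b at *
  lift a to Rt D using h1
  lift b to Rt D using h2
  have e : add a b = sim i := Fin.ext h4
  change N a b = 1 ∨ N a b = -1 at h3
  change N a (sim i) = 0 at h5
  change N b (sim i) = 0 at h6
  have hT : cT a b = [(sim i, N a b, 1, 1)] := by
    rw [cT, e, if_neg (by omega), if_pos h5, if_pos h6]
  exact sys_xG.mem_comm_of_cT (a := a) (b := b) (c := (sim i, N a b, 1, 1)) (by simp [hT]) h3 rfl t (mem_XS (Set.mem_univ _) _)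
    (mem_XS (Set.mem_univ _) _) (by simp [hT])

theorem mem_comm_of_A {a : F} (h0 : a ≠ 0) (h1 : a ≠ 1) {r s : Rt D} (h : A s r = 1 ∨ A s r = -1) (t : F) :
    xG r t ∈ ⁅XS (xG : Rt D → F → GL D.Idx F) Set.univ, XS (xG : Rt D → F → GL D.Idx F) Set.univ⁆ := by
  refine sys_xG.mem_comm_of_h ?_ (NX_le_XS (HX_le_NX (hX_mem s (Units.mk0 a h0))))
    (fun _ => mem_XS (Set.mem_univ _) _) (sys_xG.hX_conj s _ r) t
  rcases h with h | h <;> simpa [h]

/-! ### the Coxeter structure of the fixed subgroup -/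

namespace Sym

variable {ρ : Equiv.Perm (Rt D)} {ρ0 : Equiv.Perm (Ix D)} (h : Sym ρ ρ0)
include h

theorem mul_gO_eq {w : W D} (hw : w ∈ Wf ρ) {i j : Ix D} (h1 : Pos (w.1 (Lie.sim i)))
    (h2 : ¬ Pos ((gO ρ0 j * w).1 (Lie.sim i))) : w * gO ρ0 i = gO ρ0 j * w := by
  have h3 : WJ (orb ρ0 i) ≤ (WJ (orb ρ0 j)).comap (MulAut.conj w).toMonoidHom := by
    rw [WJ, Subgroup.closure_le]
    rintro _ ⟨k, hk, rfl⟩
    change w * sw k * w⁻¹ ∈ WJ _
    rw [← rf_sim, ← rf_W]
    exact rf_mem_WJ (mem_inv_w0J.1 (mem_inv.2 ⟨(h.pos_orb hw hk).2 h1,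
      mt (h.pos_orb (mul_mem (h.gO_mem j) hw) hk).1 h2⟩)).2
  rcases h.eq_one_or (mul_mem (mul_mem hw (h.gO_mem i)) (inv_mem hw)) (h3 (w0J_mem _)) with h4 | h4
  · exact absurd (by simpa using h4) (gO_ne_one ρ0 i)
  · rw [← h4]; group

/-- the distinguished generators, indexed by representatives of the orbits -/
noncomputable def gen {ι : Type*} (rep : ι → Ix D) (k : ι) : Wf ρ := ⟨gO ρ0 (rep k), h.gO_mem _⟩

variable {ι : Type*} {rep : ι → Ix D} (hrep : ∀ i, ∃ k, i ∈ orb ρ0 (rep k))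
include hrep

theorem invGen : InvGen (h.gen rep) := by
  refine ⟨fun k => Subtype.ext (gO_sq _ _), fun w => ?_⟩
  have := h.induction (stable_univ ρ0) (p := fun w => ∃ L : List ι, ((wp (h.gen rep) L : Wf ρ) : W D) = w) ⟨[], rfl⟩ (by
    rintro w - - i - - ⟨L, rfl⟩
    obtain ⟨k, hk⟩ := hrep i
    exact ⟨L ++ [k], by rw [wp_append, wp_singleton, gO_eq hk]; rfl⟩) w.2 (mem_WJ_univ _)
  obtain ⟨L, e⟩ := this
  exact ⟨L, Subtype.ext e⟩

theorem wl_mul_lt {w : Wf ρ} {k : ι} (h1 : ¬ Pos (w.1.1 (Lie.sim (rep k)))) :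
    wl (h.gen rep) (w * h.gen rep k) < wl (h.gen rep) w := by
  obtain ⟨L, hL, rfl⟩ := (h.invGen hrep).exists_red w
  have : ∃ L1 j L2, L = L1 ++ j :: L2 ∧ wp (h.gen rep) L2 * h.gen rep k = h.gen rep j * wp (h.gen rep) L2 := by
    clear hL
    induction L with
    | nil => exact absurd (pos_sim _) h1
    | cons j L ih =>
      by_cases hc : Pos ((wp (h.gen rep) L).1.1 (Lie.sim (rep k)))
      · exact ⟨[], j, L, rfl, Subtype.ext (h.mul_gO_eq (wp (h.gen rep) L).2 hc h1)⟩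
      · obtain ⟨L1, j', L2, e1, e2⟩ := ih hc
        exact ⟨j :: L1, j', L2, by rw [e1]; rfl, e2⟩
  obtain ⟨L1, j, L2, e1, e2⟩ := this
  have : wp (h.gen rep) L * h.gen rep k = wp (h.gen rep) (L1 ++ L2) := by
    rw [e1, wp_append, wp_cons, wp_append, mul_assoc, mul_assoc, e2, (h.invGen hrep).s_mul_s_mul]
  rw [this, hL]
  refine (wl_le _ _).trans_lt ?_
  rw [e1]; simp

theorem lt_wl_mul_iff {w : Wf ρ} {k : ι} :
    wl (h.gen rep) w < wl (h.gen rep) (h.gen rep k * w) ↔ Pos (w.1⁻¹.1 (Lie.sim (rep k))) := by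
  rw [← (h.invGen hrep).wl_inv w, ← (h.invGen hrep).wl_inv (_ * w), mul_inv_rev, (h.invGen hrep).inv_s]
  constructor
  · intro h1
    by_contra hc
    have := h.wl_mul_lt hrep (w := w⁻¹) hc
    omega
  · intro h1
    have := h.wl_mul_lt hrep (w := w⁻¹ * h.gen rep k) (k := k) (fun h2 => by
      have h3 := h.pos_mul_gO (i := rep k) (w := (w.1⁻¹ * gO ρ0 (rep k))) (w⁻¹ * h.gen rep k).2
      have h4 := h.pos_of_pos (w⁻¹).2 h1 (ng ((gO ρ0 (rep k)).1 (Lie.sim (rep k)))) (by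
        rw [gO_inv, gO, mem_inv_w0J, pos_ng, InJ_ng, InJ_WJ (w0J_mem _)]
        exact ⟨w0J_neg (pos_sim _) (InJ_sim.2 (self_mem_orb ρ0 _)), InJ_sim.2 (self_mem_orb ρ0 _)⟩)
      rw [W_ng, pos_ng] at h4
      exact h4 h2)
    rwa [(h.invGen hrep).mul_s_mul_s] at this

theorem exch : Exch (h.gen rep) := by
  refine exch_of_step (h.invGen hrep) (fun k e => gO_ne_one ρ0 (rep k) (congrArg Subtype.val e)) ?_
  intro i j w _ h2 h3
  rw [h.lt_wl_mul_iff hrep] at h2
  rw [← not_lt, h.lt_wl_mul_iff hrep] at h3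
  have := h.mul_gO_eq (j := rep j) (w⁻¹).2 h2 (by
    rwa [Subgroup.coe_mul, mul_inv_rev, show (h.gen rep j).1⁻¹ = gO ρ0 (rep j) from gO_inv _ _] at h3)
  apply Subtype.ext
  change gO ρ0 (rep i) * w.1 = w.1 * gO ρ0 (rep j)
  calc _ = w.1 * (w.1⁻¹ * gO ρ0 (rep i)) * w := by group
    _ = _ := by rw [show w.1⁻¹ * gO ρ0 (rep i) = _ from this]; simp [mul_assoc]

theorem exists_coxeter (M : CoxeterMatrix ι)
    (hM : ∀ k k', M k k' = orderOf (gO ρ0 (rep k) * gO ρ0 (rep k'))) : Nonempty (Wf ρ ≃* M.Group) := by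
  obtain ⟨cs, -⟩ := (h.exch hrep).exists_coxeterSystem (h.invGen hrep) M fun k k' => by
    rw [hM, ← Subgroup.orderOf_coe (h.gen rep k * h.gen rep k')]; rfl
  exact ⟨cs.mulEquiv⟩

end Sym

theorem Fold.exists_hom {Γ : Type*} [Group Γ] {x : Rt D → F → Γ} {θ : Γ →* GL D.Idx F} {σ : Γ →* Γ}
    {ρ : Equiv.Perm (Rt D)} {ρ0 : Equiv.Perm (Ix D)} (hF : Fold x σ ρ ρ0) (hS : Sys x θ) {A : Type*} [Group A]
    (e : Wf ρ ≃* A) : ∃ φ : (NX x ⊓ G1 x σ ρ0 : Subgroup Γ) →* A, Function.Surjective φ ∧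
      φ.ker = (HX x ⊓ G1 x σ ρ0).subgroupOf (NX x ⊓ G1 x σ ρ0) := by
  let ψ : (NX x ⊓ G1 x σ ρ0 : Subgroup Γ) →* Wf ρ :=
    (hS.π.comp (Subgroup.inclusion inf_le_left)).codRestrict _ fun n =>
      hF.mem_Wf_of_fixed hS (hS.lift_π _) (G1_le_fix n.2.2)
  refine ⟨e.toMonoidHom.comp ψ, e.surjective.comp fun w => ?_, ?_⟩
  · obtain ⟨n, h1, h2⟩ := hF.exists_lift hS w.2
    exact ⟨⟨n, h2.1, h1⟩, Subtype.ext (hS.π_eq h2)⟩
  · ext n
    rw [MonoidHom.mem_ker, MonoidHom.comp_apply, MulEquiv.coe_toMonoidHom, MulEquiv.map_eq_one_iff,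
      Subgroup.mem_subgroupOf, Subtype.ext_iff]
    exact (hS.π_eq_one_iff _).trans ⟨fun h => ⟨h, n.2.2⟩, fun h => h.1⟩

end Cfsg.Agent.Lie
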