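import Cfsg.Agent.Lie.St
import Cfsg.Agent.Lie.GoodE6
import Cfsg.Prelude.Def_E6

set_option autoImplicit false
set_option linter.unusedSectionVars false
set_option linter.unusedSimpArgs false
set_option maxRecDepth 100000

/-! The cubic form in 27 variables: tables, polar forms and root elements. -/

namespace Cfsg.Agent.Lie.Cub

open Cfsg.Lie
open scoped Matrix MatrixGroups

/-- weights -/
abbrev W : Type := Fin 27
/-- roots -/
abbrev Rr : Type := Rt chevE6

/-- table of the root matrices -/
def tE : ℕ := 0x103463837363534333231302f2e2d2c2b12552827262524230e51203a393837363534333231302f2e2d2c11100f4627264324234021203a393837363534333231302f2e2d2c0e0d0c28462625432322402040390637363534333231302f2e2d2c2b13562827260e51232221203a004337363534333231302f2e2d2c2b14570e51262524232221203a393843063534333231302f2e2d2c122a582827262524234d102010393851363534333231302f2e2d062b2a472827261224235321203a503837113534333231302f2e2d432b2a041227262524235421200d39384e36353433323130462e2d2c2b2a082827262512232253203a4d38370e353433323130032e2d2c2b2a4528122625242322542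05453523736353433323130112e2d0e2b2a0b2827262524232221203a393800364634333231302f2e2d2c132a592827264d10232221203a393837400334333231302f2e2d2c142a5a4d10262524232221203a395037361134333231302f2e2d402b2a015327261424232221203a394d37360e3433323130002e2d2c2b2a422853262514232221203a39381413123433323130502e2d4d2b2a4a2827262524232221203a393837363543063231302f2e2d2c5518292827262524234c0f200f393837363551333231302f2e462c2b07292827265524231621203a4f3837363534113231302f2e032c2b44295527262524231721200c39383736354e333231062f2e2d2c2b48292827262555232216203a4c38373635340e3231432f2e2d2c2b052928552625242322172017161537363534333231512f2e4e2c2b4b2928272625242322212058393855363552333231302f2e2d2c2b2a292827262524230807063a183837153534123231302f2e2d2c2b2a2928272625242345444344073837363534333231302f2e52152b2a292827262524230b21510548383736353433323112552e2d2c2b2a29282726252423220b4e3a393837363500334631302f2e2d2c5619292827264c0f232221203a393837363534400331302f2e2d2c571a294c0f262524232221203a394f37363534331131302f2e002c2b41291627265724232221203a394c37363534330e31402f2e2d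2c2b02292816262557232221203a39384f363510333231302f462d2c072a292827265824231921203a3938370f3534503231302f032d2c442a295827262524231a21203a393837363534333231302f11100f2b2a294727264424234121203a39380c36354d333246302f2e2d2c082a292827262518232259203a3938374c35340d3203302f2e2d2c452a29281826252423225a2019393816363513333231302f2e2d2c2b2a292827264847462221203a1a3837173534143231302f2e2d2c2b2a2945444325242322212041390737363534333231302f2e13562b2a292827264b24112221203a410437363534333231302f2e54172b2a290b27512524232221203a39383736353433320e0d0c2e2d2c2b2a292848262545232242200239483736353433323153162e2d2c2b2a29282726254b0e2221203a02453736353433323114572e2d2c2b2a29280b4e2524232221203a393844073534333231302f122d582b2a292827262524230a21503a39384508353433321230582e2d2c2b2a29282726252423224a0d0a39384b36353433323130072e2d482b2a292827262524122221533a0a38374b353433323130042e2d452b2a292827522524232221143a393837364f34331031302f402d2c012a295927261a24232221203a393837360c34334d40302f2e2d2c022a29281926255a232221203a391937361634331331302f2e2d2c2b2a292827264241402221203a3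95a37365734335431302f2e2d2c2b2a290201002524232221203a39381a191834333250302f4d2d2c4a2a292827262524232221203a393801364734333231302f132d592b2a292827260a24502221203a393837014434333231302f542d1a2b2a294a27102524232221203a39380236483433321330592e2d2c2b2a29282726254a0d2221203a393837024534333254301a2e2d2c2b2a29280a4d2524232221203a390a37364b3433323130012e2d422b2a292827132524542221203a3938373635171615314f2f2e4c2c2b49292827262524232221203a393837363504473231302f15582c2b2a2928272625242349210f3a393837363505483215582f2e2d2c2b2a2928272625242322094c4939383736350b333231072f2e482c2b2a292827262524152221563a4938373635340b3231042f2e452c2b2a292827552524232221173a39383736355a59580f302f0c2d2c092a292827262524232221203a393837363541330731302f16592c2b2a2928272649240f2221203a393837363534410431302f571a2c2b2a2909274f2524232221203a393837363542330816592f2e2d2c2b2a2928272625094c2221203a3938373635344205571a2f2e2d2c2b2a2928490c2524232221203a394937363534330b31012f2e422c2b2a292827162524572221203a39384936350a333247302f082d2c2b2a292827262524582221193a3938374935340a3244302f052d2c2b2a2928271825242322215a3a393837363534333231302f0b0a092b2a292827472524442221413a39383736353433320b0a092e2d2c2b2a292827482524452221423a393837364934330a41302f022d2c2b2a2928275925241a222120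
/-- table of the triples -/
def tT : ℕ := 0x1202020205213201556082020072020062020110e0b202020202020202020122054552017052020042020032020202020110e0b202020202020531420165720022020012020002020202020202020110e0b201253202020205819200820200720200620100d0a20202020202052201420202018205a200520200420200320202020100d0a202020135420202020591a20200220200120200020202020202020100d0a2055162018592020202020082020072020060f0c0920202020202015205758201a2020202020052020042020032020200f0c09202020561720195a202020202020022020012020002020202020200f0c0908050220202020202020202020490a200c4d1a202019202018202020202008050220202020202009204b4c200e1720201620201520202020202020200805022020204a0b200d4e2014202013202012202007040120202020202020094a202020204f10201a2020192020182020202007040120202049200b2020200f20512017202016202015202020202020200704010a4b20202020501120201420201320201220060300202020202020204c0d200f5020202020201a2020192020182020200603002020200c204e4f20112020202020172020162020152020202020200603004d0e201051202020202020142020132020121120201020200f20201a17142020202020202020202040012003440e20200d20200c20202020201a17142020202020200020424320050b20200a20200920202020202020201a1714202020410220044520201120201020200f20191613202020202020200041202020204607200e20200d20200c20202020191613202020402002202020062048200b20200a2020092020202020202019161301422020202047082020201120201020200f18151220202020202020430420064720202020200e20200d20200c20202018151220202003204546200820202020200b20200a202009202020202020181512440520074820202020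
/-- table of the weights -/
def tW : ℕ := 0x1817f808081807f8080808180807f808180808180807f80817f81807f8081808080807f8181808080807f7f818080807f808080817f7f80817f80808080807f81817f80807f8081818080817f7f80807f8180807f807f817f8081808180807f8080808081807f8080808080817f8081807f807f817f8180807f8080808080817f81807f8081807f818080817f808080808080817f808080817f8081808080807f8180

/-- index part of a byte -/
def lo (X k : ℕ) : W := Fin.ofNat 27 (Nat.mod (byte X k) 32)
/-- sign part of a byte -/
def hi (X k : ℕ) : ℤ := Int.subNatNat (Nat.div (byte X k) 32) 1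

/-- row of a table -/
def row (X r : ℕ) : ℕ := Nat.mod (Nat.shiftRight X (Nat.mul 216 r)) 0x1000000000000000000000000000000000000000000000000000000

/-- source of a row of a root matrix -/
def src (r : Rr) (a : W) : W := lo (row tE r) a
/-- sign of a row of a root matrix -/
def sg (r : Rr) (a : W) : ℤ := hi (row tE r) a
/-- third point -/
def th (a b : W) : W := lo (row tT a) b
/-- sign of a triple -/
def sT (a b : W) : ℤ := hi (row tT a) b
/-- weights -/
def wt (a : W) (i : Ix chevE6) : ℤ := sbyte tW (Nat.add (Nat.mul 6 a) i)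

/-- monomials -/
abbrev Mono : Type := ℤ × W × W × W

/-- the monomials of the cubic form -/
def L : List Mono := [(1, 0, 4, 8), (-1, 0, 5, 7), (-1, 1, 3, 8), (1, 1, 5, 6), (1, 2, 3, 7), (-1, 2, 4, 6), (1, 9, 13, 17), (-1, 9, 14, 16), (-1, 10, 12, 17), (1, 10, 14, 15), (1, 11, 12, 16), (-1, 11, 13, 15), (1, 18, 22, 26), (-1, 18, 23, 25), (-1, 19, 21, 26), (1, 19, 23, 24), (1, 20, 21, 25), (-1, 20, 22, 24), (-1, 0, 9, 18), (-1, 0, 10, 21), (-1, 0, 11, 24), (-1, 1, 12, 18), (-1, 1, 13, 21), (-1, 1, 14, 24), (-1, 2, 15, 18), (-1, 2, 16, 21), (-1, 2, 17, 24), (-1, 3, 9, 19), (-1, 3, 10, 22), (-1, 3, 11, 25), (-1, 4, 12, 19), (-1, 4, 13, 22), (-1, 4, 14, 25), (-1, 5, 15, 19), (-1, 5, 16, 22), (-1, 5, 17, 25), (-1, 6, 9, 20), (-1, 6, 10, 23), (-1, 6, 11, 26), (-1, 7, 12, 20), (-1, 7, 13, 23), (-1, 7, 14, 26), (-1, 8, 15, 20), (-1, 8, 16, 23), (-1, 8, 17, 26)]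

variable {F : Type*} [Field F]

/-- value of a monomial -/
def ev (x : W → F) (m : Mono) : F := m.1 * (x m.2.1 * x m.2.2.1 * x m.2.2.2)
/-- first polar -/
def evQ (x y : W → F) (m : Mono) : F :=
  m.1 * (x m.2.1 * x m.2.2.1 * y m.2.2.2 + x m.2.1 * y m.2.2.1 * x m.2.2.2 + y m.2.1 * x m.2.2.1 * x m.2.2.2)
/-- second polar -/
def ev3 (x y z : W → F) (m : Mono) : F :=
  m.1 * (x m.2.1 * y m.2.2.1 * z m.2.2.2 + y m.2.1 * x m.2.2.1 * z m.2.2.2 + x m.2.1 * z m.2.2.1 * y m.2.2.2 +
    y m.2.1 * z m.2.2.1 * x m.2.2.2 + z m.2.1 * x m.2.2.1 * y m.2.2.2 + z m.2.1 * y m.2.2.1 * x m.2.2.2)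

/-- the cubic form -/
def T (x : W → F) : F := (L.map (ev x)).sum
/-- first polar -/
def Q (x y : W → F) : F := (L.map (evQ x y)).sum
/-- second polar -/
def f3 (x y z : W → F) : F := (L.map (ev3 x y z)).sum

theorem sum_comb {α : Type*} (l : List α) {p a b c d : α → F} {s t u v : F}
    (h : ∀ m ∈ l, p m = s * a m + t * b m + u * c m + v * d m) :
    (l.map p).sum = s * (l.map a).sum + t * (l.map b).sum + u * (l.map c).sum + v * (l.map d).sum := by
  induction l with
  | nil => simp
  | cons m l ih =>
    simp only [List.map_cons, List.sum_cons]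
    rw [ih fun m hm => h m (List.mem_cons_of_mem _ hm), h m List.mem_cons_self]; ring

theorem T_add (x y : W → F) (t : F) : T (x + t • y) = T x + t * Q x y + t ^ 2 * Q y x + t ^ 3 * T y := by
  rw [← one_mul (T x)]
  exact sum_comb L fun m _ => by simp only [ev, evQ, Pi.add_apply, Pi.smul_apply, smul_eq_mul]; ring

theorem Q_add (x y z : W → F) (t : F) : Q (x + t • y) z = Q x z + t * f3 y z x + t ^ 2 * Q y z := by
  have := sum_comb L (p := evQ (x + t • y) z) (a := evQ x z) (b := ev3 y z x) (c := evQ y z) (d := evQ y z)
    (s := 1) (t := t) (u := t ^ 2) (v := 0)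
    fun m _ => by simp only [ev3, evQ, Pi.add_apply, Pi.smul_apply, smul_eq_mul]; ring
  simpa [Q, f3] using this

theorem f3_smul (x y z : W → F) (a b : F) : f3 (a • x) (b • y) z = a * b * f3 x y z := by
  have := sum_comb L (p := ev3 (a • x) (b • y) z) (a := ev3 x y z) (b := ev3 x y z) (c := ev3 x y z)
    (d := ev3 x y z) (s := a * b) (t := 0) (u := 0) (v := 0)
    fun m _ => by simp only [ev3, Pi.smul_apply, smul_eq_mul]; ring
  simpa [f3] using this

theorem f3_swap (x y z : W → F) : f3 x y z = f3 x z y := by
  unfold f3; congr 1; exact List.map_congr_left fun m _ => by simp only [ev3]; ring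

theorem f3_sum (x y z : W → F) : f3 x y z = ∑ c, y c * f3 x (Pi.single c 1) z := by
  have h : ∀ l : List Mono, (l.map (ev3 x y z)).sum = ∑ c, y c * (l.map (ev3 x (Pi.single c 1) z)).sum := by
    intro l
    induction l with
    | nil => simp
    | cons m l ih =>
      simp only [List.map_cons, List.sum_cons, mul_add, Finset.sum_add_distrib, ih]
      congr 1
      have h1 : ∀ (a : W) (u : F), ∑ c, y c * (u * (Pi.single c 1 : W → F) a) = u * y a := fun a u => by
        simp [Pi.single_apply, mul_comm]
      have h2 : ∀ c, ev3 x (Pi.single c 1) z m =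
          (m.1 * (x m.2.2.1 * z m.2.2.2 + z m.2.2.1 * x m.2.2.2)) * (Pi.single c 1 : W → F) m.2.1 +
          (m.1 * (x m.2.1 * z m.2.2.2 + z m.2.1 * x m.2.2.2)) * (Pi.single c 1 : W → F) m.2.2.1 +
          (m.1 * (x m.2.1 * z m.2.2.1 + z m.2.1 * x m.2.2.1)) * (Pi.single c 1 : W → F) m.2.2.2 := fun c => by
        simp only [ev3]; ring
      simp only [h2, mul_add (y _), Finset.sum_add_distrib, h1]
      simp only [ev3]; ring
  exact h L

/-- basis vectors -/
abbrev e (a : W) : W → F := Pi.single a 1

theorem L_dist : ∀ m ∈ L, m.2.1 ≠ m.2.2.1 ∧ m.2.1 ≠ m.2.2.2 ∧ m.2.2.1 ≠ m.2.2.2 := by decide +kernel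

theorem Q_e (w : W) (z : W → F) : Q (e w) z = 0 := by
  refine List.sum_eq_zero fun _ h => ?_
  obtain ⟨m, hm, rfl⟩ := List.mem_map.1 h
  obtain ⟨h1, h2, h3⟩ := L_dist m hm
  have h : ∀ a b : W, a ≠ b → (e w : W → F) a * (e w : W → F) b = 0 := fun a b hab => by
    by_cases ha : a = w
    · subst ha; simp [Pi.single_apply, hab.symm]
    · simp [Pi.single_apply, ha]
  simp only [evQ]
  linear_combination (m.1 : F) * (z m.2.2.2 * h _ _ h1 + z m.2.2.1 * h _ _ h2 + z m.2.1 * h _ _ h3)

/-- coefficient in a contraction -/
def cf (s c a b : W) (n : ℤ) : ℤ := if a = s ∧ b = c then n else 0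

/-- contraction with two basis vectors -/
def l6 (s c : W) (m : Mono) : List (ℤ × W) :=
  [(cf s c m.2.1 m.2.2.1 m.1, m.2.2.2), (cf s c m.2.2.1 m.2.1 m.1, m.2.2.2), (cf s c m.2.1 m.2.2.2 m.1, m.2.2.1),
   (cf s c m.2.2.2 m.2.1 m.1, m.2.2.1), (cf s c m.2.2.1 m.2.2.2 m.1, m.2.1), (cf s c m.2.2.2 m.2.2.1 m.1, m.2.1)]

theorem l6_chk : ∀ s c : W, (L.flatMap (l6 s c)).filter (fun p => p.1 != 0) =
    if sT s c = 0 then [] else [(sT s c, th s c)] := by decide +kernel

theorem cf_cast (s c a b : W) (n : ℤ) : ((cf s c a b n : ℤ) : F) = n * ((e s : W → F) a * (e c : W → F) b) := by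
  by_cases h1 : a = s <;> by_cases h2 : b = c <;> simp [cf, h1, h2, Pi.single_apply]

theorem f3_e (s c : W) (y : W → F) : f3 (e s) (e c) y = sT s c * y (th s c) := by
  have h1 : ∀ l : List (ℤ × W), ((l.filter fun p => p.1 != 0).map fun p => (p.1 : F) * y p.2).sum =
      (l.map fun p => (p.1 : F) * y p.2).sum := by
    intro l
    induction l with
    | nil => rfl
    | cons p l ih => by_cases h : p.1 = 0 <;> simp [List.filter_cons, h, ih]
  have h2 : ∀ l : List Mono, (l.map (ev3 (e s) (e c) y)).sum =
      ((l.flatMap (l6 s c)).map fun p => (p.1 : F) * y p.2).sum := by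
    intro l
    induction l with
    | nil => rfl
    | cons m l ih =>
      rw [List.map_cons, List.sum_cons, List.flatMap_cons, List.map_append, List.sum_append, ih]
      congr 1
      simp only [l6, List.map_cons, List.sum_cons, List.map_nil, List.sum_nil, cf_cast, ev3]; ring
  rw [f3, h2, ← h1, l6_chk]
  split_ifs with h <;> simp [h]

theorem th_chk : ∀ a b : W, sT a b ≠ 0 → sT a b * sT a b = 1 ∧ sT a (th a b) ≠ 0 ∧ th a (th a b) = b := by
  decide +kernel

theorem sT_ne {a b : W} (h : sT a b ≠ 0) : (sT a b : F) ≠ 0 := fun h0 => by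
  have := congrArg (Int.cast : ℤ → F) (th_chk a b h).1
  simp [h0] at this

theorem L_col : ∀ w : W, sT w w = 0 ∧ ∀ m ∈ L, sT w m.2.1 = 0 ∨ sT w m.2.2.1 = 0 ∨ sT w m.2.2.2 = 0 := by
  decide +kernel

theorem sing {y : W → F} (hy : ∀ z, Q y z = 0) {w : W} (hw : y w ≠ 0) (h : ∀ v, v ≠ w → sT w v = 0 → y v = 0) :
    y = y w • e w := by
  have h0 : ∀ v, sT w v = 0 → (y - y w • e w : W → F) v = 0 := fun v hv => by
    by_cases hvw : v = w
    · simp [hvw]
    · simp [Pi.single_apply, hvw, h v hvw hv]
  rw [← sub_eq_zero]
  funext v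
  by_cases hv : sT w v = 0
  · exact h0 v hv
  obtain ⟨-, h1, h2⟩ := th_chk w v hv
  have h3 := Q_add (y - y w • e w) (e w) (e (th w v)) (y w)
  rw [sub_add_cancel, hy, Q_e, f3_e, h2] at h3
  have h4 : Q (y - y w • e w) (e (th w v)) = 0 := by
    refine List.sum_eq_zero fun _ h => ?_
    obtain ⟨m, hm, rfl⟩ := List.mem_map.1 h
    have h5 : ∀ a, sT w a = 0 → (e (th w v) : W → F) a = 0 := fun a ha =>
      Pi.single_eq_of_ne (fun e' => h1 (by rw [← e']; exact ha)) _
    rcases (L_col w).2 m hm with h | h | h <;> simp only [evQ, h0 _ h, h5 _ h] <;> ring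
  rw [h4] at h3
  have h6 : y w * (sT w (th w v) * (y - y w • e w : W → F) v) = 0 := by linear_combination -h3
  simpa [hw, sT_ne (F := F) h1] using h6

/-! ### root matrices -/

/-- the root matrices -/
def E (F : Type*) [Field F] (r : Rr) : Matrix W W F := Matrix.of fun a b => if b = src r a then (sg r a : F) else 0

theorem E_mulVec (r : Rr) (x : W → F) (a : W) : (E F r *ᵥ x) a = sg r a * x (src r a) := by
  simp [E, Matrix.mulVec, dotProduct]

theorem E_mul (r : Rr) (M : Matrix W W F) (a b : W) : (E F r * M) a b = sg r a * M (src r a) b := by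
  simp [E, Matrix.mul_apply]

theorem sq_chk : ∀ (r : Rr) (a : W), sg r a * sg r (src r a) = 0 := by decide +kernel

theorem E_sq (r : Rr) : E F r * E F r = 0 := by
  ext a b
  have := congrArg (Int.cast : ℤ → F) (sq_chk r a)
  push_cast at this
  rw [E_mul]; simp only [E, Matrix.of_apply]; split_ifs <;> simp [this]

theorem Y_mul (r : Rr) (t u : F) : (1 + t • E F r) * (1 + u • E F r) = 1 + (t + u) • E F r := by
  simp only [mul_add, add_mul, mul_one, one_mul, Matrix.mul_smul, Matrix.smul_mul, E_sq, smul_zero, add_smul]
  abel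

/-- the root elements -/
def Y (r : Rr) (t : F) : GL W F :=
  ⟨1 + t • E F r, 1 + (-t) • E F r, by rw [Y_mul]; simp, by rw [Y_mul]; simp⟩

theorem Y_mulVec (r : Rr) (t : F) (x : W → F) (a : W) :
    ((Y r t).1 *ᵥ x) a = x a + t * (sg r a * x (src r a)) := by
  simp [Y, Matrix.add_mulVec, Matrix.smul_mulVec, E_mulVec]

/-- the same variables -/
def same (m n : Mono) : Bool :=
  (m.2.1 == n.2.1 && m.2.2.1 == n.2.2.1 && m.2.2.2 == n.2.2.2) ||
  (m.2.1 == n.2.1 && m.2.2.1 == n.2.2.2 && m.2.2.2 == n.2.2.1) ||
  (m.2.1 == n.2.2.1 && m.2.2.1 == n.2.1 && m.2.2.2 == n.2.2.2) ||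
  (m.2.1 == n.2.2.1 && m.2.2.1 == n.2.2.2 && m.2.2.2 == n.2.1) ||
  (m.2.1 == n.2.2.2 && m.2.2.1 == n.2.1 && m.2.2.2 == n.2.2.1) ||
  (m.2.1 == n.2.2.2 && m.2.2.1 == n.2.2.1 && m.2.2.2 == n.2.1)

/-- cancellation of monomials in pairs -/
def canc : ℕ → List Mono → Bool
  | _, [] => true
  | 0, _ :: _ => false
  | n + 1, m :: l =>
    match l.find? (fun m' => m'.1 == -m.1 && same m m') with
    | none => false
    | some m' => canc n (l.erase m')

theorem canc_spec (x : W → F) : ∀ (n : ℕ) (l : List Mono), canc n l = true → (l.map (ev x)).sum = 0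
  | _, [], _ => rfl
  | 0, _ :: _, h => by simp [canc] at h
  | n + 1, m :: l, h => by
    rw [canc] at h
    split at h
    · simp at h
    rename_i m' hm'
    have h1 := List.find?_some hm'
    have h2 := ((List.perm_cons_erase (List.mem_of_find?_eq_some hm')).map (ev x)).sum_eq
    rw [List.map_cons, List.sum_cons, h2, List.map_cons, List.sum_cons, canc_spec x n _ h]
    simp only [same, Bool.and_eq_true, Bool.or_eq_true, beq_iff_eq] at h1
    obtain ⟨h3, h4⟩ := h1
    simp only [ev, h3]
    rcases h4 with ((((h | h) | h) | h) | h) | h <;> simp only [h.1.1, h.1.2, h.2] <;> push_cast <;> ring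

/-- the derivative of a monomial along a root matrix -/
def der (r : Rr) (m : Mono) : List Mono :=
  [(m.1 * sg r m.2.1, src r m.2.1, m.2.2.1, m.2.2.2), (m.1 * sg r m.2.2.1, m.2.1, src r m.2.2.1, m.2.2.2),
    (m.1 * sg r m.2.2.2, m.2.1, m.2.2.1, src r m.2.2.2)]

theorem der_chk : ∀ r : Rr, canc 30 ((L.flatMap (der r)).filter fun m => m.1 != 0) = true ∧
    ∀ m ∈ L, sg r m.2.1 * sg r m.2.2.1 = 0 ∧ sg r m.2.1 * sg r m.2.2.2 = 0 ∧ sg r m.2.2.1 * sg r m.2.2.2 = 0 := by
  decide +kernel

theorem T_Y (r : Rr) (t : F) (x : W → F) : T ((Y r t).1 *ᵥ x) = T x := by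
  have h1 : ∀ l : List Mono, ((l.filter fun p => p.1 != 0).map (ev x)).sum = (l.map (ev x)).sum := by
    intro l
    induction l with
    | nil => rfl
    | cons p l ih => by_cases h : p.1 = 0 <;> simp [List.filter_cons, h, ih, ev]
  have h2 : ∀ l : List Mono, ((l.flatMap (der r)).map (ev x)).sum =
      (l.map fun m => ((der r m).map (ev x)).sum).sum := by
    intro l
    induction l with
    | nil => rfl
    | cons m l ih => simp only [List.flatMap_cons, List.map_append, List.sum_append, ih, List.map_cons, List.sum_cons]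
  have h3 := canc_spec x _ _ (der_chk r).1
  rw [h1, h2] at h3
  have := sum_comb L (p := ev ((Y r t).1 *ᵥ x)) (a := ev x) (b := fun m => ((der r m).map (ev x)).sum) (c := ev x)
    (d := ev x) (s := 1) (t := t) (u := 0) (v := 0) fun m hm => by
      obtain ⟨a1, a2, a3⟩ := (der_chk r).2 m hm
      have b1 := congrArg (Int.cast : ℤ → F) a1
      have b2 := congrArg (Int.cast : ℤ → F) a2
      have b3 := congrArg (Int.cast : ℤ → F) a3
      push_cast at b1 b2 b3
      simp only [ev, Y_mulVec, der, List.map_cons, List.sum_cons, List.map_nil, List.sum_nil]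
      push_cast
      linear_combination (m.1 : F) * t ^ 2 * (x (src r m.2.1) * x (src r m.2.2.1) *
        (x m.2.2.2 + t * sg r m.2.2.2 * x (src r m.2.2.2)) * b1 + x (src r m.2.1) * x m.2.2.1 * x (src r m.2.2.2) * b2 +
        x m.2.1 * x (src r m.2.2.1) * x (src r m.2.2.2) * b3)
  rw [h3] at this
  simpa [T] using this

/-- the indexing of the coordinates -/
def dec (a : W) : I27 := (Fin.ofNat 3 (a / 9), Fin.ofNat 3 (a / 3), Fin.ofNat 3 a)

theorem dec_bij : Function.Bijective dec := by decide +kernel

theorem cubicT_eq (v : I27 → F) : cubicT v = T (v ∘ dec) := by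
  simp only [cubicT, mat3, Matrix.det_fin_three, Matrix.trace, Matrix.diag, Matrix.mul_apply, Fin.sum_univ_three,
    Matrix.of_apply, T, L, ev, List.map_cons, List.sum_cons, List.map_nil, List.sum_nil, Function.comp_apply]
  have h : ∀ a : W, dec a = ![(0, 0, 0), (0, 0, 1), (0, 0, 2), (0, 1, 0), (0, 1, 1), (0, 1, 2), (0, 2, 0), (0, 2, 1),
    (0, 2, 2), (1, 0, 0), (1, 0, 1), (1, 0, 2), (1, 1, 0), (1, 1, 1), (1, 1, 2), (1, 2, 0), (1, 2, 1), (1, 2, 2),
    (2, 0, 0), (2, 0, 1), (2, 0, 2), (2, 1, 0), (2, 1, 1), (2, 1, 2), (2, 2, 0), (2, 2, 1), (2, 2, 2)] a := by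
    decide +kernel
  simp only [h]
  simp
  ring

end Cfsg.Agent.Lie.Cub
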