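import Cfsg.Agent.Lie.Cub0

set_option autoImplicit false
set_option linter.unusedSectionVars false
set_option linter.unusedSimpArgs false
set_option maxRecDepth 100000

/-! The isometry group of the cubic form in 27 variables is generated by the root elements. -/

namespace Cfsg.Agent.Lie.Cub

open Cfsg.Lie
open scoped Matrix MatrixGroups

variable {F : Type*} [Field F]

/-- the isometry group -/
def Γ (F : Type*) [Field F] : Subgroup (GL W F) := funStab F T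

/-- the group generated by the root elements -/
def EE (F : Type*) [Field F] : Subgroup (GL W F) := Subgroup.closure {g | ∃ r t, g = Y r t}

theorem mem_Γ {g : GL W F} : g ∈ Γ F ↔ ∀ x, T (g.1 *ᵥ x) = T x := Iff.rfl

theorem Y_Γ (r : Rr) (t : F) : Y r t ∈ Γ F := T_Y r t

theorem Y_EE (r : Rr) (t : F) : Y r t ∈ EE F := Subgroup.subset_closure ⟨r, t, rfl⟩

theorem EE_le : EE F ≤ Γ F := (Subgroup.closure_le _).2 (by rintro _ ⟨r, t, rfl⟩; exact Y_Γ r t)

theorem gl_inj (g : GL W F) {x y : W → F} (h : g.1 *ᵥ x = g.1 *ᵥ y) : x = y := by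
  have := congrArg (g⁻¹.1 *ᵥ ·) h
  simpa [Matrix.mulVec_mulVec] using this

theorem gl_surj (g : GL W F) (y : W → F) : g.1 *ᵥ (g⁻¹.1 *ᵥ y) = y := by
  simp [Matrix.mulVec_mulVec]

theorem ne_of_dg {g : GL W F} {s : W} {a : F} (h : g.1 *ᵥ e s = a • e s) : a ≠ 0 := by
  rintro rfl
  have := gl_inj g (x := e s) (y := 0) (by simpa using h)
  simpa using congrFun this s

section
variable (hF : ∃ a : F, a ≠ 0 ∧ a ≠ 1) {g : GL W F} (hg : g ∈ Γ F)
include hF hg

theorem Q_inv (x y : W → F) : Q (g.1 *ᵥ x) (g.1 *ᵥ y) = Q x y := by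
  obtain ⟨a, h0, h1⟩ := hF
  have h : ∀ t : F, t * (Q (g.1 *ᵥ x) (g.1 *ᵥ y) - Q x y) + t ^ 2 * (Q (g.1 *ᵥ y) (g.1 *ᵥ x) - Q y x) = 0 := fun t => by
    have h2 := hg (x + t • y)
    change T (g.1 *ᵥ (x + t • y)) = T _ at h2
    rw [Matrix.mulVec_add, Matrix.mulVec_smul, T_add, T_add, mem_Γ.1 hg, mem_Γ.1 hg] at h2
    linear_combination h2
  have h3 : a * (1 - a) * (Q (g.1 *ᵥ x) (g.1 *ᵥ y) - Q x y) = 0 := by linear_combination h a - a ^ 2 * h 1
  simpa [h0, sub_eq_zero, h1.symm] using h3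

theorem f3_inv (x y z : W → F) : f3 (g.1 *ᵥ x) (g.1 *ᵥ y) (g.1 *ᵥ z) = f3 x y z := by
  have h1 := Q_add z x y 1
  have h2 := Q_add (g.1 *ᵥ z) (g.1 *ᵥ x) (g.1 *ᵥ y) 1
  rw [← Matrix.mulVec_smul, ← Matrix.mulVec_add, Q_inv hF hg, Q_inv hF hg, Q_inv hF hg] at h2
  linear_combination h1 - h2

end

/-- diagonal on a set of weights -/
def Dg (g : GL W F) (S : List W) : Prop := ∀ s ∈ S, ∃ a : F, g.1 *ᵥ e s = a • e s

/-- roots fixing the given weight vectors -/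
def Harm (r : Rr) (S : List W) : Prop := ∀ a, sg r a = 0 ∨ src r a ∉ S
instance decHarm (r : Rr) (S : List W) : Decidable (Harm r S) := by unfold Harm; infer_instance

/-- excluded coordinates -/
def Ex (S : List W) (w v : W) : Prop :=
  (∃ s ∈ S, sT s w = 0 ∧ sT s v ≠ 0) ∨ (v ≠ w ∧ ∃ s ∈ S, ∃ s' ∈ S, sT s s' ≠ 0 ∧ th s s' = v)
instance decEx (S : List W) (w v : W) : Decidable (Ex S w v) := by unfold Ex; infer_instance

/-- harmless moves -/
def Edge (S : List W) (v u : W) : Prop := ∃ r, src r u = v ∧ sg r u ≠ 0 ∧ Harm r S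
instance decEdge (S : List W) (w v : W) : Decidable (Edge S w v) := by unfold Edge; infer_instance

/-- at most two harmless moves -/
def Reach (S : List W) (w v : W) : Prop := v = w ∨ Edge S v w ∨ ∃ u, Edge S v u ∧ Edge S u w
instance decReach (S : List W) (w v : W) : Decidable (Reach S w v) := by unfold Reach; infer_instance

/-- one step -/
def Step (S : List W) (w : W) : Prop :=
  (∀ v, v = w ∨ sT w v ≠ 0 ∨ Ex S w v ∨
    ∃ r, src r v = w ∧ sg r v ≠ 0 ∧ Harm r S ∧ ∀ u, u = v ∨ sg r u = 0 ∨ sT w u ≠ 0) ∧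
  ((∃ s ∈ S, ∃ s' ∈ S, sT s s' ≠ 0 ∧ th s s' = w) ∨ (w ∉ S ∧ ∀ v, v ∈ S ∨ Ex S w v ∨ Reach S w v) ∨
    ∃ s ∈ S, sT s w ≠ 0 ∧ ∀ v, sT s v = 0 ∨ Reach S w v)
instance decStep (S : List W) (w : W) : Decidable (Step S w) := by unfold Step; infer_instance

theorem sg_chk : ∀ (r : Rr) (a : W), sg r a ≠ 0 → sg (ng r) a = 0 ∧ sg r (src r a) = 0 ∧ src (ng r) (src r a) = a ∧
    sg r a * sg (ng r) (src r a) = 1 := by decide +kernel

theorem sg_ne {r : Rr} {a : W} (h : sg r a ≠ 0) : (sg r a : F) ≠ 0 := fun h0 => by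
  have := congrArg (Int.cast : ℤ → F) (sg_chk r a h).2.2.2
  simp [h0] at this

theorem Harm.dg {r : Rr} {S : List W} (h : Harm r S) {g : GL W F} (hg : Dg g S) (t : F) : Dg (Y r t * g) S := by
  intro s hs
  obtain ⟨a, ha⟩ := hg s hs
  refine ⟨a, ?_⟩
  rw [Units.val_mul, ← Matrix.mulVec_mulVec, ha]
  funext b
  rw [Y_mulVec]
  rcases h b with h | h
  · simp [h]
  · have : src r b ≠ s := fun e' => h (e' ▸ hs)
    simp [Pi.single_apply, this]

section
variable (hF : ∃ a : F, a ≠ 0 ∧ a ≠ 1) {g : GL W F} (hg : g ∈ Γ F) {S : List W} (hS : Dg g S)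
include hF hg hS

theorem third {s s' : W} (hs : s ∈ S) (hs' : s' ∈ S) (h : sT s s' ≠ 0) (w : W) :
    ∃ c : F, c ≠ 0 ∧ c * (g.1 *ᵥ e w) (th s s') = (e w : W → F) (th s s') := by
  obtain ⟨a, ha⟩ := hS s hs
  obtain ⟨b, hb⟩ := hS s' hs'
  have h1 := f3_inv hF hg (e s) (e s') (e w)
  rw [ha, hb, f3_smul, f3_e, f3_e] at h1
  exact ⟨a * b, mul_ne_zero (ne_of_dg ha) (ne_of_dg hb), mul_left_cancel₀ (sT_ne h) (by linear_combination h1)⟩

theorem f3_dg {s : W} (hs : s ∈ S) (w : W) :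
    ∃ a : F, a ≠ 0 ∧ ∀ z, a * f3 (e s) (g.1 *ᵥ z) (g.1 *ᵥ e w) = sT s w * z (th s w) := by
  obtain ⟨a, ha⟩ := hS s hs
  refine ⟨a, ne_of_dg ha, fun z => ?_⟩
  have h1 := f3_inv hF hg (e s) z (e w)
  rw [ha, ← one_smul F (g.1 *ᵥ z), f3_smul, f3_swap (e s) z, f3_e] at h1
  linear_combination h1

theorem Ex.zero {w v : W} (h : Ex S w v) : (g.1 *ᵥ e w) v = 0 := by
  rcases h with ⟨s, hs, h1, h2⟩ | ⟨h0, s, hs, s', hs', h1, rfl⟩
  · obtain ⟨a, ha, h3⟩ := f3_dg hF hg hS hs w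
    have h4 := h3 (g⁻¹.1 *ᵥ e (th s v))
    obtain ⟨-, h5, h6⟩ := th_chk s v h2
    rw [gl_surj, f3_e, h6, h1] at h4
    simpa [ha, sT_ne (F := F) h5] using h4
  · obtain ⟨c, hc, h3⟩ := third hF hg hS hs hs' h1 w
    simpa [hc, Pi.single_apply, h0] using h3

end

theorem of_Y {r : Rr} {t : F} {g : GL W F} (h : Y r t * g ∈ EE F) : g ∈ EE F :=
  (Subgroup.mul_mem_cancel_left _ (Y_EE r t)).1 h

theorem Y_mul_apply (r : Rr) (t : F) (g : GL W F) (x : W → F) (a : W) :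
    ((Y r t * g).1 *ᵥ x) a = (g.1 *ᵥ x) a + t * (sg r a * (g.1 *ᵥ x) (src r a)) := by
  rw [Units.val_mul, ← Matrix.mulVec_mulVec, Y_mulVec]

theorem step (hF : ∃ a : F, a ≠ 0 ∧ a ≠ 1) {S : List W} {w : W} (h : Step S w)
    (ih : ∀ g ∈ Γ F, Dg g (w :: S) → g ∈ EE F) : ∀ g ∈ Γ F, Dg g S → g ∈ EE F := by
  have hB : ∀ K : List W, ∀ g ∈ Γ F, Dg g S → (g.1 *ᵥ e w) w ≠ 0 →
      (∀ v, v ≠ w → sT w v = 0 → v ∉ K → (g.1 *ᵥ e w) v = 0) → g ∈ EE F := by
    intro K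
    induction K with
    | nil =>
      intro g hg hS h1 h2
      refine ih g hg fun s hs => ?_
      rcases List.mem_cons.1 hs with rfl | hs
      · refine ⟨_, sing (fun z => ?_) h1 fun v h3 h4 => h2 v h3 h4 (by simp)⟩
        rw [← gl_surj g z, Q_inv hF hg, Q_e]
      · exact hS s hs
    | cons v K ihK =>
      intro g hg hS h1 h2
      have h0 : (v = w ∨ sT w v ≠ 0 ∨ (g.1 *ᵥ e w) v = 0) → g ∈ EE F := fun h0 =>
        ihK g hg hS h1 fun u h3 h4 h5 => by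
          by_cases huv : u = v
          · subst huv; tauto
          · exact h2 u h3 h4 (by simp [huv, h5])
      by_cases hvw : v = w
      · exact h0 (.inl hvw)
      rcases h.1 v with h3 | h3 | h3 | ⟨r, h3, h4, h5, h6⟩
      · exact h0 (.inl h3)
      · exact h0 (.inr (.inl h3))
      · exact h0 (.inr (.inr (h3.zero hF hg hS)))
      refine of_Y (r := r) (t := - (g.1 *ᵥ e w) v / (sg r v * (g.1 *ᵥ e w) w))
        (ihK _ (mul_mem (Y_Γ _ _) hg) (h5.dg hS _) ?_ fun u h7 h8 h9 => ?_)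
      · have : sg r w = 0 := by have := h6 w; have := (L_col w).1; tauto
        rwa [Y_mul_apply, this, Int.cast_zero, zero_mul, mul_zero, add_zero]
      · rw [Y_mul_apply]
        by_cases huv : u = v
        · subst huv
          have := sg_ne (F := F) h4
          rw [h3]; field_simp; ring
        · have : sg r u = 0 := by have := h6 u; tauto
          rw [this, h2 u h7 h8 (by simp [huv, h9])]; simp
  have hw : ∀ g ∈ Γ F, Dg g S → (g.1 *ᵥ e w) w ≠ 0 → g ∈ EE F := fun g hg hS h1 =>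
    hB (List.finRange 27) g hg hS h1 fun v _ _ h => absurd (List.mem_finRange v) h
  have hE : ∀ v u, Edge S v u → (∀ g ∈ Γ F, Dg g S → (g.1 *ᵥ e w) u ≠ 0 → g ∈ EE F) →
      ∀ g ∈ Γ F, Dg g S → (g.1 *ᵥ e w) v ≠ 0 → g ∈ EE F := by
    rintro _ u ⟨r, rfl, h2, h3⟩ hu g hg hS h1
    by_cases h4 : (g.1 *ᵥ e w) u = 0
    · refine of_Y (r := r) (t := 1) (hu _ (mul_mem (Y_Γ _ _) hg) (h3.dg hS _) ?_)
      rw [Y_mul_apply, h4]
      simpa [sg_ne (F := F) h2] using h1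
    · exact hu g hg hS h4
  have hR : ∀ v, Reach S w v → ∀ g ∈ Γ F, Dg g S → (g.1 *ᵥ e w) v ≠ 0 → g ∈ EE F := by
    rintro v (rfl | h1 | ⟨u, h1, h2⟩)
    · exact hw
    · exact hE _ _ h1 hw
    · exact hE _ _ h1 (hE _ _ h2 hw)
  intro g hg hS
  rcases h.2 with ⟨s, hs, s', hs', h1, rfl⟩ | ⟨h1, h2⟩ | ⟨s, hs, h1, h2⟩
  · obtain ⟨c, -, h3⟩ := third hF hg hS hs hs' h1 (th s s')
    exact hw g hg hS fun h4 => by simp [h4] at h3
  · by_contra hn
    have h3 : ∀ v, v ∉ S → (g.1 *ᵥ e w) v = 0 := fun v hv => by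
      rcases h2 v with h | h | h
      · exact absurd h hv
      · exact h.zero hF hg hS
      · by_contra h4; exact hn (hR v h g hg hS h4)
    choose! a ha using hS
    have h4 : g.1 *ᵥ (∑ v, (if v ∈ S then (g.1 *ᵥ e w) v / a v else 0) • e v) = g.1 *ᵥ e w := by
      rw [Matrix.mulVec_sum]
      conv_rhs => rw [← Finset.univ_sum_single (g.1 *ᵥ e w)]
      refine Finset.sum_congr rfl fun v _ => ?_
      rw [Matrix.mulVec_smul]
      split_ifs with hv
      · rw [ha v hv, smul_smul, div_mul_cancel₀ _ (ne_of_dg (ha v hv)), ← Pi.single_smul', smul_eq_mul, mul_one]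
      · simp [h3 v hv]
    have h5 := congrFun (gl_inj g h4) w
    rw [Finset.sum_apply, Finset.sum_eq_zero] at h5
    · simp at h5
    intro c _
    by_cases hc : c = w
    · simp [hc, h1]
    · simp [Pi.single_apply, Ne.symm hc]
  · by_contra hn
    obtain ⟨a, -, h3⟩ := f3_dg hF hg hS hs w
    have h4 := h3 (e (th s w))
    rw [f3_sum, Finset.sum_eq_zero] at h4
    · exact sT_ne (F := F) h1 (by simpa using h4.symm)
    intro c _
    rw [f3_e]
    by_cases hc : sT s c = 0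
    · simp [hc]
    rcases h2 (th s c) with h | h
    · exact absurd h (th_chk s c hc).2.1
    · by_cases h5 : (g.1 *ᵥ e w) (th s c) = 0
      · rw [h5]; simp
      · exact absurd (hR _ h g hg hS h5) hn

/-- chains of steps -/
def chain (P : List W → W → Prop) [∀ S w, Decidable (P S w)] : List W → Bool
  | [] => true
  | w :: S => decide (P S w) && chain P S

theorem chain_ind {P : List W → W → Prop} [∀ S w, Decidable (P S w)] {R : List W → Prop}
    (h : ∀ S w, P S w → R (w :: S) → R S) : ∀ l, chain P l = true → R l → R []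
  | [], _, h1 => h1
  | w :: S, h0, h1 => by
    simp only [chain, Bool.and_eq_true, decide_eq_true_eq] at h0
    exact chain_ind h S h0.2 (h S w h0.1 h1)

theorem chain0 : chain Step
    [26, 25, 24, 23, 22, 21, 17, 13, 11, 16, 14, 10, 20, 19, 15, 12, 18, 9, 7, 5, 6, 2, 3, 1, 8, 4, 0] = true := by
  decide +kernel

/-- the torus elements -/
def hh (r : Rr) (t : F) : GL W F := Y r t * (Y (ng r) (-t⁻¹) * (Y r t * (Y r (-1) * (Y (ng r) 1 * Y r (-1)))))

theorem hh_EE (r : Rr) (t : F) : hh r t ∈ EE F :=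
  mul_mem (Y_EE _ _) (mul_mem (Y_EE _ _) (mul_mem (Y_EE _ _) (mul_mem (Y_EE _ _) (mul_mem (Y_EE _ _) (Y_EE _ _)))))

theorem hh_pair {r : Rr} {a : W} (h : sg r a ≠ 0) {t : F} (ht : t ≠ 0) (x : W → F) :
    ((hh r t).1 *ᵥ x) a = t * x a ∧ ((hh r t).1 *ᵥ x) (src r a) = t⁻¹ * x (src r a) := by
  obtain ⟨h1, h2, h3, h4⟩ := sg_chk r a h
  have h5 := congrArg (Int.cast : ℤ → F) h4
  push_cast at h5
  have h6 : (sg (ng r) (src r a) : F) = (sg r a : F)⁻¹ := eq_inv_of_mul_eq_one_right h5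
  have h7 := sg_ne (F := F) h
  simp only [hh, Y_mul_apply, Y_mulVec, h1, h2, h3, h6, Int.cast_zero, zero_mul, mul_zero, add_zero]
  constructor <;> field_simp <;> ring

theorem hh_apply (r : Rr) {t : F} (ht : t ≠ 0) (x : W → F) (a : W) :
    ((hh r t).1 *ᵥ x) a = (if sg r a ≠ 0 then t else if sg (ng r) a ≠ 0 then t⁻¹ else 1) * x a := by
  split_ifs with h1 h2
  · exact (hh_pair h1 ht x).1
  · obtain ⟨-, -, h3, h4⟩ := sg_chk _ a h2
    rw [ng_ng] at h3 h4
    have := (hh_pair (r := r) (a := src (ng r) a) (fun h => by simp [h] at h4) ht x).2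
    rwa [h3] at this
  · push Not at h1 h2
    simp only [hh, Y_mul_apply, Y_mulVec, h1, h2, Int.cast_zero, zero_mul, mul_zero, add_zero, one_mul]

/-- one step of the normalisation of a diagonal element -/
def Step1 (S : List W) (w : W) : Prop :=
  (∃ s ∈ S, ∃ s' ∈ S, sT s s' ≠ 0 ∧ th s s' = w) ∨ ∃ r, sg r w ≠ 0 ∧ ∀ s ∈ S, sg r s = 0 ∧ sg (ng r) s = 0
instance decStep1 (S : List W) (w : W) : Decidable (Step1 S w) := by unfold Step1; infer_instance

theorem chain1 : chain Step1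
    [26, 25, 24, 23, 22, 21, 17, 13, 11, 16, 14, 10, 20, 19, 15, 12, 18, 9, 8, 4, 6, 5, 7, 3, 2, 1, 0] = true := by
  decide +kernel

theorem step1 (hF : ∃ a : F, a ≠ 0 ∧ a ≠ 1) {S : List W} {w : W} (h : Step1 S w)
    (ih : ∀ g ∈ Γ F, (∀ s, ∃ a : F, g.1 *ᵥ e s = a • e s) → (∀ s ∈ w :: S, g.1 *ᵥ e s = e s) → g ∈ EE F) :
    ∀ g ∈ Γ F, (∀ s, ∃ a : F, g.1 *ᵥ e s = a • e s) → (∀ s ∈ S, g.1 *ᵥ e s = e s) → g ∈ EE F := by
  intro g hg hd hS
  obtain ⟨a, ha⟩ := hd w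
  rcases h with ⟨s, hs, s', hs', h1, rfl⟩ | ⟨r, h1, h2⟩
  · refine ih g hg hd fun u hu => ?_
    rcases List.mem_cons.1 hu with rfl | hu
    · have h3 := f3_inv hF hg (e s) (e s') (e (th s s'))
      rw [hS s hs, hS s' hs', ha, f3_e, f3_e] at h3
      have : a = 1 := by simpa [sT_ne (F := F) h1] using h3
      rw [ha, this, one_smul]
    · exact hS u hu
  · have h0 := inv_ne_zero (ne_of_dg ha)
    have h3 : ∀ (s : W) (c : F), g.1 *ᵥ e s = c • e s → (hh r a⁻¹ * g).1 *ᵥ e s =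
        ((if sg r s ≠ 0 then a⁻¹ else if sg (ng r) s ≠ 0 then a⁻¹⁻¹ else 1) * c) • e s := fun s c hc => by
      rw [Units.val_mul, ← Matrix.mulVec_mulVec, hc]
      funext b
      rw [hh_apply r h0]
      by_cases hb : b = s
      · subst hb; simp
      · simp [Pi.single_apply, hb]
    refine (Subgroup.mul_mem_cancel_left _ (hh_EE r a⁻¹)).1
      (ih _ (mul_mem (EE_le (hh_EE _ _)) hg) (fun s => ?_) fun u hu => ?_)
    · obtain ⟨c, hc⟩ := hd s
      exact ⟨_, h3 s c hc⟩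
    rcases List.mem_cons.1 hu with rfl | hu
    · rw [h3 _ a ha, if_pos h1, inv_mul_cancel₀ (ne_of_dg ha), one_smul]
    · rw [h3 u 1 (by rw [hS u hu, one_smul])]
      simp [h2 u hu]

theorem Γ_eq (hF : ∃ a : F, a ≠ 0 ∧ a ≠ 1) : Γ F = EE F := by
  refine le_antisymm (fun g hg => ?_) EE_le
  refine chain_ind (R := fun S => ∀ g ∈ Γ F, Dg g S → g ∈ EE F) (fun S w h => step hF h) _ chain0
    (fun g hg hd => ?_) g hg (by simp [Dg])
  refine chain_ind (R := fun S => ∀ g ∈ Γ F, (∀ s, ∃ a : F, g.1 *ᵥ e s = a • e s) →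
    (∀ s ∈ S, g.1 *ᵥ e s = e s) → g ∈ EE F) (fun S w h => step1 hF h) _ chain1
    (fun g _ _ h1 => ?_) g hg (fun s => hd s (by revert s; decide)) (by simp)
  have : g = 1 := by
    ext a b
    have := congrFun (h1 b (by revert b; decide)) a
    simpa [Matrix.one_apply, Pi.single_apply] using this
  rw [this]; exact one_mem _

end Cfsg.Agent.Lie.Cub
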