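import Cfsg.Agent.Lie.Cub1

set_option autoImplicit false
set_option linter.unusedSectionVars false
set_option linter.unusedSimpArgs false
set_option maxRecDepth 100000
set_option Elab.async false

/-! The 27-dimensional representation of the Lie algebra of type `E₆` and the Chevalley group. -/

namespace Cfsg.Agent.Lie.Cub

open Cfsg.Lie
open scoped Matrix MatrixGroups

theorem wt_chk : ∀ (r : Rr) (a : W) (i : Ix chevE6), sg r a = 0 ∨ wt a i = wt (src r a) i + tabE6.caf i r := by
  decide +kernel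

theorem ca_chk : ∀ (r : Rr) (i : Ix chevE6), ca i r = tabE6.caf i r ∧ cr r i = tabE6.crf r i := by decide +kernel

theorem cr_chk : ∀ (r : Rr) (a : W), ∑ i : Ix chevE6, tabE6.crf r i * wt a i =
    if sg r a ≠ 0 then 1 else if sg (ng r) a ≠ 0 then -1 else 0 := by decide +kernel

/-- three terms cancel -/
def Tri (p q n : ℤ) (a b c : W) : Prop :=
  p = q + n ∧ (p = 0 ∨ q = 0 ∨ a = b) ∧ (p = 0 ∨ n = 0 ∨ a = c) ∧ (q = 0 ∨ n = 0 ∨ b = c)
instance decTri (p q n : ℤ) (a b c : W) : Decidable (Tri p q n a b c) := by unfold Tri; infer_instance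

/-- the bracket relations -/
def Br (r s : Rr) : Prop := s = ng r ∨ (N r s = 0 ∨ N r (add r s) = 0) ∧ ∀ a : W,
    Tri (sg r a * sg s (src r a)) (sg s a * sg r (src s a)) (N r s * sg (add r s) a) (src s (src r a))
      (src r (src s a)) (src (add r s) a) ∧ N r s * sg (add r s) a * sg r (src (add r s) a) = 0
noncomputable instance decBr (r s : Rr) : Decidable (Br r s) := by unfold Br; infer_instance

theorem br_chk0 : ∀ r : Rr, r.1 / 9 = 0 → ∀ s, Br r s := by decide +kernel
theorem br_chk1 : ∀ r : Rr, r.1 / 9 = 1 → ∀ s, Br r s := by decide +kernel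
theorem br_chk2 : ∀ r : Rr, r.1 / 9 = 2 → ∀ s, Br r s := by decide +kernel
theorem br_chk3 : ∀ r : Rr, r.1 / 9 = 3 → ∀ s, Br r s := by decide +kernel
theorem br_chk4 : ∀ r : Rr, r.1 / 9 = 4 → ∀ s, Br r s := by decide +kernel
theorem br_chk5 : ∀ r : Rr, r.1 / 9 = 5 → ∀ s, Br r s := by decide +kernel
theorem br_chk6 : ∀ r : Rr, r.1 / 9 = 6 → ∀ s, Br r s := by decide +kernel
theorem br_chk7 : ∀ r : Rr, r.1 / 9 = 7 → ∀ s, Br r s := by decide +kernel

theorem br_chk (r s : Rr) : Br r s := by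
  have h : r.1 < 72 := r.2
  have h1 : r.1 / 9 < 8 := by omega
  interval_cases h2 : r.1 / 9
  exacts [br_chk0 r h2 s, br_chk1 r h2 s, br_chk2 r h2 s, br_chk3 r h2 s, br_chk4 r h2 s, br_chk5 r h2 s,
    br_chk6 r h2 s, br_chk7 r h2 s]

theorem Tri.eq {p q n : ℤ} {a b c : W} (h : Tri p q n a b c) (d : W) :
    (if d = a then p else 0) = (if d = b then q else 0) + if d = c then n else 0 := by
  obtain ⟨h1, h2, h3, h4⟩ := h
  simp only [Fin.ext_iff] at *
  split_ifs <;> omega

end Cfsg.Agent.Lie.Cub
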