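import Cfsg.Agent.Lie.Cub2

set_option autoImplicit false
set_option linter.unusedSectionVars false
set_option linter.unusedSimpArgs false
set_option maxRecDepth 100000

/-! The 27-dimensional representation of the Lie algebra of type `E₆` and the Chevalley group. -/

namespace Cfsg.Agent.Lie.Cub

open Cfsg.Lie
open scoped Matrix MatrixGroups

variable {F : Type*} [Field F]

/-- images of the basis vectors -/
def ρb (F : Type*) [Field F] : chevE6.Idx → Matrix W W F
  | Sum.inl i => Matrix.diagonal fun a => (wt a i : F)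
  | Sum.inr r => E F r

/-- the representation -/
noncomputable def ρ (F : Type*) [Field F] : (chevE6.Idx → F) →ₗ[F] Matrix W W F := Fintype.linearCombination F (ρb F)

theorem ρ_eB (a : chevE6.Idx) : ρ F (eB F a) = ρb F a := by simp [ρ, eB]

theorem EE_apply (r s : Rr) (a b : W) : (E F r * E F s) a b =
    ((if b = src s (src r a) then sg r a * sg s (src r a) else 0 : ℤ) : F) := by
  rw [E_mul]; simp only [E, Matrix.of_apply]; split_ifs <;> simp

theorem EH (r : Rr) (i : Ix chevE6) :
    E F r * ρb F (Sum.inl i) = ρb F (Sum.inl i) * E F r - (ca i r : F) • E F r := by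
  ext a b
  simp only [ρb, Matrix.mul_diagonal, Matrix.diagonal_mul, Matrix.sub_apply, Matrix.smul_apply, E, Matrix.of_apply,
    (ca_chk r i).1]
  split_ifs with h
  · rcases wt_chk r a i with h1 | h1 <;> simp [h, h1]; ring
  · simp

theorem EE_br {r s : Rr} (h : s ≠ ng r) : E F r * E F s = E F s * E F r + (N r s : F) • E F (add r s) ∧
    (N r s : F) • (E F (add r s) * E F r) = 0 := by
  have h1 := ((br_chk r s).resolve_left h).2
  constructor
  · ext a b
    rw [Matrix.add_apply, EE_apply, EE_apply, Tri.eq (h1 a).1 b]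
    simp only [E, Matrix.smul_apply, Matrix.of_apply]
    split_ifs <;> simp
  · ext a b
    have := congrArg (Int.cast : ℤ → F) (h1 a).2
    rw [Matrix.smul_apply, EE_apply]
    split_ifs
    · simpa [mul_assoc] using this
    · simp

theorem ρ_hB (r : Rr) : ρ F (hB F r) =
    Matrix.diagonal fun a => if sg r a ≠ 0 then 1 else if sg (ng r) a ≠ 0 then -1 else 0 := by
  rw [hB_eq, map_sum]
  ext a b
  have := congrArg (Int.cast : ℤ → F) (cr_chk r a)
  push_cast at this
  simp only [map_smul, ρ_eB, ρb, Matrix.sum_apply, Matrix.smul_apply, Matrix.diagonal_apply, ← this, smul_eq_mul,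
    (ca_chk r _).2]
  split_ifs <;> simp

theorem EE_ng (r : Rr) : E F r * E F (ng r) = Matrix.diagonal fun a => if sg r a ≠ 0 then 1 else 0 := by
  ext a b
  rw [EE_apply, Matrix.diagonal_apply]
  by_cases h : sg r a = 0
  · simp [h]
  · obtain ⟨-, -, h1, h2⟩ := sg_chk r a h
    simp [h, h1, h2, eq_comm]

theorem Y_ρ (r : Rr) (t : F) (v : chevE6.Idx → F) : (Y r t).1 * ρ F v = ρ F (xR F r t *ᵥ v) * (Y r t).1 := by
  have key : ∀ a, (Y r t).1 * ρ F (eB F a) = ρ F (xR F r t *ᵥ eB F a) * (Y r t).1 := by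
    rintro (i | s)
    · rw [xR_hE]
      simp only [map_sub, map_smul, ρ_eB, Y, mul_add, add_mul, sub_mul, mul_one, one_mul, Matrix.mul_smul,
        Matrix.smul_mul, EH]
      simp only [ρb, E_sq, smul_zero, smul_sub, smul_smul, mul_comm t]
      abel
    by_cases h : s = ng r
    · subst h
      have h1 : E F r * E F (ng r) = E F (ng r) * E F r + ρ F (hB F r) := by
        have := EE_ng (F := F) (ng r)
        rw [ng_ng] at this
        rw [EE_ng, this, ρ_hB, Matrix.diagonal_add]
        congr 1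
        funext a
        by_cases h : sg r a = 0
        · by_cases h' : sg (ng r) a = 0 <;> simp [h, h']
        · simp [h, (sg_chk r a h).1]
      have h2 : ρ F (hB F r) * E F r = E F r := by
        ext a b
        rw [ρ_hB, Matrix.diagonal_mul]
        by_cases h : sg r a = 0 <;> simp [E, h]
      rw [xR_eE_ng]
      simp only [map_sub, map_add, map_smul, ρ_eB, Y, mul_add, add_mul, sub_mul, mul_one, one_mul, Matrix.mul_smul,
        Matrix.smul_mul, ρb, h1, h2, E_sq, smul_zero, smul_add, smul_sub, smul_smul, sq]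
      abel
    obtain ⟨h1, h2⟩ := EE_br (F := F) h
    have h3 : xR F r t *ᵥ eE F s = eE F s + (N r s * t) • eE F (add r s) := by
      rcases ((br_chk r s).resolve_left h).1 with h0 | h0
      · rw [xR_eE_of_N h h0, h0]; simp
      · exact xR_eE_of_N2 h h0 t
    rw [h3]
    simp only [map_add, map_smul, ρ_eB, Y, mul_add, add_mul, mul_one, one_mul, Matrix.mul_smul,
      Matrix.smul_mul, ρb, h1, smul_add, mul_comm _ t, mul_smul, h2, smul_zero]
    abel
  exact LinearMap.congr_fun (lin_ext_eB (φ := LinearMap.mulLeft F (Y r t).1 ∘ₗ ρ F)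
    (ψ := LinearMap.mulRight F (Y r t).1 ∘ₗ ρ F ∘ₗ (xR F r t).mulVecLin) key) v

theorem inj_chk : ∀ r : Rr, ∃ a, sg r a ≠ 0 ∧ src r a ≠ a ∧ ∀ s, s = r ∨ sg s a = 0 ∨ src s a ≠ src r a := by
  decide +kernel

theorem diag_chk : ∀ (s : Rr) (a : W), sg s a = 0 ∨ src s a ≠ a := by decide +kernel

theorem bas_chk : ∀ i j : Ix chevE6, ∑ k : Fin 6,
    (List.getD (List.getD [[0, 0, 0, 0, 1, 0], [1, 0, 0, 0, 1, 1], [0, 0, 0, 0, 1, 1], [0, 0, 1, 0, 1, 1],
      [-1, 1, 1, 0, 0, 0], [-1, 1, 1, 1, 0, 0]] i []) k 0 : ℤ) * wt (![0, 1, 2, 3, 9, 10] k) j =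
      if j = i then 1 else 0 := by
  decide +kernel

theorem ρ_inj : Function.Injective (ρ F) := by
  rw [injective_iff_map_eq_zero]
  intro v hv
  have h : ∀ a b, ∑ i, v (Sum.inl i) * (if a = b then (wt a i : F) else 0) +
      ∑ r, v (Sum.inr r) * (if b = src r a then (sg r a : F) else 0) = 0 := fun a b => by
    have := congrFun (congrFun hv a) b
    simpa [ρ, Fintype.linearCombination_apply, Fintype.sum_sum_type, Matrix.sum_apply, ρb, E,
      Matrix.diagonal_apply] using this
  funext x
  rcases x with i | r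
  · have h1 : ∀ a, ∑ j, v (Sum.inl j) * (wt a j : F) = 0 := fun a => by
      have := h a a
      rw [Finset.sum_eq_zero (s := Finset.univ) (f := fun r : Rr => _), add_zero] at this
      · simpa using this
      · intro s _
        rcases diag_chk s a with h | h <;> simp [h, Ne.symm]
    have h2 : ∀ j, _ := fun j => congrArg (Int.cast : ℤ → F) (bas_chk i j)
    push_cast at h2
    have h3 : v (Sum.inl i) = ∑ j, v (Sum.inl j) * if j = i then 1 else 0 := by simp
    rw [h3]
    simp only [← h2, Finset.mul_sum]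
    rw [Finset.sum_comm]
    refine Finset.sum_eq_zero fun k _ => ?_
    simp only [mul_left_comm (v _), ← Finset.mul_sum, h1, mul_zero]
  · obtain ⟨a, h1, h2, h3⟩ := inj_chk r
    have := h a (src r a)
    rw [Finset.sum_eq_single r] at this
    · simpa [h2.symm, sg_ne (F := F) h1] using this
    · intro s _ hs
      rcases h3 s with h | h | h
      · exact absurd h hs
      · simp [h]
      · simp [h.symm]
    · simp

/-- compatible pairs -/
def PP (F : Type*) [Field F] : Subgroup (GL W F × GL chevE6.Idx F) where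
  carrier := {p | ∀ v, p.1.1 * ρ F v = ρ F (p.2.1 *ᵥ v) * p.1.1}
  one_mem' v := by simp
  mul_mem' {p q} hp hq v := by
    simp only [Prod.fst_mul, Prod.snd_mul, Units.val_mul, ← Matrix.mulVec_mulVec]
    rw [mul_assoc, hq, ← mul_assoc, hp, mul_assoc]
  inv_mem' {p} hp v := by
    have := hp (p.2⁻¹.1 *ᵥ v)
    rw [Matrix.mulVec_mulVec, Units.mul_inv, Matrix.one_mulVec] at this
    simp only [Prod.fst_inv, Prod.snd_inv]
    rw [Units.inv_mul_eq_iff_eq_mul, ← mul_assoc, this, Units.mul_inv_cancel_right]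

/-- the group generated by the pairs of root elements -/
def P0 (F : Type*) [Field F] : Subgroup (GL W F × GL chevE6.Idx F) :=
  Subgroup.closure {p | ∃ r t, p = (Y r t, xG r t)}

theorem P0_le : P0 F ≤ PP F := (Subgroup.closure_le _).2 (by rintro _ ⟨r, t, rfl⟩; exact Y_ρ r t)

theorem P0_fst : (P0 F).map (MonoidHom.fst _ _) = EE F := by
  rw [P0, MonoidHom.map_closure, EE]
  congr 1
  ext g
  simp only [Set.mem_image, Set.mem_setOf_eq]
  constructor
  · rintro ⟨_, ⟨r, t, rfl⟩, rfl⟩; exact ⟨r, t, rfl⟩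
  · rintro ⟨r, t, rfl⟩; exact ⟨_, ⟨r, t, rfl⟩, rfl⟩

theorem P0_snd : (P0 F).map (MonoidHom.snd _ _) = chevE6.group F := by
  rw [P0, MonoidHom.map_closure, group_eq, XS]
  congr 1
  ext g
  simp only [Set.mem_image, Set.mem_setOf_eq]
  constructor
  · rintro ⟨_, ⟨r, t, rfl⟩, rfl⟩; exact ⟨r, trivial, t, rfl⟩
  · rintro ⟨r, -, t, rfl⟩; exact ⟨_, ⟨r, t, rfl⟩, rfl⟩

theorem snd_one_iff {p : GL W F × GL chevE6.Idx F} (hp : p ∈ PP F) :
    p.2 = 1 ↔ ∀ r t, p.1 * Y r t = Y r t * p.1 := by
  constructor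
  · intro h r t
    have := hp (eE F r)
    rw [h, Units.val_one, Matrix.one_mulVec, ρ_eB] at this
    ext1
    simp only [ρb] at this
    simp [Y, mul_add, add_mul, this]
  · intro h
    have h1 : ∀ r, Commute p.1.1 (E F r) := fun r => by
      have := congrArg Units.val (h r 1)
      simpa [Y, mul_add, add_mul, Commute, SemiconjBy] using this
    have h2 : ∀ a, Commute p.1.1 (ρ F (eB F a)) := by
      rintro (i | r)
      · have h3 := EE_ng (F := F) (ng (sim i))
        rw [ng_ng] at h3
        have : ρ F (hE F i) = E F (sim i) * E F (ng (sim i)) - E F (ng (sim i)) * E F (sim i) := by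
          rw [← hB_sim, ρ_hB, h3, EE_ng, Matrix.diagonal_sub]
          congr 1
          funext a
          by_cases h : sg (sim i) a = 0
          · by_cases h' : sg (ng (sim i)) a = 0 <;> simp [h, h']
          · simp [h, (sg_chk _ a h).1]
        rw [this]
        exact ((h1 _).mul_right (h1 _)).sub_right ((h1 _).mul_right (h1 _))
      · rw [ρ_eB]; exact h1 r
    ext1
    refine ext_eB fun b => ρ_inj ?_
    have := hp (eB F b)
    rw [(h2 b).eq, Units.mul_left_inj] at this
    simp [this]

theorem exists_hom : ∃ ψ : EE F →* chevE6.group F, Function.Surjective ψ ∧ ψ.ker = Subgroup.center _ := by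
  let a : P0 F →* EE F := ((MonoidHom.fst _ _).comp (P0 F).subtype).codRestrict _ fun p =>
    P0_fst (F := F) ▸ Subgroup.mem_map_of_mem _ p.2
  let b : P0 F →* chevE6.group F := ((MonoidHom.snd _ _).comp (P0 F).subtype).codRestrict _ fun p =>
    P0_snd (F := F) ▸ Subgroup.mem_map_of_mem _ p.2
  have ha : Function.Bijective a := by
    refine ⟨(injective_iff_map_eq_one _).2 fun p hp => ?_, fun g => ?_⟩
    · have h1 : p.1.1 = 1 := congrArg Subtype.val hp
      exact Subtype.ext (Prod.ext h1 ((snd_one_iff (P0_le p.2)).2 fun r t => by simp [h1]))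
    · obtain ⟨p, hp, h⟩ := (P0_fst (F := F)).ge g.2
      exact ⟨⟨p, hp⟩, Subtype.ext h⟩
  refine ⟨b.comp (MulEquiv.ofBijective a ha).symm.toMonoidHom, fun g => ?_, ?_⟩
  · obtain ⟨p, hp, h⟩ := (P0_snd (F := F)).ge g.2
    exact ⟨a ⟨p, hp⟩, (congrArg b ((MulEquiv.ofBijective a ha).symm_apply_apply ⟨p, hp⟩)).trans (Subtype.ext h)⟩
  · ext g
    obtain ⟨p, rfl⟩ := ha.2 g
    have h1 : b p = 1 ↔ p.1.2 = 1 := Subtype.ext_iff
    have h2 : (MulEquiv.ofBijective a ha).symm (a p) = p := (MulEquiv.ofBijective a ha).symm_apply_apply p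
    simp only [MonoidHom.mem_ker, MonoidHom.comp_apply, MulEquiv.coe_toMonoidHom, h2, h1,
      snd_one_iff (P0_le p.2), Subgroup.mem_center_iff]
    constructor
    · rintro h ⟨g, hg⟩
      refine Subtype.ext (show g * p.1.1 = p.1.1 * g from ?_)
      refine Subgroup.closure_induction ?_ (by simp) (fun x y _ _ hx hy => ?_) (fun x _ hx => ?_) hg
      · rintro _ ⟨r, t, rfl⟩; exact (h r t).symm
      · exact (Commute.mul_left hx hy).eq
      · exact (Commute.inv_left hx).eq
    · intro h r t
      exact (congrArg Subtype.val (h ⟨_, Y_EE r t⟩)).symm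

/-- reindexing -/
noncomputable def reix : GL I27 F ≃* GL W F :=
  Units.mapEquiv (Matrix.reindexAlgEquiv F F (Equiv.ofBijective dec dec_bij).symm).toMulEquiv

theorem reix_map : (E6univ F).map (reix (F := F)).toMonoidHom = Γ F := by
  have h : ∀ (g : GL I27 F) (v : I27 → F), (reix g).1 *ᵥ (v ∘ dec) = (g.1 *ᵥ v) ∘ dec := fun g v => by
    have := Matrix.submatrix_mulVec_equiv g.1 (v ∘ dec) dec (Equiv.ofBijective dec dec_bij)
    rw [show (v ∘ dec) ∘ (Equiv.ofBijective dec dec_bij).symm = v from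
      funext fun i => congrArg v ((Equiv.ofBijective dec dec_bij).apply_symm_apply i)] at this
    exact this
  ext g
  obtain ⟨g, rfl⟩ := (reix (F := F)).surjective g
  rw [Subgroup.mem_map_equiv, MulEquiv.symm_apply_apply, mem_Γ]
  change (∀ v, cubicT (g.1 *ᵥ v) = cubicT v) ↔ _
  simp only [cubicT_eq, ← h]
  refine ⟨fun h x => ?_, fun h v => h _⟩
  have := h (x ∘ (Equiv.ofBijective dec dec_bij).symm)
  rwa [show (x ∘ (Equiv.ofBijective dec dec_bij).symm) ∘ dec = x from
      funext fun i => congrArg x ((Equiv.ofBijective dec dec_bij).symm_apply_apply i)] at this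

theorem main (hF : ∃ a : F, a ≠ 0 ∧ a ≠ 1) : Nonempty (E6 F ≃* chevE6.group F) := by
  obtain ⟨ψ, h1, h2⟩ := exists_hom (F := F)
  let α : E6univ F ≃* EE F :=
    ((reix (F := F)).subgroupMap _).trans (MulEquiv.subgroupCongr (reix_map.trans (Γ_eq hF)))
  have h3 : Subgroup.center (E6univ F) = (ψ.comp α.toMonoidHom).ker := by
    ext g
    rw [← MonoidHom.comap_ker, h2, Subgroup.mem_comap]
    simp only [Subgroup.mem_center_iff, α.surjective.forall, MulEquiv.coe_toMonoidHom, ← map_mul, α.injective.eq_iff]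
  exact ⟨(QuotientGroup.quotientMulEquivOfEq h3).trans
    (QuotientGroup.quotientKerEquivOfSurjective _ (h1.comp α.surjective))⟩

end Cfsg.Agent.Lie.Cub
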