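import Cfsg.Agent.Lie.Compute
import Cfsg.Agent.Lie.GoodE6

set_option autoImplicit false
set_option maxRecDepth 100000
set_option Elab.async false

/-! Computations for type E6. -/

namespace Cfsg.Agent.Lie

open Cfsg.Lie

/-- the Cartan matrix -/
def carE6 : List (List ℤ) := [[2, 0, -1, 0, 0, 0], [0, 2, 0, -1, 0, 0], [-1, 0, 2, -1, 0, 0], [0, -1, -1, 2, -1, 0], [0, 0, 0, -1, 2, -1], [0, 0, 0, 0, -1, 2]]

theorem cartanIsE6 : CartanIs chevE6 carE6 := by decide +kernel

theorem coxE6 : ∃ e : W chevE6 ≃* CoxeterMatrix.E₆.Group, ∀ i, e (sw i) = CoxeterMatrix.E₆.simple i :=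
  exists_cox cartanIsE6 CoxeterMatrix.E₆ [[1, 2, 3, 2, 2, 2], [2, 1, 2, 3, 2, 2], [3, 2, 1, 3, 2, 2], [2, 3, 3, 1, 3, 2], [2, 2, 2, 3, 1, 3], [2, 2, 2, 2, 3, 1]]
    (show ∀ i j : Fin 6, CoxeterMatrix.E₆.M i j = (List.getD [[1, 2, 3, 2, 2, 2], [2, 1, 2, 3, 2, 2], [3, 2, 1, 3, 2, 2], [2, 3, 3, 1, 3, 2], [2, 2, 2, 3, 1, 3], [2, 2, 2, 2, 3, 1]] i []).getD j 0 by
      intro i j; fin_cases i <;> fin_cases j <;> rfl) (by decide +kernel)

theorem coxNumE6 : orderOf (toW (List.range chevE6.rank) : W chevE6) = 12 :=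
  orderOf_toW2 cartanIsE6 (O := 0x1808081818181818180807a818182838180807e7a8184848280807d7e7a85878480807b7d7e8183858080817b7d818481808081817b817f8180808281817a7d8180808482817e7c7a80808584827d797e80808185847b7d7d8080818185817c7b8080818181818181) (by decide +kernel)

theorem kerE6 (M : Type*) [CommGroup M] [IsCyclic M] [Finite M] :
    Nat.card (carH (D := chevE6) M).ker = Nat.gcd 3 (Nat.card M) := by
  rw [card_ker_carH cartanIsE6 (P := [[-1, 0, 0, 0, 0, 0], [0, -1, 0, 0, 0, 0], [1, -2, 0, -1, 0, 0], [2, -3, 0, -2, -1, 0], [-2, 1, -1, 0, 0, 0], [-5, 0, -4, -3, -2, -1]]) (P' := [[-1, 0, 0, 0, 0, 0], [0, -1, 0, 0, 0, 0], [2, -1, 0, 0, -1, 0], [-1, 2, -1, 0, 0, 0], [0, -1, 2, -1, 0, 0], [0, 0, -1, 2, 4, -1]])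
    (Q := [[0, 0, 0, 0, 1, -2], [0, 0, 0, 0, 2, -3], [1, 0, 0, 0, 2, -4], [0, 1, 0, 0, 4, -6], [0, 0, 1, 0, 4, -5], [0, 0, 0, 1, 4, -4]]) (Q' := [[-2, 0, 1, 0, 0, 0], [0, -2, 0, 1, 0, 0], [2, -3, 0, 0, 1, 0], [4, -4, 0, 0, 0, 1], [-3, 2, 0, 0, 0, 0], [-2, 1, 0, 0, 0, 0]]) (d := [1, 1, 1, 1, 1, 3]) (by decide +kernel)]
  simp [show chevE6.rank = 6 from rfl, Finset.prod_range_succ, Nat.gcd_comm, sq]

theorem pchkE6_0 : pchk carE6 chevE6.rank (fun i => [i]) (fun i => [i]) (fun _ => 1) [0, 1, 2, 3, 4, 5] [1, 2, 3, 4, 5]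
    [0, 1, 2, 3, 4, 4, 5, 5, 6, 6, 7, 7, 8, 8, 8, 9, 9, 10, 10, 11, 11, 12, 12, 13, 14, 15, 16]
    0x180807f80808080808080817f80808080808080817f80808080808080817f7f8080808080807f81808080808080817f7f8080808080807f81808080807f81817f808080807f8081818080807f8180807f8080807f817f808180807f818080807f8080807f8081808080807f81807f8081808081808080807f80807f817f81808080808180807f808180807f8081807f80808081807f81808080807f80808081808080817f81807f808080817f808081808080808180807f80808080817f80818080808080817f8080808080808081807f8080808080808081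
    0x10000191a1a1a1a1a00001a181919191900001819171818180000171718151617000016161613171600001515151713140000141414141215000013131116151200001212101214130000110f131111100000100d120e101100000c110f0f0f0d00000e0b0e100e0e00000a100d0b0d0f00000f0c0c0c0c0a0000080e090d0b0b00000d0a0a080a0c000006090b09070900000b08060a080800000507070709070000090408060506000007030505060500000406040403040000030502030403000002020301020200000101010201000000000000000001
    0x1050403020201010303040405040500050205030504040103020000 = true := by decide +kernel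

theorem pchkE6_1 : pchk carE6 chevE6.rank (fun i => [i]) (fun i => [i]) (fun _ => 1) [1, 2, 3, 4, 5] [1, 2, 3, 4]
    [0, 1, 2, 3, 4, 4, 5, 6, 7, 8]
    0x180807f80808080818080817f80808081808080817f80808180808080817f7f8180808080807f81818080808080817f80808080807f8181808080807f8180808080807f81808080808080818080808080
    0x10000080909090900000009070808080000000708060707000000060607040500000005050503060000000404040603000000030302050400000002010302020000000002010101000000010000000000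
    0x105040302020103040500 = true := by decide +kernel

theorem pchkE6_2 : pchk carE6 chevE6.rank (fun i => [i]) (fun i => [i]) (fun _ => 1) [1, 2, 3, 4] [2, 3, 4]
    [0, 1, 2, 3, 3, 4, 5, 6]
    0x18080818080807f81808081807f8081818080817f817f80818080817f8081808080808081807f8081808080817f8180808080808081807f808080808080808180
    0x100000007070706000000000605060700000000030604050000000002040504000000000503020300000000040103020000000001020100000000000000000100
    0x10103040402030100 = true := by decide +kernel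

theorem pchkE6_3 : pchk carE6 chevE6.rank (fun i => [i]) (fun i => [i]) (fun _ => 1) [2, 3, 4] [3, 4]
    [0, 1, 2, 3]
    0x18080817f80808181808080817f80818180808080817f80818080808080818080
    0x10000000203030000000000030102000000000001020000000000000000010000
    0x104030200 = true := by decide +kernel

theorem pchkE6_4 : pchk carE6 chevE6.rank (fun i => [i]) (fun i => [i]) (fun _ => 1) [3, 4] [4]
    [0, 1, 2]
    0x18080817f80818180808080817f8181808080808081808080
    0x1000000010200000000000002000000000000000001000000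
    0x1040300 = true := by decide +kernel

theorem pchkE6_5 : pchk carE6 chevE6.rank (fun i => [i]) (fun i => [i]) (fun _ => 1) [4] []
    [0, 1]
    0x18080817f818080808080808180808080
    0x100000000000000000000000100000000
    0x10400 = true := by decide +kernel

theorem psE6 {c : W chevE6 → ℕ} {q : ℕ}
    (hc : ∀ w ∈ Wf (1 : Equiv.Perm (Rt chevE6)), ∀ i : Ix chevE6, Pos (w⁻¹.1 (sim i)) →
      c (gO 1 i * w) = q ^ (fun _ : ℕ => 1) i * c w) :
    PS 1 c Set.univ = (q ^ 0 + q ^ 1 + q ^ 2 + q ^ 3 + 2 * q ^ 4 + 2 * q ^ 5 + 2 * q ^ 6 + 2 * q ^ 7 + 3 * q ^ 8 + 2 * q ^ 9 + 2 * q ^ 10 + 2 * q ^ 11 + 2 * q ^ 12 + q ^ 13 + q ^ 14 + q ^ 15 + q ^ 16) * (q ^ 0 + q ^ 1 + q ^ 2 + q ^ 3 + 2 * q ^ 4 + q ^ 5 + q ^ 6 + q ^ 7 + q ^ 8) * (q ^ 0 + q ^ 1 + q ^ 2 + 2 * q ^ 3 + q ^ 4 + q ^ 5 + q ^ 6) * (q ^ 0 + q ^ 1 + q ^ 2 + q ^ 3) * (q ^ 0 + q ^ 1 + q ^ 2) * (q ^ 0 + q ^ 1) * c 1 := by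
  rw [univ_eq_range, show List.range chevE6.rank = [0, 1, 2, 3, 4, 5] from rfl,
    poincare_chk cartanIsE6 sym_one orbData_one hc pchkE6_0, poincare_chk cartanIsE6 sym_one orbData_one hc pchkE6_1, poincare_chk cartanIsE6 sym_one orbData_one hc pchkE6_2, poincare_chk cartanIsE6 sym_one orbData_one hc pchkE6_3, poincare_chk cartanIsE6 sym_one orbData_one hc pchkE6_4, poincare_chk cartanIsE6 sym_one orbData_one hc pchkE6_5,
    empty_eq_nil, PS_empty]
  simp only [List.map_cons, List.map_nil, List.sum_cons, List.sum_nil, ← mul_assoc]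
  refine congrArg₂ _ (congrArg₂ _ (congrArg₂ _ (congrArg₂ _ (congrArg₂ _ (congrArg₂ _ (?_) ?_) ?_) ?_) ?_) ?_) rfl <;> ring

theorem cardWE6 : Nat.card (W chevE6) = 51840 := by
  rw [card_W_eq, psE6 hc_one]; norm_num

theorem orderE6 {F : Type*} [Field F] [Fintype F] {q : ℕ} (hq : Fintype.card F = q) :
    Nat.gcd 3 (q - 1) * Nat.card (chevE6.group F) = q ^ 36 * (q ^ 2 - 1) * (q ^ 5 - 1) * (q ^ 6 - 1) * (q ^ 8 - 1) * (q ^ 9 - 1) * (q ^ 12 - 1) := by
  have hk := kerE6 Fˣ
  rw [Nat.card_units, Nat.card_eq_fintype_card (α := F), hq] at hk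
  rw [order_eq hq hk (psE6 (hc_wl q)), invGen_sw.wl_one, show chevE6.rank = 6 from rfl,
    show chevE6.nroots / 2 = 36 from rfl]
  simp only [mul_assoc]
  congr 1
  have h1 : 1 ≤ q := hq ▸ Fintype.card_pos
  zify [h1, Nat.one_le_pow 2 q h1, Nat.one_le_pow 5 q h1, Nat.one_le_pow 6 q h1, Nat.one_le_pow 8 q h1, Nat.one_le_pow 9 q h1, Nat.one_le_pow 12 q h1]
  ring

theorem perfectE6 {F : Type*} [Field F] : commutator (chevE6.group F) = ⊤ :=
  perfect_of_A2 [16, 1, 5, 2, 3, 4] [66, 71, 69, 70, 69, 68] (by decide +kernel)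

end Cfsg.Agent.Lie
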