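import Cfsg.Agent.Lie.Compute
import Cfsg.Agent.Lie.GoodF4

set_option autoImplicit false
set_option maxRecDepth 100000
set_option Elab.async false

/-! Computations for type F4. -/

namespace Cfsg.Agent.Lie

open Cfsg.Lie

/-- the Cartan matrix -/
def carF4 : List (List ℤ) := [[2, -1, 0, 0], [-1, 2, -2, 0], [0, -1, 2, -1], [0, 0, -1, 2]]

theorem cartanIsF4 : CartanIs chevF4 carF4 := by decide +kernel

theorem coxF4 : ∃ e : W chevF4 ≃* CoxeterMatrix.F₄.Group, ∀ i, e (sw i) = CoxeterMatrix.F₄.simple i :=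
  exists_cox cartanIsF4 CoxeterMatrix.F₄ [[1, 3, 2, 2], [3, 1, 4, 2], [2, 4, 1, 3], [2, 2, 3, 1]]
    (show ∀ i j : Fin 4, CoxeterMatrix.F₄.M i j = (List.getD [[1, 3, 2, 2], [3, 1, 4, 2], [2, 4, 1, 3], [2, 2, 3, 1]] i []).getD j 0 by
      intro i j; fin_cases i <;> fin_cases j <;> rfl) (by decide +kernel)

theorem coxNumF4 : orderOf (toW (List.range chevF4.rank) : W chevF4) = 12 :=
  orderOf_toW2 cartanIsF4 (O := 0x18080808081818181808080807c818481808080807e7c8784808080807b7e8387808080807d7b8683808080807f7d7f86808080807f7f7f7f80808080847f7c7f808080808284797c8080808085827d798080808083857a7d808080808183817a8080808081818181) (by decide +kernel)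

theorem kerF4 (M : Type*) [CommGroup M] [IsCyclic M] [Finite M] :
    Nat.card (carH (D := chevF4) M).ker = 1 := by
  rw [card_ker_carH cartanIsF4 (P := [[-1, 0, 0, 0], [1, 0, -1, 0], [-2, -1, 0, 0], [-2, -2, -2, -1]]) (P' := [[-1, 0, 0, 0], [2, 0, -1, 0], [-1, -1, 0, 0], [0, 2, 2, -1]])
    (Q := [[0, 0, 1, -2], [1, 0, 2, -4], [0, 0, 2, -3], [0, 1, 2, -2]]) (Q' := [[-2, 1, 0, 0], [2, 0, -2, 1], [-3, 0, 2, 0], [-2, 0, 1, 0]]) (d := [1, 1, 1, 1]) (by decide +kernel)]
  simp [show chevF4.rank = 4 from rfl, Finset.prod_range_succ, Nat.gcd_comm, sq]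

theorem pchkF4_0 : pchk carF4 chevF4.rank (fun i => [i]) (fun i => [i]) (fun _ => 1) [0, 1, 2, 3] [0, 1, 2]
    [0, 1, 2, 3, 4, 4, 5, 5, 6, 6, 7, 7, 8, 8, 9, 9, 10, 10, 11, 11, 12, 13, 14, 15]
    0x1808080807f80808080808080817f80808080808080817e8080808080807f827e80808080807f8082808080807f81807e808080808180807e808080807f817e828080808081807e82808080807f7f828080808080817e8280808080807e818080808080807f827e8080808080827f8080808080807f80827e8080808081817e80808080807f80808280808080817f827e80808080817f8082808080808081807e8080808080817e8280808080807f8280808080807f8180808080808081808080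
    0x1000000001617171700000000171516160000000015161415000000001412151300000000131013140000000011141210000000001211110f000000000f130e1200000000100f0d11000000000d0c100e000000000e0b0f0d000000000a0e0c0c00000000080d090b000000000c080a0a0000000006090b07000000000b0a060800000000050707090000000009040805000000000703050600000000040604030000000003050204000000000201030200000000000201010000000001000000
    0x1030201020200000101020203030203010302020001020300 = true := by decide +kernel

theorem pchkF4_1 : pchk carF4 chevF4.rank (fun i => [i]) (fun i => [i]) (fun _ => 1) [0, 1, 2] [1, 2]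
    [0, 1, 2, 3, 4, 5]
    0x1808080808180807f8080808081807f8180808080817f81808080808080817f80808080808080817f8080808080808081
    0x1000000000005050400000000000403050000000000020403000000000003010200000000000102000000000000000001
    0x1000102010000 = true := by decide +kernel

theorem pchkF4_2 : pchk carF4 chevF4.rank (fun i => [i]) (fun i => [i]) (fun _ => 1) [1, 2] [1]
    [0, 1, 2, 3]
    0x180808080827f80828080808081817e8280808080817f82808080808080818080
    0x10000000000020300000000000003010000000000000002000000000000010000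
    0x102010200 = true := by decide +kernel

theorem pchkF4_3 : pchk carF4 chevF4.rank (fun i => [i]) (fun i => [i]) (fun _ => 1) [1] []
    [0, 1]
    0x18080808080817f818080808080808180
    0x100000000000000000000000000000100
    0x10100 = true := by decide +kernel

theorem psF4 {c : W chevF4 → ℕ} {q : ℕ}
    (hc : ∀ w ∈ Wf (1 : Equiv.Perm (Rt chevF4)), ∀ i : Ix chevF4, Pos (w⁻¹.1 (sim i)) →
      c (gO 1 i * w) = q ^ (fun _ : ℕ => 1) i * c w) :
    PS 1 c Set.univ = (q ^ 0 + q ^ 1 + q ^ 2 + q ^ 3 + 2 * q ^ 4 + 2 * q ^ 5 + 2 * q ^ 6 + 2 * q ^ 7 + 2 * q ^ 8 + 2 * q ^ 9 + 2 * q ^ 10 + 2 * q ^ 11 + q ^ 12 + q ^ 13 + q ^ 14 + q ^ 15) * (q ^ 0 + q ^ 1 + q ^ 2 + q ^ 3 + q ^ 4 + q ^ 5) * (q ^ 0 + q ^ 1 + q ^ 2 + q ^ 3) * (q ^ 0 + q ^ 1) * c 1 := by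
  rw [univ_eq_range, show List.range chevF4.rank = [0, 1, 2, 3] from rfl,
    poincare_chk cartanIsF4 sym_one orbData_one hc pchkF4_0, poincare_chk cartanIsF4 sym_one orbData_one hc pchkF4_1, poincare_chk cartanIsF4 sym_one orbData_one hc pchkF4_2, poincare_chk cartanIsF4 sym_one orbData_one hc pchkF4_3,
    empty_eq_nil, PS_empty]
  simp only [List.map_cons, List.map_nil, List.sum_cons, List.sum_nil, ← mul_assoc]
  refine congrArg₂ _ (congrArg₂ _ (congrArg₂ _ (congrArg₂ _ (?_) ?_) ?_) ?_) rfl <;> ring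

theorem cardWF4 : Nat.card (W chevF4) = 1152 := by
  rw [card_W_eq, psF4 hc_one]; norm_num

theorem orderF4 {F : Type*} [Field F] [Fintype F] {q : ℕ} (hq : Fintype.card F = q) :
    1 * Nat.card (chevF4.group F) = q ^ 24 * (q ^ 2 - 1) * (q ^ 6 - 1) * (q ^ 8 - 1) * (q ^ 12 - 1) := by
  have hk := kerF4 Fˣ
  
  rw [order_eq hq hk (psF4 (hc_wl q)), invGen_sw.wl_one, show chevF4.rank = 4 from rfl,
    show chevF4.nroots / 2 = 24 from rfl]
  simp only [mul_assoc]
  congr 1
  have h1 : 1 ≤ q := hq ▸ Fintype.card_pos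
  zify [h1, Nat.one_le_pow 2 q h1, Nat.one_le_pow 6 q h1, Nat.one_le_pow 8 q h1, Nat.one_le_pow 12 q h1]
  ring

theorem perfectF4 {F : Type*} [Field F] : commutator (chevF4.group F) = ⊤ :=
  perfect_of_A2 [7, 8, 2, 1] [44, 40, 46, 47] (by decide +kernel)

end Cfsg.Agent.Lie
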