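import Cfsg.Agent.Lie.Aut
import Cfsg.Agent.Lie.GoodD4
import Cfsg.Agent.Lie.GoodE6

set_option autoImplicit false
set_option maxRecDepth 100000
set_option Elab.async false

/-! A map of root systems D4 → E6. -/

namespace Cfsg.Agent.Lie

open Cfsg.Lie

/-- the data of the map -/
noncomputable def embD4E6 : Emb chevD4 chevE6 where
  ρ := tb _ _ 0x1353332302f2e2c2b28272a25221d201f1c1b191817151412
  γ := fun r => sbyte 0x18181818181817f7f81818181818181817f7f818181818181 r
  lam := fun _ => 1
  p := 0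

theorem embD4E6_chk0 : allLt 24 (fun r => embD4E6.chk (0 + r)) = true := by decide +kernel

theorem embD4E6_ok : embD4E6.OK := by
  refine Emb.ok_of_chk _ fun r hr => ?_
  change r < 24 at hr
  simpa [show 0 + (r - 0) = r by omega] using allLt_spec embD4E6_chk0 (r - 0) (by omega)

theorem hP_injD4 {F : Type*} [Field F] : Function.Injective (sys_xS (D := chevD4) (F := F)).hP :=
  Sys.hP_inj_of_emb' embD4E6_ok (Emb.fits_one _ rfl fun _ => rfl) [[-3, -2, -1, 0], [0, 0, 0, 0], [-2, -1, 0, 0], [-1, 0, 0, 0], [0, 0, 0, 0], [1, 0, 0, -1]] (by decide +kernel)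

end Cfsg.Agent.Lie
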