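import Cfsg.Agent.Lie.Aut
import Cfsg.Agent.Lie.GoodE6
import Cfsg.Agent.Lie.GoodE7

set_option autoImplicit false
set_option maxRecDepth 100000
set_option Elab.async false

/-! A map of root systems E6 → E7. -/

namespace Cfsg.Agent.Lie

open Cfsg.Lie

/-- the data of the map -/
noncomputable def embE6E7 : Emb chevE6 chevE7 where
  ρ := tb _ _ 0x17773706e6d6a686765646361605f5e5d5a585755545351504f4e4c4b4a494746454342403d3b3a383736343332312f2e2d2c2a2928262523201f1e1d1c1a1918161513100f0d0a06
  γ := fun r => sbyte 0x1818181818181818181818181818181818181818181818181818181818181818181818181818181818181818181818181818181818181818181818181818181818181818181818181 r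
  lam := fun _ => 1
  p := 0

theorem embE6E7_chk0 : allLt 24 (fun r => embE6E7.chk (0 + r)) = true := by decide +kernel
theorem embE6E7_chk24 : allLt 24 (fun r => embE6E7.chk (24 + r)) = true := by decide +kernel
theorem embE6E7_chk48 : allLt 24 (fun r => embE6E7.chk (48 + r)) = true := by decide +kernel

theorem embE6E7_ok : embE6E7.OK := by
  refine Emb.ok_of_chk _ fun r hr => ?_
  change r < 72 at hr
  by_cases h0 : r < 24
  · simpa [show 0 + (r - 0) = r by omega] using allLt_spec embE6E7_chk0 (r - 0) (by omega)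
  by_cases h24 : r < 48
  · simpa [show 24 + (r - 24) = r by omega] using allLt_spec embE6E7_chk24 (r - 24) (by omega)
  simpa [show 48 + (r - 48) = r by omega] using allLt_spec embE6E7_chk48 (r - 48) (by omega)

theorem hP_injE6 {F : Type*} [Field F] : Function.Injective (sys_xS (D := chevE6) (F := F)).hP :=
  Sys.hP_inj_of_emb' embE6E7_ok (Emb.fits_one _ rfl fun _ => rfl) [[-2, 1, -1, 0, 0, 0], [-4, 2, -2, 0, 0, 0], [-5, 2, -2, 0, 0, 0], [-8, 3, -4, 0, 0, 0], [-7, 2, -4, -1, 0, 0], [-6, 1, -4, -2, -1, 0], [-5, 0, -4, -3, -2, -1]] (by decide +kernel)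

end Cfsg.Agent.Lie
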