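import Cfsg.Agent.Lie.Aut
import Cfsg.Agent.Lie.GoodE7
import Cfsg.Agent.Lie.GoodE8

set_option autoImplicit false
set_option maxRecDepth 100000
set_option Elab.async false

/-! A map of root systems E7 → E8. -/

namespace Cfsg.Agent.Lie

open Cfsg.Lie

/-- the data of the map -/
noncomputable def embE7E8 : Emb chevE7 chevE8 where
  ρ := tb _ _ 0x1e2dbd6d2cfcdccc8c5c3c2bfbdbcbab9b8b5b3b2b0afaeacabaaa9a7a6a5a4a3a29f9d9c9a99989695949391908f8e8d8b8a89888785848382807f7e7c7b7976747371706f6d6c6b6a68676665646261605f5e5c5b5a595756555352504d4c4b4a49484645444341403f3d3c3a3736353332302d2c2a272322201d19140d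
  γ := fun r => sbyte 0x1818181818181818181818181818181818181818181818181818181818181818181818181818181818181818181818181818181818181818181818181818181818181818181818181818181818181818181818181818181818181818181818181818181818181818181818181818181818181818181818181818181818181 r
  lam := fun _ => 1
  p := 0

theorem embE7E8_chk0 : allLt 14 (fun r => embE7E8.chk (0 + r)) = true := by decide +kernel
theorem embE7E8_chk14 : allLt 14 (fun r => embE7E8.chk (14 + r)) = true := by decide +kernel
theorem embE7E8_chk28 : allLt 14 (fun r => embE7E8.chk (28 + r)) = true := by decide +kernel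
theorem embE7E8_chk42 : allLt 14 (fun r => embE7E8.chk (42 + r)) = true := by decide +kernel
theorem embE7E8_chk56 : allLt 14 (fun r => embE7E8.chk (56 + r)) = true := by decide +kernel
theorem embE7E8_chk70 : allLt 14 (fun r => embE7E8.chk (70 + r)) = true := by decide +kernel
theorem embE7E8_chk84 : allLt 14 (fun r => embE7E8.chk (84 + r)) = true := by decide +kernel
theorem embE7E8_chk98 : allLt 14 (fun r => embE7E8.chk (98 + r)) = true := by decide +kernel
theorem embE7E8_chk112 : allLt 14 (fun r => embE7E8.chk (112 + r)) = true := by decide +kernel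

theorem embE7E8_ok : embE7E8.OK := by
  refine Emb.ok_of_chk _ fun r hr => ?_
  change r < 126 at hr
  by_cases h0 : r < 14
  · simpa [show 0 + (r - 0) = r by omega] using allLt_spec embE7E8_chk0 (r - 0) (by omega)
  by_cases h14 : r < 28
  · simpa [show 14 + (r - 14) = r by omega] using allLt_spec embE7E8_chk14 (r - 14) (by omega)
  by_cases h28 : r < 42
  · simpa [show 28 + (r - 28) = r by omega] using allLt_spec embE7E8_chk28 (r - 28) (by omega)
  by_cases h42 : r < 56
  · simpa [show 42 + (r - 42) = r by omega] using allLt_spec embE7E8_chk42 (r - 42) (by omega)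
  by_cases h56 : r < 70
  · simpa [show 56 + (r - 56) = r by omega] using allLt_spec embE7E8_chk56 (r - 56) (by omega)
  by_cases h70 : r < 84
  · simpa [show 70 + (r - 70) = r by omega] using allLt_spec embE7E8_chk70 (r - 70) (by omega)
  by_cases h84 : r < 98
  · simpa [show 84 + (r - 84) = r by omega] using allLt_spec embE7E8_chk84 (r - 84) (by omega)
  by_cases h98 : r < 112
  · simpa [show 98 + (r - 98) = r by omega] using allLt_spec embE7E8_chk98 (r - 98) (by omega)
  simpa [show 112 + (r - 112) = r by omega] using allLt_spec embE7E8_chk112 (r - 112) (by omega)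

theorem hP_injE7 {F : Type*} [Field F] : Function.Injective (sys_xS (D := chevE7) (F := F)).hP :=
  Sys.hP_inj_of_emb' embE7E8_ok (Emb.fits_one _ rfl fun _ => rfl) [[-2, 1, -1, 0, 0, 0, 0], [-4, 2, -2, 0, 0, 0, 0], [-5, 2, -2, 0, 0, 0, 0], [-8, 3, -4, 0, 0, 0, 0], [-7, 2, -4, -1, 0, 0, 0], [-6, 1, -4, -2, -1, 0, 0], [-5, 0, -4, -3, -2, -1, 0], [-4, -1, -4, -4, -3, -2, -1]] (by decide +kernel)

end Cfsg.Agent.Lie
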