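import Cfsg.Agent.Lie.Aut
import Cfsg.Agent.Lie.GoodG2

set_option autoImplicit false
set_option maxRecDepth 100000
set_option Elab.async false

/-! A map of root systems G2 → G2. -/

namespace Cfsg.Agent.Lie

open Cfsg.Lie

/-- the data of the map -/
noncomputable def embG2 : Emb chevG2 chevG2 where
  ρ := tb _ _ 0x109080b0a0607040501000302
  γ := fun _ => 1
  lam := fun r => byte 0x1010103030301010303030101 r
  p := 3

theorem embG2_chk0 : allLt 12 (fun r => embG2.chk (0 + r)) = true := by decide +kernel

theorem embG2_ok : embG2.OK := by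
  refine Emb.ok_of_chk _ fun r hr => ?_
  change r < 12 at hr
  simpa [show 0 + (r - 0) = r by omega] using allLt_spec embG2_chk0 (r - 0) (by omega)

theorem embG2_pos : ∀ r, Pos (embG2.ρ r) ↔ Pos r := by decide +kernel

/-- the permutation of the fundamental roots -/
def embG20 : Equiv.Perm (Ix chevG2) :=
  ⟨tbI [1, 0], tbI [1, 0], fun i => by revert i; decide +kernel, fun i => by revert i; decide +kernel⟩

theorem embG2_sim : ∀ i, embG2.ρ (sim i) = sim (embG20 i) ∧ embG2.γ (sim i) = 1 := by decide +kernel

theorem embG2_fits {F : Type*} [Field F] [CharP F 3] : embG2.Fits F :=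
  haveI : Fact (Nat.Prime 3) := ⟨by norm_num⟩
  Emb.fits_char _ 3 rfl (by decide +kernel)

end Cfsg.Agent.Lie
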