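import Cfsg.Agent.Lie.FH1
import Cfsg.Agent.Lie.BN
import Cfsg.Agent.Inv.Basic

set_option autoImplicit false
set_option linter.unusedSectionVars false

/-! The Feit–Higman theorem for finite (B,N)-pairs of rank two. -/

namespace Cfsg.Agent.Lie.FH

open Cfsg.Agent.Lie Cfsg.Agent.Lie.BN

theorem red_alt {W ι : Type*} [Group W] {s : ι → W} (h : InvGen s) (he : Exch s) (k : ℕ) :
    ∀ a b : ι, (∀ l, 1 ≤ l → l < k → (s a * s b) ^ l ≠ 1) → Red s (alt a b k) := by
  induction k with
  | zero => intro a b _; exact red_nil s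
  | succ k ih =>
    intro a b hab
    have hba : ∀ l, 1 ≤ l → l < k + 1 → (s b * s a) ^ l ≠ 1 := by
      intro l h1 h2 h3
      apply hab l h1 h2
      rw [← wp_alt_eq_iff (h.sq _) (h.sq _)] at h3 ⊢
      exact h3.symm
    have h1 : Red s (alt b a k) := ih b a fun l h1 h2 => hba l h1 (by omega)
    by_cases hle : wl s (s a * wp s (alt b a k)) ≤ (alt b a k).length
    · exfalso
      obtain ⟨L1, j, L2, e1, e2⟩ := he a _ h1 hle
      have hlen : k = L1.length + 1 + L2.length := by
        have := congrArg List.length e1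
        simp at this; omega
      obtain ⟨L, hL⟩ := alt_add b a (L1.length + 1) L2.length
      obtain ⟨L', hL'⟩ := alt_add b a L1.length (1 + L2.length)
      rw [← hlen, e1] at hL
      rw [← add_assoc, ← hlen, e1] at hL'
      have e3 : L1 ++ [j] = alt b a (L1.length + 1) := by
        have : (L1 ++ [j]) ++ L2 = alt b a (L1.length + 1) ++ L := by rw [← hL]; simp
        exact (List.append_inj this (by simp)).1
      have e4 : L1 = alt b a L1.length := (List.append_inj hL' (by simp)).1
      apply hab (L1.length + 1) (by omega) (by omega)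
      rw [← wp_alt_eq_iff (h.sq _) (h.sq _), ← e3, alt_succ, ← e4]
      simpa using e2
    · have := h.wl_s_mul_le a (wp s (alt b a k))
      rw [h1] at this
      rw [Red, alt_succ, wp_cons, List.length_cons]
      omega

variable {G : Type*} [Group G] (P : Cfsg.BNPair G)

/-- relative position of two cosets. -/
def rel (w : W P) (c c' : G ⧸ P.B) : Prop := c.out⁻¹ * c'.out ∈ C P w

variable {P}

theorem rel_mk {w : W P} {g g' : G} :
    rel P w (g : G ⧸ P.B) (g' : G ⧸ P.B) ↔ g⁻¹ * g' ∈ C P w := by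
  obtain ⟨b, hb⟩ := QuotientGroup.mk_out_eq_mul P.B g
  obtain ⟨b', hb'⟩ := QuotientGroup.mk_out_eq_mul P.B g'
  rw [rel, hb, hb']
  constructor
  · intro h
    have := mul_B_mem_C (B_mul_mem_C b.2 h) (P.B.inv_mem b'.2)
    simpa [mul_assoc] using this
  · intro h
    have := mul_B_mem_C (B_mul_mem_C (P.B.inv_mem b.2) h) b'.2
    simpa [mul_assoc] using this

theorem rel_one {c c' : G ⧸ P.B} : rel P 1 c c' ↔ c = c' := by
  induction c using QuotientGroup.induction_on
  induction c' using QuotientGroup.induction_on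
  rw [rel_mk, mem_C_one, QuotientGroup.eq]

theorem rel_uniq {w w' : W P} {c c' : G ⧸ P.B} (h : rel P w c c') (h' : rel P w' c c') : w = w' :=
  eq_of_mem_C h h'

theorem rel_symm {w : W P} {c c' : G ⧸ P.B} (h : rel P w c c') : rel P w⁻¹ c' c := by
  have := inv_mem_C h
  simpa [rel] using this

theorem rel_s_symm {i : P.S} {c c' : G ⧸ P.B} (h : rel P (s P i) c c') : rel P (s P i) c' c := by
  have := rel_symm h
  rwa [(invGen P).inv_s] at this

theorem rel_s_trans {i : P.S} {w : W P} {c c' c'' : G ⧸ P.B} (h : rel P (s P i) c c')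
    (h' : rel P w c' c'') : rel P (s P i * w) c c'' ∨ rel P w c c'' := by
  have := s_mul_C h h'
  simpa [rel, mul_assoc] using this

theorem rel_s_trans_of_le {i : P.S} {w : W P} (hle : wl (s P) w ≤ wl (s P) (s P i * w))
    {c c' c'' : G ⧸ P.B} (h : rel P (s P i) c c') (h' : rel P w c' c'') :
    rel P (s P i * w) c c'' := by
  have := s_mul_C_of_le i w hle _ h _ h'
  simpa [rel, mul_assoc] using this

theorem rel_split {w w' : W P} {c c'' : G ⧸ P.B} (h : rel P (w * w') c c'') :
    ∃ c', rel P w c c' ∧ rel P w' c' c'' := by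
  induction c using QuotientGroup.induction_on with | H g => ?_
  induction c'' using QuotientGroup.induction_on with | H g'' => ?_
  obtain ⟨x, hx, y, hy, e⟩ := exists_mul_of_mem_C (rel_mk.1 h)
  refine ⟨(g * x : G), rel_mk.2 (by simpa using hx), rel_mk.2 ?_⟩
  rw [mul_inv_rev, mul_assoc, e]
  simpa using hy

/-- adjacency-or-equal. -/
def adj (i : P.S) (c c' : G ⧸ P.B) : Prop := rel P (s P i) c c' ∨ c = c'

theorem adj_symm {i : P.S} {c c' : G ⧸ P.B} (h : adj i c c') : adj i c' c :=
  h.elim (fun h => Or.inl (rel_s_symm h)) (fun h => Or.inr h.symm)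

theorem adj_trans {i : P.S} {c c' c'' : G ⧸ P.B} (h : adj i c c') (h' : adj i c' c'') :
    adj i c c'' := by
  rcases h with h | rfl
  · rcases h' with h' | rfl
    · rcases rel_s_trans h h' with h3 | h3
      · rw [s_sq] at h3; exact Or.inr (rel_one.1 h3)
      · exact Or.inl h3
    · exact Or.inl h
  · exact h'

theorem adj_smul {i : P.S} (g : G) {c c' : G ⧸ P.B} : adj i (g • c) (g • c') ↔ adj i c c' := by
  induction c using QuotientGroup.induction_on
  induction c' using QuotientGroup.induction_on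
  simp only [adj, smul_left_cancel_iff]
  rw [MulAction.Quotient.smul_mk, MulAction.Quotient.smul_mk, rel_mk, rel_mk]
  simp [mul_assoc]

open Classical

variable [Fintype (G ⧸ P.B)]

/-- Hecke matrices. -/
noncomputable def TT (w : W P) : Matrix (G ⧸ P.B) (G ⧸ P.B) ℝ :=
  Matrix.of fun c c' => if rel P w c c' then 1 else 0

theorem TT_one : TT (1 : W P) = 1 := by
  ext c c'
  simp [TT, rel_one, Matrix.one_apply]

theorem TT_trace {w : W P} (hw : w ≠ 1) : (TT w).trace = 0 := by
  refine Finset.sum_eq_zero fun c _ => ?_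
  simp only [TT, Matrix.diag, Matrix.of_apply, ite_eq_right_iff, one_ne_zero]
  exact fun h => hw (rel_uniq h (rel_one.2 rfl))

theorem TT_mul {i : P.S} {w : W P} (hle : wl (s P) w ≤ wl (s P) (s P i * w)) :
    TT (s P i) * TT w = TT (s P i * w) := by
  ext c c''
  simp only [TT, Matrix.mul_apply, Matrix.of_apply]
  split_ifs with h
  · obtain ⟨c', h1, h2⟩ := rel_split h
    rw [Finset.sum_eq_single c']
    · simp [h1, h2]
    · intro d _ hd
      split_ifs with h3 h4
      · exfalso
        rcases adj_trans (Or.inl (rel_s_symm h1)) (Or.inl h3 : adj i c d) with h5 | h5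
        · have := rel_uniq (rel_s_trans_of_le hle h5 h4) h2
          exact s_ne_one P i (by simpa using this)
        · exact hd h5.symm
      all_goals simp
    · simp
  · refine Finset.sum_eq_zero fun d _ => ?_
    split_ifs with h3 h4
    · exact absurd (rel_s_trans_of_le hle h3 h4) h
    all_goals simp

theorem TT_add_one (i : P.S) (c c' : G ⧸ P.B) :
    (TT (s P i) + 1) c c' = if adj i c c' then 1 else 0 := by
  simp only [TT, Matrix.add_apply, Matrix.of_apply, Matrix.one_apply, adj]
  by_cases h : c = c'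
  · subst h
    have : ¬ rel P (s P i) c c := fun h => s_ne_one P i (rel_uniq h (rel_one.2 rfl))
    simp [this]
  · simp [h]

theorem card_adj (i : P.S) (c : G ⧸ P.B) :
    (Finset.univ.filter (adj i c)).card = (Finset.univ.filter (adj i ((1 : G) : G ⧸ P.B))).card := by
  induction c using QuotientGroup.induction_on with | H g => ?_
  symm
  refine Finset.card_bijective (fun c => g • c) (MulAction.bijective g) fun c => ?_
  simp only [Finset.mem_filter, Finset.mem_univ, true_and]
  rw [← adj_smul g, MulAction.Quotient.smul_mk]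
  simp

theorem three_le_card_adj (i : P.S) :
    3 ≤ (Finset.univ.filter (adj i ((1 : G) : G ⧸ P.B))).card := by
  obtain ⟨b, hb, hb'⟩ := exists_conj_not_mem i
  have hi : (i : G) ∈ C P (s P i) := self_mem_C (sN P i)
  have h1 : ((1 : G) : G ⧸ P.B) ≠ ((i : G) : G ⧸ P.B) := by
    rw [Ne, QuotientGroup.eq]; simpa using not_mem_B P i.2
  have h2 : ((1 : G) : G ⧸ P.B) ≠ ((b * i : G) : G ⧸ P.B) := by
    rw [Ne, QuotientGroup.eq]
    simpa [P.B.mul_mem_cancel_left hb] using not_mem_B P i.2
  have h3 : ((i : G) : G ⧸ P.B) ≠ ((b * i : G) : G ⧸ P.B) := by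
    rw [Ne, QuotientGroup.eq]
    intro h
    apply hb'
    have := P.B.mul_mem (P.sq_mem i i.2) h
    simpa [mul_assoc] using this
  rw [Nat.succ_le_iff, Finset.two_lt_card_iff]
  refine ⟨((1 : G) : G ⧸ P.B), ((i : G) : G ⧸ P.B), ((b * i : G) : G ⧸ P.B), ?_, ?_, ?_, h1, h2, h3⟩ <;>
    simp only [Finset.mem_filter, Finset.mem_univ, true_and]
  · exact Or.inr rfl
  · exact Or.inl (rel_mk.2 (by simpa using hi))
  · exact Or.inl (rel_mk.2 (by simpa using B_mul_mem_C hb hi))

theorem TT_quad (i : P.S) : ∃ a : ℕ, 2 ≤ a ∧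
    TT (s P i) * TT (s P i) = ((a : ℝ) - 1) • TT (s P i) + (a : ℝ) • 1 := by
  obtain ⟨a, ha⟩ : ∃ a, (Finset.univ.filter (adj i ((1 : G) : G ⧸ P.B))).card = a + 1 :=
    ⟨_, (Nat.succ_pred_eq_of_pos (by have := three_le_card_adj i; omega)).symm⟩
  refine ⟨a, by have := three_le_card_adj i; omega, ?_⟩
  have : (TT (s P i) + 1) * (TT (s P i) + 1) = ((a : ℝ) + 1) • (TT (s P i) + 1) := by
    ext c c''
    rw [Matrix.mul_apply, Matrix.smul_apply]
    simp only [TT_add_one]
    split_ifs with h
    · have e := (card_adj i c).trans ha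
      rw [Finset.card_filter] at e
      have e' := congrArg (Nat.cast : ℕ → ℝ) e
      push_cast at e'
      rw [smul_eq_mul, mul_one, ← e']
      refine Finset.sum_congr rfl fun d _ => ?_
      by_cases h1 : adj i c d
      · simp [h1, adj_trans (adj_symm h1) h]
      · simp [h1]
    · rw [smul_zero]
      refine Finset.sum_eq_zero fun d _ => ?_
      split_ifs with h3 h4
      · exact absurd (adj_trans h3 h4) h
      all_goals simp
  rw [mul_add, add_mul, add_mul, mul_one, one_mul, one_mul] at this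
  linear_combination (norm := module) this

theorem ap_TT (k : ℕ) : ∀ i j : P.S, Red (s P) (alt i j k) →
    ap (TT (s P i)) (TT (s P j)) k = TT (wp (s P) (alt i j k)) := by
  induction k with
  | zero => intro i j _; simp [ap, TT_one]
  | succ k ih =>
    intro i j h
    have h' := (invGen P).red_cons h
    rw [ap, ih j i h', alt_succ, wp_cons, TT_mul]
    rw [Red, alt_succ, wp_cons] at h
    rw [h, h']; simp

omit [Fintype (G ⧸ P.B)] in
theorem order_mem [Finite G] {i j : P.S} (hij : i ≠ j) :
    orderOf (s P i * s P j) ∈ ({2, 3, 4, 6, 8} : Set ℕ) := by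
  letI := Fintype.ofFinite (G ⧸ P.B)
  set m := orderOf (s P i * s P j) with hm
  have hm0 : 0 < m := orderOf_pos _
  have hm1 : m ≠ 1 := by
    rw [hm, Ne, orderOf_eq_one_iff, mul_eq_one_iff_eq_inv, (invGen P).inv_s]
    exact fun h => hij (s_inj P h)
  have hpow : ∀ l, 1 ≤ l → l < m → (s P i * s P j) ^ l ≠ 1 := fun l h1 h2 =>
    pow_ne_one_of_lt_orderOf (by omega) h2
  have hpow' : ∀ l, 1 ≤ l → l < m → (s P j * s P i) ^ l ≠ 1 := by
    intro l h1 h2 h3
    apply hpow l h1 h2
    rw [← wp_alt_eq_iff (s_sq P _) (s_sq P _)] at h3 ⊢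
    exact h3.symm
  have r1 : ∀ k ≤ m, Red (s P) (alt i j k) := fun k hk =>
    red_alt (invGen P) exch k i j fun l h1 h2 => hpow l h1 (by omega)
  have r2 : ∀ k ≤ m, Red (s P) (alt j i k) := fun k hk =>
    red_alt (invGen P) exch k j i fun l h1 h2 => hpow' l h1 (by omega)
  have tr : ∀ (L : List P.S), Red (s P) L → 1 ≤ L.length → (TT (wp (s P) L)).trace = 0 := by
    intro L hL h1
    apply TT_trace
    intro h
    rw [Red, h, (invGen P).wl_one] at hL
    omega
  obtain ⟨a, ha, hS⟩ := TT_quad i
  obtain ⟨b, hb, hT⟩ := TT_quad j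
  have := main_alg (Matrix.traceLinearMap (G ⧸ P.B) ℝ ℝ) (m := m) (N := Fintype.card (G ⧸ P.B))
    hS hT ha hb Fintype.card_pos (by simp) (by omega)
    (fun k h1 h2 => by
      rw [ap_TT k i j (r1 k h2)]; exact tr _ (r1 k h2) (by simpa using h1))
    (fun k h1 h2 => by
      rw [ap_TT k j i (r2 k h2)]; exact tr _ (r2 k h2) (by simpa using h1))
    (by
      rw [ap_TT m i j (r1 m le_rfl), ap_TT m j i (r2 m le_rfl),
        (wp_alt_eq_iff (s_sq P _) (s_sq P _) m).2 (pow_orderOf_eq_one _)])
    (fun E l h => matrix_idem E l h)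
  simpa using this

omit [Fintype (G ⧸ P.B)] in
theorem feit_higman [Finite G] (h2 : P.rank = 2) :
    ((P.B ⊓ P.N).subgroupOf P.N).index ∈ ({4, 6, 8, 12, 16} : Set ℕ) := by
  obtain ⟨i, j, hij, hu⟩ := Nat.card_eq_two_iff.1 h2
  have ho : ∀ k : P.S, orderOf (s P k) = 2 := fun k =>
    orderOf_eq_prime (by rw [sq, s_sq]) (s_ne_one P k)
  obtain ⟨e⟩ := Inv.s0206 (s P i) (s P j) (ho i) (ho j) (fun h => hij (s_inj P h))
  have htop : Subgroup.closure ({s P i, s P j} : Set (W P)) = ⊤ := by
    rw [eq_top_iff]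
    intro w _
    obtain ⟨L, rfl⟩ := (invGen P).gen w
    have := wp_mem_closure (s P) {i, j} L (fun k _ => by rw [hu]; trivial)
    rwa [Set.image_pair] at this
  have hc := Nat.card_congr e.toEquiv
  rw [htop, Subgroup.card_top, DihedralGroup.nat_card] at hc
  have hm := order_mem (P := P) hij
  change Nat.card (W P) ∈ _
  rw [hc]
  simp only [Set.mem_insert_iff, Set.mem_singleton_iff] at hm ⊢
  omega

end Cfsg.Agent.Lie.FH
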