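import Mathlib

set_option autoImplicit false
set_option linter.unusedSectionVars false

/-! The Hecke-algebra computation behind the Feit–Higman theorem. -/

namespace Cfsg.Agent.Lie.FH

section Alg

variable {A : Type*} [Ring A] [Algebra ℝ A]

/-- Chebyshev-like sequence. -/
def U (x v : ℝ) : ℕ → ℝ
  | 0 => 0
  | 1 => 1
  | k + 2 => x * U x v (k + 1) - v * U x v k

theorem U_zero (x v : ℝ) : U x v 0 = 0 := rfl
theorem U_one (x v : ℝ) : U x v 1 = 1 := rfl
theorem U_two (x v : ℝ) (k : ℕ) : U x v (k + 2) = x * U x v (k + 1) - v * U x v k := rfl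

theorem U_sin (u θ : ℝ) (k : ℕ) :
    U (2 * u * Real.cos θ) (u ^ 2) (k + 1) * Real.sin θ = u ^ k * Real.sin ((k + 1) * θ) ∧
    U (2 * u * Real.cos θ) (u ^ 2) k * u * Real.sin θ = u ^ k * Real.sin (k * θ) := by
  induction k with
  | zero => simp [U_zero, U_one]
  | succ k ih =>
    obtain ⟨h1, h2⟩ := ih
    refine ⟨?_, ?_⟩
    · rw [U_two]
      have e1 : Real.sin (((k + 1 : ℕ) + 1) * θ) =
          2 * Real.cos θ * Real.sin ((k + 1) * θ) - Real.sin (k * θ) := by
        have a1 : ((k + 1 : ℕ) + 1 : ℝ) * θ = (k + 1) * θ + θ := by push_cast; ring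
        have a2 : (k : ℝ) * θ = (k + 1) * θ - θ := by ring
        rw [a1, a2, Real.sin_add, Real.sin_sub]; ring
      rw [e1]
      linear_combination (2 * u * Real.cos θ) * h1 - u * h2
    · push_cast
      linear_combination u * h1

/-- `p k = U (k+1) + b U k`. -/
def pp (x a b : ℝ) (k : ℕ) : ℝ := U x (a * b) (k + 1) + b * U x (a * b) k

theorem pp_zero (x a b : ℝ) : pp x a b 0 = 1 := by simp [pp, U_zero, U_one]
theorem pp_one (x a b : ℝ) : pp x a b 1 = x + b := by simp [pp, U_zero, U_one, U_two]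
theorem pp_two (x a b : ℝ) (k : ℕ) :
    pp x a b (k + 2) = x * pp x a b (k + 1) - a * b * pp x a b k := by
  simp only [pp, U_two]; ring

theorem pp_inv (x a b : ℝ) (k : ℕ) :
    a * (pp x a b (k + 1) ^ 2 - x * pp x a b (k + 1) * pp x a b k + a * b * pp x a b k ^ 2) =
      (a + b + x) * (a * b) ^ (k + 1) := by
  induction k with
  | zero => rw [pp_one, pp_zero]; ring
  | succ k ih => rw [pp_two]; linear_combination (a * b) * ih

theorem pp_sum (x a b : ℝ) (ha : a ≠ 0) (hb : b ≠ 0) (k : ℕ) :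
    (4 * (a * b) - x ^ 2) * ∑ j ∈ Finset.range (k + 1), pp x a b j ^ 2 / (a * b) ^ j =
      2 * (k + 1) * b * (a + b + x) + a * b - b ^ 2 - pp x a b (k + 1) ^ 2 / (a * b) ^ k +
        a * b * pp x a b k ^ 2 / (a * b) ^ k := by
  induction k with
  | zero => simp [pp_one, pp_zero]; ring
  | succ k ih =>
    rw [Finset.sum_range_succ, mul_add, ih, pp_two]
    have h := pp_inv x a b k
    have hv : (a * b) ^ k ≠ 0 := pow_ne_zero _ (mul_ne_zero ha hb)
    rw [pow_succ (a * b) k] at h ⊢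
    generalize (a * b) ^ k = w at *
    field_simp
    push_cast
    linear_combination (2 * b) * h

variable {S T : A} {a b : ℝ}

/-- the basic elements `e_k`. -/
def ee (S T : A) (b : ℝ) (k : ℕ) : A := (S + 1) * (T * S) ^ k * (T - b • 1)

/-- the operator `K`. -/
def KK (S T : A) (b : ℝ) : A := (S + 1) * T - (b - 1) • 1

theorem S1S (hS : S * S = (a - 1) • S + a • 1) : (S + 1) * S = a • (S + 1) := by
  rw [add_mul, hS, one_mul]; module

theorem S1S1 (hS : S * S = (a - 1) • S + a • 1) : (S + 1) * (S + 1) = (a + 1) • (S + 1) := by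
  rw [mul_add, S1S hS, mul_one]; module

theorem TTb (hT : T * T = (b - 1) • T + b • 1) : T * (T - b • 1) = -(T - b • 1) := by
  rw [mul_sub, hT, mul_smul_comm, mul_one]; module

theorem K_e0 (hT : T * T = (b - 1) • T + b • 1) :
    KK S T b * ee S T b 0 = ee S T b 1 - b • ee S T b 0 := by
  have h : (S + 1) * T * ((S + 1) * (T - b • 1)) =
      (S + 1) * (T * S) * (T - b • 1) + (S + 1) * (T * (T - b • 1)) := by
    generalize T - b • 1 = Y
    noncomm_ring
  simp only [KK, ee, pow_zero, pow_one, mul_one]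
  rw [sub_mul, h, TTb hT, smul_mul_assoc, one_mul, mul_neg]
  module

theorem K_e (hS : S * S = (a - 1) • S + a • 1) (hT : T * T = (b - 1) • T + b • 1) (k : ℕ) :
    KK S T b * ee S T b (k + 1) = ee S T b (k + 2) + (a * b) • ee S T b k := by
  have h : (S + 1) * T * ((S + 1) * (T * S) ^ (k + 1) * (T - b • 1)) =
      (S + 1) * (T * S) ^ (k + 2) * (T - b • 1) +
        (S + 1) * (T * T) * S * (T * S) ^ k * (T - b • 1) := by
    rw [pow_succ' (T * S) (k + 1), pow_succ' (T * S) k]
    generalize T - b • 1 = Y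
    noncomm_ring
  have h2 : (S + 1) * (T * T) * S * (T * S) ^ k * (T - b • 1) =
      (b - 1) • ((S + 1) * (T * S) ^ (k + 1) * (T - b • 1)) +
        b • ((S + 1) * S * (T * S) ^ k * (T - b • 1)) := by
    rw [hT, pow_succ' (T * S) k]
    simp only [mul_add, add_mul, mul_smul_comm, smul_mul_assoc, mul_one, mul_assoc, smul_add]
  simp only [KK, ee]
  rw [sub_mul, h, h2, S1S hS, smul_mul_assoc, smul_mul_assoc, smul_mul_assoc, one_mul]
  module

/-- The candidate eigenvector. -/
noncomputable def EE (S T : A) (x a b : ℝ) (d : ℕ) : A :=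
  ∑ k ∈ Finset.range d, (pp x a b k / (a * b) ^ k) • ee S T b k

theorem K_E (hS : S * S = (a - 1) • S + a • 1) (hT : T * T = (b - 1) • T + b • 1)
    (ha : a ≠ 0) (hb : b ≠ 0) (x : ℝ) (d : ℕ) :
    KK S T b * EE S T x a b (d + 1) = x • EE S T x a b (d + 1) +
      (pp x a b d / (a * b) ^ d) • ee S T b (d + 1) -
        (pp x a b (d + 1) / (a * b) ^ d) • ee S T b d := by
  induction d with
  | zero =>
    simp only [EE, zero_add, Finset.sum_range_one, pp_zero, pp_one, pow_zero, div_one, one_smul]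
    rw [K_e0 hT]; module
  | succ d ih =>
    have e : EE S T x a b (d + 1 + 1) = EE S T x a b (d + 1) +
        (pp x a b (d + 1) / (a * b) ^ (d + 1)) • ee S T b (d + 1) := by
      simp only [EE]; rw [Finset.sum_range_succ]
    rw [e, mul_add, ih, mul_smul_comm, K_e hS hT, pp_two]
    have hv : (a * b) ^ d ≠ 0 := pow_ne_zero _ (mul_ne_zero ha hb)
    have hab : a * b ≠ 0 := mul_ne_zero ha hb
    rw [pow_succ]
    generalize (a * b) ^ d = w at *
    match_scalars <;> field_simp <;> ring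

theorem S1_E (hS : S * S = (a - 1) • S + a • 1) (x : ℝ) (d : ℕ) :
    (S + 1) * EE S T x a b d = (a + 1) • EE S T x a b d := by
  simp only [EE, Finset.mul_sum, Finset.smul_sum]
  refine Finset.sum_congr rfl fun k _ => ?_
  rw [mul_smul_comm, smul_comm]
  congr 1
  simp only [ee, ← mul_assoc]
  rw [S1S1 hS, smul_mul_assoc, smul_mul_assoc]

theorem e_mul (hS : S * S = (a - 1) • S + a • 1) (hT : T * T = (b - 1) • T + b • 1) {x : ℝ} {E : A}
    (h1 : (S + 1) * E = (a + 1) • E) (h2 : KK S T b * E = x • E) (k : ℕ) :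
    ee S T b k * E = (pp x a b k * (x - 1 - a * b)) • E ∧
      ee S T b (k + 1) * E = (pp x a b (k + 1) * (x - 1 - a * b)) • E := by
  have h0 : ee S T b 0 * E = (x - 1 - a * b) • E := by
    have : ee S T b 0 = KK S T b + (b - 1) • 1 - b • (S + 1) := by
      simp only [ee, KK, pow_zero, mul_one, mul_sub, mul_smul_comm]; module
    rw [this, sub_mul, add_mul, h2, smul_mul_assoc, smul_mul_assoc, h1, one_mul]
    module
  induction k with
  | zero =>
    refine ⟨by rw [h0, pp_zero, one_mul], ?_⟩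
    have : ee S T b 1 = KK S T b * ee S T b 0 + b • ee S T b 0 := by rw [K_e0 hT]; module
    rw [zero_add, this, add_mul, mul_assoc, smul_mul_assoc, h0, mul_smul_comm, h2, pp_one]
    module
  | succ k ih =>
    refine ⟨ih.2, ?_⟩
    have : ee S T b (k + 2) = KK S T b * ee S T b (k + 1) - (a * b) • ee S T b k := by
      rw [K_e hS hT]; module
    rw [this, sub_mul, mul_assoc, smul_mul_assoc, ih.1, ih.2, mul_smul_comm, h2, pp_two]
    module

theorem E_sq (hS : S * S = (a - 1) • S + a • 1) (hT : T * T = (b - 1) • T + b • 1) {x : ℝ} {d : ℕ}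
    (h2 : KK S T b * EE S T x a b d = x • EE S T x a b d) :
    EE S T x a b d * EE S T x a b d =
      ((x - 1 - a * b) * ∑ j ∈ Finset.range d, pp x a b j ^ 2 / (a * b) ^ j) • EE S T x a b d := by
  have h := fun k => (e_mul hS hT (S1_E hS x d) h2 k).1
  generalize hE : EE S T x a b d = E at h
  conv_lhs => enter [1]; rw [← hE]
  rw [EE, Finset.sum_mul, Finset.mul_sum, Finset.sum_smul]
  refine Finset.sum_congr rfl fun k _ => ?_
  rw [smul_mul_assoc, h, smul_smul]
  congr 1
  ring

/-- alternating products. -/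
def ap {M : Type*} [Monoid M] (S T : M) : ℕ → M
  | 0 => 1
  | k + 1 => S * ap T S k

theorem ap_two_mul {M : Type*} [Monoid M] (S T : M) (k : ℕ) : ap S T (2 * k) = (S * T) ^ k := by
  induction k with
  | zero => simp [ap]
  | succ k ih => rw [mul_add, mul_one, ap, ap, ih, pow_succ', mul_assoc]

theorem ap_odd {M : Type*} [Monoid M] (S T : M) (k : ℕ) : ap S T (2 * k + 1) = S * (T * S) ^ k := by
  rw [ap, ap_two_mul]

theorem ap_odd' {M : Type*} [Monoid M] (S T : M) (k : ℕ) : ap S T (2 * k + 1) = (S * T) ^ k * S := by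
  rw [ap_odd, mul_pow_mul]

theorem ap_even' {M : Type*} [Monoid M] (S T : M) (k : ℕ) :
    ap S T (2 * k + 2) = S * (T * S) ^ k * T := by
  rw [ap, ap_odd', mul_assoc]

variable (τ : A →ₗ[ℝ] ℝ) {m : ℕ} {N : ℝ}

theorem tr_E (hN : τ 1 = N) (h1 : ∀ k, 1 ≤ k → k ≤ m → τ (ap S T k) = 0)
    (h2 : ∀ k, 1 ≤ k → k ≤ m → τ (ap T S k) = 0) (x : ℝ) {d : ℕ} (hd : 2 * (d + 1) ≤ m) :
    τ (EE S T x a b (d + 1)) = -b * N := by
  have key : ∀ k, ee S T b k = ap S T (2 * k + 2) + ap T S (2 * k + 1) - b • ap S T (2 * k + 1) -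
      b • ap T S (2 * k) := by
    intro k
    rw [ap_even', ap_odd', ap_odd, ap_two_mul]
    simp only [ee, mul_sub, add_mul, mul_smul_comm, mul_one, one_mul]
    module
  rw [EE, map_sum, Finset.sum_range_succ']
  rw [Finset.sum_eq_zero, zero_add]
  · rw [key, pp_zero]
    simp only [map_smul, map_sub, map_add]
    rw [h1 _ (by omega) (by omega), h2 _ (by omega) (by omega), h1 _ (by omega) (by omega)]
    simp [ap, hN]
  · intro k hk
    rw [Finset.mem_range] at hk
    rw [key]
    simp only [map_smul, map_sub, map_add]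
    rw [h1 _ (by omega) (by omega), h2 _ (by omega) (by omega), h1 _ (by omega) (by omega),
      h2 _ (by omega) (by omega)]
    simp

theorem e_even (hS : S * S = (a - 1) • S + a • 1) (hT : T * T = (b - 1) • T + b • 1) {d : ℕ}
    (hbr : ap S T (2 * (d + 1)) = ap T S (2 * (d + 1))) :
    ee S T b (d + 1) = (-a) • ee S T b d := by
  rw [ap_two_mul T S, mul_add, mul_one, ap_even'] at hbr
  have : (S + 1) * (S * (T * S) ^ d * T) * (T - b • 1) =
      ((S + 1) * S) * (T * S) ^ d * (T * (T - b • 1)) := by noncomm_ring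
  rw [ee, ← hbr, this, S1S hS, TTb hT, ee, smul_mul_assoc, smul_mul_assoc, mul_neg]
  module

theorem e_odd (hS : S * S = (a - 1) • S + a • 1) (hT : T * T = (b - 1) • T + b • 1) {d : ℕ}
    (ha : a + 1 ≠ 0) (hbr : ap S T (2 * d + 1) = ap T S (2 * d + 1)) : ee S T b d = 0 := by
  rw [ap_odd, ap_odd'] at hbr
  have h1 : (S + 1) * (S * (T * S) ^ d) * (T - b • 1) = a • ee S T b d := by
    rw [← mul_assoc, S1S hS, ee, smul_mul_assoc, smul_mul_assoc]
  have h2 : (S + 1) * ((T * S) ^ d * T) * (T - b • 1) = -ee S T b d := by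
    rw [← mul_assoc, mul_assoc _ T, TTb hT, mul_neg, ee]
  rw [hbr, h2] at h1
  have : (a + 1) • ee S T b d = 0 := by rw [add_smul, ← h1]; module
  exact (smul_eq_zero.1 this).resolve_left ha

theorem isUnit_of_quad (hS : S * S = (a - 1) • S + a • 1) (ha : a ≠ 0) : IsUnit S := by
  refine ⟨⟨S, a⁻¹ • (S - (a - 1) • 1), ?_, ?_⟩, rfl⟩
  · rw [mul_smul_comm, mul_sub, hS, mul_smul_comm, mul_one, add_sub_cancel_left, smul_smul,
      inv_mul_cancel₀ ha, one_smul]
  · rw [smul_mul_assoc, sub_mul, hS, smul_mul_assoc, one_mul, add_sub_cancel_left, smul_smul,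
      inv_mul_cancel₀ ha, one_smul]

theorem eq_of_odd (hS : S * S = (a - 1) • S + a • 1) (hT : T * T = (b - 1) • T + b • 1) {d : ℕ}
    (ha : a ≠ 0) (hb : b ≠ 0) (hbr : ap S T (2 * d + 1) = ap T S (2 * d + 1)) :
    (a - b) • (S + 1) = 0 := by
  rw [ap_odd, ap_odd'] at hbr
  have hu : IsUnit ((T * S) ^ d) := ((isUnit_of_quad hT hb).mul (isUnit_of_quad hS ha)).pow d
  generalize (T * S) ^ d = X at hbr hu
  have h1 : S * S * X = X * (T * T) := by
    rw [mul_assoc, hbr, ← mul_assoc, hbr, mul_assoc]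
  rw [hS, hT, mul_add, mul_smul_comm, ← hbr, mul_smul_comm, mul_one, add_mul, smul_mul_assoc,
    smul_mul_assoc, one_mul] at h1
  rw [← hu.mul_left_eq_zero, smul_mul_assoc, add_mul, one_mul]
  linear_combination (norm := module) h1

end Alg

end Cfsg.Agent.Lie.FH
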