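import Cfsg.Agent.Lie.FH0

set_option autoImplicit false
set_option linter.unusedSectionVars false

/-! The arithmetic part of the Feit–Higman theorem. -/

namespace Cfsg.Agent.Lie.FH

open Real

variable {A : Type*} [Ring A] [Algebra ℝ A] {S T : A} {a b : ℝ}
variable (τ : A →ₗ[ℝ] ℝ) {N : ℝ}

theorem even_eq (hS : S * S = (a - 1) • S + a • 1) (hT : T * T = (b - 1) • T + b • 1)
    (ha : 0 < a) (hb : 0 < b) {d : ℕ} (hN : τ 1 = N)
    (h1 : ∀ k, 1 ≤ k → k ≤ 2 * (d + 1) → τ (ap S T k) = 0)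
    (h2 : ∀ k, 1 ≤ k → k ≤ 2 * (d + 1) → τ (ap T S k) = 0)
    (hbr : ap S T (2 * (d + 1)) = ap T S (2 * (d + 1)))
    (hid : ∀ (E : A) (l : ℝ), E * E = l • E → ∃ r : ℕ, τ E = r * l) {x : ℝ}
    (hx : U x (a * b) (d + 1) = 0) (hx2 : a + b + x ≠ 0) :
    ∃ r : ℕ, 2 * (d + 1) * r * (1 + a * b - x) * (a + b + x) = N * (4 * (a * b) - x ^ 2) := by
  have hp : pp x a b (d + 1) = -a * pp x a b d := by
    simp only [pp, U_two, hx]; ring
  have hK : KK S T b * EE S T x a b (d + 1) = x • EE S T x a b (d + 1) := by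
    rw [K_E hS hT ha.ne' hb.ne', e_even hS hT hbr, hp]
    match_scalars <;> ring
  obtain ⟨r, hr⟩ := hid _ _ (E_sq hS hT hK)
  rw [tr_E τ hN h1 h2 x le_rfl] at hr
  refine ⟨r, ?_⟩
  have hs := pp_sum x a b ha.ne' hb.ne' d
  have hi := pp_inv x a b d
  have hv : (a * b) ^ d ≠ 0 := pow_ne_zero _ (mul_ne_zero ha.ne' hb.ne')
  rw [hp] at hs hi
  rw [pow_succ (a * b) d] at hi
  generalize (a * b) ^ d = w at *
  generalize pp x a b d = p at *
  generalize (∑ j ∈ Finset.range (d + 1), pp x a b j ^ 2 / (a * b) ^ j) = Z at *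
  have e1 : a * p ^ 2 = w * b := by
    apply mul_left_cancel₀ (mul_ne_zero hx2 ha.ne')
    linear_combination hi
  have e2 : (-a * p) ^ 2 / w = a * b := by
    field_simp; linear_combination e1
  have e3 : a * b * p ^ 2 / w = b ^ 2 := by
    field_simp; linear_combination e1
  rw [e2, e3] at hs
  apply mul_left_cancel₀ hb.ne'
  linear_combination (4 * (a * b) - x ^ 2) * hr - r * (1 + a * b - x) * hs

theorem odd_eq (hS : S * S = (a - 1) • S + a • 1) (hT : T * T = (a - 1) • T + a • 1)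
    (ha : 0 < a) {d : ℕ} (hN : τ 1 = N)
    (h1 : ∀ k, 1 ≤ k → k ≤ 2 * (d + 1) + 1 → τ (ap S T k) = 0)
    (h2 : ∀ k, 1 ≤ k → k ≤ 2 * (d + 1) + 1 → τ (ap T S k) = 0)
    (hbr : ap S T (2 * (d + 1) + 1) = ap T S (2 * (d + 1) + 1))
    (hid : ∀ (E : A) (l : ℝ), E * E = l • E → ∃ r : ℕ, τ E = r * l) {x : ℝ}
    (hx : pp x a a (d + 1) = 0) (hx2 : 2 * a + x ≠ 0) :
    ∃ r : ℕ, (2 * (d + 1) + 1) * r * (1 + a * a - x) = N * (2 * a - x) := by
  have hK : KK S T a * EE S T x a a (d + 1) = x • EE S T x a a (d + 1) := by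
    rw [K_E hS hT ha.ne' ha.ne', e_odd hS hT (by linarith) hbr, hx]
    simp
  obtain ⟨r, hr⟩ := hid _ _ (E_sq hS hT hK)
  rw [tr_E τ hN h1 h2 x (by omega)] at hr
  refine ⟨r, ?_⟩
  have hs := pp_sum x a a ha.ne' ha.ne' d
  have hi := pp_inv x a a d
  have hv : (a * a) ^ d ≠ 0 := pow_ne_zero _ (mul_ne_zero ha.ne' ha.ne')
  rw [hx] at hs hi
  rw [pow_succ (a * a) d] at hi
  generalize (a * a) ^ d = w at *
  generalize pp x a a d = p at *
  generalize (∑ j ∈ Finset.range (d + 1), pp x a a j ^ 2 / (a * a) ^ j) = Z at *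
  have e1 : a * p ^ 2 = w * (2 * a + x) := by
    apply mul_left_cancel₀ (mul_ne_zero ha.ne' ha.ne')
    linear_combination hi
  have e3 : a * a * p ^ 2 / w = a * (2 * a + x) := by
    field_simp; linear_combination e1
  rw [e3] at hs
  apply mul_left_cancel₀ (mul_ne_zero ha.ne' hx2)
  linear_combination (4 * (a * a) - x ^ 2) * hr - r * (1 + a * a - x) * hs

theorem rat_of_odd {a N r m : ℕ} (ha : 2 ≤ a) (hN : 0 < N) {x : ℝ}
    (h : (m : ℝ) * r * (1 + a * a - x) = N * (2 * a - x)) : ∃ q : ℚ, x = q := by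
  by_cases h0 : (N : ℝ) - m * r = 0
  · exfalso
    have hN' : (0 : ℝ) < N := by exact_mod_cast hN
    have ha' : (2 : ℝ) ≤ a := by exact_mod_cast ha
    have : (N : ℝ) * ((a - 1) ^ 2) = 0 := by linear_combination h + (1 + a * a - x) * h0
    have h2 : (0 : ℝ) < (a - 1) ^ 2 := by nlinarith
    nlinarith
  · refine ⟨(2 * a * N - m * r * (1 + a * a)) / (N - m * r), ?_⟩
    push_cast
    field_simp
    linear_combination h

theorem rat_of_even {a b N r r' m : ℕ} (ha : 2 ≤ a) (hb : 2 ≤ b) (hN : 0 < N) {x : ℝ}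
    (hx : x ^ 2 < 4 * (a * b))
    (h : (m : ℝ) * r * (1 + a * b - x) * (a + b + x) = N * (4 * (a * b) - x ^ 2))
    (h' : (m : ℝ) * r' * (1 + a * b - -x) * (a + b + -x) = N * (4 * (a * b) - (-x) ^ 2)) :
    ∃ q : ℚ, x = q := by
  have hN' : (0 : ℝ) < N := by exact_mod_cast hN
  have ha' : (2 : ℝ) ≤ a := by exact_mod_cast ha
  have hb' : (2 : ℝ) ≤ b := by exact_mod_cast hb
  have hpos : (0 : ℝ) < N * (4 * (a * b) - x ^ 2) := mul_pos hN' (by linarith)
  have hr : (m : ℝ) * r ≠ 0 := by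
    intro h0; rw [h0] at h; linarith
  have hr' : (m : ℝ) * r' ≠ 0 := by
    intro h0; rw [h0] at h'; nlinarith
  -- ρ, ρ'
  obtain ⟨ρ, hρ⟩ : ∃ ρ : ℚ, (ρ : ℝ) * (m * r) = N :=
    ⟨N / (m * r), by push_cast; exact div_mul_cancel₀ _ hr⟩
  obtain ⟨ρ', hρ'⟩ : ∃ ρ : ℚ, (ρ : ℝ) * (m * r') = N :=
    ⟨N / (m * r'), by push_cast; exact div_mul_cancel₀ _ hr'⟩
  have e1 : (1 + a * b - x) * (a + b + x) = ρ * (4 * (a * b) - x ^ 2) := by
    apply mul_left_cancel₀ hr
    linear_combination h - (4 * (a * b) - x ^ 2) * hρ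
  have e2 : (1 + a * b + x) * (a + b - x) = ρ' * (4 * (a * b) - x ^ 2) := by
    apply mul_left_cancel₀ hr'
    linear_combination h' - (4 * (a * b) - x ^ 2) * hρ'
  have hne : (ρ : ℝ) + ρ' - 2 ≠ 0 := by
    intro h0
    have : (1 + a * b : ℝ) * (a + b) = 4 * (a * b) := by
      linear_combination (1 / 2) * e1 + (1 / 2) * e2 + (1 / 2) * (4 * (a * b) - x ^ 2) * h0
    have h3 : (0 : ℝ) ≤ a * b := by positivity
    nlinarith
  obtain ⟨y, hy⟩ : ∃ y : ℚ, x ^ 2 = y := by
    refine ⟨(4 * (a * b) * (ρ + ρ') - 2 * (1 + a * b) * (a + b)) / (ρ + ρ' - 2), ?_⟩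
    push_cast
    field_simp
    linear_combination e1 + e2
  have hab : ((a : ℝ) - 1) * (b - 1) ≠ 0 := by
    apply mul_ne_zero <;> linarith
  refine ⟨(ρ * (4 * (a * b) - y) - (1 + a * b) * (a + b) + y) / ((a - 1) * (b - 1)), ?_⟩
  push_cast
  rw [eq_div_iff hab, ← hy]
  linear_combination e1

theorem U_neg (x v : ℝ) (k : ℕ) :
    U (-x) v k = -(-1) ^ k * U x v k ∧ U (-x) v (k + 1) = (-1) ^ k * U x v (k + 1) := by
  induction k with
  | zero => simp [U_zero, U_one]
  | succ k ih =>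
    refine ⟨by rw [ih.2]; ring, ?_⟩
    rw [U_two, U_two, ih.1, ih.2]; ring

theorem niven_two_div {m : ℕ} (hm : 2 ≤ m) (h : ∃ q : ℚ, cos (2 * π / m) = q) :
    m = 2 ∨ m = 3 ∨ m = 4 ∨ m = 6 := by
  have hm' : (2 : ℚ) ≤ m := by exact_mod_cast hm
  have hm0 : (m : ℚ) ≠ 0 := by linarith
  have := niven_angle_div_pi_eq (r := 2 / m) (by
    obtain ⟨q, hq⟩ := h
    refine ⟨q, ?_⟩
    rw [← hq]; congr 1; push_cast; ring) ⟨by positivity, by rw [div_le_one (by linarith)]; exact hm'⟩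
  simp only [Set.mem_insert_iff, Set.mem_singleton_iff] at this
  rcases this with h | h | h | h | h
  · exfalso; rw [div_eq_zero_iff] at h; rcases h with h | h <;> linarith
  all_goals
    field_simp at h
    norm_cast at h
    omega

theorem main_alg {a b N m : ℕ} (hS : S * S = ((a : ℝ) - 1) • S + (a : ℝ) • 1)
    (hT : T * T = ((b : ℝ) - 1) • T + (b : ℝ) • 1) (ha : 2 ≤ a) (hb : 2 ≤ b) (hN0 : 0 < N)
    (hN : τ 1 = N) (hm : 2 ≤ m)
    (h1 : ∀ k, 1 ≤ k → k ≤ m → τ (ap S T k) = 0) (h2 : ∀ k, 1 ≤ k → k ≤ m → τ (ap T S k) = 0)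
    (hbr : ap S T m = ap T S m)
    (hid : ∀ (E : A) (l : ℝ), E * E = l • E → ∃ r : ℕ, τ E = r * l) :
    m = 2 ∨ m = 3 ∨ m = 4 ∨ m = 6 ∨ m = 8 := by
  have ha' : (2 : ℝ) ≤ a := by exact_mod_cast ha
  have hb' : (2 : ℝ) ≤ b := by exact_mod_cast hb
  have hN' : (0 : ℝ) < N := by exact_mod_cast hN0
  obtain ⟨d, rfl | rfl⟩ := Nat.even_or_odd' m
  · obtain ⟨d, rfl⟩ : ∃ d', d = d' + 1 := ⟨d - 1, by omega⟩
    by_cases hd : d = 0
    · omega
    set u := √((a : ℝ) * b) with hu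
    have hu0 : 0 < u := Real.sqrt_pos.2 (by positivity)
    have hu2 : u ^ 2 = a * b := Real.sq_sqrt (by positivity)
    have hd' : (0 : ℝ) < d + 1 := by positivity
    have key : ∀ j : ℕ, 1 ≤ j → j ≤ d → ∃ q : ℚ, 2 * u * cos (j * π / (d + 1)) = q := by
      intro j hj1 hj2
      set θ := j * π / (d + 1) with hθ
      have hj1' : (1 : ℝ) ≤ j := by exact_mod_cast hj1
      have hj2' : (j : ℝ) ≤ d := by exact_mod_cast hj2
      have hθ0 : 0 < θ := by have := pi_pos; positivity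
      have hθ1 : θ < π := by
        rw [hθ, div_lt_iff₀ hd']; nlinarith [pi_pos]
      have hs : 0 < sin θ := sin_pos_of_pos_of_lt_pi hθ0 hθ1
      have hU : U (2 * u * cos θ) (a * b) (d + 1) = 0 := by
        have := (U_sin u θ d).1
        rw [hu2, show ((d : ℝ) + 1) * θ = j * π by rw [hθ]; field_simp, sin_nat_mul_pi,
          mul_zero] at this
        exact (mul_eq_zero.1 this).resolve_right hs.ne'
      have hx : (2 * u * cos θ) ^ 2 < 4 * (a * b) := by
        have := sin_sq_add_cos_sq θ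
        rw [← hu2]
        have h3 : 0 < u ^ 2 * sin θ ^ 2 := by positivity
        nlinarith
      generalize 2 * u * cos θ = x at hU hx
      have hab : ∀ y : ℝ, y ^ 2 < 4 * (a * b) → (a : ℝ) + b + y ≠ 0 := by
        intro y hy h0
        have : y = -(a + b) := by linarith
        rw [this] at hy
        nlinarith [sq_nonneg ((a : ℝ) - b)]
      obtain ⟨r, hr⟩ := even_eq τ hS hT (by linarith) (by linarith) hN h1 h2 hbr hid hU (hab x hx)
      obtain ⟨r', hr'⟩ := even_eq τ hS hT (by linarith) (by linarith) hN h1 h2 hbr hid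
        (x := -x) (by rw [(U_neg x _ d).2, hU, mul_zero]) (hab _ (by rwa [neg_sq]))
      exact rat_of_even (m := 2 * (d + 1)) (r := r) (r' := r') ha hb hN0 hx
        (by push_cast; exact hr) (by push_cast; exact hr')
    obtain ⟨q, hq⟩ := key 1 le_rfl (by omega)
    have := niven_two_div (m := d + 1) (by omega) ⟨q ^ 2 / (2 * (a * b)) - 1, by
      have e : 2 * π / ((d + 1 : ℕ) : ℝ) = 2 * (((1 : ℕ) : ℝ) * π / (d + 1)) := by push_cast; ring
      rw [e, cos_two_mul]
      push_cast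
      rw [← hq, ← hu2]
      push_cast
      field_simp⟩
    rcases this with h | h | h | h
    · omega
    · omega
    · omega
    · exfalso
      obtain rfl : d = 5 := by omega
      obtain ⟨q', hq'⟩ := key 2 (by omega) (by omega)
      have e1 : ((1 : ℕ) : ℝ) * π / ((5 : ℕ) + 1) = π / 6 := by push_cast; ring
      have e2 : ((2 : ℕ) : ℝ) * π / ((5 : ℕ) + 1) = π / 3 := by push_cast; ring
      rw [e1, cos_pi_div_six] at hq
      rw [e2, cos_pi_div_three] at hq'
      have hirr : Irrational √((3 : ℕ) : ℝ) := Nat.Prime.irrational_sqrt Nat.prime_three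
      apply hirr
      refine ⟨q / q', ?_⟩
      push_cast
      rw [← hq, ← hq']
      field_simp
  · obtain ⟨d, rfl⟩ : ∃ d', d = d' + 1 := ⟨d - 1, by omega⟩
    have hab : (a : ℝ) = b := by
      have := congrArg τ (eq_of_odd hS hT (by linarith) (by linarith) hbr)
      have h3 := h1 1 le_rfl (by omega)
      simp only [ap, mul_one] at h3
      rw [map_smul, map_add, h3, hN, map_zero, zero_add, smul_eq_mul] at this
      have := (mul_eq_zero.1 this).resolve_right hN'.ne'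
      linarith
    rw [← hab] at hT
    have hd' : (0 : ℝ) < 2 * (d + 1) + 1 := by positivity
    set θ := 2 * π / (2 * (d + 1) + 1) with hθ
    have hθ0 : 0 < θ := by have := pi_pos; positivity
    have hθ1 : θ < π := by
      have : (0 : ℝ) ≤ d := by positivity
      rw [hθ, div_lt_iff₀ hd']; nlinarith [pi_pos]
    have hs : 0 < sin θ := sin_pos_of_pos_of_lt_pi hθ0 hθ1
    have hU : pp (2 * a * cos θ) a a (d + 1) = 0 := by
      obtain ⟨e1, e2⟩ := U_sin a θ (d + 1)
      have e3 : (((d + 1 : ℕ) : ℝ) + 1) * θ = 2 * π - ((d + 1 : ℕ) : ℝ) * θ := by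
        rw [hθ]; push_cast; field_simp; ring
      rw [e3, sin_two_pi_sub] at e1
      apply mul_right_cancel₀ hs.ne'
      rw [pp, ← sq]
      linear_combination e1 + e2
    have hx : 2 * (a : ℝ) + 2 * a * cos θ ≠ 0 := by
      intro h0
      have : cos θ = -1 := by
        apply mul_left_cancel₀ (show (2 * a : ℝ) ≠ 0 by linarith)
        linarith
      have h3 := sin_sq_add_cos_sq θ
      rw [this] at h3
      nlinarith
    obtain ⟨r, hr⟩ := odd_eq τ hS hT (by linarith) hN h1 h2 hbr hid hU hx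
    obtain ⟨q, hq⟩ := rat_of_odd (m := 2 * (d + 1) + 1) (r := r) ha hN0 (by push_cast; exact hr)
    have := niven_two_div (m := 2 * (d + 1) + 1) (by omega) ⟨q / (2 * a), by
      push_cast
      rw [← hq, ← hθ]
      field_simp⟩
    omega

theorem matrix_idem {n : Type*} [Fintype n] [DecidableEq n] (E : Matrix n n ℝ) (l : ℝ)
    (h : E * E = l • E) : ∃ r : ℕ, E.trace = r * l := by
  by_cases hl : l = 0
  · refine ⟨0, ?_⟩
    have : IsNilpotent E := ⟨2, by rw [sq, h, hl, zero_smul]⟩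
    simpa using (Matrix.isNilpotent_trace_of_isNilpotent this).eq_zero
  · have hi : IsIdempotentElem (Matrix.toLin' (l⁻¹ • E)) := by
      rw [IsIdempotentElem, Module.End.mul_eq_comp, ← Matrix.toLin'_mul, smul_mul_assoc,
        mul_smul_comm, h, smul_smul, smul_smul]
      congr 2
      field_simp
    have := (LinearMap.IsIdempotentElem.isProj_range _ hi).trace
    rw [Matrix.trace_toLin'_eq, Matrix.trace_smul, smul_eq_mul] at this
    refine ⟨Module.finrank ℝ (LinearMap.range (Matrix.toLin' (l⁻¹ • E))), ?_⟩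
    rw [← this]; field_simp

end Cfsg.Agent.Lie.FH
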