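import Cfsg.Agent.Lie.Link

set_option autoImplicit false
set_option linter.unusedSectionVars false
set_option linter.unusedSimpArgs false

/-! Filtrations of the matrix ring defined by linear functionals on the root lattice. -/

namespace Cfsg.Agent.Lie

open Cfsg.Lie
open scoped Matrix MatrixGroups

variable {D : ChevalleyDatum} [G : Good D] {R : Type*} [CommRing R]

/-- linear functionals on the root lattice -/
abbrev Fn (D : ChevalleyDatum) : Type := (Ix D → ℤ) →+ ℤ

/-- the order functional -/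
def fF (D : ChevalleyDatum) [Good D] : Fn D where
  toFun := fv
  map_zero' := fv_zero
  map_add' := fv_add

theorem fF_co (r : Rt D) : fF D (co r) = f r := rfl

/-- degree of a basis vector -/
def deg (l : Fn D) : D.Idx → ℤ := Sum.elim (fun _ => 0) fun s => l (co s)

@[simp] theorem deg_inl (l : Fn D) (i : Ix D) : deg l (Sum.inl i) = 0 := rfl
@[simp] theorem deg_inr (l : Fn D) (s : Rt D) : deg l (Sum.inr s) = l (co s) := rfl
theorem deg_neg (l : Fn D) (a : D.Idx) : deg (-l) a = - deg l a := by rcases a with i | s <;> simp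

/-- matrices raising the degree by at least `k` -/
def Fil (l : Fn D) (k : ℤ) (M : Matrix D.Idx D.Idx R) : Prop := ∀ a b, M a b ≠ 0 → k ≤ deg l a - deg l b

variable {l : Fn D}

theorem Fil.mono {k m : ℤ} {M : Matrix D.Idx D.Idx R} (h : Fil l k M) (hm : m ≤ k) : Fil l m M :=
  fun a b hab => hm.trans (h a b hab)

theorem Fil.add {k : ℤ} {M M' : Matrix D.Idx D.Idx R} (h : Fil l k M) (h' : Fil l k M') :
    Fil l k (M + M') := by
  intro a b hab
  by_cases h0 : M a b = 0
  · exact h' a b (by simpa [h0] using hab)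
  · exact h a b h0

theorem Fil.smul {k : ℤ} {M : Matrix D.Idx D.Idx R} (h : Fil l k M) (c : R) : Fil l k (c • M) :=
  fun a b hab => h a b fun h0 => hab (by simp [h0])

theorem Fil.mul {k m : ℤ} {M M' : Matrix D.Idx D.Idx R} (h : Fil l k M) (h' : Fil l m M') :
    Fil l (k + m) (M * M') := by
  intro a b hab
  rw [Matrix.mul_apply] at hab
  obtain ⟨c, -, hc⟩ := Finset.exists_ne_zero_of_sum_ne_zero hab
  have h1 := h a c (left_ne_zero_of_mul hc)
  have h2 := h' c b (right_ne_zero_of_mul hc)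
  omega

theorem fil_zero (k : ℤ) : Fil l k (0 : Matrix D.Idx D.Idx R) := fun _ _ h => absurd rfl h

theorem fil_diagonal (d : D.Idx → R) : Fil l 0 (Matrix.diagonal d) := by
  intro a b hab
  by_cases h : a = b
  · simp [h]
  · exact absurd (Matrix.diagonal_apply_ne d h) hab

theorem fil_one : Fil l 0 (1 : Matrix D.Idx D.Idx R) := fil_diagonal _

theorem Fil.cM {k : ℤ} {M : Matrix D.Idx D.Idx ℤ} (h : Fil l k M) : Fil l k (cM R M) :=
  fun a b hab => h a b fun h0 => hab (by simp [cM_apply, h0])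

theorem Fil.of_smul {k c : ℤ} {M : Matrix D.Idx D.Idx ℤ} (hc : c ≠ 0) (h : Fil l k (c • M)) : Fil l k M :=
  fun a b hab => h a b (by rw [Matrix.smul_apply]; exact mul_ne_zero hc hab)

theorem fil_E (r : Rt D) : Fil l (l (co r)) (E r) := by
  intro a b hab
  change colE r b a ≠ 0 at hab
  rcases b with i | s
  · have : a = Sum.inr r := by by_contra hc; simp [colE, eV, hc] at hab
    simp [this]
  · simp only [colE] at hab
    split_ifs at hab with h
    · rcases a with j | u
      · simp [h]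
      · exact absurd (hv_inr _ _) hab
    · have h1 : a = Sum.inr (add r s) := by by_contra hc; simp [eV, hc] at hab
      have h2 : N r s ≠ 0 := by intro hc; simp [hc] at hab
      simp [h1, add_co h2]

theorem fil_xR_sub_one {r : Rt D} (h : 0 ≤ l (co r)) (t : R) : Fil l (l (co r)) (xR R r t - 1) := by
  have h2 : Fil l (l (co r) + l (co r)) (X2 r) :=
    Fil.of_smul two_ne_zero (by rw [← E_mul_E]; exact (fil_E r).mul (fil_E r))
  have h3 : Fil l (l (co r) + (l (co r) + l (co r))) (X3 r) :=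
    Fil.of_smul (c := 3) (by norm_num) (by rw [← E_mul_X2]; exact (fil_E r).mul h2)
  have : xR R r t - 1 = t • ER R r + t ^ 2 • cM R (X2 r) + t ^ 3 • cM R (X3 r) := by
    rw [xR]; abel
  rw [this]
  exact (((fil_E r).cM.smul _).add ((h2.cM.smul _).mono (by omega))).add ((h3.cM.smul _).mono (by omega))

theorem Fil.mul_sub_one {k : ℤ} (hk : 0 ≤ k) {M M' : Matrix D.Idx D.Idx R} (h : Fil l k (M - 1))
    (h' : Fil l k (M' - 1)) : Fil l k (M * M' - 1) := by
  have : M * M' - 1 = (M - 1) * (M' - 1) + (M - 1) + (M' - 1) := by noncomm_ring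
  rw [this]
  exact (((h.mul h').mono (by omega)).add h).add h'

/-- invertible matrices congruent to the identity modulo the `k`-th term of the filtration -/
def Tri (l : Fn D) (k : ℕ) : Subgroup (GL D.Idx R) where
  carrier := {g | Fil l k (g.1 - 1) ∧ Fil l k ((g⁻¹).1 - 1)}
  one_mem' := by simp [fil_zero]
  mul_mem' := fun {a b} ha hb => ⟨ha.1.mul_sub_one (by omega) hb.1, by
    rw [mul_inv_rev]; exact hb.2.mul_sub_one (by omega) ha.2⟩
  inv_mem' := fun {a} ha => ⟨ha.2, by rw [inv_inv]; exact ha.1⟩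

theorem Tri_mono {k m : ℕ} (h : k ≤ m) : (Tri l m : Subgroup (GL D.Idx R)) ≤ Tri l k :=
  fun _ hg => ⟨hg.1.mono (by omega), hg.2.mono (by omega)⟩

theorem xG_mem_Tri {r : Rt D} {k : ℕ} (h : (k : ℤ) ≤ l (co r)) (t : R) : xG r t ∈ Tri l k :=
  ⟨(fil_xR_sub_one (by omega) t).mono h, (fil_xR_sub_one (by omega) (-t)).mono h⟩

theorem dg_mem_Tri (χ : Ix D → Rˣ) : dg χ ∈ Tri l 0 := by
  have : ∀ χ : Ix D → Rˣ, Fil l 0 (dgM χ - 1) := fun χ => by
    rw [dgM, ← Matrix.diagonal_one, Matrix.diagonal_sub]; exact fil_diagonal _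
  exact ⟨this χ, this χ⁻¹⟩

theorem eq_one_of_Tri {g : GL D.Idx R} (h : g ∈ Tri l 1) (h' : g ∈ Tri (-l) 0) : g = 1 := by
  refine Units.ext (sub_eq_zero.1 ?_)
  ext a b
  by_contra hc
  have h1 := h.1 a b hc
  have h2 := h'.1 a b hc
  simp only [deg_neg] at h2
  omega

theorem Tri.fil {g : GL D.Idx R} (h : g ∈ Tri l 0) : Fil l 0 g.1 := by
  have := h.1.add fil_one
  rwa [sub_add_cancel] at this

theorem entry_mul {k : ℕ} {g g' : GL D.Idx R} (h : g ∈ Tri l k) (h' : g' ∈ Tri l k) {s : Rt D}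
    (hs : l (co s) < 2 * k) (i : Ix D) :
    (g * g').1 (Sum.inl i) (Sum.inr (ng s)) = g.1 (Sum.inl i) (Sum.inr (ng s)) + g'.1 (Sum.inl i) (Sum.inr (ng s)) := by
  have e : (g * g').1 = (g.1 - 1) * (g'.1 - 1) + g.1 + g'.1 - 1 := by rw [Units.val_mul]; noncomm_ring
  have h0 : ((g.1 - 1) * (g'.1 - 1)) (Sum.inl i) (Sum.inr (ng s)) = 0 := by
    by_contra hc
    have := h.1.mul h'.1 _ _ hc
    simp at this
    omega
  rw [e, Matrix.sub_apply, Matrix.add_apply, Matrix.add_apply, h0]
  simp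

theorem Tri.pow_eq_zero {F : Type*} [Field F] {g : GL D.Idx F} (h : g ∈ Tri l 1) :
    (g.1 - 1) ^ (D.rank + D.nroots) = 0 := by
  have h1 : ∀ k : ℕ, Fil l k ((g.1 - 1) ^ k) := by
    intro k
    induction k with
    | zero => simpa using fil_one
    | succ k ih => rw [pow_succ]; exact_mod_cast ih.mul h.1
  have : Nonempty D.Idx := ⟨Sum.inl ⟨0, G.is.rank_pos⟩⟩
  obtain ⟨p, hp⟩ := Finite.exists_max (fun p : D.Idx × D.Idx => deg l p.1 - deg l p.2)
  have h2 : IsNilpotent (g.1 - 1) := by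
    refine ⟨(deg l p.1 - deg l p.2).toNat + 1, ?_⟩
    ext a b
    by_contra hc
    have := h1 _ a b hc
    have := hp (a, b)
    simp only at this
    omega
  have h3 := Matrix.isNilpotent_charpoly_sub_pow_of_isNilpotent h2
  rw [isNilpotent_iff_eq_zero, sub_eq_zero] at h3
  have h4 := Matrix.aeval_self_charpoly (g.1 - 1)
  rw [h3] at h4
  simpa using h4

end Cfsg.Agent.Lie
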