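import Cfsg.Agent.Lie.Weyl2

set_option autoImplicit false
set_option linter.unusedSectionVars false
set_option linter.unusedSimpArgs false

/-! The group generated by the fixed points of an endomorphism permuting the root subgroups. -/

namespace Cfsg.Agent.Lie

open Cfsg.Lie
open scoped Matrix MatrixGroups commutatorElement

variable {D : ChevalleyDatum} [G : Good D] {F : Type*} [Field F] {Γ : Type*} [Group Γ]

/-- positive roots of an orbit subsystem -/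
def PO (ρ0 : Equiv.Perm (Ix D)) (i : Ix D) : Set (Rt D) := {r | Pos r ∧ InJ (orb ρ0 i) r}
/-- negative roots of an orbit subsystem -/
def NO (ρ0 : Equiv.Perm (Ix D)) (i : Ix D) : Set (Rt D) := {r | ¬ Pos r ∧ InJ (orb ρ0 i) r}

/-- the twisted group -/
def G1 (x : Rt D → F → Γ) (σ : Γ →* Γ) (ρ0 : Equiv.Perm (Ix D)) : Subgroup Γ :=
  Subgroup.closure {g | σ g = g ∧ ∃ i, g ∈ XS x (PO ρ0 i) ∨ g ∈ XS x (NO ρ0 i)}

/-- an endomorphism permuting the root subgroups -/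
structure Fold (x : Rt D → F → Γ) (σ : Γ →* Γ) (ρ : Equiv.Perm (Rt D)) (ρ0 : Equiv.Perm (Ix D)) : Prop where
  pos : ∀ r, Pos (ρ r) ↔ Pos r
  sim : ∀ i, ρ (sim i) = sim (ρ0 i)
  inj : Function.Injective σ
  map_x : ∀ r t, ∃ t', σ (x r t) = x (ρ r) t'
  map_n : ∀ r t, ∃ t', σ (nX x r t) = nX x (ρ r) t'
  ne : ∀ i, ∃ v ∈ XS x (NO ρ0 i), σ v = v ∧ v ≠ 1

theorem mem_WJ_univ (w : W D) : w ∈ WJ Set.univ := by rw [WJ_univ]; trivial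
theorem mem_Wf_one (w : W D) : w ∈ Wf 1 := by rw [Wf_one]; trivial

theorem ca_nonpos {i j : Ix D} (h : i ≠ j) : ca i (sim j) ≤ 0 := by
  have := (pos_iff _).1 (pos_refl (i := i) (pos_sim j) (fun e => h (sim_inj e).symm)) i
  rw [co_refl_self, co_sim, Pi.single_eq_of_ne h, A_sim] at this
  omega

theorem gO_not_comm {ρ0 : Equiv.Perm (Ix D)} {i j : Ix D} (h : j ∉ orb ρ0 i) (hc : ca i (sim j) ≠ 0) :
    gO ρ0 i * gO ρ0 j ≠ gO ρ0 j * gO ρ0 i := by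
  intro e
  have hd : ∀ k ∈ orb ρ0 i, k ∉ orb ρ0 j := fun k h1 h2 => h (by
    rw [← orb_eq h1, orb_eq h2]; exact self_mem_orb ρ0 j)
  have hj : InJ (orb ρ0 j) (sim j) := InJ_sim.2 (self_mem_orb ρ0 j)
  have hi : InJ (orb ρ0 i) (sim i) := InJ_sim.2 (self_mem_orb ρ0 i)
  have hm : ∀ i, gO ρ0 i ∈ WJ (orb ρ0 i) := fun i => w0J_mem _
  have h1 : Pos ((gO ρ0 i).1 (sim j)) := (pos_WJ (hm i) (mt InJ_sim.1 h)).2 (pos_sim j)
  have h2 : ¬ Pos ((gO ρ0 j).1 ((gO ρ0 i).1 (sim j))) := by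
    rw [← W_mul_apply, ← e, W_mul_apply, pos_WJ (hm i)]
    · exact w0J_neg (pos_sim j) hj
    · intro h3
      have h4 := (InJ_WJ (hm j) _).2 hj
      apply co_ne_zero ((gO ρ0 j).1 (sim j))
      funext k
      by_cases hk : k ∈ orb ρ0 i
      · exact h4 k (hd k hk)
      · exact h3 k hk
  have h3 := (mem_inv_w0J.1 (mem_inv.2 ⟨h1, h2⟩)).2
  have h4 : (gO ρ0 i).1 (sim j) = sim j := by
    apply co_inj
    funext k
    by_cases hk : k ∈ orb ρ0 i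
    · rw [h3 k (hd k hk), hj k (hd k hk)]
    · exact co_WJ (hm i) _ hk
  have h5 := A_aut (W_aut (gO ρ0 i)) (sim i) (sim j)
  rw [h4, A_sim] at h5
  have h6 : 0 ≤ A ((gO ρ0 i).1 (sim i)) (sim j) := by
    refine Finset.sum_nonneg fun k _ => ?_
    by_cases hk : k ∈ orb ρ0 i
    · refine mul_nonneg_of_nonpos_of_nonpos ((cr_sign _ k).2.1.2 ((not_pos_iff _).1 (w0J_neg (pos_sim i) hi) k))
        (ca_nonpos ?_)
      rintro rfl; exact h hk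
    · rw [(cr_sign _ k).2.2.2 ((InJ_WJ (hm i) _).2 hi k hk), zero_mul]
  have := ca_nonpos (i := i) (j := j) (by rintro rfl; exact h (self_mem_orb ρ0 i))
  omega

theorem UW_gO (x : Rt D → F → Γ) (ρ0 : Equiv.Perm (Ix D)) (i : Ix D) : UW x (gO ρ0 i) = XS x (PO ρ0 i) := by
  rw [UW, gO, coe_inv_w0J]; rfl

theorem UW_w0 (x : Rt D → F → Γ) : UW x (w0J Set.univ) = UX x := by
  rw [UW, coe_inv_w0J, UX]; congr 1; ext r; simp [InJ]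

theorem UW_one (x : Rt D → F → Γ) : UW x 1 = ⊥ := by
  rw [UW, ← XS_empty (x := x)]; congr 1; ext r; simp [mem_inv]

theorem G1_le_fix {x : Rt D → F → Γ} {σ : Γ →* Γ} {ρ0 : Equiv.Perm (Ix D)} {g : Γ} (h : g ∈ G1 x σ ρ0) :
    σ g = g :=
  (Subgroup.closure_le (σ.eqLocus (MonoidHom.id Γ))).2 (fun _ h => h.1) h

theorem G1_le_XS (x : Rt D → F → Γ) (σ : Γ →* Γ) (ρ0 : Equiv.Perm (Ix D)) : G1 x σ ρ0 ≤ XS x Set.univ := by
  rw [G1, Subgroup.closure_le]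
  rintro g ⟨-, i, h | h⟩ <;> exact XS_mono (Set.subset_univ _) h

theorem mem_G1_pos {x : Rt D → F → Γ} {σ : Γ →* Γ} {ρ0 : Equiv.Perm (Ix D)} {g : Γ} {i : Ix D}
    (h : g ∈ XS x (PO ρ0 i)) (h' : σ g = g) : g ∈ G1 x σ ρ0 := Subgroup.subset_closure ⟨h', i, Or.inl h⟩

theorem mem_G1_neg {x : Rt D → F → Γ} {σ : Γ →* Γ} {ρ0 : Equiv.Perm (Ix D)} {g : Γ} {i : Ix D}
    (h : g ∈ XS x (NO ρ0 i)) (h' : σ g = g) : g ∈ G1 x σ ρ0 := Subgroup.subset_closure ⟨h', i, Or.inr h⟩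

namespace Sys

variable {x : Rt D → F → Γ} {θ : Γ →* GL D.Idx F} (hS : Sys x θ)
include hS

theorem mem_L_of_lift {J : Set (Ix D)} {n : Γ} {w : W D} (hn : Lift x n w) (hw : w ∈ WJ J) : n ∈ LX x J := by
  obtain ⟨L, hL, rfl⟩ := exists_wp_of_mem_closure sw_sq J hw
  have h1 : wp (nS x) L ∈ LX x J := by
    refine (Subgroup.closure_le (LX x J)).2 ?_ (wp_mem_closure (nS x) J L hL)
    rintro _ ⟨i, hi, rfl⟩
    exact Subgroup.mem_sup_right (nX_mem (fun _ => mem_XS (S := {r | InJ J r}) (InJ_sim.2 hi) _)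
      (fun _ => mem_XS (S := {r | InJ J r}) (InJ_ng.2 (InJ_sim.2 hi)) _) _)
  have := mul_mem (Subgroup.mem_sup_left (hS.lift_mul_inv hn (hS.lift_wp L))) h1
  simpa [LX] using this

theorem UW_mul {w v : W D} (h : ∀ r ∈ inv v⁻¹.1, Pos (w.1 r)) {n : Γ} (hn : Lift x n v) {u : Γ} :
    u ∈ UW x (w * v) ↔ ∃ a ∈ UW x w, ∃ b ∈ UW x v, u = n⁻¹ * a * n * b := by
  constructor
  · intro hu
    obtain ⟨a, ha, b, hb, rfl⟩ := hS.exists_mul (Set.subset_univ _) (closed_inv (w * v))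
      (posOn_pos.mono (inv_subset _)) (S₁ := v.1 ⁻¹' inv w.1) (S₂ := inv v.1)
      (fun r hr => (mem_inv_mul h).2 (Or.inl hr)) (fun r hr => ((mem_inv_mul h).1 hr).symm) hu
    exact ⟨_, hn.conj_mem (fun _ hs => hs) ha, b, hb, by group⟩
  · rintro ⟨a, ha, b, hb, rfl⟩
    exact mul_mem (hn.conj_mem' (fun r hr => (mem_inv_mul h).2 (Or.inr (by simpa using hr))) ha)
      (XS_mono (fun r hr => (mem_inv_mul h).2 (Or.inl hr)) hb)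

theorem UW_mul_unique {w v : W D} {n : Γ} (hn : Lift x n v) {a a' b b' : Γ} (ha : a ∈ UW x w)
    (ha' : a' ∈ UW x w) (hb : b ∈ UW x v) (hb' : b' ∈ UW x v) (e : n⁻¹ * a * n * b = n⁻¹ * a' * n * b') :
    a = a' ∧ b = b' :=
  hS.sharp_unique hn (UX_le_BX (UW_le_UX x w ha)) (UX_le_BX (UW_le_UX x w ha')) hb hb' (by
    simpa [mul_assoc] using e)

theorem eq_zero_of_sim_mem {i : Ix D} {t : F} (h : x (sim i) t ∈ XS x {r | Pos r ∧ r ≠ sim i}) : t = 0 := by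
  have hs := hS.lift_nS i
  have h1 : nS x i * x (sim i) t * (nS x i)⁻¹ ∈ UX x :=
    hs.conj_mem (T := {r | Pos r}) (fun _ hs => pos_refl hs.1 hs.2) h
  obtain ⟨c, hc⟩ := hs.2 (sim i)
  rw [hc] at h1
  by_contra ht
  have := hS.pos_of_x_mem_B (by simpa using ht) (UX_le_BX h1)
  rw [sw_coe, refl_sim, pos_ng] at this
  exact this (pos_sim i)

theorem card_B_inf [Finite Γ] (K : Subgroup Γ) (hK : ∀ u ∈ UX x, ∀ h ∈ HX x, u * h ∈ K → u ∈ K) :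
    Nat.card (BX x ⊓ K : Subgroup Γ) = Nat.card (UX x ⊓ K : Subgroup Γ) * Nat.card (HX x ⊓ K : Subgroup Γ) := by
  rw [← Nat.card_prod]
  symm
  refine Nat.card_eq_of_bijective (fun p => ⟨p.1.1 * p.2.1,
    mul_mem (UX_le_BX p.1.2.1) (HX_le_BX p.2.2.1), mul_mem p.1.2.2 p.2.2.2⟩) ⟨?_, ?_⟩
  · rintro ⟨⟨u, hu⟩, ⟨h, hh⟩⟩ ⟨⟨u', hu'⟩, ⟨h', hh'⟩⟩ e
    replace e : u * h = u' * h' := congrArg Subtype.val e
    have h1 : u'⁻¹ * u = 1 := hS.eq_one_of_U_H (mul_mem (inv_mem hu'.1) hu.1) (by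
      have : u'⁻¹ * u = h' * h⁻¹ := by
        calc _ = u'⁻¹ * (u * h) * h⁻¹ := by group
          _ = _ := by rw [e]; group
      rw [this]; exact mul_mem hh'.1 (inv_mem hh.1))
    obtain rfl : u' = u := inv_mul_eq_one.1 h1
    obtain rfl : h = h' := mul_left_cancel e
    rfl
  · rintro ⟨g, hg, hg'⟩
    obtain ⟨u, hu, h, hh, rfl⟩ := hS.mem_B.1 hg
    have := hK u hu h hh hg'
    exact ⟨(⟨u, hu, this⟩, ⟨h, hh, (K.mul_mem_cancel_left this).1 hg'⟩), rfl⟩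

end Sys

namespace Fold

variable {x : Rt D → F → Γ} {θ : Γ →* GL D.Idx F} {σ : Γ →* Γ} {ρ : Equiv.Perm (Rt D)}
  {ρ0 : Equiv.Perm (Ix D)} (hF : Fold x σ ρ ρ0) (hS : Sys x θ)
include hF

theorem map_XS {S T : Set (Rt D)} (h : ∀ s ∈ S, ρ s ∈ T) {g : Γ} (hg : g ∈ XS x S) : σ g ∈ XS x T :=
  (XS_le (K := (XS x T).comap σ)).2 (fun r hr t => by
    obtain ⟨t', e⟩ := hF.map_x r t
    rw [Subgroup.mem_comap, e]; exact mem_XS (h r hr) _) hg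

theorem map_U {g : Γ} (hg : g ∈ UX x) : σ g ∈ UX x := hF.map_XS (fun s hs => (hF.pos s).2 hs) hg

theorem map_N {g : Γ} (hg : g ∈ NX x) : σ g ∈ NX x :=
  (NX_le (K := (NX x).comap σ)).2 (fun r t => by
    obtain ⟨t', e⟩ := hF.map_n r t
    rw [Subgroup.mem_comap, e]; exact nX_mem_NX _ _) hg

include hS

theorem lift_map {n : Γ} {w w' : W D} (hn : Lift x n w) (hn' : Lift x (σ n) w') (r : Rt D) :
    w'.1 (ρ r) = ρ (w.1 r) := by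
  obtain ⟨c, hc⟩ := hn.2 r
  obtain ⟨c', hc'⟩ := hn'.2 (ρ r)
  obtain ⟨t, ht⟩ := hF.map_x r 1
  obtain ⟨t', ht'⟩ := hF.map_x (w.1 r) (c * 1)
  have h0 : t ≠ 0 := by
    rintro rfl
    rw [hS.x_zero, ← map_one σ] at ht
    exact one_ne_zero (hS.x_eq_one (hF.inj ht))
  refine hS.eq_of_x_eq (mul_ne_zero c'.ne_zero h0) (u := t') ?_
  rw [← hc', ← ht, ← ht', ← hc, map_mul, map_mul, map_inv]

theorem sym : Sym ρ ρ0 := by
  refine ⟨hF.pos, hF.sim, fun i => Equiv.ext fun r => ?_⟩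
  obtain ⟨t, ht⟩ := hF.map_n (Lie.sim i) 1
  have := hF.lift_map hS (hS.lift_nS i) (w' := sw (ρ0 i)) (by
    rw [nS, ht, hF.sim, ← rf_sim]; exact hS.lift_n _ _) r
  exact this.symm

theorem map_H {g : Γ} (hg : g ∈ HX x) : σ g ∈ HX x := by
  obtain ⟨w, hw⟩ := hS.exists_lift_of_mem (hF.map_N (HX_le_NX hg))
  have : w = 1 := by
    ext r
    obtain ⟨r, rfl⟩ := ρ.surjective r
    rw [hF.lift_map hS (hS.lift_of_mem_H hg) hw]; rfl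
  exact hS.mem_H_of_lift (this ▸ hw)

theorem fixed_sharp {a n u : Γ} {w : W D} (ha : a ∈ UX x) (hn : Lift x n w) (hu : u ∈ UW x w)
    (h : σ (a * n * u) = a * n * u) : σ a = a ∧ σ n = n ∧ σ u = u ∧ w ∈ Wf ρ := by
  obtain ⟨w', hw'⟩ := hS.exists_lift_of_mem (hF.map_N hn.1)
  have e := hF.lift_map hS hn hw'
  have hu' : σ u ∈ UW x w' := hF.map_XS (fun s hs => by
    rw [Finset.mem_coe, mem_inv] at hs ⊢
    rwa [e, hF.pos, hF.pos]) hu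
  rw [map_mul, map_mul] at h
  obtain ⟨h1, h2, h3⟩ := hS.sharp_unique' hw' hn (hF.map_U ha) ha hu' hu h
  rw [h2] at hw'
  exact ⟨h1, h2, h3, mem_Wf.2 (hS.lift_unique hn hw' ▸ e)⟩

theorem mem_Wf_of_fixed {n : Γ} {w : W D} (hn : Lift x n w) (h : σ n = n) : w ∈ Wf ρ :=
  mem_Wf.2 (hF.lift_map hS hn (h.symm ▸ hn))

theorem fixed_decomp {i : Ix D} {v : Γ} (hv : v ∈ LX x (orb ρ0 i)) (hv1 : σ v = v) (hv2 : v ∉ BX x) :
    ∃ a ∈ XS x (PO ρ0 i), ∃ n, Lift x n (gO ρ0 i) ∧ ∃ u ∈ XS x (PO ρ0 i),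
      v = a * n * u ∧ σ a = a ∧ σ n = n ∧ σ u = u := by
  obtain ⟨w, hw, hc⟩ := hS.mem_P.1 (hS.UJ_sup_L (orb ρ0 i) ▸ Subgroup.mem_sup_right hv)
  obtain ⟨a, ha, n, hn, u, hu, rfl⟩ := hS.sharp' hc
  obtain ⟨h1, h2, h3, h4⟩ := hF.fixed_sharp hS ha hn hu hv1
  rcases (hF.sym hS).eq_one_or h4 hw with rfl | rfl
  · exact absurd (hS.mem_Cell_one.1 hc) hv2
  rw [UW_gO] at hu
  refine ⟨a, hS.mem_of_U_L ha ?_, n, hn, u, hu, rfl, h1, h2, h3⟩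
  have hu' : u ∈ LX x (orb ρ0 i) := Subgroup.mem_sup_right (XS_mono (fun _ h => h.2) hu)
  rwa [Subgroup.mul_mem_cancel_right _ hu', Subgroup.mul_mem_cancel_right _ (hS.mem_L_of_lift hn hw)] at hv

theorem exists_nu (i : Ix D) : ∃ n ∈ G1 x σ ρ0, Lift x n (gO ρ0 i) := by
  obtain ⟨v, hv, h1, h2⟩ := hF.ne i
  obtain ⟨a, ha, n, hn, u, hu, e, h3, -, h4⟩ := hF.fixed_decomp hS
    (Subgroup.mem_sup_right (XS_mono (fun _ h => h.2) hv)) h1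
    (fun hb => h2 (hS.eq_one_of_B_V hb (XS_mono (fun _ h => h.1) hv)))
  refine ⟨n, ?_, hn⟩
  have := mem_G1_neg hv h1
  rwa [e, Subgroup.mul_mem_cancel_right _ (mem_G1_pos hu h4),
    Subgroup.mul_mem_cancel_left _ (mem_G1_pos ha h3)] at this

theorem exists_lift {w : W D} (hw : w ∈ Wf ρ) : ∃ n ∈ G1 x σ ρ0, Lift x n w := by
  refine (hF.sym hS).induction (stable_univ ρ0) (p := fun w => ∃ n ∈ G1 x σ ρ0, Lift x n w)
    ⟨1, one_mem _, Lift.one⟩ ?_ hw (mem_WJ_univ _)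
  rintro w - - i - - ⟨n, h1, h2⟩
  obtain ⟨n', h3, h4⟩ := hF.exists_nu hS i
  exact ⟨_, mul_mem h1 h3, h2.mul h4⟩

theorem fixed_UW_mul {w : W D} (hw : w ∈ Wf ρ) {i : Ix D} {n : Γ}
    (hn : Lift x n (gO ρ0 i)) (hn' : σ n = n) {a b : Γ} (ha : a ∈ UW x w) (hb : b ∈ UW x (gO ρ0 i))
    (h : σ (n⁻¹ * a * n * b) = n⁻¹ * a * n * b) : σ a = a ∧ σ b = b := by
  simp only [map_mul, map_inv, hn'] at h
  exact hS.UW_mul_unique hn (hF.map_XS (fun s hs => ((hF.sym hS).mem_inv_iff hw).2 hs) ha) ha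
    (hF.map_XS (fun s hs => ((hF.sym hS).mem_inv_iff ((hF.sym hS).gO_mem i)).2 hs) hb) hb h

theorem mem_of_UW {w : W D} (hw : w ∈ Wf ρ) {u : Γ} (hu : u ∈ UW x w) (h : σ u = u) : u ∈ G1 x σ ρ0 := by
  revert u
  refine (hF.sym hS).induction (stable_univ ρ0) (p := fun w => ∀ {u}, u ∈ UW x w → σ u = u → u ∈ G1 x σ ρ0)
    ?_ ?_ hw (mem_WJ_univ _)
  · intro u hu _
    rw [UW_one, Subgroup.mem_bot] at hu
    rw [hu]; exact one_mem _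
  · intro w hw _ i _ hp ih u hu h
    obtain ⟨n, h1, h2⟩ := hF.exists_nu hS i
    obtain ⟨a, ha, b, hb, rfl⟩ := (hS.UW_mul ((hF.sym hS).pos_of_pos hw hp) h2).1 hu
    obtain ⟨h3, h4⟩ := hF.fixed_UW_mul hS hw h2 (G1_le_fix h1) ha hb h
    rw [UW_gO] at hb
    exact mul_mem (mul_mem (mul_mem (inv_mem h1) (ih ha h3)) h1) (mem_G1_pos hb h4)

theorem mem_of_U {u : Γ} (hu : u ∈ UX x) (h : σ u = u) : u ∈ G1 x σ ρ0 :=
  hF.mem_of_UW hS ((hF.sym hS).w0J_mem_Wf (stable_univ ρ0)) (UW_w0 x ▸ hu) h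

theorem card_UW_mul {w : W D} (hw : w ∈ Wf ρ) {i : Ix D} (hp : Pos (w.1 (Lie.sim i))) :
    Nat.card (UW x (w * gO ρ0 i) ⊓ G1 x σ ρ0 : Subgroup Γ) =
      Nat.card (XS x (PO ρ0 i) ⊓ G1 x σ ρ0 : Subgroup Γ) * Nat.card (UW x w ⊓ G1 x σ ρ0 : Subgroup Γ) := by
  obtain ⟨n, h1, h2⟩ := hF.exists_nu hS i
  have key := fun u => hS.UW_mul ((hF.sym hS).pos_of_pos hw hp) h2 (u := u)
  rw [← Nat.card_prod, ← UW_gO]
  symm
  refine Nat.card_eq_of_bijective (fun p => ⟨n⁻¹ * p.2.1 * n * p.1.1, (key _).2 ⟨_, p.2.2.1, _, p.1.2.1, rfl⟩,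
    (G1 x σ ρ0).mul_mem ((G1 x σ ρ0).mul_mem ((G1 x σ ρ0).mul_mem (inv_mem h1) p.2.2.2) h1) p.1.2.2⟩) ⟨?_, ?_⟩
  · rintro ⟨⟨b, hb⟩, ⟨a, ha⟩⟩ ⟨⟨b', hb'⟩, ⟨a', ha'⟩⟩ e
    replace e : n⁻¹ * a * n * b = n⁻¹ * a' * n * b' := congrArg Subtype.val e
    obtain ⟨rfl, rfl⟩ := hS.UW_mul_unique h2 ha.1 ha'.1 hb.1 hb'.1 e
    rfl
  · rintro ⟨u, hu, hu'⟩
    obtain ⟨a, ha, b, hb, rfl⟩ := (key _).1 hu
    obtain ⟨h3, h4⟩ := hF.fixed_UW_mul hS hw h2 (G1_le_fix h1) ha hb (G1_le_fix hu')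
    exact ⟨(⟨b, hb, hF.mem_of_UW hS ((hF.sym hS).gO_mem i) hb h4⟩, ⟨a, ha, hF.mem_of_UW hS hw ha h3⟩), rfl⟩

theorem card_UW_pow {q κ : ℕ}
    (hq : ∀ i, Nat.card (XS x (PO ρ0 i) ⊓ G1 x σ ρ0 : Subgroup Γ) ^ κ = q ^ wl sw (gO ρ0 i))
    {w : W D} (hw : w ∈ Wf ρ) : Nat.card (UW x w ⊓ G1 x σ ρ0 : Subgroup Γ) ^ κ = q ^ wl sw w := by
  refine (hF.sym hS).induction (stable_univ ρ0)
    (p := fun w => Nat.card (UW x w ⊓ G1 x σ ρ0 : Subgroup Γ) ^ κ = q ^ wl sw w) ?_ ?_ hw (mem_WJ_univ _)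
  · simp [UW_one, invGen_sw.wl_one]
  · intro w hw _ i _ hp ih
    rw [hF.card_UW_mul hS hw hp, mul_pow, hq, ih, wl_mul_of_pos ((hF.sym hS).pos_of_pos hw hp), pow_add,
      mul_comm]

theorem bruhat {g : Γ} (hg : g ∈ G1 x σ ρ0) {w : W D} (hc : g ∈ Cell x w) :
    w ∈ Wf ρ ∧ ∃ a ∈ UX x ⊓ G1 x σ ρ0, ∃ n ∈ G1 x σ ρ0, Lift x n w ∧ ∃ u ∈ UW x w ⊓ G1 x σ ρ0,
      g = a * n * u := by
  obtain ⟨a, ha, n, hn, u, hu, rfl⟩ := hS.sharp' hc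
  obtain ⟨h1, -, h3, h4⟩ := hF.fixed_sharp hS ha hn hu (G1_le_fix hg)
  have h5 := hF.mem_of_U hS ha h1
  have h6 := hF.mem_of_UW hS h4 hu h3
  refine ⟨h4, a, ⟨ha, h5⟩, n, ?_, hn, u, ⟨hu, h6⟩, rfl⟩
  rwa [Subgroup.mul_mem_cancel_right _ h6, Subgroup.mul_mem_cancel_left _ h5] at hg

theorem mem_of_mul_H {u h : Γ} (hu : u ∈ UX x) (hh : h ∈ HX x) (hg : u * h ∈ G1 x σ ρ0) : u ∈ G1 x σ ρ0 :=
  hF.mem_of_U hS hu (hF.fixed_sharp hS hu (hS.lift_of_mem_H hh) (one_mem _)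
    (by rw [mul_one]; exact G1_le_fix hg)).1

theorem card_G1 [Finite Γ] : Nat.card (G1 x σ ρ0) =
    Nat.card (UX x ⊓ G1 x σ ρ0 : Subgroup Γ) * Nat.card (HX x ⊓ G1 x σ ρ0 : Subgroup Γ) *
      PS ρ (fun w => Nat.card (UW x w⁻¹ ⊓ G1 x σ ρ0 : Subgroup Γ)) Set.univ := by
  classical
  rw [← hS.card_B_inf _ (fun u hu h hh => hF.mem_of_mul_H hS hu hh)]
  choose ν hν1 hν2 using fun w : Wf ρ => hF.exists_lift hS w.2
  have e1 : PS ρ (fun w => Nat.card (UW x w⁻¹ ⊓ G1 x σ ρ0 : Subgroup Γ)) Set.univ =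
      ∑ w : Wf ρ, Nat.card (UW x w ⊓ G1 x σ ρ0 : Subgroup Γ) := by
    rw [PS]
    refine Finset.sum_bij' (fun w hw => ⟨w⁻¹, inv_mem (Finset.mem_filter.1 hw).2.1⟩) (fun w _ => w.1⁻¹)
      (by simp) (fun w _ => by simp [WJ_univ]) (by simp) (by simp) (by simp)
  rw [e1, Finset.mul_sum]
  simp only [← Nat.card_prod]
  rw [← Nat.card_sigma]
  symm
  refine Nat.card_eq_of_bijective (fun p => ⟨p.2.1.1 * ν p.1 * p.2.2.1,
    mul_mem (mul_mem p.2.1.2.2 (hν1 _)) p.2.2.2.2⟩) ⟨?_, ?_⟩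
  · rintro ⟨w, ⟨b, hb⟩, ⟨u, hu⟩⟩ ⟨w', ⟨b', hb'⟩, ⟨u', hu'⟩⟩ e
    simp only [Subtype.mk.injEq] at e
    obtain rfl : w = w' := Subtype.ext (hS.cell_unique (g := b * ν w * u)
      ⟨b, hb.1, _, hν2 w, u, UX_le_BX (UW_le_UX x _ hu.1), rfl⟩
      ⟨b', hb'.1, _, hν2 w', u', UX_le_BX (UW_le_UX x _ hu'.1), e⟩)
    obtain ⟨rfl, rfl⟩ := hS.sharp_unique (hν2 w) hb.1 hb'.1 hu.1 hu'.1 e
    rfl
  · rintro ⟨g, hg⟩
    obtain ⟨w, hc⟩ := hS.exists_cell (G1_le_XS x σ ρ0 hg)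
    obtain ⟨hw, a, ha, n, hn, hn', u, hu, rfl⟩ := hF.bruhat hS hg hc
    refine ⟨⟨⟨w, hw⟩, ⟨a * (n * (ν ⟨w, hw⟩)⁻¹), mul_mem (UX_le_BX ha.1) (HX_le_BX (hS.lift_mul_inv hn' (hν2 _))),
      (G1 x σ ρ0).mul_mem ha.2 (mul_mem hn (inv_mem (hν1 _)))⟩, ⟨u, hu⟩⟩, Subtype.ext ?_⟩
    simp [mul_assoc]

theorem hc_card {q : ℕ} {m : Ix D → ℕ}
    (hq : ∀ i, Nat.card (XS x (PO ρ0 i) ⊓ G1 x σ ρ0 : Subgroup Γ) = q ^ m i) :
    ∀ w ∈ Wf ρ, ∀ i, Pos (w⁻¹.1 (Lie.sim i)) →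
      (fun w => Nat.card (UW x w⁻¹ ⊓ G1 x σ ρ0 : Subgroup Γ)) (gO ρ0 i * w) =
        q ^ m i * (fun w => Nat.card (UW x w⁻¹ ⊓ G1 x σ ρ0 : Subgroup Γ)) w := by
  intro w hw i hp
  simp only [mul_inv_rev, gO_inv]
  rw [hF.card_UW_mul hS (inv_mem hw) hp, hq]

theorem mem_doubleCoset {g n : G1 x σ ρ0} {w : W D} (hn : Lift x n w) (hc : (g : Γ) ∈ Cell x w) :
    g ∈ DoubleCoset.doubleCoset n (((BX x).subgroupOf (G1 x σ ρ0) : Subgroup _) : Set (G1 x σ ρ0))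
      ((BX x).subgroupOf (G1 x σ ρ0) : Subgroup _) := by
  obtain ⟨-, a, ha, n', h1, h2, u, hu, e⟩ := hF.bruhat hS g.2 hc
  refine DoubleCoset.mem_doubleCoset.2 ⟨⟨a * (n' * (n : Γ)⁻¹), mul_mem ha.2 (mul_mem h1 (inv_mem n.2))⟩,
    mul_mem (UX_le_BX ha.1) (HX_le_BX (hS.lift_mul_inv h2 hn)), ⟨u, hu.2⟩, UX_le_BX (UW_le_UX x w hu.1),
    Subtype.ext ?_⟩
  simp [e, mul_assoc]

/-- the BN-pair of the twisted group -/
def bn (ν : Ix D → G1 x σ ρ0) (hν : ∀ i, Lift x (ν i : Γ) (gO ρ0 i)) (hν' : ∀ i, ∀ j ∈ orb ρ0 i, ν j = ν i) :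
    BNPair (G1 x σ ρ0) where
  B := (BX x).subgroupOf _
  N := (NX x).subgroupOf _
  S := Set.range ν
  sup_eq_top := by
    rw [eq_top_iff]
    rintro ⟨g, hg⟩ -
    obtain ⟨w, hc⟩ := hS.exists_cell (G1_le_XS x σ ρ0 hg)
    obtain ⟨-, a, ha, n, h1, h2, u, hu, rfl⟩ := hF.bruhat hS hg hc
    have e : (⟨a * n * u, hg⟩ : G1 x σ ρ0) = ⟨a, ha.2⟩ * ⟨n, h1⟩ * ⟨u, hu.2⟩ := rfl
    rw [e]
    exact mul_mem (mul_mem (Subgroup.mem_sup_left (Subgroup.mem_subgroupOf.2 (UX_le_BX ha.1)))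
      (Subgroup.mem_sup_right (Subgroup.mem_subgroupOf.2 h2.1)))
      (Subgroup.mem_sup_left (Subgroup.mem_subgroupOf.2 (UX_le_BX (UW_le_UX x w hu.1))))
  conj_mem n hn t ht := HX_le_BX (hS.conj_mem_H hn (hS.mem_H_of_B_N ht.1 ht.2))
  subset := by rintro _ ⟨i, rfl⟩; exact (hν i).1
  sq_mem := by
    rintro _ ⟨i, rfl⟩
    exact HX_le_BX (hS.mem_H_of_lift (gO_sq ρ0 i ▸ (hν i).mul (hν i)))
  inj := by
    rintro _ ⟨i, rfl⟩ _ ⟨j, rfl⟩ h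
    have h1 := (hν i).inv.mul (hν j)
    have := hS.lift_unique h1 (hS.lift_of_mem_H (hS.mem_H_of_B_N h h1.1))
    exact (hν' i j (mem_orb_of_gO_eq (inv_mul_eq_one.1 this).symm)).symm
  closure_sup := by
    refine le_antisymm (sup_le ((Subgroup.closure_le _).2 (by rintro _ ⟨i, rfl⟩; exact (hν i).1)) inf_le_right) ?_
    intro n hn
    obtain ⟨w, hw⟩ := hS.exists_lift_of_mem hn
    have hw' := hF.mem_Wf_of_fixed hS hw (G1_le_fix n.2)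
    clear hn
    revert n
    refine (hF.sym hS).induction (stable_univ ρ0) (p := fun w => ∀ n : G1 x σ ρ0, Lift x (n : Γ) w →
      n ∈ Subgroup.closure (Set.range ν) ⊔ (BX x).subgroupOf _ ⊓ (NX x).subgroupOf _) ?_ ?_ hw'
      (mem_WJ_univ _)
    · exact fun n hn => Subgroup.mem_sup_right ⟨HX_le_BX (hS.mem_H_of_lift hn), hn.1⟩
    · intro w _ _ i _ _ ih n hn
      have := ih (n * (ν i)⁻¹) (by simpa using hn.mul (hν i).inv)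
      rwa [Subgroup.mul_mem_cancel_right] at this
      exact inv_mem (Subgroup.mem_sup_left (Subgroup.subset_closure ⟨i, rfl⟩))
  mul_mem_union := by
    rintro _ ⟨i, rfl⟩ n hn b hb
    obtain ⟨w, hw⟩ := hS.exists_lift_of_mem hn
    have hw' := hF.mem_Wf_of_fixed hS hw (G1_le_fix n.2)
    obtain ⟨v, hv, hc⟩ := hS.mul_cell (mul_mem (hS.mem_P_of_lift (hν i) (w0J_mem _)) (Subgroup.mem_sup_left hb))
      hw.mem_Cell
    have h1 := (hF.bruhat hS (ν i * b * n).2 hc).1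
    rw [Subgroup.mul_mem_cancel_right _ hw'] at h1
    rcases (hF.sym hS).eq_one_or h1 hv with rfl | rfl
    · exact Or.inr (hF.mem_doubleCoset hS hw (by simpa using hc))
    · exact Or.inl (hF.mem_doubleCoset hS ((hν i).mul hw) hc)
  conj_ne := by
    rintro _ ⟨i, rfl⟩ e
    obtain ⟨v, hv, h1, h2⟩ := hF.ne i
    have h3 : (ν i : Γ)⁻¹ * v * ν i ∈ UX x := (hν i).conj_mem' (T := {r | Pos r}) (fun s hs => by
      have := w0J_neg ((pos_ng s).2 hs.1) (InJ_ng.2 hs.2)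
      rw [W_ng, pos_ng, not_not] at this
      rwa [gO_inv]) hv
    have h4 : (ν i : Γ) * ν i ∈ BX x := HX_le_BX (hS.mem_H_of_lift (gO_sq ρ0 i ▸ (hν i).mul (hν i)))
    have h5 : ν i * ((ν i)⁻¹ * ⟨v, mem_G1_neg hv h1⟩ * ν i) * ν i ∈
        (((BX x).subgroupOf (G1 x σ ρ0) : Subgroup _) : Set (G1 x σ ρ0)) := by
      rw [← e]; exact ⟨_, UX_le_BX h3, rfl⟩
    have h6 := mul_mem (Subgroup.mem_subgroupOf.1 h5) (inv_mem h4)
    apply h2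
    refine hS.eq_one_of_B_V ?_ (XS_mono (fun _ h => h.1) hv)
    convert h6 using 1
    simp [mul_assoc]

theorem exists_nu' : ∃ ν : Ix D → G1 x σ ρ0, (∀ i, Lift x (ν i : Γ) (gO ρ0 i)) ∧ ∀ i, ∀ j ∈ orb ρ0 i, ν j = ν i := by
  choose ν h1 h2 using fun w : Wf ρ => hF.exists_lift hS w.2
  refine ⟨fun i => ⟨ν ⟨_, (hF.sym hS).gO_mem i⟩, h1 _⟩, fun i => h2 _, fun i j hj => ?_⟩
  simp only [gO_eq hj]

theorem exists_bn : ∃ P : BNPair (G1 x σ ρ0), P.B = (BX x).subgroupOf _ ∧ P.N = (NX x).subgroupOf _ ∧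
    P.Irreducible := by
  obtain ⟨ν, h1, h2⟩ := hF.exists_nu' hS
  refine ⟨hF.bn hS ν h1 h2, rfl, rfl, ?_⟩
  rintro J hJ ⟨a, ha⟩ ⟨_, ⟨j0, rfl⟩, hb⟩
  obtain ⟨i0, rfl⟩ := hJ ha
  obtain ⟨i, hi, j, hj, hc⟩ := conn (ν ⁻¹' J) ⟨i0, ha⟩ ⟨j0, hb⟩
  refine ⟨_, hi, _, ⟨⟨j, rfl⟩, hj⟩, fun h => ?_⟩
  have h3 := (((h1 i).mul (h1 j)).mul (h1 i).inv).mul (h1 j).inv
  have := hS.lift_unique h3 (hS.lift_of_mem_H (hS.mem_H_of_B_N h h3.1))
  refine gO_not_comm (ρ0 := ρ0) (fun hj' => hj ?_) hc (by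
    rwa [mul_inv_eq_one, mul_inv_eq_iff_eq_mul] at this)
  rw [Set.mem_preimage, h2 i j hj']; exact hi

theorem core_eq_bot (hθ : Function.Injective θ)
    (hsim : ∀ i, ∃ t ≠ 0, ∃ b ∈ XS x {r | Pos r ∧ r ≠ Lie.sim i}, x (Lie.sim i) t * b ∈ G1 x σ ρ0) :
    ((BX x).subgroupOf (G1 x σ ρ0)).normalCore = ⊥ := by
  rw [eq_bot_iff]
  intro k hk
  obtain ⟨n, hn1, hn⟩ := hF.exists_lift hS ((hF.sym hS).w0J_mem_Wf (stable_univ ρ0))
  have hH : ∀ k ∈ ((BX x).subgroupOf (G1 x σ ρ0)).normalCore, (k : Γ) ∈ HX x := by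
    intro k hk
    have h1 := hk ⟨n, hn1⟩
    have h2 := hk 1
    rw [Subgroup.mem_subgroupOf] at h1 h2
    obtain ⟨u, hu, h, hh, e⟩ := hS.mem_B.1 h1
    refine hS.mem_H_of_B_VH (by simpa using h2) ?_
    have := mul_mem (Subgroup.mem_sup_left (hn.conj_mem' (T := {r | ¬ Pos r}) (fun s hs => by
      rw [w0J_inv]; exact w0J_neg hs fun _ h => absurd trivial h) hu))
      (Subgroup.mem_sup_right (hS.conj_mem_H' hn.1 hh))
    have e' : (k : Γ) = n⁻¹ * u * n * (n⁻¹ * h * n) :=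
      calc (k : Γ) = n⁻¹ * (n * k * n⁻¹) * n := by group
        _ = n⁻¹ * (u * h) * n := by rw [← e]; rfl
        _ = _ := by group
    rw [e']; exact this
  obtain ⟨χ, hχ⟩ := hS.exists_dg (hH k hk)
  have : χ = 1 := by
    funext i
    obtain ⟨t, ht, b, hb, hm⟩ := hsim i
    have hU : x (Lie.sim i) t * b ∈ UX x := mul_mem (mem_UX (pos_sim i) t) (XS_mono (fun _ h => h.1) hb)
    have h1 := hH _ (mul_mem ((Subgroup.normalCore_normal _).conj_mem _ (inv_mem hk)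
      (⟨_, hm⟩ : G1 x σ ρ0)⁻¹) hk)
    have h2 : (x (Lie.sim i) t * b)⁻¹ * ((k : Γ)⁻¹ * (x (Lie.sim i) t * b) * k) = 1 :=
      hS.eq_one_of_U_H (mul_mem (inv_mem hU) (hS.H_conj_XS' (hH k hk) hU)) (by simpa [mul_assoc] using h1)
    have h3 : x (Lie.sim i) (-t + χ i * t) = b * (k * b * (k : Γ)⁻¹)⁻¹ := by
      rw [← hS.x_add, hS.x_neg, ← chv_sim χ, ← hS.h_conj (hH k hk) hχ]
      calc _ = (x (Lie.sim i) t)⁻¹ * k * (x (Lie.sim i) t * b) * 1 * b⁻¹ * (k : Γ)⁻¹ := by group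
        _ = _ := by rw [← h2]; group
    have h4 := hS.eq_zero_of_sim_mem (h3 ▸ mul_mem hb (inv_mem (hS.H_conj_XS (hH k hk) hb)))
    apply Units.ext
    have : (χ i - 1 : F) * t = 0 := by linear_combination h4
    simpa [ht, sub_eq_zero] using this
  rw [this, map_one, ← map_one θ] at hχ
  exact Subtype.ext (hθ hχ)

theorem perfect_of (h : ∀ i, ∀ u ∈ XS x (PO ρ0 i), σ u = u → u ∈ ⁅G1 x σ ρ0, G1 x σ ρ0⁆) :
    commutator (G1 x σ ρ0) = ⊤ := by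
  have key : G1 x σ ρ0 ≤ ⁅G1 x σ ρ0, G1 x σ ρ0⁆ := by
    conv_lhs => rw [G1]
    rw [Subgroup.closure_le]
    rintro g ⟨h1, i, h2 | h2⟩
    · exact h i g h2 h1
    · obtain ⟨n, h3, h4⟩ := hF.exists_nu hS i
      have h5 := h i (n⁻¹ * g * n) (h4.conj_mem' (fun s hs => by
        have := w0J_neg ((pos_ng s).2 hs.1) (InJ_ng.2 hs.2)
        rw [W_ng, pos_ng, not_not] at this
        rw [gO_inv]
        exact ⟨this, (InJ_WJ (w0J_mem _) _).2 hs.2⟩) h2) (by simp [h1, G1_le_fix h3])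
      have h6 : ⁅n, n⁻¹ * g * n⁆ ∈ ⁅G1 x σ ρ0, G1 x σ ρ0⁆ := Subgroup.commutator_mem_commutator h3
        (mul_mem (mul_mem (inv_mem h3) (mem_G1_neg h2 h1)) h3)
      have := mul_mem h6 h5
      rw [commutatorElement_def] at this
      rw [SetLike.mem_coe]
      convert this using 1; group
  apply Subgroup.map_injective (G1 x σ ρ0).subtype_injective
  rw [commutator, Subgroup.map_commutator, ← MonoidHom.range_eq_map, Subgroup.range_subtype]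
  exact le_antisymm (Subgroup.commutator_le.2 fun a ha b hb =>
    mul_mem (mul_mem (mul_mem ha hb) (inv_mem ha)) (inv_mem hb)) key

theorem nontrivial : Nontrivial (G1 x σ ρ0) := by
  obtain ⟨v, hv, h1, h2⟩ := hF.ne ⟨0, G.is.rank_pos⟩
  exact ⟨⟨v, mem_G1_neg hv h1⟩, 1, fun h => h2 (congrArg Subtype.val h)⟩

theorem simple (hcore : ((BX x).subgroupOf (G1 x σ ρ0)).normalCore = ⊥) (hperf : commutator (G1 x σ ρ0) = ⊤) :
    IsSimpleGroup (G1 x σ ρ0) ∧ ¬ IsMulCommutative (G1 x σ ρ0) := by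
  have := hF.nontrivial hS
  obtain ⟨P, h1, -, h2⟩ := hF.exists_bn hS
  refine ⟨BN.isSimpleGroup h2 ?_ hperf (h1 ▸ hcore), fun hc => ?_⟩
  · have := hS.isSolvable_B
    rw [h1]
    exact Group.isSolvable_of_isSolvable_injective
      (f := ((G1 x σ ρ0).subtype.subgroupComap (BX x))) (fun a b h =>
        Subtype.ext (Subtype.ext (congrArg Subtype.val h :)))
  · have : commutator (G1 x σ ρ0) = ⊥ := by
      rw [eq_bot_iff, commutator, Subgroup.commutator_le]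
      intro a _ b _
      rw [Subgroup.mem_bot, commutatorElement_eq_one_iff_mul_comm]
      exact hc.is_comm.comm a b
    rw [hperf] at this
    exact top_ne_bot this

end Fold

theorem Sys.fold_id {x : Rt D → F → Γ} {θ : Γ →* GL D.Idx F} (hS : Sys x θ) : Fold x (MonoidHom.id Γ) 1 1 where
  pos _ := Iff.rfl
  sim _ := rfl
  inj := Function.injective_id
  map_x _ t := ⟨t, rfl⟩
  map_n _ t := ⟨t, rfl⟩
  ne i := ⟨x (ng (sim i)) 1, mem_XS (S := NO 1 i) ⟨by rw [pos_ng, not_not]; exact pos_sim i,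
    InJ_ng.2 (InJ_sim.2 (self_mem_orb 1 i))⟩ 1, rfl, fun h => one_ne_zero (hS.x_eq_one h)⟩

theorem PO_one (i : Ix D) : PO 1 i = {sim i} := by
  ext r
  simp only [PO, orb_one, InJ_single, Set.mem_ofPred_eq, Set.mem_singleton_iff]
  refine ⟨fun ⟨h1, h2⟩ => h2.resolve_right ?_, by rintro rfl; exact ⟨pos_sim i, Or.inl rfl⟩⟩
  rintro rfl; exact (pos_ng _).1 h1 (pos_sim i)

theorem Sys.G1_id {x : Rt D → F → Γ} {θ : Γ →* GL D.Idx F} (hS : Sys x θ) :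
    G1 x (MonoidHom.id Γ) 1 = XS x Set.univ := by
  refine le_antisymm (G1_le_XS _ _ _) (XS_le.2 fun r _ t => ?_)
  obtain ⟨w, i, rfl⟩ := exists_conj_sim r
  obtain ⟨n, h1, hn⟩ := hS.fold_id.exists_lift hS (w := w) (mem_Wf_one _)
  obtain ⟨c, hc⟩ := hn.2 (sim i)
  rw [← Units.mul_inv_cancel_left c t, ← hc]
  exact mul_mem (mul_mem h1 (hS.fold_id.mem_of_U hS (mem_UX (pos_sim i) _) rfl)) (inv_mem h1)

end Cfsg.Agent.Lie
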