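import Cfsg.Agent.Lie.St
import Cfsg.Agent.Lie.DataG2

set_option autoImplicit false
set_option linter.unusedSectionVars false
set_option linter.unusedSimpArgs false
set_option maxRecDepth 100000

/-! The seven-dimensional representation of `G₂` in characteristic three. -/

namespace Cfsg.Agent.Lie

open Cfsg.Lie
open scoped Matrix MatrixGroups

/-- the short root vectors and the short coroot -/
def ix7 : Fin 7 → chevG2.Idx :=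
  ![Sum.inr ⟨9, by decide⟩, Sum.inr ⟨8, by decide⟩, Sum.inr ⟨7, by decide⟩, Sum.inl ⟨0, by decide⟩,
    Sum.inr ⟨4, by decide⟩, Sum.inr ⟨3, by decide⟩, Sum.inr ⟨2, by decide⟩]

/-- linear terms -/
def tb71 (r : ℕ) : List (List ℤ) := List.getD
  [[[0, 0, 0, 0, 0, 0, 0], [0, 0, 0, 0, 0, 0, 0], [0, 0, 0, 0, 0, 0, 0], [0, 0, 0, 0, 0, 0, 0], [0, 0, 0, 0, 0, 0, 0], [-1, 0, 0, 0, 0, 0, 0], [0, 1, 0, 0, 0, 0, 0]], [[0, 0, 0, 0, 0, 0, 0], [0, 0, 0, 0, 0, 0, 0], [0, 0, 0, 0, 0, 0, 0], [0, 0, 0, 0, 0, 0, 0], [-1, 0, 0, 0, 0, 0, 0], [0, 0, 0, 0, 0, 0, 0], [0, 0, 1, 0, 0, 0, 0]], [[0, 0, 0, 0, 0, 0, 0], [0, 0, 0, 0, 0, 0, 0], [0, 0, 0, 0, 0, 0, 0], [1, 0, 0, 0, 0, 0, 0], [0, -1, 0, 0, 0, 0, 0], [0, 0, 1, 0, 0, 0, 0], [0, 0, 0, 1, 0, 0, 0]], [[0, 0, 0, 0, 0, 0, 0], [0, 0, 0, 0, 0, 0, 0], [-1, 0, 0, 0, 0,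 0, 0], [0, -1, 0, 0, 0, 0, 0], [0, 0, 0, 0, 0, 0, 0], [0, 0, 0, -1, 0, 0, 0], [0, 0, 0, 0, 1, 0, 0]], [[0, 0, 0, 0, 0, 0, 0], [1, 0, 0, 0, 0, 0, 0], [0, 0, 0, 0, 0, 0, 0], [0, 0, -1, 0, 0, 0, 0], [0, 0, 0, -1, 0, 0, 0], [0, 0, 0, 0, 0, 0, 0], [0, 0, 0, 0, 0, -1, 0]], [[0, 0, 0, 0, 0, 0, 0], [0, 0, 0, 0, 0, 0, 0], [0, 1, 0, 0, 0, 0, 0], [0, 0, 0, 0, 0, 0, 0], [0, 0, 0, 0, 0, 0, 0], [0, 0, 0, 0, -1, 0, 0], [0, 0, 0, 0, 0, 0, 0]], [[0, 0, 0, 0, 0, 0, 0], [0, 0, 1, 0, 0, 0, 0], [0, 0, 0, 0, 0, 0, 0], [0, 0, 0, 0, 0, 0, 0], [0, 0, 0, 0, 0, -1, 0], [0, 0, 0, 0, 0, 0, 0], [0, 0, 0, 0, 0, 0, 0]], [[0, 1, 0, 0, 0, 0, 0], [0, 0, 0, 0, 0, 0, 0], [0, 0, 0, 1, 0, 0, 0], [0, 0, 0, 0, 1, 0, 0], [0, 0, 0, 0, 0, 0, 0], [0, 0, 0, 0, 0, 0, -1], [0, 0, 0, 0, 0, 0, 0]], [[0, 0, -1, 0, 0, 0, 0], [0, 0, 0, 1, 0,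 0, 0], [0, 0, 0, 0, 0, 0, 0], [0, 0, 0, 0, 0, 1, 0], [0, 0, 0, 0, 0, 0, 1], [0, 0, 0, 0, 0, 0, 0], [0, 0, 0, 0, 0, 0, 0]], [[0, 0, 0, -1, 0, 0, 0], [0, 0, 0, 0, -1, 0, 0], [0, 0, 0, 0, 0, 1, 0], [0, 0, 0, 0, 0, 0, -1], [0, 0, 0, 0, 0, 0, 0], [0, 0, 0, 0, 0, 0, 0], [0, 0, 0, 0, 0, 0, 0]], [[0, 0, 0, 0, -1, 0, 0], [0, 0, 0, 0, 0, 0, 0], [0, 0, 0, 0, 0, 0, 1], [0, 0, 0, 0, 0, 0, 0], [0, 0, 0, 0, 0, 0, 0], [0, 0, 0, 0, 0, 0, 0], [0, 0, 0, 0, 0, 0, 0]], [[0, 0, 0, 0, 0, -1, 0], [0, 0, 0, 0, 0, 0, 1], [0, 0, 0, 0, 0, 0, 0], [0, 0, 0, 0, 0, 0, 0], [0, 0, 0, 0, 0, 0, 0], [0, 0, 0, 0, 0, 0, 0], [0, 0, 0, 0, 0, 0, 0]]] r []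
/-- quadratic terms -/
def tb72 (r : ℕ) : List (List ℤ) := List.getD
  [[[0, 0, 0, 0, 0, 0, 0], [0, 0, 0, 0, 0, 0, 0], [0, 0, 0, 0, 0, 0, 0], [0, 0, 0, 0, 0, 0, 0], [0, 0, 0, 0, 0, 0, 0], [0, 0, 0, 0, 0, 0, 0], [0, 0, 0, 0, 0, 0, 0]], [[0, 0, 0, 0, 0, 0, 0], [0, 0, 0, 0, 0, 0, 0], [0, 0, 0, 0, 0, 0, 0], [0, 0, 0, 0, 0, 0, 0], [0, 0, 0, 0, 0, 0, 0], [0, 0, 0, 0, 0, 0, 0], [0, 0, 0, 0, 0, 0, 0]], [[0, 0, 0, 0, 0, 0, 0], [0, 0, 0, 0, 0, 0, 0], [0, 0, 0, 0, 0, 0, 0], [0, 0, 0, 0, 0, 0, 0], [0, 0, 0, 0, 0, 0, 0], [0, 0, 0, 0, 0, 0, 0], [-1, 0, 0, 0, 0, 0, 0]], [[0, 0, 0, 0, 0, 0, 0], [0, 0, 0, 0, 0, 0, 0], [0, 0, 0, 0, 0, 0, 0], [0, 0, 0, 0, 0, 0, 0], [0, 0, 0, 0, 0, 0, 0], [0, -1, 0, 0, 0, 0, 0], [0, 0, 0, 0, 0, 0, 0]], [[0, 0, 0, 0, 0, 0, 0], [0, 0, 0, 0, 0, 0, 0], [0, 0, 0, 0, 0, 0, 0], [0,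 0, 0, 0, 0, 0, 0], [0, 0, -1, 0, 0, 0, 0], [0, 0, 0, 0, 0, 0, 0], [0, 0, 0, 0, 0, 0, 0]], [[0, 0, 0, 0, 0, 0, 0], [0, 0, 0, 0, 0, 0, 0], [0, 0, 0, 0, 0, 0, 0], [0, 0, 0, 0, 0, 0, 0], [0, 0, 0, 0, 0, 0, 0], [0, 0, 0, 0, 0, 0, 0], [0, 0, 0, 0, 0, 0, 0]], [[0, 0, 0, 0, 0, 0, 0], [0, 0, 0, 0, 0, 0, 0], [0, 0, 0, 0, 0, 0, 0], [0, 0, 0, 0, 0, 0, 0], [0, 0, 0, 0, 0, 0, 0], [0, 0, 0, 0, 0, 0, 0], [0, 0, 0, 0, 0, 0, 0]], [[0, 0, 0, 0, 0, 0, 0], [0, 0, 0, 0, 0, 0, 0], [0, 0, 0, 0, -1, 0, 0], [0, 0, 0, 0, 0, 0, 0], [0, 0, 0, 0, 0, 0, 0], [0, 0, 0, 0, 0, 0, 0], [0, 0, 0, 0, 0, 0, 0]], [[0, 0, 0, 0, 0, 0, 0], [0, 0, 0, 0, 0, -1, 0], [0, 0, 0, 0, 0, 0, 0], [0, 0, 0, 0, 0, 0, 0], [0, 0, 0, 0, 0, 0, 0], [0, 0, 0, 0, 0, 0, 0], [0, 0, 0, 0, 0, 0, 0]], [[0, 0, 0, 0, 0, 0, -1], [0, 0, 0, 0, 0, 0, 0], [0, 0, 0,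 0, 0, 0, 0], [0, 0, 0, 0, 0, 0, 0], [0, 0, 0, 0, 0, 0, 0], [0, 0, 0, 0, 0, 0, 0], [0, 0, 0, 0, 0, 0, 0]], [[0, 0, 0, 0, 0, 0, 0], [0, 0, 0, 0, 0, 0, 0], [0, 0, 0, 0, 0, 0, 0], [0, 0, 0, 0, 0, 0, 0], [0, 0, 0, 0, 0, 0, 0], [0, 0, 0, 0, 0, 0, 0], [0, 0, 0, 0, 0, 0, 0]], [[0, 0, 0, 0, 0, 0, 0], [0, 0, 0, 0, 0, 0, 0], [0, 0, 0, 0, 0, 0, 0], [0, 0, 0, 0, 0, 0, 0], [0, 0, 0, 0, 0, 0, 0], [0, 0, 0, 0, 0, 0, 0], [0, 0, 0, 0, 0, 0, 0]]] r []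

theorem ix7_inj : Function.Injective ix7 := by decide +kernel

theorem ix7_in : ∀ (r : Rt chevG2) (a b : Fin 7), 3 ∣ E r (ix7 a) (ix7 b) - mL (tb71 r) a b ∧
    3 ∣ X2 r (ix7 a) (ix7 b) - mL (tb72 r) a b ∧ 3 ∣ X3 r (ix7 a) (ix7 b) := by decide +kernel

theorem ix7_out : ∀ (r : Rt chevG2) (i : chevG2.Idx), (∀ a, ix7 a ≠ i) → ∀ b : Fin 7, 3 ∣ E r i (ix7 b) ∧
    3 ∣ X2 r i (ix7 b) ∧ 3 ∣ X3 r i (ix7 b) := by decide +kernel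

variable {K : Type*} [Field K]

/-- a matrix given by a list -/
def toM (K : Type*) [Field K] (L : List (List ℤ)) : Matrix (Fin 7) (Fin 7) K := Matrix.of fun i j => (mL L i j : K)

/-- the root elements in dimension seven -/
def Y7 (r : ℕ) (t : K) : Matrix (Fin 7) (Fin 7) K := 1 + t • toM K (tb71 r) + t ^ 2 • toM K (tb72 r)

theorem Y7_0 (t : K) : Y7 0 t = !![1, 0, 0, 0, 0, 0, 0; 0, 1, 0, 0, 0, 0, 0; 0, 0, 1, 0, 0, 0, 0; 0, 0, 0, 1, 0, 0, 0; 0, 0, 0, 0, 1, 0, 0; -t, 0, 0, 0, 0, 1, 0; 0, t, 0, 0, 0, 0, 1] := by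
  ext i j; fin_cases i <;> fin_cases j <;> simp [Y7, toM, tb71, tb72, mL]

theorem Y7_1 (t : K) : Y7 1 t = !![1, 0, 0, 0, 0, 0, 0; 0, 1, 0, 0, 0, 0, 0; 0, 0, 1, 0, 0, 0, 0; 0, 0, 0, 1, 0, 0, 0; -t, 0, 0, 0, 1, 0, 0; 0, 0, 0, 0, 0, 1, 0; 0, 0, t, 0, 0, 0, 1] := by
  ext i j; fin_cases i <;> fin_cases j <;> simp [Y7, toM, tb71, tb72, mL]

theorem Y7_2 (t : K) : Y7 2 t = !![1, 0, 0, 0, 0, 0, 0; 0, 1, 0, 0, 0, 0, 0; 0, 0, 1, 0, 0, 0, 0; t, 0, 0, 1, 0, 0, 0; 0, -t, 0, 0, 1, 0, 0; 0, 0, t, 0, 0, 1, 0; -t ^ 2, 0, 0, t, 0, 0, 1] := by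
  ext i j; fin_cases i <;> fin_cases j <;> simp [Y7, toM, tb71, tb72, mL]

theorem Y7_3 (t : K) : Y7 3 t = !![1, 0, 0, 0, 0, 0, 0; 0, 1, 0, 0, 0, 0, 0; -t, 0, 1, 0, 0, 0, 0; 0, -t, 0, 1, 0, 0, 0; 0, 0, 0, 0, 1, 0, 0; 0, -t ^ 2, 0, -t, 0, 1, 0; 0, 0, 0, 0, t, 0, 1] := by
  ext i j; fin_cases i <;> fin_cases j <;> simp [Y7, toM, tb71, tb72, mL]

theorem Y7_4 (t : K) : Y7 4 t = !![1, 0, 0, 0, 0, 0, 0; t, 1, 0, 0, 0, 0, 0; 0, 0, 1, 0, 0, 0, 0; 0, 0, -t, 1, 0, 0, 0; 0, 0, -t ^ 2, -t, 1, 0, 0; 0, 0, 0, 0, 0, 1, 0; 0, 0, 0, 0, 0, -t, 1] := by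
  ext i j; fin_cases i <;> fin_cases j <;> simp [Y7, toM, tb71, tb72, mL]

theorem Y7_5 (t : K) : Y7 5 t = !![1, 0, 0, 0, 0, 0, 0; 0, 1, 0, 0, 0, 0, 0; 0, t, 1, 0, 0, 0, 0; 0, 0, 0, 1, 0, 0, 0; 0, 0, 0, 0, 1, 0, 0; 0, 0, 0, 0, -t, 1, 0; 0, 0, 0, 0, 0, 0, 1] := by
  ext i j; fin_cases i <;> fin_cases j <;> simp [Y7, toM, tb71, tb72, mL]

theorem Y7_6 (t : K) : Y7 6 t = !![1, 0, 0, 0, 0, 0, 0; 0, 1, t, 0, 0, 0, 0; 0, 0, 1, 0, 0, 0, 0; 0, 0, 0, 1, 0, 0, 0; 0, 0, 0, 0, 1, -t, 0; 0, 0, 0, 0, 0, 1, 0; 0, 0, 0, 0, 0, 0, 1] := by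
  ext i j; fin_cases i <;> fin_cases j <;> simp [Y7, toM, tb71, tb72, mL]

theorem Y7_7 (t : K) : Y7 7 t = !![1, t, 0, 0, 0, 0, 0; 0, 1, 0, 0, 0, 0, 0; 0, 0, 1, t, -t ^ 2, 0, 0; 0, 0, 0, 1, t, 0, 0; 0, 0, 0, 0, 1, 0, 0; 0, 0, 0, 0, 0, 1, -t; 0, 0, 0, 0, 0, 0, 1] := by
  ext i j; fin_cases i <;> fin_cases j <;> simp [Y7, toM, tb71, tb72, mL]

theorem Y7_8 (t : K) : Y7 8 t = !![1, 0, -t, 0, 0, 0, 0; 0, 1, 0, t, 0, -t ^ 2, 0; 0, 0, 1, 0, 0, 0, 0; 0, 0, 0, 1, 0, t, 0; 0, 0, 0, 0, 1, 0, t; 0, 0, 0, 0, 0, 1, 0; 0, 0, 0, 0, 0, 0, 1] := by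
  ext i j; fin_cases i <;> fin_cases j <;> simp [Y7, toM, tb71, tb72, mL]

theorem Y7_9 (t : K) : Y7 9 t = !![1, 0, 0, -t, 0, 0, -t ^ 2; 0, 1, 0, 0, -t, 0, 0; 0, 0, 1, 0, 0, t, 0; 0, 0, 0, 1, 0, 0, -t; 0, 0, 0, 0, 1, 0, 0; 0, 0, 0, 0, 0, 1, 0; 0, 0, 0, 0, 0, 0, 1] := by
  ext i j; fin_cases i <;> fin_cases j <;> simp [Y7, toM, tb71, tb72, mL]

theorem Y7_10 (t : K) : Y7 10 t = !![1, 0, 0, 0, -t, 0, 0; 0, 1, 0, 0, 0, 0, 0; 0, 0, 1, 0, 0, 0, t; 0, 0, 0, 1, 0, 0, 0; 0, 0, 0, 0, 1, 0, 0; 0, 0, 0, 0, 0, 1, 0; 0, 0, 0, 0, 0, 0, 1] := by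
  ext i j; fin_cases i <;> fin_cases j <;> simp [Y7, toM, tb71, tb72, mL]

theorem Y7_11 (t : K) : Y7 11 t = !![1, 0, 0, 0, 0, -t, 0; 0, 1, 0, 0, 0, 0, t; 0, 0, 1, 0, 0, 0, 0; 0, 0, 0, 1, 0, 0, 0; 0, 0, 0, 0, 1, 0, 0; 0, 0, 0, 0, 0, 1, 0; 0, 0, 0, 0, 0, 0, 1] := by
  ext i j; fin_cases i <;> fin_cases j <;> simp [Y7, toM, tb71, tb72, mL]

/-- the matrices preserving the seven-dimensional subspace -/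
def sub7 (K : Type*) [Field K] : Submonoid (Matrix chevG2.Idx chevG2.Idx K) where
  carrier := {M | ∀ i, (∀ a, ix7 a ≠ i) → ∀ b, M i (ix7 b) = 0}
  one_mem' i hi b := Matrix.one_apply_ne (hi b).symm
  mul_mem' {M M'} h h' i hi b := by
    rw [Matrix.mul_apply]
    refine Finset.sum_eq_zero fun k _ => ?_
    by_cases hk : ∀ a, ix7 a ≠ k
    · rw [h' k hk, mul_zero]
    · push Not at hk
      obtain ⟨a, rfl⟩ := hk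
      rw [h i hi, zero_mul]

variable [CharP K 3]

theorem cast_of_dvd {a b : ℤ} (h : 3 ∣ a - b) : (a : K) = b := by
  rw [← sub_eq_zero, ← Int.cast_sub]; exact (CharP.intCast_eq_zero_iff K 3 _).2 h

theorem cast_zero_of_dvd {a : ℤ} (h : 3 ∣ a) : (a : K) = 0 := (CharP.intCast_eq_zero_iff K 3 _).2 h

theorem mem_sub7 (g : chevG2.group K) : (g : GL _ K).1 ∈ sub7 K := by
  have hg : g ∈ XS xA Set.univ := by simp [XS_xA]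
  have hx : ∀ (r : Rt chevG2) (t : K), ((xA r t : chevG2.group K) : GL _ K).1 ∈ sub7 K := fun r t i hi b => by
    obtain ⟨h1, h2, h3⟩ := ix7_out r i hi b
    simp [xA, xR, ER, cM_apply, cast_zero_of_dvd h1, cast_zero_of_dvd h2, cast_zero_of_dvd h3,
      Matrix.one_apply_ne (hi b).symm]
  refine Subgroup.closure_induction_left (one_mem _) ?_ ?_ hg
  · rintro _ ⟨r, -, t, rfl⟩ y - hy; exact mul_mem (hx r t) hy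
  · rintro _ ⟨r, -, t, rfl⟩ y - hy; rw [← sys_xA.x_neg]; exact mul_mem (hx r _) hy

/-- the seven-dimensional representation -/
def ρ7 : chevG2.group K →* Matrix (Fin 7) (Fin 7) K where
  toFun g := (g : GL _ K).1.submatrix ix7 ix7
  map_one' := Matrix.submatrix_one _ ix7_inj
  map_mul' g g' := by
    ext a b
    simp only [Subgroup.coe_mul, Units.val_mul, Matrix.submatrix_apply, Matrix.mul_apply]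
    refine (Finset.sum_of_injOn ix7 ix7_inj.injOn (by simp) (fun k _ hk => ?_) (by simp)).symm
    rw [mem_sub7 g' k (fun a e => hk ⟨a, by simp, e⟩), mul_zero]

theorem ρ7_xA (r : Rt chevG2) (t : K) : ρ7 (xA r t) = Y7 r t := by
  ext a b
  obtain ⟨h1, h2, h3⟩ := ix7_in r a b
  simp [ρ7, xA, xR, ER, cM_apply, cast_of_dvd h1, cast_of_dvd h2, cast_zero_of_dvd h3, Y7, toM,
    Matrix.one_apply, ix7_inj.eq_iff]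

theorem simpleG2 : IsSimpleGroup (chevG2.group K) := by
  refine (simple_of_perfect (perfectG2 (a := -1) (by simp) fun h => ?_)).1
  have : ((2 : ℤ) : K) = 0 := by push_cast; linear_combination -h
  exact absurd ((CharP.intCast_eq_zero_iff K 3 _).1 this) (by decide)

theorem ρ7_inj : Function.Injective (ρ7 : chevG2.group K → _) := by
  have := simpleG2 (K := K)
  suffices h : Function.Injective (ρ7 (K := K)).toHomUnits from fun a b e => h (Units.ext e)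
  rw [← MonoidHom.ker_eq_bot_iff]
  refine ((ρ7 (K := K)).toHomUnits.normal_ker.eq_bot_or_eq_top).resolve_right fun h => ?_
  have h1 : xA (⟨6, by decide⟩ : Rt chevG2) (1 : K) ∈ ρ7.toHomUnits.ker := by simp [h]
  rw [MonoidHom.mem_ker, Units.ext_iff, MonoidHom.coe_toHomUnits, ρ7_xA] at h1
  simpa [Y7_6] using congrFun (congrFun h1 1) 2

/-- the weights -/
def wt7 (a : Fin 7) (i : Ix chevG2) : ℤ := mL [[2, 1], [1, 1], [1, 0], [0, 0], [-1, 0], [-1, -1], [-2, -1]] a i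

theorem ρ7_dg {g : chevG2.group K} {χ : Ix chevG2 → Kˣ} (h : (g : GL _ K) = dg χ) :
    ρ7 g = Matrix.diagonal fun a => ((chv χ (wt7 a) : Kˣ) : K) := by
  have h1 : ∀ a, ix7 a = Sum.inl ⟨0, by decide⟩ ∧ wt7 a = 0 ∨ ∃ s, ix7 a = Sum.inr s ∧ wt7 a = co s := by
    decide +kernel
  change (g : GL _ K).1.submatrix ix7 ix7 = _
  rw [h, coe_dg, dgM, Matrix.submatrix_diagonal _ _ ix7_inj]
  congr 1
  funext a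
  rcases h1 a with ⟨e, e'⟩ | ⟨s, e, e'⟩ <;> simp [e, e']

/-- products of list matrices modulo three -/
def mm7 (A B : List (List ℤ)) : List (List ℤ) :=
  (List.range 7).map fun i => (List.range 7).map fun j => ((List.range 7).map fun k => mL A i k * mL B k j).sum % 3

theorem toM_mm7 (A B : List (List ℤ)) : toM K (mm7 A B) = toM K A * toM K B := by
  ext i j
  have h : ∀ a : ℤ, ((a % 3 : ℤ) : K) = a := fun a => cast_of_dvd (by omega)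
  have h1 : mL (mm7 A B) i j = ((List.range 7).map fun k => mL A i k * mL B k j).sum % 3 := by
    simp only [mm7]; rw [mL]; simp
  simp [toM, h1, Matrix.mul_apply, h, Fin.sum_univ_seven, List.range_succ, add_assoc]

/-- the identity matrix -/
def one7 : List (List ℤ) := (List.range 7).map fun i => (List.range 7).map fun j => if i = j then 1 else 0

omit [CharP K 3] in
theorem toM_one7 : toM K one7 = 1 := by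
  ext i j; fin_cases i <;> fin_cases j <;> simp [toM, one7, mL, List.range_succ]

/-- root elements with integer parameter -/
def y7 (r : ℕ) (c : ℤ) : List (List ℤ) :=
  (List.range 7).map fun i => (List.range 7).map fun j =>
    (if i = j then 1 else 0) + c * mL (tb71 r) i j + c ^ 2 * mL (tb72 r) i j

omit [CharP K 3] in
theorem toM_y7 (r : ℕ) (c : ℤ) : toM K (y7 r c) = Y7 r (c : K) := by
  ext i j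
  simp [toM, y7, Y7, mL, Matrix.one_apply, Fin.ext_iff]

/-- evaluation of a word -/
def ev7 (w : List (ℕ × ℤ)) : List (List ℤ) := w.foldr (fun p A => mm7 (y7 p.1 p.2) A) one7

theorem ρ7_wd (w : List (Rt chevG2 × ℤ)) :
    ρ7 ((w.map fun p => xA p.1 (p.2 : K)).prod) = toM K (ev7 (w.map fun p => (p.1.1, p.2))) := by
  induction w with
  | nil => simp [ev7, toM_one7]
  | cons p w ih =>
    rw [List.map_cons, List.prod_cons, map_mul, ih, ρ7_xA, ← toM_y7, ← toM_mm7]; rfl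

end Cfsg.Agent.Lie
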