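import Cfsg.Prelude.Def_ChevStructure

set_option autoImplicit false
set_option linter.unusedSectionVars false

/-! The list of finite facts about a Chevalley datum from which the whole theory is developed. -/

namespace Cfsg.Agent.Lie

open Cfsg.Lie

/-- roots -/
abbrev Rt (D : ChevalleyDatum) : Type := Fin D.nroots
/-- fundamental roots -/
abbrev Ix (D : ChevalleyDatum) : Type := Fin D.rank

/-- coordinates of the coroots -/
def cor (D : ChevalleyDatum) (r i : ℕ) : ℤ := (D.coroot.getD r #[]).getD i 0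

/-- the chain list determined by structure constants -/
def chainL (N : ℕ → ℕ → ℤ) (add : ℕ → ℕ → ℕ) (r s : ℕ) : List (ℕ × ℤ) :=
  if N r s = 0 then [] else (add r s, N r s) ::
    (if N r (add r s) = 0 then [] else (add r (add r s), N r s * N r (add r s) / 2) ::
      (if N r (add r (add r s)) = 0 then [] else
        [(add r (add r (add r s)), N r s * N r (add r s) * N r (add r (add r s)) / 6)]))

/-- conditions used for the commutator formula -/
def ShapeOK (N : ℕ → ℕ → ℤ) (add : ℕ → ℕ → ℕ) (r s : ℕ) : Prop :=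
  (N r (add r s) ≠ 0 → N s (add r s) = 0 → N r (add r (add r s)) = 0 →
    N s (add r (add r s)) = 0 ∧ N (add r s) (add r (add r s)) = 0) ∧
  (N r (add r s) ≠ 0 → N s (add r s) = 0 → N r (add r (add r s)) ≠ 0 →
    N s (add r (add r s)) = 0 ∧ N (add r (add r (add r s))) s ≠ 0 ∧
    N (add r s) (add r (add r (add r s))) = 0 ∧ N (add r (add r s)) (add r (add r (add r s))) = 0 ∧
    N s (add (add r (add r (add r s))) s) = 0 ∧ N (add r s) (add (add r (add r (add r s))) s) = 0 ∧
    N (add r (add r s)) (add (add r (add r (add r s))) s) = 0 ∧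
    N (add r (add r (add r s))) (add (add r (add r (add r s))) s) = 0 ∧
    -2 * (N (add r s) r * N (add r s) (add (add r s) r) / 2 / 3) =
      N r s * N r (add r s) * N r (add r (add r s)) / 6 * N s (add r (add r (add r s))) +
        N r s * (N r s * N r (add r s) / 2) * N (add r s) (add r (add r s)) ∧
    -2 * (N (add r s) r * N (add r s) (add (add r s) r) / 2) / 3 =
      N (add r s) r * N (add r s) (add (add r s) r) / 2 / 3 +
        N (add r s) (add r (add r s)) * N r s * (N r s * N r (add r s) / 2)) ∧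
  (N r (add r s) ≠ 0 → N s (add r s) ≠ 0 →
    N r (add r (add r s)) = 0 ∧ N s (add s (add r s)) = 0 ∧ N s (add r (add r s)) = 0 ∧
    N (add r s) (add r (add r s)) = 0 ∧ N (add r s) (add s (add r s)) = 0 ∧
    N (add r (add r s)) (add s (add r s)) = 0)

set_option synthInstance.maxSize 2000 in
instance instDecShapeOK (N : ℕ → ℕ → ℤ) (add : ℕ → ℕ → ℕ) (r s : ℕ) : Decidable (ShapeOK N add r s) := by
  unfold ShapeOK; infer_instance

/-- the root `r` occurs with coefficient `±1` in the commutator formula for `a`, `b` -/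
def SplitOK (N : ℕ → ℕ → ℤ) (add : ℕ → ℕ → ℕ) (r a b : ℕ) : Prop :=
  N a b ≠ 0 ∧ ((add a b = r ∧ (N a b = 1 ∨ N a b = -1)) ∨ (N a (add a b) ≠ 0 ∧ add a (add a b) = r ∧
    (N a b * N a (add a b) / 2 = 1 ∨ N a b * N a (add a b) / 2 = -1)))

instance instDecSplitOK (N : ℕ → ℕ → ℤ) (add : ℕ → ℕ → ℕ) (r a b : ℕ) : Decidable (SplitOK N add r a b) := by
  unfold SplitOK; infer_instance

/-- The facts about a datum on which everything rests. All indices are natural numbers. -/
structure IsGood (D : ChevalleyDatum) (co : ℕ → ℕ → ℤ) (len : ℕ → ℤ) (N : ℕ → ℕ → ℤ)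
    (add : ℕ → ℕ → ℕ) (ord : ℕ → ℤ) : Prop where
  rank_pos : 0 < D.rank
  simple_lt : ∀ i < D.rank, D.simple i < D.nroots
  neg_eq : ∀ r < D.nroots, D.neg r = D.nroots - 1 - r
  cor_size : ∀ r < D.nroots, (D.coroot.getD r #[]).size = D.rank
  car_co : ∀ s < D.nroots, ∀ i < D.rank,
    D.cartan i s = ∑ j ∈ Finset.range D.rank, co s j * D.cartan i (D.simple j)
  co_neg : ∀ r < D.nroots, ∀ j < D.rank, co (D.nroots - 1 - r) j = - co r j
  cor_neg : ∀ r < D.nroots, ∀ j < D.rank, cor D (D.nroots - 1 - r) j = - cor D r j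
  co_simple : ∀ i < D.rank, ∀ j < D.rank, co (D.simple i) j = if j = i then 1 else 0
  len_pos : ∀ r < D.nroots, 0 < len r
  cor_len : ∀ r < D.nroots, ∀ i < D.rank, cor D r i * len r = co r i * len (D.simple i)
  car_symm : ∀ i < D.rank, ∀ j < D.rank,
    D.cartan i (D.simple j) * len (D.simple i) = D.cartan j (D.simple i) * len (D.simple j)
  A_self : ∀ r < D.nroots, ∑ i ∈ Finset.range D.rank, cor D r i * D.cartan i r = 2
  sign : ∀ r < D.nroots, (∀ j < D.rank, 0 ≤ co r j) ∨ (∀ j < D.rank, co r j ≤ 0)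
  ord_pos : ∀ j < D.rank, 0 < ord j
  ord_lt : ∀ r, r + 1 < D.nroots →
    ∑ j ∈ Finset.range D.rank, co r j * ord j < ∑ j ∈ Finset.range D.rank, co (r + 1) j * ord j
  nondeg : ∃ (C : ℕ → ℕ → ℤ) (d : ℤ), d ≠ 0 ∧ ∀ j < D.rank, ∀ k < D.rank,
    ∑ i ∈ Finset.range D.rank, C j i * D.cartan i (D.simple k) = if j = k then d else 0
  add_lt : ∀ r < D.nroots, ∀ s < D.nroots, add r s < D.nroots
  add_co : ∀ r < D.nroots, ∀ s < D.nroots, N r s ≠ 0 → ∀ j < D.rank, co (add r s) j = co r j + co s j
  N_ne : ∀ r < D.nroots, ∀ s < D.nroots, ∀ u < D.nroots,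
    (∀ j < D.rank, co u j = co r j + co s j) → N r s ≠ 0
  N_anti : ∀ r < D.nroots, ∀ s < D.nroots, N s r = - N r s
  N_neg : ∀ r < D.nroots, ∀ s < D.nroots, N (D.nroots - 1 - r) (D.nroots - 1 - s) = - N r s
  prim_co : ∀ r < D.nroots, ∃ a : ℕ → ℤ, ∑ j ∈ Finset.range D.rank, a j * co r j = 1
  prim_cor : ∀ r < D.nroots, ∃ a : ℕ → ℤ, ∑ j ∈ Finset.range D.rank, a j * cor D r j = 1
  chain_row : ∀ r < D.nroots, (D.chain.getD r #[]).toList.map (fun e => (e.1, e.2.toList)) =
    (List.range D.nroots).filterMap (fun s => if N r s = 0 then none else some (s, chainL N add r s))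
  dvd2 : ∀ r < D.nroots, ∀ s < D.nroots, 2 ∣ N r s * N r (add r s)
  dvd6 : ∀ r < D.nroots, ∀ s < D.nroots, 6 ∣ N r s * N r (add r s) * N r (add r (add r s))
  nil4 : ∀ r < D.nroots, ∀ s < D.nroots,
    N r s * N r (add r s) * N r (add r (add r s)) * N r (add r (add r (add r s))) = 0
  jac_a : ∀ i < D.rank, ∀ p, p = D.simple i ∨ p = D.nroots - 1 - D.simple i → ∀ s < D.nroots, ∀ u < s,
    s + p ≠ D.nroots - 1 → u + p ≠ D.nroots - 1 → u + s ≠ D.nroots - 1 →
    N p s * N (add p s) u + N p u * N s (add p u) = N s u * N p (add s u)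
  jac_b : ∀ i < D.rank, ∀ p, p = D.simple i ∨ p = D.nroots - 1 - D.simple i → ∀ s < D.nroots,
    N p s ≠ 0 → ∀ j < D.rank, N p s * cor D (add p s) j =
      N s (D.nroots - 1 - add p s) * cor D p j - N p (D.nroots - 1 - add p s) * cor D s j
  jac_c : ∀ i < D.rank, ∀ p, p = D.simple i ∨ p = D.nroots - 1 - D.simple i → ∀ u < D.nroots,
    u ≠ p → u ≠ D.nroots - 1 - p → ∑ j ∈ Finset.range D.rank, cor D p j * D.cartan j u =
      N (D.nroots - 1 - p) u * N p (add (D.nroots - 1 - p) u) - N p u * N (D.nroots - 1 - p) (add p u)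
  jac_d : ∀ i < D.rank, ∀ p, p = D.simple i ∨ p = D.nroots - 1 - D.simple i → ∀ s < D.nroots,
    s ≠ p → s ≠ D.nroots - 1 - p → N p s * N (add p s) (D.nroots - 1 - s) =
      - (∑ j ∈ Finset.range D.rank, cor D s j * D.cartan j p) -
        N p (D.nroots - 1 - s) * N s (add p (D.nroots - 1 - s))
  refl_lt : ∀ i < D.rank, ∀ s < D.nroots, D.reflectRoot i s < D.nroots
  refl_co : ∀ i < D.rank, ∀ s < D.nroots, ∀ j < D.rank,
    co (D.reflectRoot i s) j = co s j - if j = i then D.cartan i s else 0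
  shape : ∀ r < D.nroots, ∀ s < D.nroots, N r s ≠ 0 → ShapeOK N add r s
  split : ∀ r < D.nroots, ∃ a < D.nroots, ∃ b < D.nroots, SplitOK N add r a b
  conn : ∃ (par dep : ℕ → ℕ), ∀ i < D.rank, i ≠ 0 →
    par i < D.rank ∧ dep (par i) < dep i ∧ D.cartan i (D.simple (par i)) ≠ 0

/-- A datum together with auxiliary tables satisfying `IsGood`. -/
class Good (D : ChevalleyDatum) where
  co : ℕ → ℕ → ℤ
  len : ℕ → ℤ
  N : ℕ → ℕ → ℤ
  add : ℕ → ℕ → ℕ
  ord : ℕ → ℤ
  is : IsGood D co len N add ord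

/-! ### Boolean checker -/

/-- bounded universal quantifier -/
noncomputable def allLt (m : ℕ) (f : ℕ → Bool) : Bool :=
  Nat.rec true (fun i acc => Bool.rec false acc (f i)) m

theorem allLt_spec {m : ℕ} {f : ℕ → Bool} (h : allLt m f = true) : ∀ i < m, f i = true := by
  induction m with
  | zero => intro i hi; omega
  | succ m ih =>
    intro i hi
    have h' : (Bool.rec false (allLt m f) (f m) : Bool) = true := h
    cases hf : f m with
    | false => rw [hf] at h'; exact absurd h' (by simp)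
    | true =>
      rw [hf] at h'
      rcases Nat.lt_succ_iff_lt_or_eq.1 hi with h1 | h1
      · exact ih h' i h1
      · rw [h1, hf]

theorem allLt_iff {m : ℕ} {f : ℕ → Bool} : allLt m f = true ↔ ∀ i < m, f i = true := by
  refine ⟨allLt_spec, fun h => ?_⟩
  induction m with
  | zero => rfl
  | succ m ih =>
    change (Bool.rec false (allLt m f) (f m) : Bool) = true
    rw [h m (by omega)]
    exact ih fun i hi => h i (by omega)

/-- bounded existential quantifier -/
noncomputable def anyLt (m : ℕ) (f : ℕ → Bool) : Bool :=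
  Nat.rec false (fun i acc => Bool.rec acc true (f i)) m

theorem anyLt_spec {m : ℕ} {f : ℕ → Bool} (h : anyLt m f = true) : ∃ i < m, f i = true := by
  induction m with
  | zero => exact absurd h (by simp [anyLt])
  | succ m ih =>
    have h' : (Bool.rec (anyLt m f) true (f m) : Bool) = true := h
    cases hf : f m with
    | false =>
      rw [hf] at h'
      obtain ⟨i, hi, h2⟩ := ih h'
      exact ⟨i, by omega, h2⟩
    | true => exact ⟨m, by omega, hf⟩

/-- bounded sum -/
noncomputable def sumLt (m : ℕ) (f : ℕ → ℤ) : ℤ := Nat.rec 0 (fun i acc => acc + f i) m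

theorem sumLt_eq (m : ℕ) (f : ℕ → ℤ) : sumLt m f = ∑ i ∈ Finset.range m, f i := by
  induction m with
  | zero => rfl
  | succ m ih => rw [Finset.sum_range_succ, ← ih]; rfl

/-- quantifier over an interval -/
noncomputable def allR (lo m : ℕ) (f : ℕ → Bool) : Bool := allLt m fun k => f (Nat.add lo k)

theorem forall_of_chunks {f : ℕ → Bool} (k m : ℕ) (h : ∀ c < k, allR (c * m) m f = true) :
    ∀ r < k * m, f r = true := by
  intro r hr
  have hm : 0 < m := Nat.pos_of_ne_zero (by rintro rfl; simp at hr)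
  have := allLt_spec (h (r / m) (by rwa [Nat.div_lt_iff_lt_mul hm])) (r % m) (Nat.mod_lt _ hm)
  change f (r / m * m + r % m) = true at this
  rwa [Nat.div_add_mod'] at this

theorem getD_getD_of_toList (a : Array (Array ℤ)) (l n : ℕ) (g : ℕ → ℕ → ℤ)
    (h : a.toList.map Array.toList = (List.range l).map fun i => (List.range n).map (g i)) (i s : ℕ) :
    (a.getD i #[]).getD s 0 = (if i < l ∧ s < n then g i s else 0) ∧
      (i < l → (a.getD i #[]).size = n) := by
  have hl : a.size = l := by simpa using congrArg List.length h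
  by_cases hi : i < l
  · have h1 := congrArg (fun L => L[i]?) h
    simp only [List.getElem?_map, List.getElem?_range hi, Option.map_some, Array.getElem?_toList,
      Array.getElem?_eq_getElem (hl ▸ hi : i < a.size), Option.some.injEq] at h1
    have e : a.getD i #[] = a[i]'(hl ▸ hi) := by
      rw [Array.getD_eq_getD_getElem?, Array.getElem?_eq_getElem (hl ▸ hi)]; rfl
    rw [e]
    refine ⟨?_, fun _ => by simpa using congrArg List.length h1⟩
    rw [Array.getD_eq_getD_getElem?, ← Array.getElem?_toList, h1]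
    by_cases hs : s < n
    · simp [hi, hs]
    · simp [hs]
  · have e : a.getD i #[] = #[] := by
      rw [Array.getD_eq_getD_getElem?, Array.getElem?_eq_none (by omega)]; rfl
    simp [e, hi]

theorem find_filterMap_range {β : Type*} (n : ℕ) (p : ℕ → Prop) [DecidablePred p] (g : ℕ → β) (s : ℕ) :
    ((List.range n).filterMap (fun s => if p s then none else some (s, g s))).filter
      (fun e => e.1 = s) = if s < n ∧ ¬ p s then [(s, g s)] else [] := by
  induction n with
  | zero => simp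
  | succ n ih =>
    rw [List.range_succ, List.filterMap_append, List.filter_append, ih]
    by_cases hs : s = n
    · subst hs
      by_cases hp : p s <;> simp [hp]
    · have : s < n + 1 ↔ s < n := by omega
      by_cases hp : p n <;> simp [hp, this, Ne.symm hs]

theorem chain_filter (D : ChevalleyDatum) (N : ℕ → ℕ → ℤ) (add : ℕ → ℕ → ℕ) (r : ℕ)
    (h : (D.chain.getD r #[]).toList.map (fun e => (e.1, e.2.toList)) =
      (List.range D.nroots).filterMap (fun s => if N r s = 0 then none else some (s, chainL N add r s)))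
    (s : ℕ) (hs : s < D.nroots) :
    ((D.chain.getD r #[]).toList.filter (fun e => e.1 = s)).map (fun e => e.2.toList) =
      if N r s = 0 then [] else [chainL N add r s] := by
  have := congrArg (fun L => (L.filter (fun e => e.1 = s)).map Prod.snd) h
  simp only [find_filterMap_range, List.filter_map, List.map_map] at this
  rw [show (fun e : ℕ × Array (ℕ × ℤ) => e.2.toList) = Prod.snd ∘ (fun e => (e.1, e.2.toList)) from rfl]
  refine Eq.trans ?_ (this.trans ?_)
  · rfl
  · by_cases h0 : N r s = 0 <;> simp [h0, hs]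

theorem chainEntry_eq (D : ChevalleyDatum) (N : ℕ → ℕ → ℤ) (add : ℕ → ℕ → ℕ) (r : ℕ)
    (h : (D.chain.getD r #[]).toList.map (fun e => (e.1, e.2.toList)) =
      (List.range D.nroots).filterMap (fun s => if N r s = 0 then none else some (s, chainL N add r s)))
    (s : ℕ) (hs : s < D.nroots) : D.chainEntry r s = chainL N add r s := by
  have := chain_filter D N add r h s hs
  unfold ChevalleyDatum.chainEntry
  rw [← List.head?_filter]
  generalize (D.chain.getD r #[]).toList.filter (fun e => e.1 = s) = L at this ⊢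
  by_cases h0 : N r s = 0
  · rw [if_pos h0, List.map_eq_nil_iff] at this
    simp [this, chainL, h0]
  · rw [if_neg h0] at this
    cases L with
    | nil => simp at this
    | cons a L => simp at this; simp [this.1]

/-- packed tables -/
structure Tab where
  n : ℕ
  l : ℕ
  rows : List ℕ
  co : ℕ
  cr : ℕ
  ca : ℕ
  len : ℕ
  ord : List ℤ
  cinv : ℕ
  det : ℤ
  pco : ℕ
  pcor : ℕ
  gam : List ℤ
  md : ℕ
  par : List ℕ
  dep : List ℕ
  spa : ℕ
  spb : ℕ
  sim : List ℕ

/-- entry of a packed row -/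
def entR (R s : ℕ) : ℕ := Nat.mod (Nat.shiftRight R (Nat.mul 24 s)) 8192

/-- byte of a packed table -/
def byte (X k : ℕ) : ℕ := Nat.mod (Nat.shiftRight X (Nat.mul 8 k)) 256

/-- signed byte of a packed table -/
def sbyte (X k : ℕ) : ℤ := Int.subNatNat (byte X k) 128

namespace Tab

variable (T : Tab)

def row (r : ℕ) : ℕ := T.rows.getD r 0
def ent (r s : ℕ) : ℕ := entR (T.row r) s
def N (r s : ℕ) : ℤ := Int.subNatNat (Nat.mod (Nat.add (T.ent r s) 16) 32) 16
def add (r s : ℕ) : ℕ := Nat.div (T.ent r s) 32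
def cof (r j : ℕ) : ℤ := sbyte T.co (Nat.add (Nat.mul r 8) j)
noncomputable def crf (r j : ℕ) : ℤ :=
  Bool.rec 0 (Bool.rec 0 (sbyte T.cr (Nat.add (Nat.mul r 8) j)) (Nat.blt j T.l)) (Nat.blt r T.n)
noncomputable def caf (i s : ℕ) : ℤ :=
  Bool.rec 0 (Bool.rec 0 (sbyte T.ca (Nat.add (Nat.mul s 8) i)) (Nat.blt s T.n)) (Nat.blt i T.l)
def lenf (r : ℕ) : ℤ := sbyte T.len r
def ordf (j : ℕ) : ℤ := T.ord.getD j 0
def simf (i : ℕ) : ℕ := T.sim.getD i 0
noncomputable def hash (r : ℕ) : ℕ :=
  ((sumLt T.l fun j => T.cof r j * T.gam.getD j 0) % (T.md : ℤ)).toNat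
noncomputable def mask : ℕ := Nat.rec 0 (fun r acc => Nat.lor acc (Nat.shiftLeft 1 (T.hash r))) T.n
noncomputable def maskP (k : ℕ) : ℕ := Nat.mod (Nat.shiftRight T.mask (Nat.mul k 2048)) (Nat.shiftLeft 1 2048)
noncomputable def bit (k : ℕ) : Bool :=
  Nat.beq (Nat.mod (Nat.shiftRight (T.maskP (Nat.div k 2048)) (Nat.mod k 2048)) 2) 1
noncomputable def refl (i s : ℕ) : ℕ :=
  if s = T.simf i then T.n - 1 - T.simf i
  else if s = T.n - 1 - T.simf i then T.simf i
  else if 0 < T.caf i s then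
    (((chainL T.N T.add (T.n - 1 - T.simf i) s)[(T.caf i s).toNat - 1]?).map Prod.fst).getD s
  else if T.caf i s < 0 then
    (((chainL T.N T.add (T.simf i) s)[(- T.caf i s).toNat - 1]?).map Prod.fst).getD s
  else s

theorem crf_eq (r j : ℕ) : T.crf r j = if r < T.n ∧ j < T.l then sbyte T.cr (r * 8 + j) else 0 := by
  unfold crf
  by_cases h1 : r < T.n <;> by_cases h2 : j < T.l
  · rw [Nat.blt_eq.to_iff.2 h1, Nat.blt_eq.to_iff.2 h2, if_pos ⟨h1, h2⟩]; rfl
  · rw [Nat.blt_eq.to_iff.2 h1, Bool.eq_false_iff.2 (mt Nat.blt_eq.to_iff.1 h2), if_neg (by tauto)]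
  · rw [Bool.eq_false_iff.2 (mt Nat.blt_eq.to_iff.1 h1), if_neg (by tauto)]
  · rw [Bool.eq_false_iff.2 (mt Nat.blt_eq.to_iff.1 h1), if_neg (by tauto)]

theorem caf_eq (i s : ℕ) : T.caf i s = if i < T.l ∧ s < T.n then sbyte T.ca (s * 8 + i) else 0 := by
  unfold caf
  by_cases h1 : i < T.l <;> by_cases h2 : s < T.n
  · rw [Nat.blt_eq.to_iff.2 h1, Nat.blt_eq.to_iff.2 h2, if_pos ⟨h1, h2⟩]; rfl
  · rw [Nat.blt_eq.to_iff.2 h1, Bool.eq_false_iff.2 (mt Nat.blt_eq.to_iff.1 h2), if_neg (by tauto)]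
  · rw [Bool.eq_false_iff.2 (mt Nat.blt_eq.to_iff.1 h1), if_neg (by tauto)]
  · rw [Bool.eq_false_iff.2 (mt Nat.blt_eq.to_iff.1 h1), if_neg (by tauto)]

/-- the link with the small tables of the datum -/
noncomputable def chk0 (D : ChevalleyDatum) : Bool :=
  decide (D.nroots = T.n) && decide (D.rank = T.l) && decide (D.simpleIdx.toList = T.sim) &&
  decide (D.negIdx.toList = (List.range T.n).map fun r => T.n - 1 - r) &&
  decide (D.cartanSR.toList.map Array.toList =
    (List.range T.l).map fun i => (List.range T.n).map fun s => sbyte T.ca (s * 8 + i)) &&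
  decide (D.coroot.toList.map Array.toList =
    (List.range T.n).map fun r => (List.range T.l).map fun j => sbyte T.cr (r * 8 + j))

/-- checks on the fundamental roots -/
noncomputable def chkI : Bool :=
  decide (0 < T.l) && decide (T.det ≠ 0) && decide (0 < T.md) &&
  (allLt T.l fun i => decide (T.simf i < T.n) && decide (0 < T.ordf i) &&
    decide (i ≠ 0 → T.par.getD i 0 < T.l ∧ T.dep.getD (T.par.getD i 0) 0 < T.dep.getD i 0 ∧
      T.caf i (T.simf (T.par.getD i 0)) ≠ 0) &&
    allLt T.l fun j => decide (T.cof (T.simf i) j = if j = i then 1 else 0) &&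
      decide (T.caf i (T.simf j) * T.lenf (T.simf i) = T.caf j (T.simf i) * T.lenf (T.simf j)) &&
      decide (sumLt T.l (fun k => sbyte T.cinv (i * 8 + k) * T.caf k (T.simf j)) =
        if i = j then T.det else 0))

/-- checks linear in the number of roots -/
noncomputable def chk1 (r : ℕ) : Bool :=
    decide (0 < T.lenf r) &&
    decide (sumLt T.l (fun i => T.crf r i * T.caf i r) = 2) &&
    (allLt T.l (fun j => decide (0 ≤ T.cof r j)) || allLt T.l (fun j => decide (T.cof r j ≤ 0))) &&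
    decide (r + 1 < T.n → sumLt T.l (fun j => T.cof r j * T.ordf j) <
      sumLt T.l (fun j => T.cof (r + 1) j * T.ordf j)) &&
    decide (sumLt T.l (fun j => sbyte T.pco (r * 8 + j) * T.cof r j) = 1) &&
    decide (sumLt T.l (fun j => sbyte T.pcor (r * 8 + j) * T.crf r j) = 1) &&
    T.bit (T.hash r) &&
    decide (byte T.spa r < T.n ∧ byte T.spb r < T.n ∧ SplitOK T.N T.add r (byte T.spa r) (byte T.spb r)) &&
    allLt T.l fun i =>
      decide (T.caf i r = sumLt T.l fun j => T.cof r j * T.caf i (T.simf j)) &&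
      decide (T.cof (T.n - 1 - r) i = - T.cof r i) &&
      decide (T.crf (T.n - 1 - r) i = - T.crf r i) &&
      decide (T.crf r i * T.lenf r = T.cof r i * T.lenf (T.simf i)) &&
      decide (T.refl i r < T.n) &&
      allLt T.l fun j =>
        decide (T.cof (T.refl i r) j = T.cof r j - if j = i then T.caf i r else 0)

/-- the link with the chain table -/
noncomputable def chk2 (D : ChevalleyDatum) (r : ℕ) : Bool :=
  decide ((D.chain.getD r #[]).toList.map (fun e => (e.1, e.2.toList)) =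
    (List.range T.n).filterMap (fun s => if T.N r s = 0 then none else some (s, chainL T.N T.add r s)))

/-- checks on pairs of roots -/
noncomputable def chk3 (r : ℕ) : Bool :=
  allLt T.n fun s =>
    Nat.blt (T.add r s) T.n && decide (T.N s r = - T.N r s) &&
    decide (T.N (T.n - 1 - r) (T.n - 1 - s) = - T.N r s) &&
    (Bool.rec
      (decide (T.N r s ≤ 3) && decide (-3 ≤ T.N r s) &&
        (allLt T.l fun j => decide (T.cof (T.add r s) j = T.cof r j + T.cof s j)) &&
        (decide (T.N r (T.add r s) = 0) ||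
        (decide (T.N r s * T.N r (T.add r s) % 2 = 0) &&
        decide (T.N r s * T.N r (T.add r s) * T.N r (T.add r (T.add r s)) % 6 = 0) &&
        decide (T.N r s * T.N r (T.add r s) * T.N r (T.add r (T.add r s)) *
          T.N r (T.add r (T.add r (T.add r s))) = 0) &&
        decide (ShapeOK T.N T.add r s))))
      (! T.bit (Nat.mod (Nat.add (T.hash r) (T.hash s)) T.md))
      (decide (T.N r s = 0)))

/-- the special Jacobi identities for one generator -/
noncomputable def chk4p (p : ℕ) : Bool :=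
  allLt T.n fun s =>
    (decide (T.N p s = 0) || allLt T.l fun j => decide (T.N p s * T.crf (T.add p s) j =
      T.N s (T.n - 1 - T.add p s) * T.crf p j - T.N p (T.n - 1 - T.add p s) * T.crf s j)) &&
    decide (s ≠ p → s ≠ T.n - 1 - p → sumLt T.l (fun j => T.crf p j * T.caf j s) =
      T.N (T.n - 1 - p) s * T.N p (T.add (T.n - 1 - p) s) -
        T.N p s * T.N (T.n - 1 - p) (T.add p s)) &&
    decide (s ≠ p → s ≠ T.n - 1 - p → T.N p s * T.N (T.add p s) (T.n - 1 - s) =
      - (sumLt T.l fun j => T.crf s j * T.caf j p) -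
        T.N p (T.n - 1 - s) * T.N s (T.add p (T.n - 1 - s)))

/-- inner test of the generic Jacobi identity -/
noncomputable def jinner (Rp Rs Rps c0 m p s u : ℕ) : Bool :=
  Bool.rec (Bool.rec (Nat.beq (Nat.mod (Nat.add (Nat.add (Nat.mul c0 (entR Rps u))
    (Nat.mul (entR Rp u) (entR Rs (Nat.div (entR Rp u) 32))))
    (Nat.mul 31 (Nat.mul (entR Rs u) (entR Rp (Nat.div (entR Rs u) 32))))) 32) 0)
    true (Nat.beq (Nat.add u p) m)) true (Nat.beq (Nat.add u s) m)

/-- the generic Jacobi identity for one generator -/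
noncomputable def chk5p (n p : ℕ) : Bool :=
  allLt n fun s => Bool.rec
    (allLt s fun u => jinner (T.row p) (T.row s) (T.row (T.add p s)) (T.ent p s) (n - 1) p s u)
    true (Nat.beq (Nat.add s p) (n - 1))

theorem ent_cast (r s : ℕ) : ((T.ent r s : ℕ) : ZMod 32) = ((T.N r s : ℤ) : ZMod 32) := by
  have : ((T.ent r s : ℕ) : ℤ) ≡ T.N r s [ZMOD 32] := by
    unfold N
    rw [Int.subNatNat_eq_coe]
    change _ ≡ (((T.ent r s + 16) % 32 : ℕ) : ℤ) - ((16 : ℕ) : ℤ) [ZMOD 32]
    unfold Int.ModEq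
    omega
  rw [← Int.cast_natCast]
  exact (ZMod.intCast_eq_intCast_iff _ _ 32).2 this

theorem chk5p_spec {n p : ℕ} (h : T.chk5p n p = true)
    (hb : ∀ r < n, ∀ s < n, -3 ≤ T.N r s ∧ T.N r s ≤ 3) (ha : ∀ r < n, ∀ s < n, T.add r s < n)
    (hp : p < n) : ∀ s < n, ∀ u < s, s + p ≠ n - 1 → u + p ≠ n - 1 → u + s ≠ n - 1 →
    T.N p s * T.N (T.add p s) u + T.N p u * T.N s (T.add p u) = T.N s u * T.N p (T.add s u) := by
  intro s hs u hu h1 h2 h3
  have h4 := allLt_spec h s hs
  have e1 : Nat.beq (Nat.add s p) (n - 1) = false := by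
    rw [← Bool.not_eq_true, Nat.beq_eq]; exact h1
  rw [e1] at h4
  have h5 := allLt_spec h4 u hu
  have e2 : Nat.beq (Nat.add u p) (n - 1) = false := by
    rw [← Bool.not_eq_true, Nat.beq_eq]; exact h2
  have e3 : Nat.beq (Nat.add u s) (n - 1) = false := by
    rw [← Bool.not_eq_true, Nat.beq_eq]; exact h3
  unfold jinner at h5
  rw [e2, e3] at h5
  have h6 : (T.ent p s * T.ent (T.add p s) u + T.ent p u * T.ent s (T.add p u) +
      31 * (T.ent s u * T.ent p (T.add s u))) % 32 = 0 := Nat.eq_of_beq_eq_true h5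
  have h7 : ((T.N p s * T.N (T.add p s) u + T.N p u * T.N s (T.add p u) -
      T.N s u * T.N p (T.add s u) : ℤ) : ZMod 32) = 0 := by
    have := (ZMod.natCast_eq_zero_iff _ 32).2 (Nat.dvd_of_mod_eq_zero h6)
    push_cast at this ⊢
    simp only [ent_cast] at this
    have h31 : (31 : ZMod 32) = -1 := by decide
    rw [h31] at this
    linear_combination this
  rw [ZMod.intCast_zmod_eq_zero_iff_dvd] at h7
  have hu' : u < n := by omega
  have key : ∀ a b : ℤ, -3 ≤ a ∧ a ≤ 3 → -3 ≤ b ∧ b ≤ 3 → -9 ≤ a * b ∧ a * b ≤ 9 := by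
    rintro a b ⟨h1, h2⟩ ⟨h3, h4⟩
    constructor <;> nlinarith
  have b1 := key _ _ (hb p hp s hs) (hb _ (ha p hp s hs) u hu')
  have b2 := key _ _ (hb p hp u hu') (hb s hs _ (ha p hp u hu'))
  have b3 := key _ _ (hb s hs u hu') (hb p hp _ (ha s hs u hu'))
  push_cast at h7
  omega

theorem hash_add {r s u : ℕ} (hm : 0 < T.md) (h : ∀ j < T.l, T.cof u j = T.cof r j + T.cof s j) :
    T.hash u = Nat.mod (Nat.add (T.hash r) (T.hash s)) T.md := by
  change _ = (T.hash r + T.hash s) % T.md
  have hm' : (0 : ℤ) < T.md := by exact_mod_cast hm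
  have e : (sumLt T.l fun j => T.cof u j * T.gam.getD j 0) =
      (sumLt T.l fun j => T.cof r j * T.gam.getD j 0) + (sumLt T.l fun j => T.cof s j * T.gam.getD j 0) := by
    simp only [sumLt_eq, ← Finset.sum_add_distrib]
    exact Finset.sum_congr rfl fun j hj => by rw [h j (Finset.mem_range.1 hj), add_mul]
  unfold hash
  rw [e]
  apply Int.ofNat_inj.1
  push_cast
  rw [Int.toNat_of_nonneg (Int.emod_nonneg _ hm'.ne'), Int.toNat_of_nonneg (Int.emod_nonneg _ hm'.ne'),
    Int.toNat_of_nonneg (Int.emod_nonneg _ hm'.ne'), Int.add_emod_emod, Int.emod_add_emod]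

/-- soundness of the checker -/
theorem isGood (D : ChevalleyDatum) (h0 : T.chk0 D = true) (hI : T.chkI = true)
    (hR : ∀ r < T.n, T.chk1 r = true) (h2 : ∀ r < T.n, T.chk2 D r = true)
    (h3 : ∀ r < T.n, T.chk3 r = true)
    (h4 : ∀ i < T.l, T.chk4p (T.simf i) = true ∧ T.chk4p (T.n - 1 - T.simf i) = true)
    (h5 : ∀ i < T.l, T.chk5p T.n (T.simf i) = true ∧ T.chk5p T.n (T.n - 1 - T.simf i) = true) :
    IsGood D T.cof T.lenf T.N T.add T.ordf := by
  simp only [chk0, Bool.and_eq_true, decide_eq_true_eq] at h0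
  obtain ⟨⟨⟨⟨⟨hn, hl⟩, hsim⟩, hneg⟩, hca⟩, hcr⟩ := h0
  have esim : T.simf = D.simple := by
    funext i
    simp only [simf, ChevalleyDatum.simple, ← hsim, List.getD_eq_getElem?_getD, Array.getElem?_toList,
      Array.getD_eq_getD_getElem?]
  have eca : T.caf = D.cartan := by
    funext i s
    rw [caf_eq, ChevalleyDatum.cartan, (getD_getD_of_toList _ _ _ _ hca i s).1]
  have ecr : T.crf = cor D := by
    funext r j
    rw [crf_eq, cor, (getD_getD_of_toList _ _ _ _ hcr r j).1]
  have eneg : ∀ r < D.nroots, D.neg r = D.nroots - 1 - r := by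
    intro r hr
    rw [hn] at hr ⊢
    simp [ChevalleyDatum.neg, Array.getD_eq_getD_getElem?, ← Array.getElem?_toList, hneg, hr]
  simp only [chkI, Bool.and_eq_true, decide_eq_true_eq, allLt_iff, sumLt_eq, esim,
    eca, ← hn, ← hl] at hI
  obtain ⟨⟨⟨hrk, hdet⟩, hmd⟩, hI⟩ := hI
  simp only [chk2, decide_eq_true_eq, ← hn] at h2
  have erefl : ∀ i < D.rank, ∀ s < D.nroots, T.refl i s = D.reflectRoot i s := by
    intro i hi s hs
    have h1 := (hI i hi).1.1.1
    simp only [refl, ChevalleyDatum.reflectRoot, ChevalleyDatum.chainRoot, esim, eca, ← hn,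
      eneg _ h1, chainEntry_eq D T.N T.add _ (h2 _ h1) s hs,
      chainEntry_eq D T.N T.add _ (h2 (D.nroots - 1 - D.simple i) (by omega)) s hs]
  simp only [chk1, Bool.and_eq_true, Bool.or_eq_true, decide_eq_true_eq, allLt_iff, sumLt_eq, esim,
    eca, ecr, ← hn, ← hl] at hR
  simp only [chk3, Bool.and_eq_true, decide_eq_true_eq, allLt_iff, Nat.blt_eq, ← hn, ← hl] at h3
  simp only [esim, ← hn, ← hl] at h4 h5
  have hP0 : ∀ r < D.nroots, ∀ s < D.nroots, T.N r s = 0 → T.bit
      (Nat.mod (Nat.add (T.hash r) (T.hash s)) T.md) = false := fun r hr s hs h0 => by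
    have := (h3 r hr s hs).2
    rw [decide_eq_true h0] at this
    simpa using this
  have hP1 : ∀ r < D.nroots, ∀ s < D.nroots, T.N r s ≠ 0 → ((T.N r s ≤ 3 ∧ -3 ≤ T.N r s) ∧
      (∀ j < D.rank, T.cof (T.add r s) j = T.cof r j + T.cof s j)) ∧ (T.N r (T.add r s) = 0 ∨
      ((T.N r s * T.N r (T.add r s) % 2 = 0 ∧
        T.N r s * T.N r (T.add r s) * T.N r (T.add r (T.add r s)) % 6 = 0) ∧
        T.N r s * T.N r (T.add r s) * T.N r (T.add r (T.add r s)) *
          T.N r (T.add r (T.add r (T.add r s))) = 0) ∧ ShapeOK T.N T.add r s) := by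
    intro r hr s hs h0
    have := (h3 r hr s hs).2
    rw [decide_eq_false h0] at this
    simpa only [Bool.and_eq_true, Bool.or_eq_true, decide_eq_true_eq, allLt_iff] using this
  have hb : ∀ r < D.nroots, ∀ s < D.nroots, -3 ≤ T.N r s ∧ T.N r s ≤ 3 := fun r hr s hs => by
    by_cases h0 : T.N r s = 0
    · omega
    · exact ⟨(hP1 r hr s hs h0).1.1.2, (hP1 r hr s hs h0).1.1.1⟩
  have hJ : ∀ i < D.rank, ∀ p, p = D.simple i ∨ p = D.nroots - 1 - D.simple i → T.chk4p p = true :=
    fun i hi p hp => by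
      have := h4 i hi
      rcases hp with rfl | rfl
      · exact this.1
      · exact this.2
  simp only [chk4p, Bool.and_eq_true, Bool.or_eq_true, decide_eq_true_eq, sumLt_eq, allLt_iff,
    eca, ecr, ← hn, ← hl] at hJ
  exact
  { rank_pos := hrk
    simple_lt := fun i hi => (hI i hi).1.1.1
    neg_eq := eneg
    cor_size := fun r hr => by rw [hl]; exact (getD_getD_of_toList _ _ _ _ hcr r 0).2 (hn ▸ hr)
    car_co := fun s hs i hi => ((hR s hs).2 i hi).1.1.1.1.1
    co_neg := fun s hs i hi => ((hR s hs).2 i hi).1.1.1.1.2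
    cor_neg := fun s hs i hi => ((hR s hs).2 i hi).1.1.1.2
    co_simple := fun i hi j hj => ((hI i hi).2 j hj).1.1
    len_pos := fun r hr => (hR r hr).1.1.1.1.1.1.1.1
    cor_len := fun s hs i hi => ((hR s hs).2 i hi).1.1.2
    car_symm := fun i hi j hj => ((hI i hi).2 j hj).1.2
    A_self := fun r hr => (hR r hr).1.1.1.1.1.1.1.2
    sign := fun r hr => (hR r hr).1.1.1.1.1.1.2
    ord_pos := fun i hi => (hI i hi).1.1.2
    ord_lt := fun r hr => (hR r (by omega)).1.1.1.1.1.2 hr
    nondeg := ⟨fun i k => sbyte T.cinv (i * 8 + k), T.det, hdet,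
      fun i hi j hj => ((hI i hi).2 j hj).2⟩
    add_lt := fun r hr s hs => (h3 r hr s hs).1.1.1
    add_co := fun r hr s hs h0 => (hP1 r hr s hs h0).1.2
    N_ne := fun r hr s hs u hu h h0 => by
      have e1 := hP0 r hr s hs h0
      rw [← T.hash_add hmd (hl ▸ h), (hR u hu).1.1.2] at e1
      exact absurd e1 (by simp)
    N_anti := fun r hr s hs => (h3 r hr s hs).1.1.2
    N_neg := fun r hr s hs => (h3 r hr s hs).1.2
    prim_co := fun r hr => ⟨_, (hR r hr).1.1.1.1.2⟩
    prim_cor := fun r hr => ⟨_, (hR r hr).1.1.1.2⟩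
    chain_row := h2
    dvd2 := fun r hr s hs => by
      by_cases h0 : T.N r s = 0
      · simp [h0]
      rcases (hP1 r hr s hs h0).2 with h | h
      · simp [h]
      · exact Int.dvd_of_emod_eq_zero h.1.1.1
    dvd6 := fun r hr s hs => by
      by_cases h0 : T.N r s = 0
      · simp [h0]
      rcases (hP1 r hr s hs h0).2 with h | h
      · simp [h]
      · exact Int.dvd_of_emod_eq_zero h.1.1.2
    nil4 := fun r hr s hs => by
      by_cases h0 : T.N r s = 0
      · simp [h0]
      rcases (hP1 r hr s hs h0).2 with h | h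
      · simp [h]
      · exact h.1.2
    jac_a := fun i hi p hp => by
      have hs := (hI i hi).1.1.1
      rcases hp with rfl | rfl
      · exact T.chk5p_spec (h5 i hi).1 hb (fun r hr s hs => (h3 r hr s hs).1.1.1) hs
      · exact T.chk5p_spec (h5 i hi).2 hb (fun r hr s hs => (h3 r hr s hs).1.1.1) (by omega)
    jac_b := fun i hi p hp s hs h0 => (hJ i hi p hp s hs).1.1.resolve_left h0
    jac_c := fun i hi p hp s hs => (hJ i hi p hp s hs).1.2
    jac_d := fun i hi p hp s hs => (hJ i hi p hp s hs).2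
    refl_lt := fun i hi s hs => erefl i hi s hs ▸ ((hR s hs).2 i hi).1.2
    refl_co := fun i hi s hs => erefl i hi s hs ▸ ((hR s hs).2 i hi).2
    shape := fun r hr s hs h0 => by
      rcases (hP1 r hr s hs h0).2 with h | h
      · exact ⟨fun h' => absurd h h', fun h' => absurd h h', fun h' => absurd h h'⟩
      · exact h.2
    split := fun r hr => ⟨_, (hR r hr).1.2.1, _, (hR r hr).1.2.2.1, (hR r hr).1.2.2.2⟩
    conn := ⟨fun i => T.par.getD i 0, fun i => T.dep.getD i 0, fun i hi => (hI i hi).1.2⟩ }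

end Tab

end Cfsg.Agent.Lie
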