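import Cfsg.Agent.Lie.Weyl

set_option autoImplicit false
set_option linter.unusedSectionVars false

/-! The integral Lie algebra of a good datum. -/

namespace Cfsg.Agent.Lie

open Cfsg.Lie Matrix

variable {D : ChevalleyDatum} [G : Good D]

/-- basis vectors -/
def eV (a : D.Idx) : D.Idx → ℤ := Pi.single a 1
/-- root vectors -/
abbrev eR (r : Rt D) : D.Idx → ℤ := eV (Sum.inr r)
/-- fundamental coroot vectors -/
abbrev eH (i : Ix D) : D.Idx → ℤ := eV (Sum.inl i)
/-- coroot vectors -/
def hv (r : Rt D) : D.Idx → ℤ := ∑ i, cr r i • eH i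

omit G in
theorem mulVec_eV (M : Matrix D.Idx D.Idx ℤ) (b : D.Idx) : M *ᵥ eV b = fun a => M a b := by
  funext a; simp [eV]

omit G in
theorem ext_eV {M M' : Matrix D.Idx D.Idx ℤ} (h : ∀ b, M *ᵥ eV b = M' *ᵥ eV b) : M = M' := by
  ext a b
  have := congrFun (h b) a
  rwa [mulVec_eV, mulVec_eV] at this

omit G in
theorem lin_ext_eV {M : Type*} [AddCommGroup M] {φ ψ : (D.Idx → ℤ) →ₗ[ℤ] M}
    (h : ∀ a, φ (eV a) = ψ (eV a)) : φ = ψ :=
  (Pi.basisFun ℤ D.Idx).ext fun a => by simpa [eV] using h a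

@[simp] theorem hv_ng (r : Rt D) : hv (ng r) = - hv r := by simp [hv]
theorem hv_sim (i : Ix D) : hv (sim i) = eH i := by simp [hv, cr_sim, Pi.single_apply]
omit G in
theorem hv_inl (r : Rt D) (i : Ix D) : hv r (Sum.inl i) = cr r i := by
  simp [hv, eV, Pi.single_apply, Finset.sum_apply]
omit G in
theorem hv_inr (r u : Rt D) : hv r (Sum.inr u) = 0 := by
  simp [hv, eV, Finset.sum_apply]

/-- columns of `ad e_r` -/
def colE (r : Rt D) : D.Idx → D.Idx → ℤ
  | Sum.inl i => (- ca i r) • eR r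
  | Sum.inr s => if s = ng r then hv r else N r s • eR (add r s)

/-- the matrix of `ad e_r` -/
def E (r : Rt D) : Matrix D.Idx D.Idx ℤ := Matrix.of fun a b => colE r b a

/-- the matrix of `ad h_i` -/
def Hm (i : Ix D) : Matrix D.Idx D.Idx ℤ := Matrix.diagonal (Sum.elim (fun _ => 0) (ca i))

/-- adjoint matrices of the basis vectors -/
def adb : D.Idx → Matrix D.Idx D.Idx ℤ
  | Sum.inl i => Hm i
  | Sum.inr r => E r

/-- the adjoint map -/
def ad : (D.Idx → ℤ) →ₗ[ℤ] Matrix D.Idx D.Idx ℤ := Fintype.linearCombination ℤ adb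

theorem ad_eV (a : D.Idx) : ad (eV a) = adb a := by simp [ad, eV]
@[simp] theorem ad_eR (r : Rt D) : ad (eR r) = E r := ad_eV _
@[simp] theorem ad_eH (i : Ix D) : ad (eH i) = Hm i := ad_eV _

/-- the bracket -/
def br : (D.Idx → ℤ) →ₗ[ℤ] (D.Idx → ℤ) →ₗ[ℤ] (D.Idx → ℤ) := (Matrix.toLin'.toLinearMap).comp ad

theorem br_apply (x y : D.Idx → ℤ) : br x y = ad x *ᵥ y := rfl

theorem E_eV (r : Rt D) (b : D.Idx) : E r *ᵥ eV b = colE r b := by rw [mulVec_eV]; rfl

theorem E_eH (r : Rt D) (i : Ix D) : E r *ᵥ eH i = (- ca i r) • eR r := E_eV _ _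
theorem E_eR (r s : Rt D) : E r *ᵥ eR s = if s = ng r then hv r else N r s • eR (add r s) := E_eV _ _

theorem diagonal_eV (d : D.Idx → ℤ) (b : D.Idx) : Matrix.diagonal d *ᵥ eV b = d b • eV b := by
  funext a
  rw [Matrix.mulVec_diagonal]
  by_cases h : a = b
  · simp [h, eV]
  · simp [eV, h]

@[simp] theorem br_hh (i j : Ix D) : br (eH i) (eH j) = 0 := by
  rw [br_apply, ad_eH, Hm, diagonal_eV]; simp
@[simp] theorem br_he (i : Ix D) (s : Rt D) : br (eH i) (eR s) = ca i s • eR s := by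
  rw [br_apply, ad_eH, Hm, diagonal_eV]; simp
@[simp] theorem br_eh (r : Rt D) (i : Ix D) : br (eR r) (eH i) = (- ca i r) • eR r := by
  rw [br_apply, ad_eR, E_eH]
theorem br_ee (r s : Rt D) : br (eR r) (eR s) = if s = ng r then hv r else N r s • eR (add r s) := by
  rw [br_apply, ad_eR, E_eR]
theorem br_ee_of_ne {r s : Rt D} (h : s ≠ ng r) : br (eR r) (eR s) = N r s • eR (add r s) := by
  rw [br_ee, if_neg h]
@[simp] theorem br_e_ng (r : Rt D) : br (eR r) (eR (ng r)) = hv r := by rw [br_ee, if_pos rfl]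
@[simp] theorem br_e_self (r : Rt D) : br (eR r) (eR r) = 0 := by
  rw [br_ee_of_ne (ng_ne r).symm]; simp
@[simp] theorem br_hv_e (r s : Rt D) : br (hv r) (eR s) = A r s • eR s := by
  simp only [hv, map_sum, map_smul, LinearMap.sum_apply, LinearMap.smul_apply, br_he, smul_smul, A,
    Finset.sum_smul]
@[simp] theorem br_e_hv (r s : Rt D) : br (eR s) (hv r) = (- A r s) • eR s := by
  simp only [hv, map_sum, map_smul, br_eh, smul_smul, A, ← Finset.sum_neg_distrib, Finset.sum_smul,
    mul_neg]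
@[simp] theorem br_h_hv (i : Ix D) (r : Rt D) : br (eH i) (hv r) = 0 := by
  simp only [hv, map_sum, map_smul, br_hh, smul_zero, Finset.sum_const_zero]
@[simp] theorem br_hv_h (i : Ix D) (r : Rt D) : br (hv r) (eH i) = 0 := by
  simp only [hv, map_sum, map_smul, LinearMap.sum_apply, LinearMap.smul_apply, br_hh, smul_zero,
    Finset.sum_const_zero]

theorem br_anti (x y : D.Idx → ℤ) : br x y = - br y x := by
  have : (br : (D.Idx → ℤ) →ₗ[ℤ] _) = - br.flip := by
    refine lin_ext_eV fun a => lin_ext_eV fun b => ?_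
    change br (eV a) (eV b) = - br (eV b) (eV a)
    rcases a with i | r <;> rcases b with j | s
    · simp
    · simp
    · simp
    · by_cases h : s = ng r
      · subst h
        have := br_e_ng (ng r)
        rw [ng_ng] at this
        simp [this]
      · rw [br_ee_of_ne h, br_ee_of_ne (fun h' => h (eq_ng_comm.1 h')), N_anti r s, neg_smul, neg_neg]
        by_cases h0 : N r s = 0
        · simp [h0]
        · rw [add_comm' h0]
  conv_lhs => rw [this]
  rfl

theorem br_h_br (i : Ix D) (p u : Rt D) :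
    br (eH i) (br (eR p) (eR u)) = (ca i p + ca i u) • br (eR p) (eR u) := by
  by_cases h : u = ng p
  · subst h; simp
  · rw [br_ee_of_ne h]
    by_cases h0 : N p u = 0
    · simp [h0]
    · rw [map_smul, br_he, ca_add h0, smul_comm]

/-- the Jacobi expression -/
def Jac (x y z : D.Idx → ℤ) : D.Idx → ℤ := br (br x y) z + br y (br x z) - br x (br y z)

theorem Jac_swap (x y z : D.Idx → ℤ) : Jac x y z = - Jac x z y := by
  simp only [Jac]
  rw [br_anti (br x y) z, br_anti y (br x z), br_anti y z, map_neg]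
  abel

theorem Jac_self (x y : D.Idx → ℤ) : Jac x y y = 0 := by
  have := Jac_swap x y y
  funext a
  have := congrFun this a
  simp only [Pi.neg_apply, Pi.zero_apply] at this ⊢
  omega

theorem term_eq {a b c : Rt D} (h : co a + co b + co c ≠ 0) :
    N b c • br (eR a) (eR (add b c)) = (N b c * N a (add b c)) • eR (add a (add b c)) := by
  by_cases h0 : N b c = 0
  · simp [h0]
  · rw [br_ee_of_ne, smul_smul]
    intro h1
    apply h
    rw [add_assoc, ← add_co h0, h1, co_ng, add_neg_cancel]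

theorem term_eq' {a b c v : Rt D} (h : co v = co a + co b + co c) :
    N b c • br (eR a) (eR (add b c)) = (N b c * N a (add b c)) • eR v := by
  rw [term_eq (h ▸ co_ne_zero v)]
  by_cases h0 : N b c = 0
  · simp [h0]
  · rw [add_eq (r := a) (s := add b c) (u := v) (by rw [add_co h0, h, add_assoc])]

theorem term_zero {a b c : Rt D} (h : ∀ v, co v ≠ co a + co b + co c) : N b c * N a (add b c) = 0 := by
  by_contra hc
  rw [mul_eq_zero, not_or] at hc
  exact h (add a (add b c)) (by rw [add_co hc.2, add_co hc.1, add_assoc])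

/-- `p` is a fundamental root or the negative of one -/
def IsGen (p : Rt D) : Prop := ∃ i, p = sim i ∨ p = ng (sim i)

theorem IsGen.val {p : Rt D} (h : IsGen p) :
    ∃ i < D.rank, (p : ℕ) = D.simple i ∨ (p : ℕ) = D.nroots - 1 - D.simple i := by
  obtain ⟨i, rfl | rfl⟩ := h
  · exact ⟨i, i.2, Or.inl rfl⟩
  · exact ⟨i, i.2, Or.inr (ng_val _)⟩

omit G in
theorem ne_ng_val {p s : Rt D} (h : s ≠ ng p) : (s : ℕ) ≠ D.nroots - 1 - p := by
  rw [← ng_val]; exact fun h' => h (Fin.ext h')

theorem jac_a {p : Rt D} (hp : IsGen p) {s u : Rt D} (hlt : u < s) (h1 : s ≠ ng p) (h2 : u ≠ ng p)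
    (h3 : u ≠ ng s) : N p s * N (add p s) u + N p u * N s (add p u) = N s u * N p (add s u) := by
  obtain ⟨i, hi, hp⟩ := hp.val
  have := ne_ng_val h1
  have := ne_ng_val h2
  have := ne_ng_val h3
  exact G.is.jac_a i hi p hp s s.2 u hlt (by omega) (by omega) (by omega)

theorem jac_b {p : Rt D} (hp : IsGen p) {s : Rt D} (h : N p s ≠ 0) :
    N p s • hv (add p s) = N s (ng (add p s)) • hv p - N p (ng (add p s)) • hv s := by
  obtain ⟨i, hi, hp⟩ := hp.val
  have := G.is.jac_b i hi p hp s s.2 h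
  funext a
  rcases a with j | u
  · simp only [Pi.smul_apply, Pi.sub_apply, hv_inl, smul_eq_mul, N, ng_val]
    exact this j j.2
  · simp [hv_inr]

theorem jac_c {p : Rt D} (hp : IsGen p) {u : Rt D} (h1 : u ≠ p) (h2 : u ≠ ng p) :
    A p u = N (ng p) u * N p (add (ng p) u) - N p u * N (ng p) (add p u) := by
  obtain ⟨i, hi, hp⟩ := hp.val
  have := G.is.jac_c i hi p hp u u.2 (fun h => h1 (Fin.ext h)) (ne_ng_val h2)
  rw [sum_range_eq, ← ng_val] at this
  exact this

theorem jac_d {p : Rt D} (hp : IsGen p) {s : Rt D} (h1 : s ≠ p) (h2 : s ≠ ng p) :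
    N p s * N (add p s) (ng s) = - A s p - N p (ng s) * N s (add p (ng s)) := by
  obtain ⟨i, hi, hp⟩ := hp.val
  have := G.is.jac_d i hi p hp s s.2 (fun h => h1 (Fin.ext h)) (ne_ng_val h2)
  rw [sum_range_eq, ← ng_val] at this
  exact this

theorem Jac_ee_aux {p : Rt D} (hp : IsGen p) {s u : Rt D} (hlt : u < s) (h1 : s ≠ ng p) (h2 : u ≠ ng p)
    (h3 : u ≠ ng s) : Jac (eR p) (eR s) (eR u) = 0 := by
  have ha := jac_a hp hlt h1 h2 h3
  simp only [Jac, br_ee_of_ne h1, br_ee_of_ne h2, br_ee_of_ne h3, map_smul, LinearMap.smul_apply]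
  rw [br_anti (eR (add p s))]
  by_cases h0 : co p + co s + co u = 0
  · have e1 : co (ng u) = co p + co s := by rw [co_ng]; linear_combination -h0
    have e2 : co (ng s) = co p + co u := by rw [co_ng]; linear_combination -h0
    have e3 : co (ng p) = co s + co u := by rw [co_ng]; linear_combination -h0
    have := jac_b hp (N_ne e1)
    rw [add_eq e1, ng_ng] at this
    rw [add_eq e1, add_eq e2, add_eq e3]
    simp only [br_e_ng, hv_ng] at this ⊢
    rw [this]; abel
  · rw [smul_neg]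
    by_cases hv : ∃ v, co v = co p + co s + co u
    · obtain ⟨v, hv⟩ := hv
      rw [term_eq' (v := v) (by rw [hv]; abel), term_eq' (v := v) (by rw [hv]; abel), term_eq' hv,
        N_anti (add p s) u, ← neg_smul, ← add_smul, ← sub_smul]
      have : -(N p s * -N (add p s) u) + N p u * N s (add p u) - N s u * N p (add s u) = 0 := by
        linarith
      rw [this, zero_smul]
    · push Not at hv
      rw [term_eq (fun h => h0 (by rw [← h]; abel)), term_eq (fun h => h0 (by rw [← h]; abel)), term_eq h0,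
        term_zero (fun v h => hv v (by rw [h]; abel)), term_zero (fun v h => hv v (by rw [h]; abel)),
        term_zero hv]
      simp

theorem Jac_gen {p : Rt D} (hp : IsGen p) (a b : D.Idx) : Jac (eR p) (eV a) (eV b) = 0 := by
  have hhe : ∀ i u, Jac (eR p) (eH i) (eR u) = 0 := by
    intro i u
    simp only [Jac, br_eh, br_h_br, br_he, map_smul, LinearMap.smul_apply]
    module
  have hp1 : ∀ u, Jac (eR p) (eR p) (eR u) = 0 := by intro u; simp [Jac]
  have hc : ∀ u, Jac (eR p) (eR (ng p)) (eR u) = 0 := by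
    intro u
    by_cases h1 : u = p
    · rw [h1, Jac_swap, hp1, neg_zero]
    by_cases h2 : u = ng p
    · rw [h2, Jac_self]
    have h3 : u ≠ ng (ng p) := by rwa [ng_ng]
    simp only [Jac, br_e_ng, br_hv_e, br_ee_of_ne h2, br_ee_of_ne h3, map_smul]
    rw [term_eq' (v := u) (by simp), term_eq' (v := u) (by simp), jac_c hp h1 h2]
    module
  rcases a with i | s <;> rcases b with j | u
  · simp only [Jac, br_eh, br_hh, br_he, map_smul, LinearMap.smul_apply, map_zero]
    module
  · exact hhe i u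
  · rw [Jac_swap, hhe, neg_zero]
  · by_cases h1 : s = ng p
    · rw [h1]; exact hc u
    by_cases h2 : u = ng p
    · rw [h2, Jac_swap, hc, neg_zero]
    by_cases h3 : u = ng s
    · subst h3
      by_cases h4 : s = p
      · rw [h4]; exact hp1 _
      simp only [Jac, br_e_ng, br_e_hv, br_ee_of_ne h1, br_ee_of_ne h2, map_smul, LinearMap.smul_apply]
      rw [br_anti (eR (add p s)), smul_neg, term_eq' (v := p) (by simp), term_eq' (v := p) (by simp),
        N_anti (add p s) (ng s), mul_neg, jac_d hp h4 h1]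
      module
    rcases lt_trichotomy u s with h | h | h
    · exact Jac_ee_aux hp h h1 h2 h3
    · rw [h, Jac_self]
    · rw [Jac_swap, Jac_ee_aux hp h h2 h1 (fun h' => h3 (eq_ng_comm.1 h')), neg_zero]

/-- derivations of the bracket -/
def IsDer (M : Matrix D.Idx D.Idx ℤ) : Prop := ∀ y, ad (M *ᵥ y) = M * ad y - ad y * M

theorem isDer_gen {p : Rt D} (hp : IsGen p) : IsDer (E p) := by
  intro y
  have : ad ∘ₗ Matrix.toLin' (E p) =
      (LinearMap.mulLeft ℤ (E p) - LinearMap.mulRight ℤ (E p)) ∘ₗ ad := by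
    refine lin_ext_eV fun a => ext_eV fun b => ?_
    have := Jac_gen hp a b
    simp only [Jac, br_apply, ad_eR] at this
    simp only [LinearMap.comp_apply, Matrix.toLin'_apply, LinearMap.sub_apply, LinearMap.mulLeft_apply,
      LinearMap.mulRight_apply, Matrix.sub_mulVec, ← Matrix.mulVec_mulVec]
    linear_combination this
  exact LinearMap.congr_fun this y

theorem IsDer.comm {M M' : Matrix D.Idx D.Idx ℤ} (h : IsDer M) (h' : IsDer M') :
    IsDer (M * M' - M' * M) := by
  intro y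
  rw [Matrix.sub_mulVec, map_sub, ← Matrix.mulVec_mulVec, ← Matrix.mulVec_mulVec, h, h', h', h]
  noncomm_ring

theorem IsDer.of_smul {M : Matrix D.Idx D.Idx ℤ} {c : ℤ} (hc : c ≠ 0) (h : IsDer (c • M)) : IsDer M := by
  intro y
  have := h y
  rw [Matrix.smul_mulVec, map_smul, smul_mul_assoc, mul_smul_comm, ← smul_sub] at this
  exact smul_right_injective _ hc this

theorem IsDer.add {p s : Rt D} (hp : IsDer (E p)) (hs : IsDer (E s)) (h : N p s ≠ 0) :
    IsDer (E (add p s)) := by
  apply IsDer.of_smul h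
  have := hp (eR s)
  rw [E_eR, if_neg (ne_of_N h).2, map_smul, ad_eR, ad_eR] at this
  rw [this]
  exact hp.comm hs

theorem chainEntry_eq' (r s : Rt D) : D.chainEntry r s = chainL (Good.N D) (Good.add D) r s :=
  chainEntry_eq D _ _ r (G.is.chain_row r r.2) s s.2

theorem N_ng_sim_ne {i : Ix D} {r : Rt D} (h1 : r ≠ sim i) (h2 : 0 < A (sim i) r) :
    N (ng (sim i)) r ≠ 0 := by
  intro h0
  have h3 : r ≠ ng (sim i) := by rintro rfl; simp at h2
  have : refl i r = r := by
    apply Fin.ext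
    rw [refl_val, ChevalleyDatum.reflectRoot]
    have e1 : ¬ ((r : ℕ) = D.simple i) := fun h => h1 (Fin.ext h)
    have e2 : ¬ ((r : ℕ) = D.neg (D.simple i)) := by
      rw [← sim_val, neg_val]; exact fun h => h3 (Fin.ext h)
    have e3 : 0 < D.cartan i r := by rwa [A_sim] at h2
    simp only [e1, e2, e3, if_true, if_false]
    rw [← sim_val, neg_val, ChevalleyDatum.chainRoot, chainEntry_eq', chainL,
      if_pos (show Good.N D _ _ = 0 from h0)]
    simp
  have h4 := co_refl_self i r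
  rw [this] at h4
  omega

theorem exists_pred {r : Rt D} (hr : Pos r) (hne : ∀ i, r ≠ sim i) :
    ∃ i s, Pos s ∧ N (sim i) s ≠ 0 ∧ add (sim i) s = r := by
  obtain ⟨i, h1, h2⟩ := exists_A_pos hr
  have h3 := N_ng_sim_ne (hne i) h2
  have e : co r = co (sim i) + co (add (ng (sim i)) r) := by rw [add_co h3]; simp
  refine ⟨i, add (ng (sim i)) r, ?_, N_ne e, add_eq e⟩
  rw [pos_iff]
  intro j
  have := (pos_iff r).1 hr j
  rw [add_co h3, co_ng, co_sim]
  by_cases hj : j = i
  · subst hj; simp; omega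
  · simpa [Pi.single_eq_of_ne hj] using this

theorem f_add {r s : Rt D} (h : N r s ≠ 0) : f (add r s) = f r + f s := by
  simp only [f, add_co h, fv_add]

/-- induction on positive roots by adding fundamental roots -/
theorem pos_induction_add {p : Rt D → Prop} (hsim : ∀ i, p (sim i))
    (hstep : ∀ i s, Pos s → N (sim i) s ≠ 0 → p s → p (add (sim i) s)) (r : Rt D) (hr : Pos r) : p r := by
  induction h : (f r).toNat using Nat.strong_induction_on generalizing r with
  | _ k ih =>
  by_cases hne : ∃ i, r = sim i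
  · obtain ⟨i, rfl⟩ := hne; exact hsim i
  push Not at hne
  obtain ⟨i, s, h1, h2, rfl⟩ := exists_pred hr hne
  refine hstep i s h1 h2 (ih _ ?_ _ h1 rfl)
  have := f_add h2
  have h3 : 0 < f (sim i) := pos_sim i
  have h4 : 0 < f s := h1
  omega

theorem isDer_E (r : Rt D) : IsDer (E r) := by
  have key : ∀ r : Rt D, Pos r → IsDer (E r) ∧ IsDer (E (ng r)) := by
    intro r hr
    refine pos_induction_add (p := fun r => IsDer (E r) ∧ IsDer (E (ng r))) ?_ ?_ r hr
    · exact fun i => ⟨isDer_gen ⟨i, Or.inl rfl⟩, isDer_gen ⟨i, Or.inr rfl⟩⟩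
    · intro i s _ h ih
      refine ⟨(isDer_gen ⟨i, Or.inl rfl⟩).add ih.1 h, ?_⟩
      rw [← add_ng h]
      exact (isDer_gen ⟨i, Or.inr rfl⟩).add ih.2 (by rw [N_ng]; simpa using h)
  by_cases hr : Pos r
  · exact (key r hr).1
  · simpa using (key _ ((pos_ng r).2 hr)).2

theorem E_comm {r s : Rt D} (h : s ≠ ng r) : E r * E s = N r s • E (add r s) + E s * E r := by
  have := isDer_E r (eR s)
  rw [E_eR, if_neg h, map_smul, ad_eR, ad_eR] at this
  rw [this]; abel

theorem E_hv (r s : Rt D) : E r *ᵥ hv s = (- A s r) • eR r := by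
  rw [← br_e_hv, br_apply, ad_eR]

/-! ### divided powers -/

/-- `M_{r,s,2}` -/
def M2 (r s : Rt D) : ℤ := N r s * N r (add r s) / 2
/-- `M_{r,s,3}` -/
def M3 (r s : Rt D) : ℤ := N r s * N r (add r s) * N r (add r (add r s)) / 6

theorem two_M2 (r s : Rt D) : 2 * M2 r s = N r s * N r (add r s) :=
  Int.mul_ediv_cancel' (G.is.dvd2 r r.2 s s.2)
theorem six_M3 (r s : Rt D) : 6 * M3 r s = N r s * N r (add r s) * N r (add r (add r s)) :=
  Int.mul_ediv_cancel' (G.is.dvd6 r r.2 s s.2)
theorem three_M3 (r s : Rt D) : 3 * M3 r s = M2 r s * N r (add r (add r s)) := by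
  have := six_M3 r s
  rw [← two_M2] at this
  linarith
theorem M3_N (r s : Rt D) : M3 r s * N r (add r (add r (add r s))) = 0 := by
  have := G.is.nil4 r r.2 s s.2
  change N r s * N r (add r s) * N r (add r (add r s)) * N r (add r (add r (add r s))) = 0 at this
  rw [← six_M3] at this
  linarith

/-- columns of `(ad e_r)²/2` -/
def colX2 (r : Rt D) : D.Idx → D.Idx → ℤ
  | Sum.inl _ => 0
  | Sum.inr s => if s = ng r then - eR r else M2 r s • eR (add r (add r s))
/-- columns of `(ad e_r)³/6` -/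
def colX3 (r : Rt D) : D.Idx → D.Idx → ℤ
  | Sum.inl _ => 0
  | Sum.inr s => M3 r s • eR (add r (add r (add r s)))
/-- `(ad e_r)²/2` -/
def X2 (r : Rt D) : Matrix D.Idx D.Idx ℤ := Matrix.of fun a b => colX2 r b a
/-- `(ad e_r)³/6` -/
def X3 (r : Rt D) : Matrix D.Idx D.Idx ℤ := Matrix.of fun a b => colX3 r b a

theorem X2_eV (r : Rt D) (b : D.Idx) : X2 r *ᵥ eV b = colX2 r b := by rw [mulVec_eV]; rfl
theorem X3_eV (r : Rt D) (b : D.Idx) : X3 r *ᵥ eV b = colX3 r b := by rw [mulVec_eV]; rfl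

theorem M2_ne {r s : Rt D} (h : M2 r s ≠ 0) : N r s ≠ 0 ∧ N r (add r s) ≠ 0 := by
  have := two_M2 r s
  constructor <;> intro h0 <;> simp [h0] at this <;> exact h this
theorem M3_ne {r s : Rt D} (h : M3 r s ≠ 0) :
    N r s ≠ 0 ∧ N r (add r s) ≠ 0 ∧ N r (add r (add r s)) ≠ 0 := by
  have := six_M3 r s
  refine ⟨?_, ?_, ?_⟩ <;> intro h0 <;> simp [h0] at this <;> exact h this

theorem ne_ng_of_comb {r s u v : Rt D} (h1 : s ≠ r) (h2 : s ≠ ng r) {i j : ℤ} (hj : j ≠ 0)
    (h : co u + co v = i • co r + j • co s) : u ≠ ng v := by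
  rintro rfl
  rw [co_ng, neg_add_cancel] at h
  exact hj (indep h1 h2 h.symm).2

theorem co_add2 {r s : Rt D} (h1 : N r s ≠ 0) (h2 : N r (add r s) ≠ 0) :
    co (add r (add r s)) = (2 : ℤ) • co r + co s := by rw [add_co h2, add_co h1]; module
theorem co_add3 {r s : Rt D} (h1 : N r s ≠ 0) (h2 : N r (add r s) ≠ 0) (h3 : N r (add r (add r s)) ≠ 0) :
    co (add r (add r (add r s))) = (3 : ℤ) • co r + co s := by rw [add_co h3, co_add2 h1 h2]; module

theorem E_mul_E (r : Rt D) : E r * E r = (2 : ℤ) • X2 r := by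
  refine ext_eV fun b => ?_
  rw [← Matrix.mulVec_mulVec, Matrix.smul_mulVec, X2_eV]
  rcases b with i | s
  · rw [E_eH, Matrix.mulVec_smul, E_eR, if_neg (ng_ne r).symm]; simp [colX2]
  · rw [E_eR, colX2]
    split_ifs with h
    · rw [E_hv]; simp
    · by_cases h0 : N r s = 0
      · simp [h0, M2]
      · have hn := ne_of_N h0
        rw [Matrix.mulVec_smul, E_eR, if_neg (ne_ng_of_comb hn.1 hn.2 (i := 2) one_ne_zero
          (by rw [add_co h0]; module)), smul_smul, smul_smul, two_M2]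

theorem E_mul_X2 (r : Rt D) : E r * X2 r = (3 : ℤ) • X3 r := by
  refine ext_eV fun b => ?_
  rw [← Matrix.mulVec_mulVec, Matrix.smul_mulVec, X2_eV, X3_eV]
  rcases b with i | s
  · simp [colX2, colX3]
  · rw [colX2, colX3]
    split_ifs with h
    · rw [Matrix.mulVec_neg, E_eR, if_neg (ng_ne r).symm]; simp [h, M3]
    · by_cases h0 : M2 r s = 0
      · rw [smul_smul, three_M3]; simp [h0]
      · have h1 := M2_ne h0
        have hn := ne_of_N h1.1
        rw [Matrix.mulVec_smul, E_eR, if_neg (ne_ng_of_comb hn.1 hn.2 (i := 3) one_ne_zero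
          (by rw [co_add2 h1.1 h1.2]; module)), smul_smul, smul_smul, three_M3]

theorem E_mul_X3 (r : Rt D) : E r * X3 r = 0 := by
  refine ext_eV fun b => ?_
  rw [← Matrix.mulVec_mulVec, X3_eV]
  rcases b with i | s
  · simp [colX3]
  · rw [colX3]
    by_cases h0 : M3 r s = 0
    · simp [h0]
    · have h1 := M3_ne h0
      have hn := ne_of_N h1.1
      rw [Matrix.mulVec_smul, E_eR, if_neg (ne_ng_of_comb hn.1 hn.2 (i := 4) one_ne_zero
        (by rw [co_add3 h1.1 h1.2.1 h1.2.2]; module)), smul_smul, M3_N]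
      simp

theorem E_pow_two (r : Rt D) : E r ^ 2 = (2 : ℤ) • X2 r := by rw [pow_two, E_mul_E]
theorem E_pow_three (r : Rt D) : E r ^ 3 = (6 : ℤ) • X3 r := by
  rw [pow_succ', E_pow_two, mul_smul_comm, E_mul_X2, smul_smul]; rfl
theorem E_pow_four (r : Rt D) : E r ^ 4 = 0 := by
  rw [pow_succ', E_pow_three, mul_smul_comm, E_mul_X3, smul_zero]

end Cfsg.Agent.Lie
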