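import Cfsg.Agent.Lie.Torus

set_option autoImplicit false
set_option linter.unusedSectionVars false
set_option linter.unusedSimpArgs false

/-! Translation between the definitions of the prelude and the typed versions. -/

namespace Cfsg.Agent.Lie

open Cfsg.Lie
open scoped Matrix MatrixGroups

variable {D : ChevalleyDatum} [G : Good D] {F : Type*} [Field F]

theorem xR_entry {R : Type*} [CommRing R] (r s : Rt D) (t : R) (i : Ix D) :
    xR R r t (Sum.inl i) (Sum.inr (ng s)) = if s = r then t * cr r i else 0 := by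
  rw [← congrFun (mulVec_eB (xR R r t) _) _]
  split_ifs with h
  · subst h; rw [xR_eE_ng]; simp [eB_apply, hB_inl]
  · rw [xR_eE (by rwa [Ne, ng_inj])]; simp [eB_apply]

theorem eq_zero_of_mul_cr {R : Type*} [CommRing R] {r : Rt D} {t : R} (h : ∀ i, t * cr r i = 0) : t = 0 := by
  obtain ⟨a, ha⟩ := prim_cr r
  have : t * ((∑ j, a j * cr r j : ℤ) : R) = 0 := by
    push_cast
    rw [Finset.mul_sum]
    exact Finset.sum_eq_zero fun j _ => by rw [mul_left_comm, h, mul_zero]
  simpa [ha] using this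

theorem xR_eq_one {R : Type*} [CommRing R] {r : Rt D} {t : R} (h : xR R r t = 1) : t = 0 := by
  refine eq_zero_of_mul_cr (r := r) fun i => ?_
  have := xR_entry r r t i
  rw [h, if_pos rfl] at this
  rw [← this]; simp

theorem wordMat_nil : D.wordMat F [] = 1 := rfl
theorem wordMat_cons (p : ℕ × F) (w : List (ℕ × F)) : D.wordMat F (p :: w) = D.x F p.1 p.2 * D.wordMat F w := by
  simp [ChevalleyDatum.wordMat]
theorem wordMat_append (w w' : List (ℕ × F)) : D.wordMat F (w ++ w') = D.wordMat F w * D.wordMat F w' := by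
  simp [ChevalleyDatum.wordMat]

theorem nMat_eq (r : Rt D) (t : Fˣ) : D.nMat F r t = (nX xG r t : GL D.Idx F).1 := by
  simp only [ChevalleyDatum.nMat, ChevalleyDatum.nWord, wordMat_cons, wordMat_nil, neg_val, x_eq, nX,
    Units.val_mul, coe_xG, mul_one, mul_assoc, Units.val_inv_eq_inv_val]

theorem nMat_one (r : Rt D) : D.nMat F r 1 = (nX xG r 1 : GL D.Idx F).1 := nMat_eq r 1

theorem hMat_eq (r : Rt D) (t : Fˣ) : D.hMat F r t = (hX xG r t : GL D.Idx F).1 := by
  rw [ChevalleyDatum.hMat, ChevalleyDatum.hWord, wordMat_append, hX, Units.val_mul, ← nMat_eq, ← nMat_eq]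
  rfl

theorem hMat_eq' (r : Rt D) {t : F} (ht : t ≠ 0) : D.hMat F r t = dgM (coch r (Units.mk0 t ht)) := by
  rw [← coe_dg, ← hG_eq, ← hMat_eq]; rfl

theorem rf_sim_val (i : Ix D) (s : Rt D) : ((rf (sim i)).1 s : ℕ) = D.reflectRoot i s := by
  rw [rf_sim]; rfl

end Cfsg.Agent.Lie
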