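import Cfsg.Agent.Lie.Fil

set_option autoImplicit false
set_option linter.unusedSectionVars false
set_option linter.unusedSimpArgs false

/-! Families of root elements in an abstract group: unipotent subgroups. -/

namespace Cfsg.Agent.Lie

open Cfsg.Lie
open scoped Matrix MatrixGroups

variable {D : ChevalleyDatum} [G : Good D] {F : Type*} [Field F] {Γ : Type*} [Group Γ]

/-- the subgroup generated by the root elements for a set of roots -/
def XS (x : Rt D → F → Γ) (S : Set (Rt D)) : Subgroup Γ := Subgroup.closure {g | ∃ r ∈ S, ∃ t, g = x r t}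

/-- `u` is a positive combination of `r` and `s` -/
def Comb (r s u : Rt D) : Prop := ∃ i j : ℤ, 0 < i ∧ 0 < j ∧ co u = i • co r + j • co s

/-- closed sets of roots -/
def Closed (S : Set (Rt D)) : Prop := ∀ r ∈ S, ∀ s ∈ S, ∀ u, Comb r s u → u ∈ S

/-- the functional is positive on the set -/
def PosOn (l : Fn D) (S : Set (Rt D)) : Prop := ∀ s ∈ S, 0 < l (co s)

/-- the part of `S` of degree at least `m` -/
def Ge (l : Fn D) (S : Set (Rt D)) (m : ℤ) : Set (Rt D) := {s | s ∈ S ∧ m ≤ l (co s)}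

/-- root elements satisfying the relations for the roots in `Ψ` -/
structure Loc (Ψ : Set (Rt D)) (x : Rt D → F → Γ) (θ : Γ →* GL D.Idx F) : Prop where
  add : ∀ r ∈ Ψ, ∀ t u, x r t * x r u = x r (t + u)
  comm : ∀ r ∈ Ψ, ∀ s ∈ Ψ, s ≠ r → s ≠ ng r → ∀ t u, x s u * x r t = x r t * x s u * cwL x (cT r s) t u
  map : ∀ r ∈ Ψ, ∀ t, θ (x r t) = xG r t

section XS

variable {x : Rt D → F → Γ}

omit G in
theorem mem_XS {S : Set (Rt D)} {r : Rt D} (h : r ∈ S) (t : F) : x r t ∈ XS x S :=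
  Subgroup.subset_closure ⟨r, h, t, rfl⟩

omit G in
theorem XS_le {S : Set (Rt D)} {K : Subgroup Γ} : XS x S ≤ K ↔ ∀ r ∈ S, ∀ t, x r t ∈ K := by
  rw [XS, Subgroup.closure_le]
  exact ⟨fun h r hr t => h ⟨r, hr, t, rfl⟩, by rintro h _ ⟨r, hr, t, rfl⟩; exact h r hr t⟩

omit G in
theorem XS_mono {S T : Set (Rt D)} (h : S ⊆ T) : XS x S ≤ XS x T := XS_le.2 fun _ hr t => mem_XS (h hr) t

omit G in
theorem XS_empty : XS x ∅ = ⊥ := le_bot_iff.1 (XS_le.2 fun _ h => absurd h (Set.notMem_empty _))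

omit G in
theorem XS_union (S T : Set (Rt D)) : XS x (S ∪ T) = XS x S ⊔ XS x T := by
  refine le_antisymm (XS_le.2 ?_) (sup_le (XS_mono Set.subset_union_left) (XS_mono Set.subset_union_right))
  rintro r (h | h) t
  · exact Subgroup.mem_sup_left (mem_XS h t)
  · exact Subgroup.mem_sup_right (mem_XS h t)

omit G in
theorem map_XS {Γ' : Type*} [Group Γ'] (φ : Γ →* Γ') {y : Rt D → F → Γ'} {S : Set (Rt D)}
    (h : ∀ r ∈ S, ∀ t, φ (x r t) = y r t) : (XS x S).map φ = XS y S := by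
  rw [XS, MonoidHom.map_closure, XS]
  congr 1
  ext g
  constructor
  · rintro ⟨_, ⟨r, hr, t, rfl⟩, rfl⟩; exact ⟨r, hr, t, h r hr t⟩
  · rintro ⟨r, hr, t, rfl⟩; exact ⟨_, ⟨r, hr, t, rfl⟩, h r hr t⟩

omit G in
theorem conj_mem_XS {S : Set (Rt D)} {K : Subgroup Γ} {n : Γ} (h : ∀ r ∈ S, ∀ t, n * x r t * n⁻¹ ∈ K)
    {g : Γ} (hg : g ∈ XS x S) : n * g * n⁻¹ ∈ K :=
  (XS_le (K := K.comap (MulAut.conj n).toMonoidHom)).2 h hg

omit G in
theorem cwL_mem {K : Subgroup Γ} {L : List (Rt D × ℤ × ℕ × ℕ)} (h : ∀ c ∈ L, ∀ t, x c.1 t ∈ K) (t u : F) :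
    cwL x L t u ∈ K := by
  refine Subgroup.list_prod_mem _ fun g hg => ?_
  obtain ⟨c, hc, rfl⟩ := List.mem_map.1 hg
  exact h c hc _

omit G in
theorem map_cwL' {Γ' : Type*} [Group Γ'] (φ : Γ →* Γ') {y : Rt D → F → Γ'} {L : List (Rt D × ℤ × ℕ × ℕ)}
    (h : ∀ c ∈ L, ∀ t, φ (x c.1 t) = y c.1 t) (t u : F) : φ (cwL x L t u) = cwL y L t u := by
  rw [cwL, map_list_prod, List.map_map, cwL]
  congr 1
  exact List.map_congr_left fun c hc => h c hc _

omit G in
theorem mem_of_cwL_mem {K : Subgroup Γ} {L : List (Rt D × ℤ × ℕ × ℕ)} (hL : L.Nodup) {c : Rt D × ℤ × ℕ × ℕ}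
    (hc : c ∈ L) (h : ∀ c' ∈ L, c' ≠ c → ∀ t, x c'.1 t ∈ K) {t u : F} (hm : cwL x L t u ∈ K) :
    x c.1 (c.2.1 * (-t) ^ c.2.2.1 * u ^ c.2.2.2) ∈ K := by
  induction L with
  | nil => simp at hc
  | cons d L ih =>
    rw [List.nodup_cons] at hL
    change x d.1 _ * cwL x L t u ∈ K at hm
    rcases List.mem_cons.1 hc with rfl | hc'
    · rwa [Subgroup.mul_mem_cancel_right] at hm
      exact cwL_mem (fun c' hc' => h c' (List.mem_cons_of_mem _ hc') (by rintro rfl; exact hL.1 hc')) t u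
    · rw [Subgroup.mul_mem_cancel_left] at hm
      · exact ih hL.2 hc' (fun c' hc' => h c' (List.mem_cons_of_mem _ hc')) hm
      · exact h d List.mem_cons_self (by rintro rfl; exact hL.1 hc') _

end XS

theorem comb_of_mem_cT {r s : Rt D} {c : Rt D × ℤ × ℕ × ℕ} (hc : c ∈ cT r s) : Comb r s c.1 := by
  obtain ⟨h1, h2, h3⟩ := mem_cT hc
  exact ⟨_, _, by exact_mod_cast h2, by exact_mod_cast h3, h1⟩

theorem nodup_cT (r s : Rt D) : ((cT r s).map fun c => c.2.2).Nodup := by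
  unfold cT
  split_ifs <;> simp

theorem N_ne_of_mem_cT {r s : Rt D} {c : Rt D × ℤ × ℕ × ℕ} (hc : c ∈ cT r s) : N r s ≠ 0 := by
  intro h; simp [cT, h] at hc

theorem eq_of_mem_cT {r s : Rt D} {c c' : Rt D × ℤ × ℕ × ℕ} (hc : c ∈ cT r s) (hc' : c' ∈ cT r s)
    (h : c'.1 = c.1) : c' = c := by
  refine List.inj_on_of_nodup_map (nodup_cT r s) hc' hc ?_
  have h0 := ne_of_N (N_ne_of_mem_cT hc)
  have h1 := (mem_cT hc).1
  have h2 := (mem_cT hc').1
  rw [h, h1] at h2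
  have := indep h0.1 h0.2 (i := (c.2.2.1 : ℤ) - c'.2.2.1) (j := (c.2.2.2 : ℤ) - c'.2.2.2)
    (by linear_combination (exp := 1) h2)
  ext <;> omega

theorem Comb.symm {r s u : Rt D} (h : Comb r s u) : Comb s r u := by
  obtain ⟨i, j, hi, hj, h⟩ := h
  exact ⟨j, i, hj, hi, by rw [h, add_comm]⟩

theorem Comb.apply {r s u : Rt D} (h : Comb r s u) (l : Fn D) :
    ∃ i j : ℤ, 0 < i ∧ 0 < j ∧ l (co u) = i * l (co r) + j * l (co s) := by
  obtain ⟨i, j, hi, hj, h⟩ := h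
  exact ⟨i, j, hi, hj, by rw [h, map_add, map_zsmul, map_zsmul]; rfl⟩

theorem Comb.le {r s u : Rt D} (h : Comb r s u) {l : Fn D} (hr : 0 ≤ l (co r)) (hs : 0 ≤ l (co s)) :
    l (co r) + l (co s) ≤ l (co u) := by
  obtain ⟨i, j, hi, hj, h⟩ := h.apply l
  nlinarith

theorem Comb.aut {r s u : Rt D} (h : Comb r s u) {w : Equiv.Perm (Rt D)} (hw : w ∈ AutR D) :
    Comb (w r) (w s) (w u) := by
  obtain ⟨i, j, hi, hj, h⟩ := h
  exact ⟨i, j, hi, hj, by rw [co_aut hw, h, map_add, map_smul, map_smul, ← co_aut hw, ← co_aut hw]⟩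

theorem PosOn.ne_ng {l : Fn D} {S : Set (Rt D)} (h : PosOn l S) {r s : Rt D} (hr : r ∈ S) (hs : s ∈ S) :
    s ≠ ng r := by
  rintro rfl
  have h1 := h r hr
  have h2 := h _ hs
  rw [co_ng, map_neg] at h2
  omega

theorem PosOn.mono {l : Fn D} {S T : Set (Rt D)} (h : PosOn l S) (hT : T ⊆ S) : PosOn l T :=
  fun s hs => h s (hT hs)

theorem Ge_subset (l : Fn D) (S : Set (Rt D)) (m : ℤ) : Ge l S m ⊆ S := fun _ h => h.1

theorem Ge_mono (l : Fn D) (S : Set (Rt D)) {m k : ℤ} (h : m ≤ k) : Ge l S k ⊆ Ge l S m :=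
  fun _ hs => ⟨hs.1, h.trans hs.2⟩

theorem Closed.ge {l : Fn D} {S : Set (Rt D)} (h : Closed S) (hp : PosOn l S) (m : ℤ) : Closed (Ge l S m) := by
  intro r hr s hs u hu
  have := hu.le (hp r hr.1).le (hp s hs.1).le
  have := hp s hs.1
  have := hr.2
  exact ⟨h r hr.1 s hs.1 u hu, by omega⟩

theorem Ge_zero {l : Fn D} {S : Set (Rt D)} (hp : PosOn l S) : Ge l S 0 = S :=
  Set.ext fun s => ⟨fun h => h.1, fun h => ⟨h, (hp s h).le⟩⟩

theorem exists_Ge_empty (l : Fn D) (S : Set (Rt D)) : ∃ m : ℕ, Ge l S m = ∅ := by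
  obtain ⟨m, hm⟩ := (Set.toFinite ((fun s => l (co s)) '' Set.univ)).bddAbove
  refine ⟨m.toNat + 1, Set.eq_empty_of_forall_notMem fun s hs => ?_⟩
  have := hm ⟨s, trivial, rfl⟩
  have := hs.2
  simp only at *
  omega

theorem XS_le_Tri {l : Fn D} {k : ℕ} {S : Set (Rt D)} (h : ∀ s ∈ S, (k : ℤ) ≤ l (co s)) :
    XS (xG : Rt D → F → GL D.Idx F) S ≤ Tri l k := XS_le.2 fun r hr t => xG_mem_Tri (h r hr) t

theorem entry_eq_zero {l : Fn D} {S : Set (Rt D)} {s : Rt D} (h0 : 0 < l (co s)) (hs : s ∉ S)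
    (h : ∀ r ∈ S, l (co s) ≤ l (co r)) {g : GL D.Idx F} (hg : g ∈ XS xG S) (i : Ix D) :
    g.1 (Sum.inl i) (Sum.inr (ng s)) = 0 := by
  have hT : XS (xG : Rt D → F → GL D.Idx F) S ≤ Tri l (l (co s)).toNat :=
    XS_le_Tri fun r hr => by have := h r hr; omega
  have hk : l (co s) < 2 * ((l (co s)).toNat : ℕ) := by omega
  induction hg using Subgroup.closure_induction with
  | mem g hg =>
    obtain ⟨r, hr, t, rfl⟩ := hg
    rw [coe_xG, xR_entry, if_neg]; rintro rfl; exact hs hr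
  | one => simp
  | mul a b ha hb iha ihb => rw [entry_mul (hT ha) (hT hb) hk, iha, ihb, add_zero]
  | inv a ha iha =>
    have := entry_mul (hT ha) (Subgroup.inv_mem _ (hT ha)) hk i
    rw [iha, mul_inv_cancel] at this
    simpa using this.symm

theorem eq_zero_of_xG_mem {l : Fn D} {S : Set (Rt D)} {s : Rt D} (h0 : 0 < l (co s)) (hs : s ∉ S)
    (h : ∀ r ∈ S, l (co s) ≤ l (co r)) {t : F} (hg : xG s t ∈ XS xG S) : t = 0 :=
  eq_zero_of_mul_cr (r := s) fun i => by simpa [xR_entry] using entry_eq_zero h0 hs h hg i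

theorem xG_inj {r : Rt D} {t u : F} (h : xG r t = xG r u) : t = u := by
  have : xG r (t - u) = 1 := by rw [sub_eq_add_neg, ← xG_add, h, xG_neg, mul_inv_cancel]
  exact sub_eq_zero.1 (xR_eq_one (congrArg Units.val this))

theorem eq_of_xG_eq {r s : Rt D} {t u : F} (ht : t ≠ 0) (h : xG r t = xG s u) : r = s := by
  by_contra hc
  apply ht
  refine eq_zero_of_mul_cr (r := r) fun i => ?_
  have h1 := xR_entry r r t i
  have h2 := xR_entry s r u i
  rw [if_pos rfl] at h1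
  rw [if_neg hc] at h2
  rw [← h1, ← h2, ← coe_xG, h, coe_xG]

theorem loc_xG : Loc Set.univ (xG : Rt D → F → GL D.Idx F) (MonoidHom.id _) where
  add r _ := xG_add r
  comm r _ s _ _ h t u := Units.ext (by
    rw [Units.val_mul, Units.val_mul, Units.val_mul, coe_xG, coe_xG, xR_comm h]
    congr 1
    rw [cwL, cwL, ← Units.coeHom_apply, map_list_prod, List.map_map]; rfl)
  map _ _ _ := rfl

namespace Loc

variable {Ψ : Set (Rt D)} {x : Rt D → F → Γ} {θ : Γ →* GL D.Idx F} (hL : Loc Ψ x θ)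
include hL

theorem mono {Ψ' : Set (Rt D)} (h : Ψ' ⊆ Ψ) : Loc Ψ' x θ :=
  ⟨fun r hr => hL.add r (h hr), fun r hr s hs => hL.comm r (h hr) s (h hs), fun r hr => hL.map r (h hr)⟩

theorem zero {r : Rt D} (hr : r ∈ Ψ) : x r 0 = 1 := by
  have := hL.add r hr 0 0
  rwa [add_zero, mul_eq_left] at this

theorem neg {r : Rt D} (hr : r ∈ Ψ) (t : F) : x r (-t) = (x r t)⁻¹ :=
  eq_inv_of_mul_eq_one_left (by rw [hL.add r hr, neg_add_cancel, hL.zero hr])

theorem mem_single {r : Rt D} (hr : r ∈ Ψ) {g : Γ} : g ∈ XS x {r} ↔ ∃ t, g = x r t := by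
  refine ⟨fun hg => ?_, by rintro ⟨t, rfl⟩; exact mem_XS (S := {r}) rfl t⟩
  induction hg using Subgroup.closure_induction with
  | mem g hg => obtain ⟨_, rfl, t, rfl⟩ := hg; exact ⟨t, rfl⟩
  | one => exact ⟨0, (hL.zero hr).symm⟩
  | mul a b _ _ ha hb =>
    obtain ⟨t, rfl⟩ := ha
    obtain ⟨u, rfl⟩ := hb
    exact ⟨_, hL.add r hr t u⟩
  | inv a _ ha => obtain ⟨t, rfl⟩ := ha; exact ⟨_, (hL.neg hr t).symm⟩

theorem map_XS {S : Set (Rt D)} (hS : S ⊆ Ψ) : (XS x S).map θ = XS xG S :=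
  Lie.map_XS θ fun r hr => hL.map r (hS hr)

theorem map_mem {S : Set (Rt D)} (hS : S ⊆ Ψ) {g : Γ} (hg : g ∈ XS x S) : θ g ∈ XS xG S :=
  hL.map_XS hS ▸ Subgroup.mem_map_of_mem θ hg

theorem comm_gen {r s : Rt D} (hr : r ∈ Ψ) (hs : s ∈ Ψ) (h : s ≠ ng r) {K : Subgroup Γ}
    (hK : ∀ v, Comb r s v → ∀ t, x v t ∈ K) (t u : F) : (x s u)⁻¹ * (x r t)⁻¹ * x s u * x r t ∈ K := by
  by_cases h1 : s = r
  · subst h1
    rw [← hL.neg hs, ← hL.neg hs, hL.add s hs, hL.add s hs, hL.add s hs]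
    rw [show -u + -t + u + t = 0 by ring, hL.zero hs]; exact K.one_mem
  · rw [mul_assoc, hL.comm r hr s hs h1 h]
    have : (x s u)⁻¹ * (x r t)⁻¹ * (x r t * x s u * cwL x (cT r s) t u) = cwL x (cT r s) t u := by group
    rw [this]
    exact cwL_mem (fun c hc => hK _ (comb_of_mem_cT hc)) t u

theorem commute {r s : Rt D} (hr : r ∈ Ψ) (hs : s ∈ Ψ) (h : s ≠ ng r) (h0 : N r s = 0) (t u : F) :
    x s u * x r t = x r t * x s u := by
  by_cases h1 : s = r
  · rw [h1, hL.add r hr, hL.add r hr, add_comm]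
  · rw [hL.comm r hr s hs h1 h]; simp [cT, h0]

theorem conj_mem {r : Rt D} (hr : r ∈ Ψ) {T : Set (Rt D)} (hT : T ⊆ Ψ)
    (h : ∀ s ∈ T, s ≠ ng r ∧ ∀ u, Comb r s u → u ∈ T) (t : F) {g : Γ} (hg : g ∈ XS x T) :
    x r t * g * (x r t)⁻¹ ∈ XS x T := by
  refine conj_mem_XS (fun s hs u => ?_) hg
  have := hL.comm_gen hr (hT hs) (h s hs).1 (K := XS x T) (fun v hv t => mem_XS ((h s hs).2 v hv) t) (-t) u
  rw [hL.neg hr, inv_inv] at this
  have := Subgroup.mul_mem _ (mem_XS hs u) this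
  simpa [mul_assoc] using this

theorem le_normalizer {S T : Set (Rt D)} (hS : S ⊆ Ψ) (hT : T ⊆ Ψ)
    (h : ∀ r ∈ S, ∀ s ∈ T, s ≠ ng r ∧ ∀ u, Comb r s u → u ∈ T) :
    XS x S ≤ Subgroup.normalizer (XS x T : Set Γ) := by
  refine XS_le.2 fun r hr t => ?_
  rw [Subgroup.mem_normalizer_iff]
  refine fun g => ⟨hL.conj_mem (hS hr) hT (h r hr) t, fun hg => ?_⟩
  have := hL.conj_mem (hS hr) hT (h r hr) (-t) hg
  simpa [hL.neg (hS hr), mul_assoc] using this

theorem conj_mem' {S T : Set (Rt D)} (hS : S ⊆ Ψ) (hT : T ⊆ Ψ)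
    (h : ∀ r ∈ S, ∀ s ∈ T, s ≠ ng r ∧ ∀ u, Comb r s u → u ∈ T) {a g : Γ} (ha : a ∈ XS x S)
    (hg : g ∈ XS x T) : a * g * a⁻¹ ∈ XS x T :=
  (Subgroup.mem_normalizer_iff.1 (hL.le_normalizer hS hT h ha) g).1 hg

variable {l : Fn D} {S : Set (Rt D)} (hS : S ⊆ Ψ) (hc : Closed S) (hp : PosOn l S)
include hS hc hp

theorem conj_ge (m : ℤ) {a g : Γ} (ha : a ∈ XS x S) (hg : g ∈ XS x (Ge l S m)) :
    a * g * a⁻¹ ∈ XS x (Ge l S m) := by
  refine hL.conj_mem' hS ((Ge_subset _ _ _).trans hS) (fun r hr s hs => ⟨hp.ne_ng hr hs.1, ?_⟩) ha hg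
  intro u hu
  have := hu.le (hp r hr).le (hp s hs.1).le
  have := hp r hr
  have := hs.2
  exact ⟨hc r hr s hs.1 u hu, by omega⟩

theorem comm_ge (m : ℤ) {a g : Γ} (ha : a ∈ XS x (Ge l S m)) (hg : g ∈ XS x S) :
    a * g * a⁻¹ * g⁻¹ ∈ XS x (Ge l S (m + 1)) := by
  induction ha using Subgroup.closure_induction generalizing g with
  | mem a ha =>
    obtain ⟨r, hr, t, rfl⟩ := ha
    induction hg using Subgroup.closure_induction with
    | mem g hg =>
      obtain ⟨s, hs, u, rfl⟩ := hg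
      have := hL.comm_gen (hS hs) (hS hr.1) (hp.ne_ng hs hr.1) (K := XS x (Ge l S (m + 1)))
        (fun v hv t => mem_XS (S := Ge l S (m + 1)) ⟨hc s hs r hr.1 v hv, by
          have := hv.le (hp s hs).le (hp r hr.1).le
          have := hp s hs
          have := hr.2
          omega⟩ t) (-u) (-t)
      rwa [hL.neg (hS hs), hL.neg (hS hr.1), inv_inv, inv_inv] at this
    | one => simp
    | mul b c hb _ ihb ihc =>
      have := Subgroup.mul_mem _ ihb (hL.conj_ge hS hc hp _ hb ihc)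
      convert this using 1; group
    | inv b hb ihb =>
      have := hL.conj_ge hS hc hp _ (Subgroup.inv_mem _ hb) (Subgroup.inv_mem _ ihb)
      convert this using 1; group
  | one => simp
  | mul a b ha _ iha ihb =>
    have := Subgroup.mul_mem _ (hL.conj_ge hS hc hp _ (XS_mono (Ge_subset _ _ _) ha) (ihb hg)) (iha hg)
    convert this using 1; group
  | inv a ha iha =>
    have := hL.conj_ge hS hc hp _ (Subgroup.inv_mem _ (XS_mono (Ge_subset _ _ _) ha))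
      (Subgroup.inv_mem _ (iha hg))
    convert this using 1; group

theorem exists_mul {S₁ S₂ : Set (Rt D)} (h₂ : S₂ ⊆ S) (h : ∀ s ∈ S, s ∈ S₁ ∨ s ∈ S₂)
    {g : Γ} (hg : g ∈ XS x S) : ∃ a ∈ XS x S₁, ∃ b ∈ XS x S₂, g = a * b := by
  have key : ∀ m : ℕ, ∃ a ∈ XS x S₁, ∃ b ∈ XS x S₂, ∃ c ∈ XS x (Ge l S m), g = a * b * c := by
    intro m
    induction m with
    | zero => exact ⟨1, one_mem _, 1, one_mem _, g, by rwa [Nat.cast_zero, Ge_zero hp], by simp⟩
    | succ m ih =>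
      obtain ⟨a, ha, b, hb, c, hc', rfl⟩ := ih
      clear hg
      push_cast
      induction hc' using Subgroup.closure_induction_right with
      | one => exact ⟨a, ha, b, hb, 1, one_mem _, rfl⟩
      | mul_right c _ y hy ih =>
        obtain ⟨a', ha', b', hb', c', hc', e⟩ := ih
        obtain ⟨s, hs, t, rfl⟩ := hy
        have h3 := hL.conj_ge hS hc hp _ (Subgroup.inv_mem _ (mem_XS hs.1 t)) hc'
        rcases h s hs.1 with h4 | h4
        · have h5 := hL.comm_ge hS hc hp m (Subgroup.inv_mem _ (mem_XS hs t))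
            (Subgroup.inv_mem _ (XS_mono h₂ hb'))
          refine ⟨_, mul_mem ha' (mem_XS h4 t), b', hb', _, mul_mem (inv_mem h5) h3, ?_⟩
          rw [← mul_assoc, e]; group
        · refine ⟨a', ha', _, mul_mem hb' (mem_XS h4 t), _, h3, ?_⟩
          rw [← mul_assoc, e]; group
      | mul_inv_cancel c _ y hy ih =>
        obtain ⟨a', ha', b', hb', c', hc', e⟩ := ih
        obtain ⟨s, hs, t, rfl⟩ := hy
        have h3 := hL.conj_ge hS hc hp _ (mem_XS hs.1 t) hc'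
        rcases h s hs.1 with h4 | h4
        · have h5 := hL.comm_ge hS hc hp m (mem_XS hs t) (Subgroup.inv_mem _ (XS_mono h₂ hb'))
          refine ⟨_, mul_mem ha' (inv_mem (mem_XS h4 t)), b', hb', _, mul_mem (inv_mem h5) h3, ?_⟩
          rw [← mul_assoc, e]; group
        · refine ⟨a', ha', _, mul_mem hb' (inv_mem (mem_XS h4 t)), _, h3, ?_⟩
          rw [← mul_assoc, e]; group
  obtain ⟨m, hm⟩ := exists_Ge_empty l S
  obtain ⟨a, ha, b, hb, c, hc', e⟩ := key m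
  rw [hm, XS_empty, Subgroup.mem_bot] at hc'
  exact ⟨a, ha, b, hb, by rw [e, hc', mul_one]⟩

theorem isNilpotent : Group.IsNilpotent (XS x S) := by
  obtain ⟨m, hm⟩ := exists_Ge_empty l S
  refine (Subgroup.nilpotent_iff_finite_descending_central_series _).2
    ⟨m, fun k => (XS x (Ge l S k)).subgroupOf _, ⟨?_, ?_⟩, ?_⟩
  · simp [Ge_zero hp]
  · intro a k ha g
    rw [Subgroup.mem_subgroupOf] at ha ⊢
    simpa [commutatorElement_def] using hL.comm_ge hS hc hp k ha g.2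
  · simp [hm, XS_empty]

omit hc in
theorem eq_zero_of_mem {s : Rt D} (hs : s ∈ S) (hmin : ∀ r ∈ S, l (co s) ≤ l (co r)) {t : F} {b : Γ}
    (hb : b ∈ XS x (S \ {s})) (h : θ (x s t * b) = 1) : t = 0 := by
  rw [map_mul, hL.map s (hS hs), mul_eq_one_iff_eq_inv] at h
  refine eq_zero_of_xG_mem (hp s hs) (S := S \ {s}) (by simp) (fun r hr => hmin r hr.1) ?_
  rw [h]
  exact inv_mem (hL.map_mem (Set.sdiff_subset.trans hS) hb)

omit hL hS in
theorem closed_diff {s : Rt D} (hmin : ∀ r ∈ S, l (co s) ≤ l (co r)) : Closed (S \ {s}) := by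
  intro a ha b hb u hu
  refine ⟨hc a ha.1 b hb.1 u hu, ?_⟩
  rintro rfl
  have := hu.le (hp a ha.1).le (hp b hb.1).le
  have := hp a ha.1
  have := hmin b hb.1
  omega

theorem exists_split {s : Rt D} (hs : s ∈ S) {g : Γ} (hg : g ∈ XS x S) :
    ∃ t, ∃ b ∈ XS x (S \ {s}), g = x s t * b := by
  obtain ⟨a, ha, b, hb, rfl⟩ := hL.exists_mul hS hc hp (S₁ := {s}) (S₂ := S \ {s})
    Set.sdiff_subset (fun r hr => by by_cases h : r = s <;> simp [h, hr]) hg
  obtain ⟨t, rfl⟩ := (hL.mem_single (hS hs)).1 ha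
  exact ⟨t, b, hb, rfl⟩

theorem inj {g : Γ} (hg : g ∈ XS x S) (h : θ g = 1) : g = 1 := by
  induction hn : S.ncard generalizing S g with
  | zero =>
    rw [Set.ncard_eq_zero] at hn
    rwa [hn, XS_empty, Subgroup.mem_bot] at hg
  | succ n ih =>
    obtain ⟨s, hs, hmin⟩ := Set.exists_min_image S (fun s => l (co s)) (Set.toFinite S)
      (Set.nonempty_of_ncard_ne_zero (by omega))
    obtain ⟨t, b, hb, rfl⟩ := hL.exists_split hS hc hp hs hg
    have := hL.eq_zero_of_mem hS hp hs hmin hb h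
    rw [this, hL.zero (hS hs), one_mul] at h ⊢
    exact ih (Set.sdiff_subset.trans hS) (closed_diff hc hp hmin) (hp.mono Set.sdiff_subset) hb h
      (by rw [Set.ncard_sdiff_singleton_of_mem hs, hn]; rfl)

theorem eq_of_map_eq {g g' : Γ} (hg : g ∈ XS x S) (hg' : g' ∈ XS x S) (h : θ g = θ g') : g = g' := by
  have := hL.inj hS hc hp (mul_mem hg (inv_mem hg')) (by simp [h])
  rwa [mul_inv_eq_one] at this

theorem card [Finite F] : Nat.card (XS x S) = Nat.card F ^ S.ncard := by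
  induction hn : S.ncard generalizing S with
  | zero =>
    rw [Set.ncard_eq_zero] at hn
    simp [hn, XS_empty]
  | succ n ih =>
    obtain ⟨s, hs, hmin⟩ := Set.exists_min_image S (fun s => l (co s)) (Set.toFinite S)
      (Set.nonempty_of_ncard_ne_zero (by omega))
    rw [pow_succ', ← ih (Set.sdiff_subset.trans hS) (closed_diff hc hp hmin) (hp.mono Set.sdiff_subset)
      (by rw [Set.ncard_sdiff_singleton_of_mem hs, hn]; rfl), ← Nat.card_prod]
    symm
    refine Nat.card_eq_of_bijective (fun p : F × XS x (S \ {s}) =>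
      (⟨x s p.1 * p.2, mul_mem (mem_XS hs _) (XS_mono Set.sdiff_subset p.2.2)⟩ : XS x S)) ⟨?_, ?_⟩
    · rintro ⟨t, b⟩ ⟨t', b'⟩ h
      simp only [Subtype.mk.injEq] at h
      have : -t' + t = 0 := hL.eq_zero_of_mem hS hp hs hmin (mul_mem b.2 (inv_mem b'.2)) (by
        rw [← hL.add s (hS hs), hL.neg (hS hs), mul_assoc, ← mul_assoc (x s t), h]; simp)
      obtain rfl : t = t' := by linear_combination this
      rw [mul_right_inj] at h
      rw [Subtype.ext h]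
    · rintro ⟨g, hg⟩
      obtain ⟨t, b, hb, rfl⟩ := hL.exists_split hS hc hp hs hg
      exact ⟨(t, ⟨b, hb⟩), rfl⟩

end Loc

end Cfsg.Agent.Lie
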