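import Cfsg.Agent.Lie.Fold

set_option autoImplicit false
set_option linter.unusedSectionVars false
set_option linter.unusedSimpArgs false

/-! The subgroups of the prelude in terms of the abstract theory. -/

namespace Cfsg.Agent.Lie

open Cfsg.Lie
open scoped Matrix MatrixGroups commutatorElement

variable {D : ChevalleyDatum} [G : Good D] (F : Type*) [Field F]

theorem closure_x_eq (P : ℕ → Prop) (hP : ∀ r, P r → r < D.nroots) :
    Subgroup.closure {g : GL D.Idx F | ∃ (r : ℕ) (t : F), P r ∧ (g : Matrix D.Idx D.Idx F) = D.x F r t} =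
      XS xG {r : Rt D | P r} := by
  rw [XS]
  congr 1
  ext g
  constructor
  · rintro ⟨r, t, hr, e⟩
    exact ⟨⟨r, hP r hr⟩, hr, t, Units.ext (by rw [e, x_eq' F (hP r hr)]; rfl)⟩
  · rintro ⟨r, hr, t, rfl⟩
    exact ⟨r, t, hr, (x_eq F r t).symm⟩

theorem rootSubgroup_eq (r : Rt D) : D.rootSubgroup F r = XS xG {r} := by
  rw [ChevalleyDatum.rootSubgroup, XS]
  congr 1
  ext g
  simp only [x_eq, Set.mem_ofPred_eq, Set.mem_singleton_iff, exists_eq_left, Units.ext_iff, coe_xG]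

theorem posU_eq : D.posUnipotent F = UX xG := by
  rw [ChevalleyDatum.posUnipotent, closure_x_eq F _ fun _ h => h.1, UX]
  simp only [isPosRoot_iff]

theorem negU_eq : D.negUnipotent F = VX xG := by
  rw [ChevalleyDatum.negUnipotent, closure_x_eq F _ fun _ h => h.1, VX]
  simp only [isNegRoot_iff]

theorem diag_eq : D.diagonalSubgroup F = HX xG := by
  rw [ChevalleyDatum.diagonalSubgroup, HX]
  congr 1
  ext g
  constructor
  · rintro ⟨r, t, hr, ht, e⟩
    exact ⟨⟨r, hr⟩, Units.mk0 t ht, Units.ext (e.trans (hMat_eq (⟨r, hr⟩ : Rt D) (Units.mk0 t ht)))⟩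
  · rintro ⟨r, t, rfl⟩
    exact ⟨r, t, r.2, t.ne_zero, (hMat_eq r t).symm⟩

theorem mono_eq : D.monomialSubgroup F = NX xG := by
  rw [ChevalleyDatum.monomialSubgroup, diag_eq]
  refine le_antisymm (sup_le HX_le_NX ((Subgroup.closure_le _).2 ?_)) (NX_le.2 fun r t => ?_)
  · rintro g ⟨r, hr, e⟩
    rw [show g = nX xG ⟨r, hr⟩ 1 from Units.ext (e.trans (nMat_one (⟨r, hr⟩ : Rt D)))]
    exact nX_mem_NX _ _
  · rw [sys_xG.n_eq]
    exact mul_mem (Subgroup.mem_sup_left (hX_mem r t))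
      (Subgroup.mem_sup_right (Subgroup.subset_closure ⟨r, r.2, (nMat_one r).symm⟩))

theorem borel_eq : D.borelSubgroup F = BX xG := by rw [ChevalleyDatum.borelSubgroup, posU_eq, diag_eq, BX]

theorem group_eq : D.group F = XS xG Set.univ := by
  rw [ChevalleyDatum.group, XS]
  congr 1
  ext g
  simp only [xMat_eq, Set.mem_ofPred_eq, Set.mem_univ, true_and, Units.ext_iff, coe_xG]

theorem group_eq_G1 : D.group F = G1 xG (MonoidHom.id _) 1 := by rw [group_eq, sys_xG.G1_id]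

/-- a set of indices as a set of fundamental roots -/
def toIx (D : ChevalleyDatum) (J : Set ℕ) : Set (Ix D) := {i | (i : ℕ) ∈ J}

theorem inRootSub_iff (J : Set ℕ) (r : Rt D) : D.InRootSub J r ↔ InJ (toIx D J) r := by
  simp only [ChevalleyDatum.InRootSub, r.2, true_and, InJ]
  exact ⟨fun h i hi => (cr_sign r i).2.2.1 (h i i.2 hi), fun h i hi hi' => (cr_sign r ⟨i, hi⟩).2.2.2 (h _ hi')⟩

theorem parabolic_eq (J : Set ℕ) : D.parabolicSubgroup F J = PX xG (toIx D J) := by
  rw [ChevalleyDatum.parabolicSubgroup, borel_eq, PX]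
  congr 2
  ext g
  constructor
  · rintro ⟨j, hj, hj', e⟩
    exact ⟨⟨j, hj'⟩, hj, Units.ext (e.trans (nMat_one (sim ⟨j, hj'⟩))).symm⟩
  · rintro ⟨j, hj, rfl⟩
    exact ⟨j, hj, j.2, (nMat_one (sim j)).symm⟩

theorem radical_eq (J : Set ℕ) : D.unipotentRadical F J = UJ xG (toIx D J) := by
  have := closure_x_eq F (fun r => D.IsPosRoot r ∧ ¬ D.InRootSub J r) fun _ h => h.1.1
  simp only [and_assoc, isPosRoot_iff, inRootSub_iff] at this
  exact this

theorem levi_eq (J : Set ℕ) : D.leviSubgroup F J = LX xG (toIx D J) := by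
  rw [ChevalleyDatum.leviSubgroup, diag_eq, closure_x_eq F _ fun _ h => h.1, LX]
  simp only [inRootSub_iff]

variable {F}

section ordered

variable {Γ : Type*} [Group Γ] {x : Rt D → F → Γ} {θ : Γ →* GL D.Idx F}

omit G in
theorem prod_mem_XS {S : Set (Rt D)} {L : List (Rt D)} (h : ∀ r ∈ L, r ∈ S) (t : Rt D → F) :
    (L.map fun r => x r (t r)).prod ∈ XS x S :=
  Subgroup.list_prod_mem _ fun g hg => by
    obtain ⟨r, hr, rfl⟩ := List.mem_map.1 hg
    exact mem_XS (h r hr) _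

theorem Sys.exists_prod (hS : Sys x θ) {l : Fn D} (L : List (Rt D))
    (hL : L.Pairwise fun a b => l (co a) ≤ l (co b) ∧ a ≠ b)
    (hc : Closed {r | r ∈ L}) (hp : PosOn l {r | r ∈ L}) {g : Γ} (hg : g ∈ XS x {r | r ∈ L}) :
    ∃ t : Rt D → F, g = (L.map fun r => x r (t r)).prod := by
  classical
  induction L generalizing g with
  | nil => exact ⟨0, by simpa [XS_empty] using hg⟩
  | cons a L ih =>
    rw [List.pairwise_cons] at hL
    have hmin : ∀ r ∈ {r | r ∈ a :: L}, l (co a) ≤ l (co r) := by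
      rintro r (_ | ⟨_, hr⟩)
      exacts [le_rfl, (hL.1 r hr).1]
    have e : {r | r ∈ a :: L} \ {a} = {r | r ∈ L} := by
      ext r
      simp only [List.mem_cons, Set.mem_sdiff, Set.mem_ofPred_eq, Set.mem_singleton_iff]
      exact ⟨fun h => h.1.resolve_left h.2, fun h => ⟨Or.inr h, (hL.1 r h).2.symm⟩⟩
    obtain ⟨t, b, hb, rfl⟩ := hS.exists_split (Set.subset_univ _) hc hp List.mem_cons_self hg
    obtain ⟨t', rfl⟩ := ih hL.2 (e ▸ Loc.closed_diff hc hp hmin) (hp.mono fun r hr => List.mem_cons_of_mem _ hr)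
      (e ▸ hb)
    refine ⟨Function.update t' a t, ?_⟩
    rw [List.map_cons, List.prod_cons, Function.update_self]
    congr 2
    exact List.map_congr_left fun r hr => by rw [Function.update_of_ne (hL.1 r hr).2.symm]

theorem Sys.prod_inj (hS : Sys x θ) {l : Fn D} (L : List (Rt D))
    (hL : L.Pairwise fun a b => l (co a) ≤ l (co b) ∧ a ≠ b) (hp : PosOn l {r | r ∈ L}) {t t' : Rt D → F}
    (h : (L.map fun r => x r (t r)).prod = (L.map fun r => x r (t' r)).prod) : ∀ r ∈ L, t r = t' r := by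
  induction L with
  | nil => simp
  | cons a L ih =>
    rw [List.pairwise_cons] at hL
    have hmin : ∀ r ∈ {r | r ∈ a :: L}, l (co a) ≤ l (co r) := by
      rintro r (_ | ⟨_, hr⟩)
      exacts [le_rfl, (hL.1 r hr).1]
    have hm : ∀ r ∈ L, r ∈ {r | r ∈ a :: L} \ {a} := fun r hr => ⟨List.mem_cons_of_mem _ hr, (hL.1 r hr).2.symm⟩
    simp only [List.map_cons, List.prod_cons] at h
    have h1 : - t' a + t a = 0 := hS.eq_zero_of_mem (Set.subset_univ _) hp List.mem_cons_self hmin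
      (mul_mem (prod_mem_XS hm t) (inv_mem (prod_mem_XS hm t'))) (by
        rw [← hS.x_add, hS.x_neg, mul_assoc, ← mul_assoc (x a (t a)), h]; simp)
    have h2 : t a = t' a := by linear_combination h1
    rw [h2, mul_right_inj] at h
    intro r hr
    rcases List.mem_cons.1 hr with rfl | hr
    · exact h2
    · exact ih hL.2 (hp.mono fun r hr => List.mem_cons_of_mem _ hr) h r hr

end ordered

/-- the list of positive roots -/
def posL (D : ChevalleyDatum) [Good D] : List (Rt D) := (List.finRange D.nroots).filter fun r => Pos r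

theorem mem_posL {r : Rt D} : r ∈ posL D ↔ Pos r := by simp [posL]

theorem posRoots_eq : D.posRoots = (posL D).map Fin.val := by
  rw [ChevalleyDatum.posRoots, posL, ← List.map_coe_finRange_eq_range, List.filter_map]
  congr 1
  exact List.filter_congr fun r _ => by simp [isPosRoot_iff]

theorem posL_pairwise : (posL D).Pairwise fun a b => fF D (co a) ≤ fF D (co b) ∧ a ≠ b :=
  ((List.sortedLT_finRange _).pairwise.filter _).imp fun h => ⟨(f_strictMono h).le, h.ne⟩

theorem wordMat_map (L : List (Rt D)) (t : ℕ → F) :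
    D.wordMat F ((L.map Fin.val).map fun r => (r, t r)) = ((L.map fun r => xG r (t r)).prod : GL D.Idx F) := by
  induction L with
  | nil => rfl
  | cons a L ih => simp only [List.map_cons, wordMat_cons, List.prod_cons, Units.val_mul, ih, x_eq, coe_xG]

theorem two_mul_ncard_pos : 2 * {r : Rt D | Pos r}.ncard = D.nroots := by
  have h1 : {r : Rt D | Pos r}ᶜ = ng '' {r : Rt D | Pos r} := by
    ext r
    simp only [Set.mem_compl_iff, Set.mem_ofPred_eq, Set.mem_image]
    exact ⟨fun h => ⟨ng r, (pos_ng r).2 h, ng_ng r⟩, by rintro ⟨s, hs, rfl⟩; rwa [pos_ng, not_not]⟩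
  have := Set.ncard_add_ncard_compl {r : Rt D | Pos r}
  rw [h1, Set.ncard_image_of_injective _ (fun _ _ => ng_inj.1)] at this
  simpa [two_mul] using this

theorem card_U [Finite F] : Nat.card (UX (xG : Rt D → F → GL D.Idx F)) = Nat.card F ^ (D.nroots / 2) := by
  rw [UX, loc_xG.card (Set.subset_univ _) closed_pos posOn_pos, ← two_mul_ncard_pos]
  simp

theorem wl_w0 : wl sw (w0J (Set.univ : Set (Ix D))) = D.nroots / 2 := by
  rw [wl_eq_card_inv, ← Set.ncard_coe_finset, coe_inv_w0J, ← two_mul_ncard_pos]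
  simp [InJ]

theorem H_eq_range : HX (xG : Rt D → F → GL D.Idx F) = (dg.comp (carH Fˣ)).range := by
  rw [← sys_xG.range_hP]
  congr 1
  ext c : 1
  exact sys_xG.θ_hP c

theorem mem_H_iff {g : GL D.Idx F} : g ∈ HX xG ↔ ∃ c, g = dg (carH Fˣ c) := by
  rw [H_eq_range]; exact ⟨fun ⟨c, h⟩ => ⟨c, h.symm⟩, fun ⟨c, h⟩ => ⟨c, h.symm⟩⟩

theorem core_eq_bot : ((D.borelSubgroup F).subgroupOf (D.group F)).normalCore = ⊥ := by
  rw [group_eq_G1, borel_eq]
  refine sys_xG.fold_id.core_eq_bot sys_xG Function.injective_id fun i => ⟨1, one_ne_zero, 1, one_mem _, ?_⟩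
  rw [sys_xG.G1_id, mul_one]; exact mem_XS (Set.mem_univ _) _

section perfect

variable {Γ : Type*} [Group Γ] {x : Rt D → F → Γ} {θ : Γ →* GL D.Idx F} (hS : Sys x θ)
include hS

theorem Sys.mem_comm_of_h {K : Subgroup Γ} {r : Rt D} {h : Γ} {c : F} (hc : c ≠ 1) (hh : h ∈ K)
    (hx : ∀ t, x r t ∈ K) (e : ∀ t, h * x r t * h⁻¹ = x r (c * t)) (t : F) : x r t ∈ ⁅K, K⁆ := by
  have := Subgroup.commutator_mem_commutator hh (hx ((c - 1)⁻¹ * t))
  rw [commutatorElement_def, e, ← hS.x_neg, hS.x_add] at this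
  convert this using 2
  field_simp [sub_ne_zero.2 hc]
  ring

theorem Sys.mem_comm_of_cT {K : Subgroup Γ} {a b : Rt D} {c : Rt D × ℤ × ℕ × ℕ} (hc : c ∈ cT a b)
    (h2 : c.2.1 = 1 ∨ c.2.1 = -1) (h3 : c.2.2.2 = 1) (t : F) (ha : x a (-1) ∈ K) (hb : x b (c.2.1 * t) ∈ K)
    (ho : ∀ c' ∈ cT a b, c' ≠ c → ∀ t, x c'.1 t ∈ ⁅K, K⁆) : x c.1 t ∈ ⁅K, K⁆ := by
  have h0 := ne_of_N (N_ne_of_mem_cT hc)
  have e := hS.comm a trivial b trivial h0.1 h0.2 (-1) (c.2.1 * t)
  have := Subgroup.commutator_mem_commutator (inv_mem hb) (inv_mem ha)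
  rw [commutatorElement_def, inv_inv, inv_inv, mul_assoc, e] at this
  have h4 := mem_of_cwL_mem (nodup_cT a b).of_map hc ho (t := -1) (u := c.2.1 * t)
    (by simpa [mul_assoc] using this)
  convert h4 using 2
  rcases h2 with h | h <;> simp [h, h3]

theorem Sys.conj_comm {K : Subgroup Γ} {n g : Γ} (hn : n ∈ K) (hg : g ∈ ⁅K, K⁆) : n * g * n⁻¹ ∈ ⁅K, K⁆ := by
  have := mul_mem (Subgroup.commutator_mem_commutator hn (Subgroup.commutator_le.2 (fun a ha b hb =>
    mul_mem (mul_mem (mul_mem ha hb) (inv_mem ha)) (inv_mem hb)) hg)) hg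
  simpa [commutatorElement_def] using this

theorem Sys.comm_of_W {r : Rt D} (h : ∀ t, x r t ∈ ⁅XS x Set.univ, XS x Set.univ⁆) (w : W D) (t : F) :
    x (w.1 r) t ∈ ⁅XS x Set.univ, XS x Set.univ⁆ := by
  obtain ⟨n, hn⟩ := hS.exists_lift w
  obtain ⟨c, hc⟩ := hn.2 r
  rw [← Units.mul_inv_cancel_left c t, ← hc]
  exact hS.conj_comm (NX_le_XS hn.1) (h _)

end perfect

theorem perfect_of_sim (h : ∀ i (t : F), xG (sim i : Rt D) t ∈
      ⁅XS (xG : Rt D → F → GL D.Idx F) Set.univ, XS (xG : Rt D → F → GL D.Idx F) Set.univ⁆) :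
    commutator (D.group F) = ⊤ := by
  rw [group_eq_G1]
  refine sys_xG.fold_id.perfect_of sys_xG fun i u hu _ => ?_
  rw [PO_one] at hu
  obtain ⟨t, rfl⟩ := (loc_xG.mem_single (Set.mem_univ _)).1 hu
  rw [sys_xG.G1_id]; exact h i t

theorem simple_of_perfect (h : commutator (D.group F) = ⊤) :
    IsSimpleGroup (D.group F) ∧ ¬ IsMulCommutative (D.group F) := by
  have := core_eq_bot (D := D) (F := F)
  rw [group_eq_G1, borel_eq] at *
  exact sys_xG.fold_id.simple sys_xG this h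

end Cfsg.Agent.Lie
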