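import Cfsg.Agent.Lie.Loc

set_option autoImplicit false
set_option linter.unusedSectionVars false
set_option linter.unusedSimpArgs false

/-! Steinberg's derivation of the conjugation formula for `n_r(t)`. -/

namespace Cfsg.Agent.Lie

open Cfsg.Lie
open scoped Matrix MatrixGroups

variable {D : ChevalleyDatum} [G : Good D] {F : Type*} [Field F] {Γ : Type*} [Group Γ]

theorem exists_fn {r s : Rt D} (h1 : s ≠ r) (h2 : s ≠ ng r) : ∃ l : Fn D, l (co r) = 0 ∧ 0 < l (co s) := by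
  have key : ∃ l : Fn D, l (co r) = 0 ∧ l (co s) ≠ 0 := by
    by_contra hc
    push Not at hc
    obtain ⟨j, hj⟩ := Function.ne_iff.1 (co_ne_zero r)
    refine hj (indep h1 h2 (i := - co s j) (j := co r j) ?_).2
    funext k
    have := hc (co r j • Pi.evalAddMonoidHom (fun _ => ℤ) k - co r k • Pi.evalAddMonoidHom (fun _ => ℤ) j)
      (by simp [mul_comm])
    simp at this ⊢
    linarith
  obtain ⟨l, h3, h4⟩ := key
  rcases lt_or_gt_of_ne h4 with h | h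
  · exact ⟨-l, by simp [h3], by simpa using h⟩
  · exact ⟨l, h3, h⟩

theorem exists_fn2 {r s : Rt D} (h1 : s ≠ r) (h2 : s ≠ ng r) : ∃ l : Fn D, 0 < l (co r) ∧ 0 < l (co s) := by
  obtain ⟨l, h3, h4⟩ := exists_fn h1 h2
  obtain ⟨l', h5, h6⟩ := exists_fn h1.symm (fun h => h2 (eq_ng_comm.1 h))
  exact ⟨l + l', by simpa [h3] using h6, by simpa [h5] using h4⟩

/-- the roots in the lattice spanned by two roots -/
def Span2 (r s : Rt D) : Set (Rt D) := {u | ∃ i j : ℤ, co u = i • co r + j • co s}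

theorem left_mem_Span2 (r s : Rt D) : r ∈ Span2 r s := ⟨1, 0, by simp⟩
theorem right_mem_Span2 (r s : Rt D) : s ∈ Span2 r s := ⟨0, 1, by simp⟩
theorem ng_mem_Span2 {r s u : Rt D} (h : u ∈ Span2 r s) : ng u ∈ Span2 r s := by
  obtain ⟨i, j, h⟩ := h
  exact ⟨-i, -j, by rw [co_ng, h]; module⟩
theorem Span2_subset {r s a b : Rt D} (ha : a ∈ Span2 r s) (hb : b ∈ Span2 r s) : Span2 a b ⊆ Span2 r s := by
  obtain ⟨i, j, ha⟩ := ha
  obtain ⟨k, l, hb⟩ := hb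
  rintro u ⟨m, n, h⟩
  exact ⟨m * i + n * k, m * j + n * l, by rw [h, ha, hb]; module⟩
theorem rf_mem_Span2 (r s : Rt D) : (rf r).1 s ∈ Span2 r s := ⟨- A r s, 1, by rw [co_rf]; module⟩

omit G in
theorem map_nX {Γ' : Type*} [Group Γ'] (φ : Γ →* Γ') {x : Rt D → F → Γ} {y : Rt D → F → Γ'} {r : Rt D}
    (h : ∀ t, φ (x r t) = y r t) (h' : ∀ t, φ (x (ng r) t) = y (ng r) t) (t : Fˣ) :
    φ (nX x r t) = nX y r t := by simp only [nX, map_mul, h, h']

omit G in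
theorem map_hX {Γ' : Type*} [Group Γ'] (φ : Γ →* Γ') {x : Rt D → F → Γ} {y : Rt D → F → Γ'} {r : Rt D}
    (h : ∀ t, φ (x r t) = y r t) (h' : ∀ t, φ (x (ng r) t) = y (ng r) t) (t : Fˣ) :
    φ (hX x r t) = hX y r t := by simp only [hX, map_mul, map_nX φ h h']

omit G in
theorem nX_mem {x : Rt D → F → Γ} {K : Subgroup Γ} {r : Rt D} (h : ∀ t, x r t ∈ K) (h' : ∀ t, x (ng r) t ∈ K)
    (t : Fˣ) : nX x r t ∈ K := mul_mem (mul_mem (h _) (h' _)) (h _)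

theorem split_cT (r : Rt D) : ∃ a b : Rt D, ∃ c ∈ cT a b, c.1 = r ∧ (c.2.1 = 1 ∨ c.2.1 = -1) ∧ c.2.2.2 = 1 := by
  obtain ⟨a, ha, b, hb, h0, h⟩ := G.is.split r r.2
  lift a to Rt D using ha
  lift b to Rt D using hb
  change N a b ≠ 0 at h0
  refine ⟨a, b, ?_⟩
  rcases h with ⟨h1, h2⟩ | ⟨h1, h2, h3⟩
  · refine ⟨(add a b, N a b, 1, 1), ?_, Fin.ext h1, h2, rfl⟩
    unfold cT; split_ifs <;> simp_all
  · change N a (add a b) ≠ 0 at h1
    refine ⟨(add a (add a b), M2 a b, 2, 1), ?_, Fin.ext h2, h3, rfl⟩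
    unfold cT; split_ifs <;> simp_all

namespace Loc

variable {Ψ : Set (Rt D)} {x : Rt D → F → Γ} {θ : Γ →* GL D.Idx F} (hL : Loc Ψ x θ)
include hL

theorem map_nX {r : Rt D} (hr : r ∈ Ψ) (hr' : ng r ∈ Ψ) (t : Fˣ) : θ (nX x r t) = nX xG r t :=
  Lie.map_nX θ (hL.map r hr) (hL.map _ hr') t

theorem map_hX {r : Rt D} (hr : r ∈ Ψ) (hr' : ng r ∈ Ψ) (t : Fˣ) : θ (hX x r t) = dg (coch r t) := by
  rw [Lie.map_hX θ (hL.map r hr) (hL.map _ hr') t, hG_eq]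

theorem nX_neg {r : Rt D} (hr : r ∈ Ψ) (hr' : ng r ∈ Ψ) (t : Fˣ) : nX x r (-t) = (nX x r t)⁻¹ := by
  simp only [nX, mul_inv_rev, ← hL.neg hr, ← hL.neg hr', inv_neg, Units.val_neg, mul_assoc]

theorem nconj_of_ne {r s : Rt D} (h1 : s ≠ r) (h2 : s ≠ ng r) (hΨ : Span2 r s ⊆ Ψ) (t : Fˣ) (u : F) :
    nX x r t * x s u * (nX x r t)⁻¹ = x ((rf r).1 s) ((eta r s : F) * (t ^ (- A r s) : Fˣ) * u) := by
  obtain ⟨l, hl0, hl⟩ := exists_fn h1 h2
  have hr := left_mem_Span2 r s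
  have hs := right_mem_Span2 r s
  let T : Set (Rt D) := {v | v ∈ Span2 r s ∧ 0 < l (co v)}
  have hT : T ⊆ Ψ := fun v hv => hΨ hv.1
  have hp : PosOn l T := fun v hv => hv.2
  have hcomb : ∀ a ∈ Span2 r s, 0 ≤ l (co a) → ∀ b ∈ T, ∀ v, Comb a b v → v ∈ T := by
    intro a ha h0 b hb v hv
    have := hv.le h0 hb.2.le
    have := hb.2
    obtain ⟨i, j, -, -, e⟩ := hv
    exact ⟨Span2_subset ha hb.1 ⟨i, j, e⟩, by omega⟩
  have hc : Closed T := fun a ha b hb => hcomb a ha.1 ha.2.le b hb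
  have hn : nX x r t ∈ XS x {r, ng r} := nX_mem (fun _ => mem_XS (by simp) _) (fun _ => mem_XS (by simp) _) t
  have hw : (rf r).1 s ∈ T := ⟨rf_mem_Span2 r s, by
    rw [co_rf, map_sub, map_zsmul, hl0]; simpa using hl⟩
  refine hL.eq_of_map_eq hT hc hp (hL.conj_mem' ?_ hT ?_ hn (mem_XS (S := T) ⟨hs, hl⟩ u)) (mem_XS hw _) ?_
  · rintro a (rfl | rfl)
    exacts [hΨ hr, hΨ (ng_mem_Span2 hr)]
  · rintro a ha b hb
    have h3 : a ∈ Span2 r s ∧ l (co a) = 0 := by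
      rcases ha with rfl | rfl
      exacts [⟨hr, hl0⟩, ⟨ng_mem_Span2 hr, by simp [hl0]⟩]
    refine ⟨?_, hcomb a h3.1 h3.2.ge b hb⟩
    rintro rfl
    have := hb.2
    simp [h3.2] at this
  · rw [map_mul, map_mul, map_inv, hL.map_nX (hΨ hr) (hΨ (ng_mem_Span2 hr)), hL.map _ (hΨ hs),
      hL.map _ (hT hw), nG_conj]

theorem nconj_self {r a b : Rt D} {c : Rt D × ℤ × ℕ × ℕ} (hc : c ∈ cT a b) (h1 : c.1 = r)
    (h2 : c.2.1 = 1 ∨ c.2.1 = -1) (h3 : c.2.2.2 = 1) (hΨ : Span2 a b ⊆ Ψ) {p : Rt D} (hp : p = r ∨ p = ng r)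
    (t : Fˣ) (u : F) :
    nX x p t * x r u * (nX x p t)⁻¹ = x ((rf p).1 r) ((eta p r : F) * (t ^ (- A p r) : Fˣ) * u) := by
  have h0 := ne_of_N (N_ne_of_mem_cT hc)
  obtain ⟨l, hla, hlb⟩ := exists_fn2 h0.1 h0.2
  have hcr : Comb a b r := h1 ▸ comb_of_mem_cT hc
  have ha := left_mem_Span2 a b
  have hb := right_mem_Span2 a b
  have hr : r ∈ Span2 a b := by obtain ⟨i, j, -, -, e⟩ := hcr; exact ⟨i, j, e⟩
  have hpS : p ∈ Span2 a b := by rcases hp with rfl | rfl; exacts [hr, ng_mem_Span2 hr]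
  have hlr := hcr.le hla.le hlb.le
  let l' : Fn D := l.comp (Lw (rf p).1).toAddMonoidHom
  have hl' : ∀ v, l' (co v) = l (co ((rf p).1 v)) := fun v => by rw [co_aut (W_aut _)]; rfl
  let T : Set (Rt D) := {v | v ∈ Span2 a b ∧ 0 < l' (co v)}
  have hT : T ⊆ Ψ := fun v hv => hΨ hv.1
  have hpos : PosOn l' T := fun v hv => hv.2
  have hcl : Closed T := by
    intro v hv w hw y hy
    have := hy.le hv.2.le hw.2.le
    have := hv.2
    have := hw.2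
    obtain ⟨i, j, -, -, e⟩ := hy
    exact ⟨Span2_subset hv.1 hw.1 ⟨i, j, e⟩, by omega⟩
  have hw : ∀ v ∈ Span2 a b, 0 < l (co v) → (rf p).1 v ∈ T := fun v hv h =>
    ⟨Span2_subset hpS hv (rf_mem_Span2 p v), by rwa [hl', rf_rf]⟩
  let K : Subgroup Γ := (XS x T).comap (MulAut.conj (nX x p t)).toMonoidHom
  have hK : ∀ v ∈ Span2 a b, 0 < l (co v) → v ≠ r → ∀ u, x v u ∈ K := by
    intro v hv h hne u
    have hne' : v ≠ ng r := by rintro rfl; simp at h; omega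
    change nX x p t * x v u * (nX x p t)⁻¹ ∈ XS x T
    rw [hL.nconj_of_ne _ _ ((Span2_subset hpS hv).trans hΨ)]
    · exact mem_XS (hw v hv h) _
    · rcases hp with rfl | rfl; exacts [hne, hne']
    · rcases hp with rfl | rfl; exacts [hne', by rwa [ng_ng]]
  have hm : x r u ∈ K := by
    have e := hL.comm a (hΨ ha) b (hΨ hb) h0.1 h0.2 (-1) (c.2.1 * u)
    have hKa := hK a ha hla (by rintro rfl; omega) (-1)
    have hKb := hK b hb hlb (by rintro rfl; omega) (c.2.1 * u)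
    have h4 : cwL x (cT a b) (-1) (c.2.1 * u) ∈ K := by
      rw [← Subgroup.mul_mem_cancel_left K (mul_mem hKa hKb), ← e]
      exact mul_mem hKb hKa
    have h5 := mem_of_cwL_mem (nodup_cT a b).of_map hc (fun c' hc' hne => by
      have hcc := comb_of_mem_cT hc'
      have := hcc.le hla.le hlb.le
      obtain ⟨i, j, -, -, e⟩ := hcc
      exact hK _ ⟨i, j, e⟩ (by omega) (fun h => hne (eq_of_mem_cT hc hc' (h.trans h1.symm)))) h4
    rw [h1, h3] at h5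
    convert h5 using 2
    rcases h2 with h | h <;> simp [h]
  refine hL.eq_of_map_eq hT hcl hpos hm (mem_XS (hw r hr (by omega)) _) ?_
  rw [map_mul, map_mul, map_inv, hL.map_nX (hΨ hpS) (hΨ (ng_mem_Span2 hpS)), hL.map _ (hΨ hr),
    hL.map _ (hT (hw r hr (by omega))), nG_conj]

end Loc

theorem Loc.nconj {x : Rt D → F → Γ} {θ : Γ →* GL D.Idx F} (hL : Loc Set.univ x θ) (r : Rt D) (t : Fˣ)
    (s : Rt D) (u : F) :
    nX x r t * x s u * (nX x r t)⁻¹ = x ((rf r).1 s) ((eta r s : F) * (t ^ (- A r s) : Fˣ) * u) := by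
  by_cases h : r = s ∨ r = ng s
  · obtain ⟨a, b, c, hc, h1, h2, h3⟩ := split_cT s
    exact hL.nconj_self hc h1 h2 h3 (Set.subset_univ _) h t u
  · push Not at h
    exact hL.nconj_of_ne h.1.symm (fun h' => h.2 (eq_ng_comm.1 h')) (Set.subset_univ _) t u

end Cfsg.Agent.Lie
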