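import Cfsg.Agent.Lie.TwDataE6
import Cfsg.Agent.Lie.EmbE6E7
import Cfsg.Prelude.Def_LieTwisted

set_option autoImplicit false
set_option linter.unusedSectionVars false
set_option linter.unusedSimpArgs false
set_option maxRecDepth 100000

/-! The groups `²E₆(q)`. -/

namespace Cfsg.Agent.Lie.E6T

open Cfsg.Lie
open scoped Matrix MatrixGroups commutatorElement

local notation "ι" k:max => (⟨k, by decide⟩ : Ix chevE6)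

variable {K : Type*} [Field K] [Fintype K] {q : ℕ} (hK : Fintype.card K = q ^ 2) {φ : K →+* K}
  (hφ : ∀ t, φ t = t ^ q) {σ : chevE6.group K →* chevE6.group K} (hT : Tw xA σ embE6 φ embE60)

include hK hφ in
theorem φφ (t : K) : φ (φ t) = t := by rw [hφ, hφ, ← pow_mul, ← sq, ← hK, FiniteField.pow_card]

include hT

theorem ms (i : Ix chevE6) (t : K) : σ (xA (sim i) t) = xA (sim (embE60 i)) (φ t) := by
  simpa [embE6] using hT.map_sim i t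
theorem mn (i : Ix chevE6) (t : K) : σ (xA (ng (sim i)) t) = xA (ng (sim (embE60 i))) (φ t) := by
  simpa [embE6] using hT.map_ng i t

omit hT in
theorem c05 : ∀ a' ∈ [sim (ι 0), ng (sim (ι 0))], ∀ b' ∈ [sim (ι 5), ng (sim (ι 5))], ∀ t u : K,
    Commute (xA a' t) (xA b' u) := sys_xA.comm4 (p := 0) (by simp) (by decide +kernel)
omit hT in
theorem c24 : ∀ a' ∈ [sim (ι 2), ng (sim (ι 2))], ∀ b' ∈ [sim (ι 4), ng (sim (ι 4))], ∀ t u : K,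
    Commute (xA a' t) (xA b' u) := sys_xA.comm4 (p := 0) (by simp) (by decide +kernel)

theorem fP1 (g) : g ∈ XS xA (PO embE60 (ι 1)) ∧ σ g = g ↔ ∃ t : {t // φ t = t}, g = xA (sim (ι 1)) t.1 :=
  sys_xA.fix1 POE6_1 (ms hT (ι 1)) g
theorem fN1 (g) : g ∈ XS xA (NO embE60 (ι 1)) ∧ σ g = g ↔ ∃ t : {t // φ t = t}, g = xA (ng (sim (ι 1))) t.1 :=
  sys_xA.fix1 NOE6_1 (mn hT (ι 1)) g
theorem fP3 (g) : g ∈ XS xA (PO embE60 (ι 3)) ∧ σ g = g ↔ ∃ t : {t // φ t = t}, g = xA (sim (ι 3)) t.1 :=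
  sys_xA.fix1 POE6_3 (ms hT (ι 3)) g
theorem fN3 (g) : g ∈ XS xA (NO embE60 (ι 3)) ∧ σ g = g ↔ ∃ t : {t // φ t = t}, g = xA (ng (sim (ι 3))) t.1 :=
  sys_xA.fix1 NOE6_3 (mn hT (ι 3)) g

include hK hφ

theorem fP0 (g) : g ∈ XS xA (PO embE60 (ι 0)) ∧ σ g = g ↔ ∃ t, g = xA (sim (ι 0)) t * xA (sim (ι 5)) (φ t) :=
  sys_xA.fix2 srtPOE6_0 (closed_PO _ _) POE6_0 (c05 _ (by simp) _ (by simp)) (ms hT (ι 0)) (ms hT (ι 5))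
    (φφ hK hφ) g
theorem fN0 (g) : g ∈ XS xA (NO embE60 (ι 0)) ∧ σ g = g ↔
    ∃ t, g = xA (ng (sim (ι 0))) t * xA (ng (sim (ι 5))) (φ t) :=
  sys_xA.fix2 srtNOE6_0 (closed_NO _ _) NOE6_0 (c05 _ (by simp) _ (by simp)) (mn hT (ι 0)) (mn hT (ι 5))
    (φφ hK hφ) g
theorem fP2 (g) : g ∈ XS xA (PO embE60 (ι 2)) ∧ σ g = g ↔ ∃ t, g = xA (sim (ι 2)) t * xA (sim (ι 4)) (φ t) :=
  sys_xA.fix2 srtPOE6_2 (closed_PO _ _) POE6_2 (c24 _ (by simp) _ (by simp)) (ms hT (ι 2)) (ms hT (ι 4))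
    (φφ hK hφ) g
theorem fN2 (g) : g ∈ XS xA (NO embE60 (ι 2)) ∧ σ g = g ↔
    ∃ t, g = xA (ng (sim (ι 2))) t * xA (ng (sim (ι 4))) (φ t) :=
  sys_xA.fix2 srtNOE6_2 (closed_NO _ _) NOE6_2 (c24 _ (by simp) _ (by simp)) (mn hT (ι 2)) (mn hT (ι 4))
    (φφ hK hφ) g

omit hK hφ in
theorem mP1 {t : K} (h : φ t = t) : xA (sim (ι 1)) t ∈ G1 xA σ embE60 :=
  (((fP1 hT _).2 ⟨⟨t, h⟩, rfl⟩).elim mem_G1_pos)
omit hK hφ in
theorem mN1 {t : K} (h : φ t = t) : xA (ng (sim (ι 1))) t ∈ G1 xA σ embE60 :=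
  (((fN1 hT _).2 ⟨⟨t, h⟩, rfl⟩).elim mem_G1_neg)
omit hK hφ in
theorem mP3 {t : K} (h : φ t = t) : xA (sim (ι 3)) t ∈ G1 xA σ embE60 :=
  (((fP3 hT _).2 ⟨⟨t, h⟩, rfl⟩).elim mem_G1_pos)
omit hK hφ in
theorem mN3 {t : K} (h : φ t = t) : xA (ng (sim (ι 3))) t ∈ G1 xA σ embE60 :=
  (((fN3 hT _).2 ⟨⟨t, h⟩, rfl⟩).elim mem_G1_neg)
theorem mP0 (t : K) : xA (sim (ι 0)) t * xA (sim (ι 5)) (φ t) ∈ G1 xA σ embE60 :=
  (((fP0 hK hφ hT _).2 ⟨t, rfl⟩).elim mem_G1_pos)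
theorem mN0 (t : K) : xA (ng (sim (ι 0))) t * xA (ng (sim (ι 5))) (φ t) ∈ G1 xA σ embE60 :=
  (((fN0 hK hφ hT _).2 ⟨t, rfl⟩).elim mem_G1_neg)
theorem mP2 (t : K) : xA (sim (ι 2)) t * xA (sim (ι 4)) (φ t) ∈ G1 xA σ embE60 :=
  (((fP2 hK hφ hT _).2 ⟨t, rfl⟩).elim mem_G1_pos)
theorem mN2 (t : K) : xA (ng (sim (ι 2))) t * xA (ng (sim (ι 4))) (φ t) ∈ G1 xA σ embE60 :=
  (((fN2 hK hφ hT _).2 ⟨t, rfl⟩).elim mem_G1_neg)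

theorem isTw (hσ : Function.Injective σ) : IsTw (twistedE6 K q) σ hT.ok.perm embE60 := by
  refine ⟨hT.fold hσ fun i => ?_, genSubgroup_eq ?_ fun g i hg h => ?_⟩
  · obtain ⟨k, hk⟩ := repE6_orb i
    rw [NO_eq hk]
    fin_cases k
    · obtain ⟨h1, h2⟩ := (fN1 hT _).2 ⟨⟨1, map_one φ⟩, rfl⟩
      exact ⟨_, h1, h2, fun e => one_ne_zero (sys_xA.x_eq_one e)⟩
    · obtain ⟨h1, h2⟩ := (fN3 hT _).2 ⟨⟨1, map_one φ⟩, rfl⟩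
      exact ⟨_, h1, h2, fun e => one_ne_zero (sys_xA.x_eq_one e)⟩
    · obtain ⟨h1, h2⟩ := (fN2 hK hφ hT _).2 ⟨1, rfl⟩
      exact ⟨_, h1, h2, sys_xA.ne2 srtNOE6_2 _⟩
    · obtain ⟨h1, h2⟩ := (fN0 hK hφ hT _).2 ⟨1, rfl⟩
      exact ⟨_, h1, h2, sys_xA.ne2 srtNOE6_0 _⟩
  · rintro w (⟨t, ht, r, hr, rfl⟩ | ⟨t, r, hr, rfl⟩)
    · rw [← hφ] at ht
      simp only [List.mem_cons, List.not_mem_nil, or_false] at hr
      rcases hr with rfl | rfl | rfl | rfl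
      exacts [⟨_, mP1 hT ht, coe1 _ _⟩, ⟨_, mN1 hT ht, coe1 _ _⟩,
        ⟨_, mP3 hT ht, coe1 _ _⟩, ⟨_, mN3 hT ht, coe1 _ _⟩]
    · rw [← hφ]
      simp only [List.mem_cons, List.not_mem_nil, or_false] at hr
      rcases hr with rfl | rfl | rfl | rfl
      exacts [⟨_, mP0 hK hφ hT t, coe2 _ _ _ _⟩,
        ⟨_, mN0 hK hφ hT t, coe2 _ _ _ _⟩,
        ⟨_, mP2 hK hφ hT t, coe2 _ _ _ _⟩,
        ⟨_, mN2 hK hφ hT t, coe2 _ _ _ _⟩]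
  · obtain ⟨k, hk⟩ := repE6_orb i
    rw [PO_eq hk, NO_eq hk] at h
    fin_cases k <;> rcases h with h | h
    · obtain ⟨t, rfl⟩ := (fP1 hT _).1 ⟨h, hg⟩
      exact ⟨_, Or.inl ⟨t, hφ _ ▸ t.2, e6p2, by simp, rfl⟩, coe1 _ _⟩
    · obtain ⟨t, rfl⟩ := (fN1 hT _).1 ⟨h, hg⟩
      exact ⟨_, Or.inl ⟨t, hφ _ ▸ t.2, e6m2, by simp, rfl⟩, coe1 _ _⟩
    · obtain ⟨t, rfl⟩ := (fP3 hT _).1 ⟨h, hg⟩
      exact ⟨_, Or.inl ⟨t, hφ _ ▸ t.2, e6p4, by simp, rfl⟩, coe1 _ _⟩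
    · obtain ⟨t, rfl⟩ := (fN3 hT _).1 ⟨h, hg⟩
      exact ⟨_, Or.inl ⟨t, hφ _ ▸ t.2, e6m4, by simp, rfl⟩, coe1 _ _⟩
    · obtain ⟨t, rfl⟩ := (fP2 hK hφ hT _).1 ⟨h, hg⟩
      exact ⟨_, Or.inr ⟨t, (e6p3, e6p5), by simp, rfl⟩, hφ t ▸ coe2 _ _ _ _⟩
    · obtain ⟨t, rfl⟩ := (fN2 hK hφ hT _).1 ⟨h, hg⟩
      exact ⟨_, Or.inr ⟨t, (e6m3, e6m5), by simp, rfl⟩, hφ t ▸ coe2 _ _ _ _⟩
    · obtain ⟨t, rfl⟩ := (fP0 hK hφ hT _).1 ⟨h, hg⟩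
      exact ⟨_, Or.inr ⟨t, (e6p1, e6p6), by simp, rfl⟩, hφ t ▸ coe2 _ _ _ _⟩
    · obtain ⟨t, rfl⟩ := (fN0 hK hφ hT _).1 ⟨h, hg⟩
      exact ⟨_, Or.inr ⟨t, (e6m1, e6m6), by simp, rfl⟩, hφ t ▸ coe2 _ _ _ _⟩

theorem card_PO (hq : 1 < q) (i : Ix chevE6) :
    Nat.card (XS xA (PO embE60 i) ⊓ G1 xA σ embE60 : Subgroup _) = q ^ exE6 i ∧ (PO embE60 i).ncard = exE6 i := by
  have h1 : Nat.card {t // φ t = t} = q ^ 1 := by simpa only [hφ, pow_one] using card_fixed hq hK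
  have h2 : Nat.card K = q ^ 2 := by rw [Nat.card_eq_fintype_card, hK]
  have h3 : ∀ i j : Ix chevE6, i ∈ orb embE60 j → exE6 i = exE6 j := by
    simp only [orbDataE6.mem]; decide +kernel
  obtain ⟨k, hk⟩ := repE6_orb i
  rw [PO_eq hk, h3 _ _ hk]
  fin_cases k
  · exact ⟨(card_inf_G1 _ (fun a b e => Subtype.ext (sys_xA.x_inj e)) (fP1 hT)).trans h1,
      ncard_of_srt srtPOE6_1 POE6_1⟩
  · exact ⟨(card_inf_G1 _ (fun a b e => Subtype.ext (sys_xA.x_inj e)) (fP3 hT)).trans h1,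
      ncard_of_srt srtPOE6_3 POE6_3⟩
  · exact ⟨(card_inf_G1 _ (fun a b e => (sys_xA.inj2 srtPOE6_2 e).1) (fP2 hK hφ hT)).trans h2,
      ncard_of_srt srtPOE6_2 POE6_2⟩
  · exact ⟨(card_inf_G1 _ (fun a b e => (sys_xA.inj2 srtPOE6_0 e).1) (fP0 hK hφ hT)).trans h2,
      ncard_of_srt srtPOE6_0 POE6_0⟩

theorem core (hσ : Function.Injective σ) : ((BX xA).subgroupOf (G1 xA σ embE60)).normalCore = ⊥ := by
  refine (isTw hK hφ hT hσ).fold.core_eq_bot sys_xA Subtype.val_injective fun i => ?_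
  have h : ∀ i j : Ix chevE6, j ≠ i → ∀ t : K, xA (sim j) t ∈ XS xA {r | Pos r ∧ r ≠ sim i} :=
    fun i j h t => mem_XS (S := {r | Pos r ∧ r ≠ sim i}) ⟨pos_sim j, sim_inj.ne h⟩ t
  fin_cases i
  · exact ⟨1, one_ne_zero, _, h _ _ (by decide) _, mP0 hK hφ hT 1⟩
  · exact ⟨1, one_ne_zero, 1, one_mem _, by simpa using mP1 hT (map_one φ)⟩
  · exact ⟨1, one_ne_zero, _, h _ _ (by decide) _, mP2 hK hφ hT 1⟩
  · exact ⟨1, one_ne_zero, 1, one_mem _, by simpa using mP3 hT (map_one φ)⟩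
  · exact ⟨φ 1, by simp, _, h _ _ (by decide) _, (c24 (sim (ι 2)) (by simp) (sim (ι 4)) (by simp) 1 (φ 1)).eq ▸ mP2 hK hφ hT 1⟩
  · exact ⟨φ 1, by simp, _, h _ _ (by decide) _, (c05 (sim (ι 0)) (by simp) (sim (ι 5)) (by simp) 1 (φ 1)).eq ▸ mP0 hK hφ hT 1⟩

theorem h05 {t t' : Kˣ} (h : φ t = t') : hX xA (sim (ι 0)) t * hX xA (sim (ι 5)) t' ∈ G1 xA σ embE60 :=
  sys_xA.h_mem2 c05 (mP0 hK hφ hT) (mN0 hK hφ hT) h
theorem h24 {t t' : Kˣ} (h : φ t = t') : hX xA (sim (ι 2)) t * hX xA (sim (ι 4)) t' ∈ G1 xA σ embE60 :=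
  sys_xA.h_mem2 c24 (mP2 hK hφ hT) (mN2 hK hφ hT) h

theorem perfect (hq : 1 < q) (hσ : Function.Injective σ) : commutator (G1 xA σ embE60) = ⊤ := by
  have hF := (isTw hK hφ hT hσ).fold
  refine hF.perfect_of sys_xA fun i u hu hu' => ?_
  obtain ⟨k, hk⟩ := repE6_orb i
  rw [PO_eq hk] at hu
  obtain ⟨c, hc⟩ := exists_unit_pow_ne (F := K) two_ne_zero (by rw [hK]; nlinarith)
  have hc' : Units.map φ.toMonoidHom c ^ 2 ≠ 1 := by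
    rwa [← map_pow, Ne, map_eq_one_iff _ (Units.map_injective φ.injective)]
  fin_cases k
  · obtain ⟨t, rfl⟩ := (fP1 hT _).1 ⟨hu, hu'⟩
    exact hF.mem_comm_of_A2 sys_xA hT (a := ⟨1, by decide⟩) (b := ⟨71, by decide⟩) (k := -1) (by decide +kernel) t.2
  · obtain ⟨t, rfl⟩ := (fP3 hT _).1 ⟨hu, hu'⟩
    exact hF.mem_comm_of_A2 sys_xA hT (a := ⟨2, by decide⟩) (b := ⟨70, by decide⟩) (k := -1) (by decide +kernel) t.2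
  · refine Fold.mem_comm_of_fpf sys_xA (mul_mem (hX_mem _ _) (hX_mem _ _))
      (h24 hK hφ hT (t := c) (t' := Units.map φ.toMonoidHom c) rfl) (sys_xA.θ_hh _ _ _ _) (fun r hr => ?_) hu hu'
    rw [chv_mul, chv_coch_co, chv_coch_co]
    rcases List.mem_pair.1 ((POE6_2 r).1 hr) with rfl | rfl
    · rw [A_self, show A (sim (ι 4)) (sim (ι 2)) = 0 by decide +kernel]; simpa using hc
    · rw [A_self, show A (sim (ι 2)) (sim (ι 4)) = 0 by decide +kernel]; simpa using hc'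
  · refine Fold.mem_comm_of_fpf sys_xA (mul_mem (hX_mem _ _) (hX_mem _ _))
      (h05 hK hφ hT (t := c) (t' := Units.map φ.toMonoidHom c) rfl) (sys_xA.θ_hh _ _ _ _) (fun r hr => ?_) hu hu'
    rw [chv_mul, chv_coch_co, chv_coch_co]
    rcases List.mem_pair.1 ((POE6_0 r).1 hr) with rfl | rfl
    · rw [A_self, show A (sim (ι 5)) (sim (ι 0)) = 0 by decide +kernel]; simpa using hc
    · rw [A_self, show A (sim (ι 0)) (sim (ι 5)) = 0 by decide +kernel]; simpa using hc'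

omit hT hK hφ in
theorem mem_fixT {c : Ix chevE6 → Kˣ} : c ∈ embE6.fixT φ embE60 ↔ (c (ι 5) : K) = φ (c (ι 0)) ∧
    (c (ι 1) : K) = φ (c (ι 1)) ∧ (c (ι 4) : K) = φ (c (ι 2)) ∧ (c (ι 3) : K) = φ (c (ι 3)) ∧
    (c (ι 2) : K) = φ (c (ι 4)) ∧ (c (ι 0) : K) = φ (c (ι 5)) := by
  rw [Emb.mem_fixT]
  simp only [embE6, pow_one]
  refine ⟨fun h => ⟨h (ι 0), h (ι 1), h (ι 2), h (ι 3), h (ι 4), h (ι 5)⟩, fun h i => ?_⟩
  fin_cases i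
  exacts [h.1, h.2.1, h.2.2.1, h.2.2.2.1, h.2.2.2.2.1, h.2.2.2.2.2]

theorem hP_mem {c : Ix chevE6 → Kˣ} (hc : c ∈ embE6.fixT φ embE60) : sys_xA.hP c ∈ G1 xA σ embE60 := by
  obtain ⟨h0, h1, h2, h3, -⟩ := mem_fixT.1 hc
  rw [sys_xA.hP_eq_perm [ι 0, ι 5, ι 2, ι 4, ι 1, ι 3] (by decide +kernel)]
  simpa only [List.map_cons, List.map_nil, List.prod_cons, List.prod_nil, mul_one, mul_assoc] using
    mul_mem (mul_mem (mul_mem (h05 hK hφ hT h0.symm) (h24 hK hφ hT h2.symm))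
      (Sys.h_mem1 (fun _ => mP1 hT) (fun _ => mN1 hT) h1.symm))
      (Sys.h_mem1 (fun _ => mP3 hT) (fun _ => mN3 hT) h3.symm)

omit hT in
theorem card_fixT (hq : 1 < q) : Nat.card (embE6.fixT φ embE60) = (q ^ 2 - 1) ^ 2 * (q - 1) ^ 2 := by
  have h1 : Nat.card {t : Kˣ // φ t = t} = q - 1 := by simpa only [hφ] using card_fixed_units hq hK
  have h2 : Nat.card Kˣ = q ^ 2 - 1 := by rw [Nat.card_units, Nat.card_eq_fintype_card, hK]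
  rw [← h1, ← h2, sq, sq, ← Nat.card_prod, ← Nat.card_prod, ← Nat.card_prod]
  refine Nat.card_eq_of_bijective (fun c => ((c.1 (ι 0), c.1 (ι 2)), ⟨c.1 (ι 1), (mem_fixT.1 c.2).2.1.symm⟩,
    ⟨c.1 (ι 3), (mem_fixT.1 c.2).2.2.2.1.symm⟩)) ⟨fun c c' e => ?_, ?_⟩
  · simp only [Prod.mk.injEq, Subtype.mk.injEq] at e
    obtain ⟨⟨e0, e2⟩, e1, e3⟩ := e
    refine Subtype.ext (funext fun i => ?_)
    fin_cases i
    exacts [e0, e1, e2, e3, Units.ext (by rw [(mem_fixT.1 c.2).2.2.1, (mem_fixT.1 c'.2).2.2.1, e2]),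
      Units.ext (by rw [(mem_fixT.1 c.2).1, (mem_fixT.1 c'.2).1, e0])]
  · rintro ⟨⟨a, b⟩, c, d⟩
    exact ⟨⟨(![a, c, b, d, Units.map φ.toMonoidHom b, Units.map φ.toMonoidHom a] : Fin 6 → Kˣ),
      mem_fixT.2 ⟨rfl, c.2.symm, rfl, d.2.symm, (φφ hK hφ _).symm, (φφ hK hφ _).symm⟩⟩, rfl⟩

omit hT hK hφ in
theorem ker_add {A : Type*} [AddCommGroup A] (c : Fin 6 → A) :
    (∀ j : Fin 6, ∑ i : Fin 6, mL carE6 i j • c i = 0) ↔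
      3 • c 0 = 0 ∧ c 1 = 0 ∧ c 2 = 2 • c 0 ∧ c 3 = 0 ∧ c 4 = c 0 ∧ c 5 = 2 • c 0 := by
  simp only [Fin.forall_fin_succ, Fin.sum_univ_six]
  simp [mL, carE6]
  constructor
  · rintro ⟨h0, h1, h2, h3, h4, h5⟩
    refine ⟨?_, ?_, ?_, ?_, ?_, ?_⟩
    · linear_combination (norm := module) (4 : ℤ) • h0 + (3 : ℤ) • h1 + (5 : ℤ) • h2 + (6 : ℤ) • h3 + (4 : ℤ) • h4 + (2 : ℤ) • h5
    · linear_combination (norm := module) (1 : ℤ) • h0 + (2 : ℤ) • h1 + (2 : ℤ) • h2 + (3 : ℤ) • h3 + (2 : ℤ) • h4 + (1 : ℤ) • h5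
    · linear_combination (norm := module) (-1 : ℤ) • h0
    · linear_combination (norm := module) (2 : ℤ) • h0 + (3 : ℤ) • h1 + (4 : ℤ) • h2 + (6 : ℤ) • h3 + (4 : ℤ) • h4 + (2 : ℤ) • h5
    · linear_combination (norm := module) (1 : ℤ) • h1 + (1 : ℤ) • h2 + (2 : ℤ) • h3 + (2 : ℤ) • h4 + (1 : ℤ) • h5
    · linear_combination (norm := module) (-2 : ℤ) • h0 + (-1 : ℤ) • h1 + (-2 : ℤ) • h2 + (-2 : ℤ) • h3 + (-1 : ℤ) • h4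
  · rintro ⟨h0, h1, h2, h3, h4, h5⟩
    rw [h1, h2, h3, h4, h5]
    refine ⟨?_, ?_, ?_, ?_, ?_, ?_⟩
    · module
    · module
    · linear_combination (norm := module) h0
    · linear_combination (norm := module) (-1 : ℤ) • h0
    · module
    · linear_combination (norm := module) h0

omit hT hK hφ in
theorem mem_ker {M : Type*} [CommGroup M] {c : Ix chevE6 → M} : c ∈ (carH M).ker ↔
    ∃ a : M, a ^ 3 = 1 ∧ c = (![a, 1, a ^ 2, 1, a, a ^ 2] : Fin 6 → M) := by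
  refine ((mem_ker_carH cartanIsE6).trans (ker_add fun i => Additive.ofMul (c i))).trans
    ⟨fun ⟨h0, h1, h2, h3, h4, h5⟩ => ⟨c (ι 0), h0, funext fun i => ?_⟩, ?_⟩
  · fin_cases i
    exacts [rfl, h1, h2, h3, h4, h5]
  · rintro ⟨a, ha, rfl⟩
    exact ⟨ha, rfl, rfl, rfl, rfl, rfl⟩

omit hT in
theorem card_fixT_ker (hq : 1 < q) :
    Nat.card (embE6.fixT φ embE60 ⊓ (carH Kˣ).ker : Subgroup _) = Nat.gcd 3 (q + 1) := by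
  have h1 : Nat.gcd 3 (q + 1) ∣ Fintype.card K - 1 := by
    rw [hK, show q ^ 2 - 1 = (q + 1) * (q - 1) from Nat.sq_sub_sq q 1]
    exact (Nat.gcd_dvd_right _ _).mul_right _
  rw [← Nat.gcd_eq_right h1, ← card_ker_pow]
  symm
  have h2 : ∀ a : Kˣ, a ∈ (powMonoidHom (Nat.gcd 3 (q + 1)) : Kˣ →* Kˣ).ker ↔ a ^ 3 = 1 ∧ a ^ (q + 1) = 1 :=
    fun a => by rw [MonoidHom.mem_ker, powMonoidHom_apply, pow_gcd_eq_one]
  have h3 : ∀ a : Kˣ, a ^ 3 = 1 → (a ^ (q + 1) = 1 ↔ ((a ^ 2 : Kˣ) : K) = φ a) := fun a ha => by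
    rw [hφ, ← Units.val_pow_eq_pow_val, Units.val_inj, ← mul_left_inj a (b := a ^ 2), ← pow_succ, ← pow_succ, ha,
      eq_comm]
  refine Nat.card_eq_of_bijective (fun a => ⟨(![a, 1, a ^ 2, 1, a, a ^ 2] : Fin 6 → Kˣ), ?_,
    mem_ker.2 ⟨a, ((h2 a).1 a.2).1, rfl⟩⟩) ⟨fun a b e => Subtype.ext (congrFun (congrArg Subtype.val e) (0 : Fin 6)), ?_⟩
  · obtain ⟨h4, h5⟩ := (h2 a).1 a.2
    have h6 := (h3 a h4).1 h5
    have h7 : ((a : Kˣ) : K) = φ ((a : Kˣ) ^ 2 : Kˣ) := by rw [h6, φφ hK hφ]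
    exact mem_fixT.2 ⟨h6, (map_one φ).symm, h7, (map_one φ).symm, h6, h7⟩
  · rintro ⟨c, h4, h5⟩
    obtain ⟨a, ha, rfl⟩ := mem_ker.1 h5
    exact ⟨⟨a, (h2 a).2 ⟨ha, (h3 a ha).2 (mem_fixT.1 h4).1⟩⟩, rfl⟩

theorem card_H (hq : 1 < q) : Nat.gcd 3 (q + 1) * Nat.card (HX xA ⊓ G1 xA σ embE60 : Subgroup _) =
    (q ^ 2 - 1) ^ 2 * (q - 1) ^ 2 := by
  rw [hT.H_inf_G1 hP_injE6 fun _ => hP_mem hK hφ hT, ← card_fixT_ker hK hφ hq, card_map_hP, card_fixT hK hφ hq]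

omit hT hφ in
theorem exists_setup (hq : IsPrimePow q) : ∃ (φ : K →+* K) (σ : chevE6.group K →* chevE6.group K),
    (∀ t, φ t = t ^ q) ∧ Tw xA σ embE6 φ embE60 ∧ Function.Injective σ := by
  obtain ⟨φ, hφ⟩ := exists_frob hq hK
  have hf : embE6.Fits K := Emb.fits_one _ rfl fun _ => rfl
  obtain ⟨σ, h⟩ := exists_tw embE6_ok hf φ (hf.surj φ) embE6_pos embE6_sim
  exact ⟨φ, σ, hφ, h⟩

end Cfsg.Agent.Lie.E6T
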