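import Cfsg.Agent.Lie.TwDataF4
import Cfsg.Agent.Inv.Basic
import Cfsg.Prelude.Def_LieTwisted

set_option autoImplicit false
set_option linter.unusedSectionVars false
set_option linter.unusedSimpArgs false
set_option maxRecDepth 100000

/-! The groups `²F₄(q)`. -/

namespace Cfsg.Agent.Lie

open Cfsg.Lie
open scoped Matrix MatrixGroups commutatorElement

section B2

variable {D : ChevalleyDatum} [G : Good D] {F : Type*} [Field F] {Γ : Type*} [Group Γ]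
  {x : Rt D → F → Γ} {θ : Γ →* GL D.Idx F} (hS : Sys x θ) {σ : Γ →* Γ}
include hS

theorem Sys.inj4 {l : Fn D} {a b c d : Rt D} (hL : Srt l [a, b, c, d]) {t u v w t' u' v' w' : F}
    (h : x a t * x b u * x c v * x d w = x a t' * x b u' * x c v' * x d w') :
    t = t' ∧ u = u' ∧ v = v' ∧ w = w' := by
  simpa using hS.wd_inj (w := [(a, t), (b, u), (c, v), (d, w)]) (w' := [(a, t'), (b, u'), (c, v'), (d, w')]) hL rfl
    (by simpa [wd, mul_assoc] using h)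

theorem Sys.fixB2 [CharP F 2] {l : Fn D} {a b c d : Rt D} (hL : Srt l [a, b, c, d]) {S : Set (Rt D)}
    (hc : Closed S) (h : ∀ r, r ∈ S ↔ r ∈ [a, b, c, d])
    (h1 : b ≠ a ∧ b ≠ ng a ∧ nrm 2 (cT a b) = [(c, 1, 1, 1), (d, 1, 2, 1)] ∧ CommOK 2 c d) {φ : F →+* F}
    (ha : ∀ t, σ (x a t) = x b (φ t ^ 2)) (hb : ∀ t, σ (x b t) = x a (φ t))
    (hc' : ∀ t, σ (x c t) = x d (φ t ^ 2)) (hd : ∀ t, σ (x d t) = x c (φ t)) (hφ : ∀ t, φ (φ t) ^ 2 = t) (g : Γ) :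
    g ∈ XS x S ∧ σ g = g ↔
      ∃ p : F × F, g = x a (φ p.1) * x b p.1 * x c (φ p.1 * p.1 + p.2) * x d (φ p.2 ^ 2) := by
  have h2 : ((2 : ℤ) : F) = 0 := by simpa using CharTwo.two_eq_zero (R := F)
  have key : ∀ t u v w, σ (x a t * x b u * x c v * x d w) =
      x a (φ u) * x b (φ t ^ 2) * x c (φ u * φ t ^ 2 + φ w) * x d (φ u ^ 2 * φ t ^ 2 + φ v ^ 2) := by
    intro t u v w
    have h3 := fun t u => (hS.commute_of_OK h2 h1.2.2.2 t u).eq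
    rw [map_mul, map_mul, map_mul, ha, hb, hc', hd, hS.rel.comm a b h1.1 h1.2.1, cwL_eq_ev, ← ev_nrm hS.x_zero h2,
      h1.2.2.1, ← hS.x_add, ← hS.x_add]
    simp only [ev, List.map_cons, List.map_nil, List.prod_cons, List.prod_nil, mul_one, Int.cast_one, one_mul,
      pow_one, CharTwo.neg_eq, mul_assoc, ← h3]
    rw [← mul_assoc (x d _), ← h3, mul_assoc]
  constructor
  · rintro ⟨hg, e⟩
    obtain ⟨t, rfl⟩ := hS.exists_wd hL hc h hg
    simp only [List.map_cons, List.map_nil, List.prod_cons, List.prod_nil, mul_one, ← mul_assoc, key] at e ⊢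
    obtain ⟨e1, e2, e3, e4⟩ := hS.inj4 hL e
    refine ⟨(t b, φ (t d)), ?_⟩
    rw [e2] at e3
    simp only [hφ, e1, ← e3]
  · rintro ⟨⟨t, u⟩, rfl⟩
    refine ⟨mul_mem (mul_mem (mul_mem (mem_XS ((h _).2 (by simp)) _) (mem_XS ((h _).2 (by simp)) _))
      (mem_XS ((h _).2 (by simp)) _)) (mem_XS ((h _).2 (by simp)) _), ?_⟩
    rw [key]
    simp only [hφ, map_pow, map_add, map_mul, add_pow_char, mul_pow, mul_comm t, CharTwo.add_cancel_left]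

end B2

theorem coe4 {D : ChevalleyDatum} [G : Good D] {F : Type*} [Field F] (a b c d : Rt D) (t u v w : F) :
    ((xA a t * xA b u * xA c v * xA d w : D.group F) : GL D.Idx F).1 =
      D.wordMat F [(a, t), (b, u), (c, v), (d, w)] := by
  simpa [wd, mul_assoc] using coe_wd [(a, t), (b, u), (c, v), (d, w)]

theorem carH_injF4 (M : Type*) [CommGroup M] : Function.Injective (carH (D := chevF4) M) :=
  carH_inj cartanIsF4 (P := [[-1, 0, 0, 0], [1, 0, -1, 0], [-2, -1, 0, 0], [-2, -2, -2, -1]])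
    (P' := [[-1, 0, 0, 0], [2, 0, -1, 0], [-1, -1, 0, 0], [0, 2, 2, -1]])
    (Q := [[0, 0, 1, -2], [1, 0, 2, -4], [0, 0, 2, -3], [0, 1, 2, -2]]) (Q' := [[-2, 1, 0, 0], [2, 0, -2, 1], [-3, 0, 2, 0], [-2, 0, 1, 0]]) (by decide +kernel) _

theorem tdihF4 {ρ : Equiv.Perm (Rt chevF4)} (h : Sym ρ embF40) : Nonempty (Wf ρ ≃* DihedralGroup 8) := by
  have h1 : ∀ k, orderOf (h.gen repF4 k) = 2 := fun k =>
    orderOf_eq_prime (by rw [sq]; exact (h.invGen repF4_orb).sq k) fun e => gO_ne_one _ _ (congrArg Subtype.val e)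
  have h2 : orderOf (h.gen repF4 0 * h.gen repF4 1) = 8 := by rw [← Subgroup.orderOf_coe]; exact tordF4_0_1
  obtain ⟨e⟩ := Inv.s0206 _ _ (h1 0) (h1 1) fun e => by
    rw [e, (h.invGen repF4_orb).sq, orderOf_one] at h2; omega
  have h3 : Subgroup.closure {h.gen repF4 0, h.gen repF4 1} = ⊤ := by
    rw [eq_top_iff]
    intro w _
    obtain ⟨L, rfl⟩ := (h.invGen repF4_orb).gen w
    refine Subgroup.closure_mono ?_ (wp_mem_closure _ Set.univ L fun _ _ => trivial)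
    rintro _ ⟨k, -, rfl⟩
    fin_cases k <;> simp
  rw [h2, h3] at e
  exact ⟨Subgroup.topEquiv.symm.trans e⟩

namespace F4T

local notation "ι" k:max => (⟨k, by decide⟩ : Ix chevF4)
local notation "𝐫" k:max => (⟨k, by decide⟩ : Rt chevF4)

variable {K : Type*} [Field K] [Fintype K] [CharP K 2] {m : ℕ} (hK : Fintype.card K = 2 ^ (2 * m + 1))
  {φ : K →+* K} (hφ : ∀ t, φ t = t ^ 2 ^ m) {σ : chevF4.group K →* chevF4.group K} (hT : Tw xA σ embF4 φ embF40)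

include hK hφ in
theorem φφ (t : K) : φ (φ t) ^ 2 = t := by
  rw [hφ, hφ, ← pow_mul, ← pow_mul, ← pow_succ, ← pow_add, show m + (m + 1) = 2 * m + 1 by omega, ← hK,
    FiniteField.pow_card]

include hT

theorem mp {r s : Rt chevF4} {k : ℕ} (h : embF4.ρ r = s ∧ embF4.lam r = k) (t : K) :
    σ (xA r t) = xA s (φ t ^ k) := by
  rw [hT.map, h.1, Emb.f, h.2]; simp [embF4]

theorem mp1 {r s : Rt chevF4} (h : embF4.ρ r = s ∧ embF4.lam r = 1) (t : K) : σ (xA r t) = xA s (φ t) := by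
  rw [mp hT h, pow_one]

omit hT in
theorem c30 : ∀ a' ∈ [sim (ι 3), ng (sim (ι 3))], ∀ b' ∈ [sim (ι 0), ng (sim (ι 0))], ∀ t u : K,
    Commute (xA a' t) (xA b' u) := sys_xA.comm4 (p := 0) (by simp) (by decide +kernel)

include hK hφ

theorem fP0 (g) : g ∈ XS xA (PO embF40 (ι 0)) ∧ σ g = g ↔ ∃ t, g = xA (sim (ι 3)) t * xA (sim (ι 0)) (φ t) :=
  sys_xA.fix2 srtPOF4_0 (closed_PO _ _) POF4_0 (c30 _ (by simp) _ (by simp)) (mp1 hT (by decide +kernel))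
    (mp hT (k := 2) (by decide +kernel)) (φφ hK hφ) g
theorem fN0 (g) : g ∈ XS xA (NO embF40 (ι 0)) ∧ σ g = g ↔
    ∃ t, g = xA (ng (sim (ι 3))) t * xA (ng (sim (ι 0))) (φ t) :=
  sys_xA.fix2 srtNOF4_0 (closed_NO _ _) NOF4_0 (c30 _ (by simp) _ (by simp)) (mp1 hT (by decide +kernel))
    (mp hT (k := 2) (by decide +kernel)) (φφ hK hφ) g
theorem fP1 (g) : g ∈ XS xA (PO embF40 (ι 1)) ∧ σ g = g ↔ ∃ p : K × K,
    g = xA (𝐫 27) (φ p.1) * xA (𝐫 25) p.1 * xA (𝐫 28) (φ p.1 * p.1 + p.2) * xA (𝐫 30) (φ p.2 ^ 2) :=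
  sys_xA.fixB2 srtPOF4_1 (closed_PO _ _) POF4_1 (by decide +kernel) (mp hT (by decide +kernel))
    (mp1 hT (by decide +kernel)) (mp hT (by decide +kernel)) (mp1 hT (by decide +kernel)) (φφ hK hφ) g
theorem fN1 (g) : g ∈ XS xA (NO embF40 (ι 1)) ∧ σ g = g ↔ ∃ p : K × K,
    g = xA (𝐫 20) (φ p.1) * xA (𝐫 22) p.1 * xA (𝐫 19) (φ p.1 * p.1 + p.2) * xA (𝐫 17) (φ p.2 ^ 2) :=
  sys_xA.fixB2 srtNOF4_1 (closed_NO _ _) NOF4_1 (by decide +kernel) (mp hT (by decide +kernel))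
    (mp1 hT (by decide +kernel)) (mp hT (by decide +kernel)) (mp1 hT (by decide +kernel)) (φφ hK hφ) g

theorem mP0 (t : K) : xA (sim (ι 3)) t * xA (sim (ι 0)) (φ t) ∈ G1 xA σ embF40 :=
  (((fP0 hK hφ hT _).2 ⟨t, rfl⟩).elim mem_G1_pos)
theorem mN0 (t : K) : xA (ng (sim (ι 3))) t * xA (ng (sim (ι 0))) (φ t) ∈ G1 xA σ embF40 :=
  (((fN0 hK hφ hT _).2 ⟨t, rfl⟩).elim mem_G1_neg)
theorem mP1 (t u : K) :
    xA (𝐫 27) (φ t) * xA (𝐫 25) t * xA (𝐫 28) (φ t * t + u) * xA (𝐫 30) (φ u ^ 2) ∈ G1 xA σ embF40 :=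
  (((fP1 hK hφ hT _).2 ⟨(t, u), rfl⟩).elim mem_G1_pos)
theorem mN1 (t u : K) :
    xA (𝐫 20) (φ t) * xA (𝐫 22) t * xA (𝐫 19) (φ t * t + u) * xA (𝐫 17) (φ u ^ 2) ∈ G1 xA σ embF40 :=
  (((fN1 hK hφ hT _).2 ⟨(t, u), rfl⟩).elim mem_G1_neg)

omit hT hK in
theorem coeP (a b : Rt chevF4) {t : K} (h : Commute (xA a t : chevF4.group K) (xA b (φ t))) :
    ((xA a t * xA b (φ t) : chevF4.group K) : GL _ K).1 = chevF4.wordMat K (f4PairWord (2 ^ m) b a t) := by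
  rw [h.eq, coe2, hφ]; rfl

omit hT hK in
theorem coeB (a b c d : Rt chevF4) (t u : K) :
    ((xA a (φ t) * xA b t * xA c (φ t * t + u) * xA d (φ u ^ 2) : chevF4.group K) : GL _ K).1 =
      chevF4.wordMat K (b2ClassWord (2 ^ m) a b c d t u) := by
  rw [coe4, hφ, hφ, ← pow_succ, ← pow_mul, mul_comm]; rfl

theorem isTw (hσ : Function.Injective σ) : IsTw (twistedF4 K (2 ^ m)) σ hT.ok.perm embF40 := by
  refine ⟨hT.fold hσ fun i => ?_, genSubgroup_eq ?_ fun g i hg h => ?_⟩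
  · obtain ⟨k, hk⟩ := repF4_orb i
    rw [NO_eq hk]
    fin_cases k
    · obtain ⟨h1, h2⟩ := (fN0 hK hφ hT _).2 ⟨1, rfl⟩
      exact ⟨_, h1, h2, sys_xA.ne2 srtNOF4_0 _⟩
    · obtain ⟨h1, h2⟩ := (fN1 hK hφ hT _).2 ⟨(1, 0), rfl⟩
      exact ⟨_, h1, h2, fun e => one_ne_zero (sys_xA.inj4 srtNOF4_1 (t' := 0) (u' := 0) (v' := 0) (w' := 0)
        (e.trans (by simp [sys_xA.x_zero]))).2.1⟩
  · rintro w (⟨t, rfl | rfl⟩ | ⟨t, u, rfl | rfl⟩)
    exacts [⟨_, mP0 hK hφ hT t, coeP hφ _ _ (c30 _ (by simp) _ (by simp) _ _)⟩,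
      ⟨_, mN0 hK hφ hT t, coeP hφ _ _ (c30 _ (by simp) _ (by simp) _ _)⟩,
      ⟨_, mP1 hK hφ hT t u, coeB hφ _ _ _ _ _ _⟩, ⟨_, mN1 hK hφ hT t u, coeB hφ _ _ _ _ _ _⟩]
  · obtain ⟨k, hk⟩ := repF4_orb i
    rw [PO_eq hk, NO_eq hk] at h
    fin_cases k <;> rcases h with h | h
    · obtain ⟨t, rfl⟩ := (fP0 hK hφ hT _).1 ⟨h, hg⟩
      exact ⟨_, Or.inl ⟨t, Or.inl rfl⟩, coeP hφ _ _ (c30 _ (by simp) _ (by simp) _ _)⟩
    · obtain ⟨t, rfl⟩ := (fN0 hK hφ hT _).1 ⟨h, hg⟩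
      exact ⟨_, Or.inl ⟨t, Or.inr rfl⟩, coeP hφ _ _ (c30 _ (by simp) _ (by simp) _ _)⟩
    · obtain ⟨t, rfl⟩ := (fP1 hK hφ hT _).1 ⟨h, hg⟩
      exact ⟨_, Or.inr ⟨t.1, t.2, Or.inl rfl⟩, coeB hφ _ _ _ _ _ _⟩
    · obtain ⟨t, rfl⟩ := (fN1 hK hφ hT _).1 ⟨h, hg⟩
      exact ⟨_, Or.inr ⟨t.1, t.2, Or.inr rfl⟩, coeB hφ _ _ _ _ _ _⟩

theorem card_PO (i : Ix chevF4) :
    Nat.card (XS xA (PO embF40 i) ⊓ G1 xA σ embF40 : Subgroup _) = (2 ^ (2 * m + 1)) ^ exF4 i ∧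
      (PO embF40 i).ncard = exF4 i * 2 := by
  have h2 : Nat.card K = (2 ^ (2 * m + 1)) ^ 1 := by rw [Nat.card_eq_fintype_card, hK, pow_one]
  have h3 : ∀ i j : Ix chevF4, i ∈ orb embF40 j → exF4 i = exF4 j := by
    simp only [orbDataF4.mem]; decide +kernel
  obtain ⟨k, hk⟩ := repF4_orb i
  rw [PO_eq hk, h3 _ _ hk]
  fin_cases k
  · exact ⟨(card_inf_G1 _ (fun a b e => (sys_xA.inj2 srtPOF4_0 e).1) (fP0 hK hφ hT)).trans h2,
      ncard_of_srt srtPOF4_0 POF4_0⟩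
  · refine ⟨(card_inf_G1 _ (fun a b e => ?_) (fP1 hK hφ hT)).trans (by rw [Nat.card_prod, h2, ← pow_add]; rfl),
      ncard_of_srt srtPOF4_1 POF4_1⟩
    obtain ⟨-, e1, e2, -⟩ := sys_xA.inj4 srtPOF4_1 e
    rw [e1, add_right_inj] at e2
    exact Prod.ext e1 e2

theorem core (hσ : Function.Injective σ) : ((BX xA).subgroupOf (G1 xA σ embF40)).normalCore = ⊥ := by
  refine (isTw hK hφ hT hσ).fold.core_eq_bot sys_xA Subtype.val_injective fun i => ?_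
  have h : ∀ (i : Ix chevF4) (r : Rt chevF4), Pos r ∧ r ≠ sim i → ∀ t : K, xA r t ∈ XS xA {r | Pos r ∧ r ≠ sim i} :=
    fun i j h t => mem_XS (S := {r | Pos r ∧ r ≠ sim i}) h t
  fin_cases i
  · exact Fold.hsim_of sys_xA (t := φ 1) (by simp) (h _ (sim (ι 3)) (by decide +kernel) 1)
      (one_mem _) (by rw [mul_one]; exact mP0 hK hφ hT 1)
  · refine ⟨φ 1, by simp, _, mul_mem (mul_mem (h _ (𝐫 25) (by decide +kernel) 1)
      (h _ (𝐫 28) (by decide +kernel) (φ 1 * 1 + 0))) (h _ (𝐫 30) (by decide +kernel) (φ 0 ^ 2)), ?_⟩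
    rw [← mul_assoc, ← mul_assoc]; exact mP1 hK hφ hT 1 0
  · refine Fold.hsim_of sys_xA one_ne_zero (h _ (𝐫 27) (by decide +kernel) (φ 1))
      (mul_mem (h _ (𝐫 28) (by decide +kernel) (φ 1 * 1 + 0)) (h _ (𝐫 30) (by decide +kernel) (φ 0 ^ 2))) ?_
    rw [← mul_assoc]; exact mP1 hK hφ hT 1 0
  · exact ⟨1, one_ne_zero, _, h _ _ (by decide +kernel) _, mP0 hK hφ hT 1⟩

omit hT hK hφ in
theorem mem_fixT {c : Ix chevF4 → Kˣ} : c ∈ embF4.fixT φ embF40 ↔ (c (ι 3) : K) = φ (c (ι 0)) ^ 2 ∧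
    (c (ι 2) : K) = φ (c (ι 1)) ^ 2 ∧ (c (ι 1) : K) = φ (c (ι 2)) ∧ (c (ι 0) : K) = φ (c (ι 3)) := by
  have hl : ∀ i : Ix chevF4, embF4.lam (sim i) = [2, 2, 1, 1].getD i 0 := by decide +kernel
  rw [Emb.mem_fixT, ← pow_one (φ (c (ι 2))), ← pow_one (φ (c (ι 3)))]
  simp only [hl]
  refine ⟨fun h => ⟨h (ι 0), h (ι 1), h (ι 2), h (ι 3)⟩, fun h i => ?_⟩
  fin_cases i
  exacts [h.1, h.2.1, h.2.2.1, h.2.2.2]

theorem hP_mem (hσ : Function.Injective σ) {c : Ix chevF4 → Kˣ} (hc : c ∈ embF4.fixT φ embF40) :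
    sys_xA.hP c ∈ G1 xA σ embF40 := by
  obtain ⟨w, hw⟩ := exists_negF4
  have : c = c ^ 2 ^ (2 * m) * c ^ 2 ^ (2 * m) := by
    funext i
    rw [← sq, ← pow_mul, ← pow_succ, ← hK]
    exact Units.ext (by simp [FiniteField.pow_card])
  rw [this, map_mul]
  exact (isTw hK hφ hT hσ).fold.sq_mem sys_xA Subtype.val_injective hw (fun r => (hT.ok.one r).1)
    (sys_xA.range_hP.le ⟨_, rfl⟩) (hT.fix_hP sys_xA (pow_mem hc _))

omit hT in
theorem card_fixT : Nat.card (embF4.fixT φ embF40) = (2 ^ (2 * m + 1) - 1) ^ 2 := by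
  have h2 : Nat.card Kˣ = 2 ^ (2 * m + 1) - 1 := by rw [Nat.card_units, Nat.card_eq_fintype_card, hK]
  rw [← h2, sq, ← Nat.card_prod]
  refine Nat.card_eq_of_bijective (fun c => (c.1 (ι 2), c.1 (ι 3))) ⟨fun c c' e => ?_, ?_⟩
  · simp only [Prod.mk.injEq] at e
    obtain ⟨e0, e1⟩ := e
    refine Subtype.ext (funext fun i => ?_)
    fin_cases i
    exacts [Units.ext (by rw [(mem_fixT.1 c.2).2.2.2, (mem_fixT.1 c'.2).2.2.2, e1]),
      Units.ext (by rw [(mem_fixT.1 c.2).2.2.1, (mem_fixT.1 c'.2).2.2.1, e0]), e0, e1]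
  · rintro ⟨a, c⟩
    exact ⟨⟨(![Units.map φ.toMonoidHom c, Units.map φ.toMonoidHom a, a, c] : Fin 4 → Kˣ),
      mem_fixT.2 ⟨(φφ hK hφ _).symm, (φφ hK hφ _).symm, rfl, rfl⟩⟩, rfl⟩

theorem card_H (hσ : Function.Injective σ) :
    Nat.card (HX xA ⊓ G1 xA σ embF40 : Subgroup _) = (2 ^ (2 * m + 1) - 1) ^ 2 := by
  rw [hT.H_inf_G1 (sys_xS.hP_inj_of_carH (carH_injF4 _)) fun _ => hP_mem hK hφ hT hσ, ← card_fixT hK hφ,
    Subgroup.card_map_of_injective (sys_xA.hP_inj_of_carH (carH_injF4 _))]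

theorem perfect (hm : 1 ≤ m) (hσ : Function.Injective σ) : commutator (G1 xA σ embF40) = ⊤ := by
  have hF := (isTw hK hφ hT hσ).fold
  refine hF.perfect_of sys_xA fun i u hu hu' => ?_
  obtain ⟨k, hk⟩ := repF4_orb i
  rw [PO_eq hk] at hu
  obtain ⟨c, hc⟩ := exists_unit_pow_ne (F := K) one_ne_zero (by
    rw [hK]; exact lt_of_lt_of_le (by norm_num) (Nat.pow_le_pow_right two_pos (show 2 ≤ 2 * m + 1 by omega)))
  rw [pow_one] at hc
  have hsq : ∀ a b : Kˣ, a ^ 2 = b ^ 2 → a = b := fun a b h =>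
    Units.ext (frobenius_inj K 2 (by simpa [frobenius_def] using congrArg Units.val h))
  set c' := Units.map φ.toMonoidHom c with hc'
  have h0 : Units.map φ.toMonoidHom c' ^ 2 = c := Units.ext (φφ hK hφ _)
  have h1 : c' ≠ c := fun e => hc (by rwa [e, ← hc', e, sq, mul_eq_left] at h0)
  have h2 : c' ≠ 1 := fun e => hc (by rw [← h0, e]; simp)
  have h3 : c' ^ 2 ≠ c := fun e => h1 (by rw [hc', ← e, map_pow, h0, e])
  have h11 : (1 : K) = φ 1 ^ 2 := by simp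
  fin_cases k
  · refine Fold.mem_comm_of_fpf sys_xA (sys_xA.range_hP.le ⟨_, rfl⟩)
      (hP_mem hK hφ hT hσ (c := (![c', 1, 1, c] : Fin 4 → Kˣ))
        (mem_fixT.2 ⟨(φφ hK hφ _).symm, h11, (map_one φ).symm, rfl⟩)) (sys_xA.θ_hP _) (fun r hr => ?_) hu hu'
    refine (chv_carH _ _).trans_ne ?_
    change ∏ i : Fin 4, (![c', 1, 1, c] : Fin 4 → Kˣ) i ^ ca (D := chevF4) i r ≠ 1
    simp only [Fin.prod_univ_four, Matrix.cons_val, one_zpow, mul_one]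
    rcases List.mem_pair.1 ((POF4_0 r).1 hr) with rfl | rfl
    · rw [show ca (D := chevF4) (0 : Fin 4) (sim (ι 3)) = 0 by decide +kernel,
        show ca (D := chevF4) (3 : Fin 4) (sim (ι 3)) = 2 by decide +kernel]
      exact fun e => hc (hsq _ _ (by simpa using e))
    · rw [show ca (D := chevF4) (0 : Fin 4) (sim (ι 0)) = 2 by decide +kernel,
        show ca (D := chevF4) (3 : Fin 4) (sim (ι 0)) = 0 by decide +kernel]
      exact fun e => h2 (hsq _ _ (by simpa using e))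
  · refine Fold.mem_comm_of_fpf sys_xA (sys_xA.range_hP.le ⟨_, rfl⟩)
      (hP_mem hK hφ hT hσ (c := (![1, c', c, 1] : Fin 4 → Kˣ))
        (mem_fixT.2 ⟨h11, (φφ hK hφ _).symm, rfl, (map_one φ).symm⟩)) (sys_xA.θ_hP _) (fun r hr => ?_) hu hu'
    refine (chv_carH _ _).trans_ne ?_
    change ∏ i : Fin 4, (![1, c', c, 1] : Fin 4 → Kˣ) i ^ ca (D := chevF4) i r ≠ 1
    simp only [Fin.prod_univ_four, Matrix.cons_val, one_zpow, mul_one, one_mul]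
    have := (POF4_1 r).1 hr
    simp only [List.mem_cons, List.not_mem_nil, or_false] at this
    rcases this with rfl | rfl | rfl | rfl
    · rw [show ca (D := chevF4) (1 : Fin 4) (𝐫 27) = 2 by decide +kernel,
        show ca (D := chevF4) (2 : Fin 4) (𝐫 27) = -1 by decide +kernel]
      exact fun e => h3 (by simpa [mul_inv_eq_one] using e)
    · rw [show ca (D := chevF4) (1 : Fin 4) (𝐫 25) = -2 by decide +kernel,
        show ca (D := chevF4) (2 : Fin 4) (𝐫 25) = 2 by decide +kernel]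
      exact fun e => h1 (hsq _ _ (by simpa [inv_mul_eq_one] using e))
    · rw [show ca (D := chevF4) (1 : Fin 4) (𝐫 28) = 0 by decide +kernel,
        show ca (D := chevF4) (2 : Fin 4) (𝐫 28) = 1 by decide +kernel]
      simpa using hc
    · rw [show ca (D := chevF4) (1 : Fin 4) (𝐫 30) = 2 by decide +kernel,
        show ca (D := chevF4) (2 : Fin 4) (𝐫 30) = 0 by decide +kernel]
      exact fun e => h2 (hsq _ _ (by simpa using e))

omit hT hφ hK in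
theorem exists_setup : ∃ (φ : K →+* K) (σ : chevF4.group K →* chevF4.group K),
    (∀ t, φ t = t ^ 2 ^ m) ∧ Tw xA σ embF4 φ embF40 ∧ Function.Injective σ := by
  obtain ⟨σ, h⟩ := exists_tw embF4_ok embF4_fits (iterateFrobenius K 2 m) (embF4_fits.surj _) embF4_pos embF4_sim
  exact ⟨_, σ, fun _ => rfl, h⟩

end F4T

end Cfsg.Agent.Lie
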