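import Cfsg.Agent.Lie.TwDataD4
import Cfsg.Agent.Lie.EmbD4E6
import Cfsg.Prelude.Def_LieTwisted

set_option autoImplicit false
set_option linter.unusedSectionVars false
set_option linter.unusedSimpArgs false
set_option maxRecDepth 100000

/-! The groups `³D₄(q)`. -/

namespace Cfsg.Agent.Lie.D4T

open Cfsg.Lie
open scoped Matrix MatrixGroups commutatorElement

local notation "ι" k:max => (⟨k, by decide⟩ : Ix chevD4)

variable {K : Type*} [Field K] [Fintype K] {q : ℕ} (hK : Fintype.card K = q ^ 3) {φ : K →+* K}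
  (hφ : ∀ t, φ t = t ^ q) {σ : chevD4.group K →* chevD4.group K} (hT : Tw xA σ embD4 φ embD40)

include hK hφ in
theorem φφφ (t : K) : φ (φ (φ t)) = t := by
  rw [hφ, hφ, hφ, ← pow_mul, ← pow_mul, ← pow_three, ← hK, FiniteField.pow_card]

include hφ in
theorem φφ (t : K) : φ (φ t) = t ^ q ^ 2 := by rw [hφ, hφ, ← pow_mul, sq]

include hT

theorem ms (i : Ix chevD4) (t : K) : σ (xA (sim i) t) = xA (sim (embD40 i)) (φ t) := by
  simpa [embD4] using hT.map_sim i t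
theorem mn (i : Ix chevD4) (t : K) : σ (xA (ng (sim i)) t) = xA (ng (sim (embD40 i))) (φ t) := by
  simpa [embD4] using hT.map_ng i t

omit hT in
theorem c02 : ∀ a' ∈ [sim (ι 0), ng (sim (ι 0))], ∀ b' ∈ [sim (ι 2), ng (sim (ι 2))], ∀ t u : K,
    Commute (xA a' t) (xA b' u) := sys_xA.comm4 (p := 0) (by simp) (by decide +kernel)
omit hT in
theorem c03 : ∀ a' ∈ [sim (ι 0), ng (sim (ι 0))], ∀ b' ∈ [sim (ι 3), ng (sim (ι 3))], ∀ t u : K,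
    Commute (xA a' t) (xA b' u) := sys_xA.comm4 (p := 0) (by simp) (by decide +kernel)
omit hT in
theorem c23 : ∀ a' ∈ [sim (ι 2), ng (sim (ι 2))], ∀ b' ∈ [sim (ι 3), ng (sim (ι 3))], ∀ t u : K,
    Commute (xA a' t) (xA b' u) := sys_xA.comm4 (p := 0) (by simp) (by decide +kernel)

theorem fP1 (g) : g ∈ XS xA (PO embD40 (ι 1)) ∧ σ g = g ↔ ∃ t : {t // φ t = t}, g = xA (sim (ι 1)) t.1 :=
  sys_xA.fix1 POD4_1 (ms hT (ι 1)) g
theorem fN1 (g) : g ∈ XS xA (NO embD40 (ι 1)) ∧ σ g = g ↔ ∃ t : {t // φ t = t}, g = xA (ng (sim (ι 1))) t.1 :=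
  sys_xA.fix1 NOD4_1 (mn hT (ι 1)) g

include hK hφ

theorem fP0 (g) : g ∈ XS xA (PO embD40 (ι 0)) ∧ σ g = g ↔
    ∃ t, g = xA (sim (ι 0)) t * xA (sim (ι 2)) (φ t) * xA (sim (ι 3)) (φ (φ t)) :=
  sys_xA.fix3 srtPOD4_0 (closed_PO _ _) POD4_0 (c02 _ (by simp) _ (by simp)) (c03 _ (by simp) _ (by simp))
    (c23 _ (by simp) _ (by simp)) (ms hT (ι 0)) (ms hT (ι 2)) (ms hT (ι 3)) (φφφ hK hφ) g
theorem fN0 (g) : g ∈ XS xA (NO embD40 (ι 0)) ∧ σ g = g ↔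
    ∃ t, g = xA (ng (sim (ι 0))) t * xA (ng (sim (ι 2))) (φ t) * xA (ng (sim (ι 3))) (φ (φ t)) :=
  sys_xA.fix3 srtNOD4_0 (closed_NO _ _) NOD4_0 (c02 _ (by simp) _ (by simp)) (c03 _ (by simp) _ (by simp))
    (c23 _ (by simp) _ (by simp)) (mn hT (ι 0)) (mn hT (ι 2)) (mn hT (ι 3)) (φφφ hK hφ) g

omit hK hφ in
theorem mP1 {t : K} (h : φ t = t) : xA (sim (ι 1)) t ∈ G1 xA σ embD40 :=
  (((fP1 hT _).2 ⟨⟨t, h⟩, rfl⟩).elim mem_G1_pos)
omit hK hφ in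
theorem mN1 {t : K} (h : φ t = t) : xA (ng (sim (ι 1))) t ∈ G1 xA σ embD40 :=
  (((fN1 hT _).2 ⟨⟨t, h⟩, rfl⟩).elim mem_G1_neg)
theorem mP0 (t : K) : xA (sim (ι 0)) t * xA (sim (ι 2)) (φ t) * xA (sim (ι 3)) (φ (φ t)) ∈ G1 xA σ embD40 :=
  (((fP0 hK hφ hT _).2 ⟨t, rfl⟩).elim mem_G1_pos)
theorem mN0 (t : K) :
    xA (ng (sim (ι 0))) t * xA (ng (sim (ι 2))) (φ t) * xA (ng (sim (ι 3))) (φ (φ t)) ∈ G1 xA σ embD40 :=
  (((fN0 hK hφ hT _).2 ⟨t, rfl⟩).elim mem_G1_neg)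

theorem isTw (hσ : Function.Injective σ) : IsTw (twistedD4 K q) σ hT.ok.perm embD40 := by
  refine ⟨hT.fold hσ fun i => ?_, genSubgroup_eq ?_ fun g i hg h => ?_⟩
  · obtain ⟨k, hk⟩ := repD4_orb i
    rw [NO_eq hk]
    fin_cases k
    · obtain ⟨h1, h2⟩ := (fN0 hK hφ hT _).2 ⟨1, rfl⟩
      exact ⟨_, h1, h2, sys_xA.ne3 srtNOD4_0 _ _⟩
    · obtain ⟨h1, h2⟩ := (fN1 hT _).2 ⟨⟨1, map_one φ⟩, rfl⟩
      exact ⟨_, h1, h2, fun e => one_ne_zero (sys_xA.x_eq_one e)⟩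
  · rintro w (⟨t, ht, r, hr, rfl⟩ | ⟨t, r, hr, rfl⟩)
    · rw [← hφ] at ht
      simp only [List.mem_cons, List.not_mem_nil, or_false] at hr
      rcases hr with rfl | rfl
      exacts [⟨_, mP1 hT ht, coe1 _ _⟩, ⟨_, mN1 hT ht, coe1 _ _⟩]
    · rw [← φφ hφ, ← hφ]
      simp only [List.mem_cons, List.not_mem_nil, or_false] at hr
      rcases hr with rfl | rfl
      exacts [⟨_, mP0 hK hφ hT t, coe3 _ _ _ _ _ _⟩, ⟨_, mN0 hK hφ hT t, coe3 _ _ _ _ _ _⟩]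
  · obtain ⟨k, hk⟩ := repD4_orb i
    rw [PO_eq hk, NO_eq hk] at h
    fin_cases k <;> rcases h with h | h
    · obtain ⟨t, rfl⟩ := (fP0 hK hφ hT _).1 ⟨h, hg⟩
      exact ⟨_, Or.inr ⟨t, (d4p1, d4p3, d4p4), by simp, rfl⟩, φφ hφ t ▸ hφ t ▸ coe3 _ _ _ _ _ _⟩
    · obtain ⟨t, rfl⟩ := (fN0 hK hφ hT _).1 ⟨h, hg⟩
      exact ⟨_, Or.inr ⟨t, (d4m1, d4m3, d4m4), by simp, rfl⟩, φφ hφ t ▸ hφ t ▸ coe3 _ _ _ _ _ _⟩
    · obtain ⟨t, rfl⟩ := (fP1 hT _).1 ⟨h, hg⟩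
      exact ⟨_, Or.inl ⟨t, hφ _ ▸ t.2, d4p2, by simp, rfl⟩, coe1 _ _⟩
    · obtain ⟨t, rfl⟩ := (fN1 hT _).1 ⟨h, hg⟩
      exact ⟨_, Or.inl ⟨t, hφ _ ▸ t.2, d4m2, by simp, rfl⟩, coe1 _ _⟩

theorem card_PO (hq : 1 < q) (i : Ix chevD4) :
    Nat.card (XS xA (PO embD40 i) ⊓ G1 xA σ embD40 : Subgroup _) = q ^ exD4 i ∧ (PO embD40 i).ncard = exD4 i := by
  have h1 : Nat.card {t // φ t = t} = q ^ 1 := by simpa only [hφ, pow_one] using card_fixed hq hK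
  have h2 : Nat.card K = q ^ 3 := by rw [Nat.card_eq_fintype_card, hK]
  have h3 : ∀ i j : Ix chevD4, i ∈ orb embD40 j → exD4 i = exD4 j := by
    simp only [orbDataD4.mem]; decide +kernel
  obtain ⟨k, hk⟩ := repD4_orb i
  rw [PO_eq hk, h3 _ _ hk]
  fin_cases k
  · exact ⟨(card_inf_G1 _ (fun a b e => (sys_xA.inj3 srtPOD4_0 e).1) (fP0 hK hφ hT)).trans h2,
      ncard_of_srt srtPOD4_0 POD4_0⟩
  · exact ⟨(card_inf_G1 _ (fun a b e => Subtype.ext (sys_xA.x_inj e)) (fP1 hT)).trans h1,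
      ncard_of_srt srtPOD4_1 POD4_1⟩

theorem core (hσ : Function.Injective σ) : ((BX xA).subgroupOf (G1 xA σ embD40)).normalCore = ⊥ := by
  refine (isTw hK hφ hT hσ).fold.core_eq_bot sys_xA Subtype.val_injective fun i => ?_
  have h : ∀ i j : Ix chevD4, j ≠ i → ∀ t : K, xA (sim j) t ∈ XS xA {r | Pos r ∧ r ≠ sim i} :=
    fun i j h t => mem_XS (S := {r | Pos r ∧ r ≠ sim i}) ⟨pos_sim j, sim_inj.ne h⟩ t
  fin_cases i
  · exact ⟨1, one_ne_zero, _, mul_mem (h _ _ (by decide) _) (h _ _ (by decide) _),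
      mul_assoc (xA (sim (ι 0)) (1 : K)) _ _ ▸ mP0 hK hφ hT 1⟩
  · exact ⟨1, one_ne_zero, 1, one_mem _, by simpa using mP1 hT (map_one φ)⟩
  · exact Fold.hsim_of sys_xA (by simp) (h _ _ (by decide) _) (h _ _ (by decide) _) (mP0 hK hφ hT 1)
  · exact Fold.hsim_of sys_xA (t := φ (φ 1)) (by simp) (mul_mem (h _ (ι 0) (by decide) 1) (h _ (ι 2) (by decide) (φ 1)))
      (one_mem _) (by rw [mul_one]; exact mP0 hK hφ hT 1)

theorem h023 {t t' t'' : Kˣ} (h : φ t = t') (h' : φ t' = t'') :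
    hX xA (sim (ι 0)) t * hX xA (sim (ι 2)) t' * hX xA (sim (ι 3)) t'' ∈ G1 xA σ embD40 :=
  sys_xA.h_mem3 c02 c03 c23 (mP0 hK hφ hT) (mN0 hK hφ hT) h h'

theorem perfect (hq : 1 < q) (hσ : Function.Injective σ) : commutator (G1 xA σ embD40) = ⊤ := by
  have hF := (isTw hK hφ hT hσ).fold
  refine hF.perfect_of sys_xA fun i u hu hu' => ?_
  obtain ⟨k, hk⟩ := repD4_orb i
  rw [PO_eq hk] at hu
  obtain ⟨c, hc⟩ := exists_unit_pow_ne (F := K) two_ne_zero (by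
    rw [hK]; exact lt_of_lt_of_le (by norm_num) (Nat.pow_le_pow_left hq 3))
  have hc' : ∀ c : Kˣ, c ^ 2 ≠ 1 → Units.map φ.toMonoidHom c ^ 2 ≠ 1 := fun c hc => by
    rwa [← map_pow, Ne, map_eq_one_iff _ (Units.map_injective φ.injective)]
  fin_cases k
  · refine Fold.mem_comm_of_fpf sys_xA (mul_mem (mul_mem (hX_mem _ _) (hX_mem _ _)) (hX_mem _ _))
      (h023 hK hφ hT (t := c) (t' := Units.map φ.toMonoidHom c)
        (t'' := Units.map φ.toMonoidHom (Units.map φ.toMonoidHom c)) rfl rfl)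
      (by rw [map_mul, sys_xA.θ_hh, sys_xA.θ_h, ← map_mul]) (fun r hr => ?_) hu hu'
    rw [chv_mul, chv_mul, chv_coch_co, chv_coch_co, chv_coch_co]
    have := (POD4_0 r).1 hr
    simp only [List.mem_cons, List.not_mem_nil, or_false] at this
    rcases this with rfl | rfl | rfl
    · rw [A_self, show A (sim (ι 2)) (sim (ι 0)) = 0 by decide +kernel,
        show A (sim (ι 3)) (sim (ι 0)) = 0 by decide +kernel]; simpa using hc
    · rw [A_self, show A (sim (ι 0)) (sim (ι 2)) = 0 by decide +kernel,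
        show A (sim (ι 3)) (sim (ι 2)) = 0 by decide +kernel]; simpa using hc' _ hc
    · rw [A_self, show A (sim (ι 0)) (sim (ι 3)) = 0 by decide +kernel,
        show A (sim (ι 2)) (sim (ι 3)) = 0 by decide +kernel]; simpa using hc' _ (hc' _ hc)
  · obtain ⟨t, rfl⟩ := (fP1 hT _).1 ⟨hu, hu'⟩
    exact hF.mem_comm_of_A2 sys_xA hT (a := ⟨1, by decide⟩) (b := ⟨23, by decide⟩) (k := -1) (by decide +kernel) t.2

omit hT hK hφ in
theorem mem_fixT {c : Ix chevD4 → Kˣ} : c ∈ embD4.fixT φ embD40 ↔ (c (ι 2) : K) = φ (c (ι 0)) ∧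
    (c (ι 1) : K) = φ (c (ι 1)) ∧ (c (ι 3) : K) = φ (c (ι 2)) ∧ (c (ι 0) : K) = φ (c (ι 3)) := by
  rw [Emb.mem_fixT]
  simp only [embD4, pow_one]
  refine ⟨fun h => ⟨h (ι 0), h (ι 1), h (ι 2), h (ι 3)⟩, fun h i => ?_⟩
  fin_cases i
  exacts [h.1, h.2.1, h.2.2.1, h.2.2.2]

theorem hP_mem {c : Ix chevD4 → Kˣ} (hc : c ∈ embD4.fixT φ embD40) : sys_xA.hP c ∈ G1 xA σ embD40 := by
  obtain ⟨h0, h1, h2, -⟩ := mem_fixT.1 hc
  rw [sys_xA.hP_eq_perm [ι 0, ι 2, ι 3, ι 1] (by decide +kernel)]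
  simpa only [List.map_cons, List.map_nil, List.prod_cons, List.prod_nil, mul_one, mul_assoc] using
    mul_mem (h023 hK hφ hT h0.symm h2.symm) (Sys.h_mem1 (fun _ => mP1 hT) (fun _ => mN1 hT) h1.symm)

omit hT in
theorem card_fixT (hq : 1 < q) : Nat.card (embD4.fixT φ embD40) = (q ^ 3 - 1) * (q - 1) := by
  have h1 : Nat.card {t : Kˣ // φ t = t} = q - 1 := by simpa only [hφ] using card_fixed_units hq hK
  have h2 : Nat.card Kˣ = q ^ 3 - 1 := by rw [Nat.card_units, Nat.card_eq_fintype_card, hK]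
  rw [← h1, ← h2, ← Nat.card_prod]
  refine Nat.card_eq_of_bijective (fun c => (c.1 (ι 0), ⟨c.1 (ι 1), (mem_fixT.1 c.2).2.1.symm⟩))
    ⟨fun c c' e => ?_, ?_⟩
  · simp only [Prod.mk.injEq, Subtype.mk.injEq] at e
    obtain ⟨e0, e1⟩ := e
    have e2 : c.1 (ι 2) = c'.1 (ι 2) := Units.ext (by rw [(mem_fixT.1 c.2).1, (mem_fixT.1 c'.2).1, e0])
    refine Subtype.ext (funext fun i => ?_)
    fin_cases i
    exacts [e0, e1, e2, Units.ext (by rw [(mem_fixT.1 c.2).2.2.1, (mem_fixT.1 c'.2).2.2.1, e2])]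
  · rintro ⟨a, c⟩
    exact ⟨⟨(![a, c, Units.map φ.toMonoidHom a, Units.map φ.toMonoidHom (Units.map φ.toMonoidHom a)] : Fin 4 → Kˣ),
      mem_fixT.2 ⟨rfl, c.2.symm, rfl, (φφφ hK hφ _).symm⟩⟩, rfl⟩

omit hT hK hφ in
theorem ker_add {A : Type*} [AddCommGroup A] (c : Fin 4 → A) (h : ∀ j : Fin 4, ∑ i : Fin 4, mL carD4 i j • c i = 0) :
    2 • c 0 = 0 ∧ c 1 = 0 ∧ c 0 + c 2 + c 3 = 0 := by
  simp only [Fin.forall_fin_succ, Fin.sum_univ_four] at h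
  simp [mL, carD4] at h
  obtain ⟨h0, h1, h2, h3⟩ := h
  refine ⟨?_, ?_, ?_⟩
  · linear_combination (norm := module) (2 : ℤ) • h0 + (2 : ℤ) • h1 + h2 + h3
  · linear_combination (norm := module) h0 + (2 : ℤ) • h1 + h2 + h3
  · linear_combination (norm := module) (2 : ℤ) • h0 + (3 : ℤ) • h1 + (2 : ℤ) • h2 + (2 : ℤ) • h3

omit hT hK hφ in
theorem fixT_ker : embD4.fixT φ embD40 ⊓ (carH Kˣ).ker = ⊥ := by
  rw [eq_bot_iff]
  rintro c ⟨h1, h2⟩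
  obtain ⟨h3, h4, h5⟩ := ker_add (fun i => Additive.ofMul (c i)) ((mem_ker_carH cartanIsD4).1 h2)
  obtain ⟨h6, -, h7, -⟩ := mem_fixT.1 h1
  have h3' : (c (ι 0) : K) ^ 2 = 1 := congrArg Units.val (show c (ι 0) ^ 2 = 1 from h3)
  have h5' : (c (ι 0) : K) * c (ι 2) * c (ι 3) = 1 := congrArg Units.val (show c (ι 0) * c (ι 2) * c (ι 3) = 1 from h5)
  have h8 : φ (c (ι 0)) = c (ι 0) := by rcases sq_eq_one_iff.1 h3' with h | h <;> simp [h]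
  rw [h8] at h6
  rw [h6, h8] at h7
  rw [h6, h7, ← sq, h3', one_mul] at h5'
  refine funext fun i => ?_
  fin_cases i
  exacts [Units.ext h5', h4, Units.ext (h6.trans h5'), Units.ext (h7.trans h5')]

theorem card_H (hq : 1 < q) : Nat.card (HX xA ⊓ G1 xA σ embD40 : Subgroup _) = (q ^ 3 - 1) * (q - 1) := by
  rw [hT.H_inf_G1 hP_injD4 fun _ => hP_mem hK hφ hT, ← card_fixT hK hφ hq, ← card_map_hP, fixT_ker]
  simp

omit hT hφ in
theorem exists_setup (hq : IsPrimePow q) : ∃ (φ : K →+* K) (σ : chevD4.group K →* chevD4.group K),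
    (∀ t, φ t = t ^ q) ∧ Tw xA σ embD4 φ embD40 ∧ Function.Injective σ := by
  obtain ⟨φ, hφ⟩ := exists_frob hq hK
  have hf : embD4.Fits K := Emb.fits_one _ rfl fun _ => rfl
  obtain ⟨σ, h⟩ := exists_tw embD4_ok hf φ (hf.surj φ) embD4_pos embD4_sim
  exact ⟨φ, σ, hφ, h⟩

end Cfsg.Agent.Lie.D4T
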