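import Cfsg.Agent.Lie.Reg

set_option autoImplicit false
set_option linter.unusedSectionVars false

/-! Split BN-pairs of rank one with an abelian torus inverted by the Weyl element. -/

namespace Cfsg.Agent.Lie

/-- a split BN-pair of rank one with sharp Bruhat decomposition -/
structure Rk1 (G M : Type*) [Group G] [CommGroup M] where
  U : Subgroup G
  h : M →* G
  n : G
  h_inj : Function.Injective h
  conj : ∀ k, ∀ u ∈ U, h k * u * (h k)⁻¹ ∈ U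
  bruhat : ∀ x, (∃ u ∈ U, ∃ k, x = u * h k) ∨ ∃ u ∈ U, ∃ k, ∃ v ∈ U, x = u * (h k * n) * v
  uniq0 : ∀ k, h k ∈ U → k = 1
  uniq1 : ∀ u ∈ U, ∀ v ∈ U, ∀ u' ∈ U, ∀ v' ∈ U, ∀ k k', u * (h k * n) * v = u' * (h k' * n) * v' →
    u = u' ∧ k = k' ∧ v = v'
  disj : ∀ u ∈ U, ∀ k, n ≠ u * h k
  n_h : ∀ k, n * h k * n⁻¹ = h k⁻¹

namespace Rk1

variable {G M : Type*} [Group G] [CommGroup M] (X : Rk1 G M)

/-- the Borel subgroup -/
def B : Subgroup G := X.U ⊔ X.h.range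

theorem conj' (k : M) {u : G} (hu : u ∈ X.U) : (X.h k)⁻¹ * u * X.h k ∈ X.U := by
  simpa using X.conj k⁻¹ u hu

theorem mem_B {x : G} : x ∈ X.B ↔ ∃ u ∈ X.U, ∃ k, x = u * X.h k := by
  constructor
  · intro hx
    have : X.h.range ≤ Subgroup.normalizer (X.U : Set G) := by
      rintro _ ⟨k, rfl⟩ u
      exact ⟨X.conj k u, fun h => by simpa [mul_assoc] using X.conj' k h⟩
    rw [B, ← SetLike.mem_coe, Subgroup.coe_mul_of_right_le_normalizer_left _ _ this] at hx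
    obtain ⟨u, hu, _, ⟨k, rfl⟩, e⟩ := hx
    exact ⟨u, hu, k, e.symm⟩
  · rintro ⟨u, hu, k, rfl⟩
    exact mul_mem (Subgroup.mem_sup_left hu) (Subgroup.mem_sup_right ⟨k, rfl⟩)

theorem U_le_B : X.U ≤ X.B := le_sup_left
theorem h_mem_B (k : M) : X.h k ∈ X.B := Subgroup.mem_sup_right ⟨k, rfl⟩

theorem B_conj {b u : G} (hb : b ∈ X.B) (hu : u ∈ X.U) : b * u * b⁻¹ ∈ X.U := by
  obtain ⟨v, hv, k, rfl⟩ := X.mem_B.1 hb
  simpa [mul_assoc] using mul_mem (mul_mem hv (X.conj k u hu)) (inv_mem hv)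

theorem n_not_mem : X.n ∉ X.B := fun h => let ⟨u, hu, k, e⟩ := X.mem_B.1 h; X.disj u hu k e

theorem not_mem_B {u v : G} (hu : u ∈ X.U) (hv : v ∈ X.U) (k : M) : u * (X.h k * X.n) * v ∉ X.B := fun h =>
  X.n_not_mem (by rwa [mul_mem_cancel_right (X.U_le_B hv), mul_mem_cancel_left (X.U_le_B hu),
    mul_mem_cancel_left (X.h_mem_B k)] at h)

theorem uniqB {u u' : G} (hu : u ∈ X.U) (hu' : u' ∈ X.U) {k k' : M} (e : u * X.h k = u' * X.h k') :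
    u = u' ∧ k = k' := by
  have : k' * k⁻¹ = 1 := X.uniq0 _ (by
    rw [map_mul, map_inv, show X.h k' * (X.h k)⁻¹ = u'⁻¹ * u by
      rw [eq_inv_mul_iff_mul_eq, ← mul_assoc, ← e, mul_inv_cancel_right]]
    exact mul_mem (inv_mem hu') hu)
  rw [mul_inv_eq_one] at this
  exact ⟨mul_right_cancel (this ▸ e), this.symm⟩

theorem n_mul_h (k : M) : X.n * X.h k = X.h k⁻¹ * X.n := by rw [← X.n_h, inv_mul_cancel_right]

theorem h_comm (k k' : M) : X.h k * X.h k' = X.h k' * X.h k := by rw [← map_mul, mul_comm, map_mul]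

theorem cases (x : G) : x ∈ X.B ∨ ∃ u ∈ X.U, ∃ k, ∃ v ∈ X.U, x = u * (X.h k * X.n) * v :=
  (X.bruhat x).imp_left X.mem_B.2

theorem card_B : Nat.card X.B = Nat.card X.U * Nat.card M := by
  rw [← Nat.card_prod]
  symm
  refine Nat.card_eq_of_bijective (fun p => ⟨p.1 * X.h p.2, X.mem_B.2 ⟨_, p.1.2, _, rfl⟩⟩) ⟨fun a b e => ?_, ?_⟩
  · obtain ⟨e1, e2⟩ := X.uniqB a.1.2 b.1.2 (congrArg Subtype.val e)
    exact Prod.ext (Subtype.ext e1) e2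
  · rintro ⟨x, hx⟩
    obtain ⟨u, hu, k, rfl⟩ := X.mem_B.1 hx
    exact ⟨(⟨u, hu⟩, k), rfl⟩

theorem card_eq [Finite G] : Nat.card G = Nat.card X.U * Nat.card M * (Nat.card X.U + 1) := by
  have : Finite M := Finite.of_injective _ X.h_inj
  rw [mul_add, mul_one, add_comm, ← Nat.card_prod, ← Nat.card_prod, ← Nat.card_sum]
  symm
  refine Nat.card_eq_of_bijective (Sum.elim (fun p => p.1 * X.h p.2) fun p => p.1.1 * (X.h p.1.2 * X.n) * p.2)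
    ⟨?_, fun x => ?_⟩
  · rintro (a | a) (b | b) e <;> simp only [Sum.elim_inl, Sum.elim_inr] at e
    · obtain ⟨e1, e2⟩ := X.uniqB a.1.2 b.1.2 e
      rw [Prod.ext (Subtype.ext e1) e2]
    · exact absurd (e ▸ X.mem_B.2 ⟨_, a.1.2, _, rfl⟩) (X.not_mem_B b.1.1.2 b.2.2 _)
    · exact absurd (e ▸ X.mem_B.2 ⟨_, b.1.2, _, rfl⟩) (X.not_mem_B a.1.1.2 a.2.2 _)
    · obtain ⟨e1, e2, e3⟩ := X.uniq1 _ a.1.1.2 _ a.2.2 _ b.1.1.2 _ b.2.2 _ _ e
      rw [Prod.ext (Prod.ext (Subtype.ext e1) e2) (Subtype.ext e3)]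
  · rcases X.bruhat x with ⟨u, hu, k, rfl⟩ | ⟨u, hu, k, v, hv, rfl⟩
    exacts [⟨Sum.inl (⟨u, hu⟩, k), rfl⟩, ⟨Sum.inr ((⟨u, hu⟩, k), ⟨v, hv⟩), rfl⟩]

theorem index_B [Finite G] : X.B.index = Nat.card X.U + 1 :=
  Nat.eq_of_mul_eq_mul_left (Nat.card_pos (α := X.B)) (by rw [X.B.card_mul_index, X.card_eq, X.card_B])

theorem card_H : Nat.card X.h.range = Nat.card M := (Nat.card_congr (MonoidHom.ofInjective X.h_inj).toEquiv).symm

theorem conj_h {x : G} {k k' : M} (e : x * X.h k = X.h k' * x) :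
    (∃ u ∈ X.U, ∃ j, x = u * X.h j ∧ X.h k * u * (X.h k)⁻¹ = u ∧ k' = k) ∨
    ∃ u ∈ X.U, ∃ j, ∃ v ∈ X.U, x = u * (X.h j * X.n) * v ∧ X.h k' * u * (X.h k')⁻¹ = u ∧
      X.h k' * v * (X.h k')⁻¹ = v ∧ k' = k⁻¹ := by
  rcases X.bruhat x with ⟨u, hu, j, rfl⟩ | ⟨u, hu, j, v, hv, rfl⟩
  · obtain ⟨h1, h2⟩ := X.uniqB hu (X.conj k' u hu) (k := j * k) (k' := k' * j) (by simpa [mul_assoc] using e)
    rw [mul_comm, mul_left_inj] at h2
    exact Or.inl ⟨u, hu, j, rfl, h2 ▸ h1.symm, h2.symm⟩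
  · obtain ⟨h1, h2, h3⟩ := X.uniq1 u hu _ (X.conj k⁻¹ v hv) _ (X.conj k' u hu) v hv (j * k⁻¹) (k' * j) (by
      rw [map_mul, mul_assoc (X.h j), ← X.n_mul_h]; simpa [mul_assoc] using e)
    rw [mul_comm, mul_left_inj] at h2
    exact Or.inr ⟨u, hu, j, v, hv, rfl, h1.symm, h2 ▸ h3, h2.symm⟩

theorem TI {x u : G} (hu : u ∈ X.U) (h1 : u ≠ 1) (h : x * u * x⁻¹ ∈ X.B) : x ∈ X.B := by
  refine (X.cases x).resolve_right ?_
  rintro ⟨a, ha, k, b, hb, rfl⟩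
  obtain ⟨c, hc, j, e⟩ := X.mem_B.1 (mul_mem (mul_mem (inv_mem (X.U_le_B ha)) h) (X.U_le_B ha))
  obtain ⟨-, -, h3⟩ := X.uniq1 1 (one_mem _) _ (mul_mem (mul_mem hb hu) (inv_mem hb)) c hc 1 (one_mem _) k (j * k) (by
    rw [map_mul, mul_assoc (X.h j), ← mul_assoc c, ← e]; group)
  exact h1 (by simpa using h3)

theorem cent_le_B {u : G} (hu : u ∈ X.U) (h1 : u ≠ 1) : Subgroup.centralizer {u} ≤ X.B := fun x hx =>
  X.TI hu h1 (by rw [Subgroup.mem_centralizer_singleton_iff.1 hx, mul_inv_cancel_right]; exact X.U_le_B hu)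

theorem normalizer_U (h : X.U ≠ ⊥) : Subgroup.normalizer (X.U : Set G) = X.B := by
  obtain ⟨⟨u, hu⟩, h1⟩ := Subgroup.ne_bot_iff_exists_ne_one.1 h
  refine le_antisymm (fun x hx => X.TI hu (fun e => h1 (Subtype.ext e)) (X.U_le_B ((hx u).1 hu))) fun b hb v => ?_
  exact ⟨X.B_conj hb, fun h => by simpa [mul_assoc] using X.B_conj (inv_mem hb) h⟩

theorem pow_mul {u : G} (hu : u ∈ X.U) (k : M) (j : ℕ) : ∃ v ∈ X.U, (u * X.h k) ^ j = v * X.h (k ^ j) := by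
  induction j with
  | zero => exact ⟨1, one_mem _, by simp⟩
  | succ j ih =>
    obtain ⟨v, hv, e⟩ := ih
    exact ⟨_, mul_mem hu (X.conj k v hv), by rw [pow_succ', e, pow_succ', map_mul]; group⟩

theorem pow_eq_one {u : G} (hu : u ∈ X.U) {k : M} {j : ℕ} (h : (u * X.h k) ^ j ∈ X.U) : k ^ j = 1 := by
  obtain ⟨v, hv, e⟩ := X.pow_mul hu k j
  rw [e, mul_mem_cancel_left hv] at h
  exact X.uniq0 _ h

theorem pow_mem_U {u : G} (hu : u ∈ X.U) {k : M} {j : ℕ} (h : k ^ j = 1) : (u * X.h k) ^ j ∈ X.U := by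
  obtain ⟨v, hv, e⟩ := X.pow_mul hu k j
  rwa [e, h, map_one, mul_one]

theorem exists_conj_h [Finite G] {k : M} (hk : ∀ u ∈ X.U, X.h k * u * (X.h k)⁻¹ = u → u = 1) {u : G} (hu : u ∈ X.U) :
    ∃ v ∈ X.U, u * X.h k = v * X.h k * v⁻¹ := by
  let F : X.U → X.U := fun v => ⟨v * (X.h k * (v : G)⁻¹ * (X.h k)⁻¹), mul_mem v.2 (X.conj k _ (inv_mem v.2))⟩
  have : Function.Injective F := fun a b e => by
    have h1 : (a : G) * (X.h k * (a : G)⁻¹ * (X.h k)⁻¹) = b * (X.h k * (b : G)⁻¹ * (X.h k)⁻¹) := congrArg Subtype.val e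
    have := hk _ (mul_mem (inv_mem b.2) a.2) (by
      rw [eq_inv_mul_iff_mul_eq, ← mul_left_inj (X.h k * (a : G)⁻¹ * (X.h k)⁻¹), h1]; group)
    exact Subtype.ext (by rwa [inv_mul_eq_one, eq_comm] at this)
  obtain ⟨v, hv⟩ := Finite.surjective_of_injective this ⟨u, hu⟩
  exact ⟨v, v.2, by rw [← show _ = u from congrArg Subtype.val hv]; simp [F, mul_assoc]⟩

theorem conj_h' {x : G} {k k' : M} (hk : ∀ u ∈ X.U, X.h k * u * (X.h k)⁻¹ = u → u = 1)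
    (e : x * X.h k * x⁻¹ = X.h k') : ∃ j, (x = X.h j ∧ k' = k) ∨ (x = X.h j * X.n ∧ k' = k⁻¹) := by
  have hk' : ∀ u ∈ X.U, X.h k⁻¹ * u * (X.h k⁻¹)⁻¹ = u → u = 1 := fun u hu e =>
    hk u hu (by conv_lhs => rw [← e]
                simp [mul_assoc])
  rcases X.conj_h (mul_inv_eq_iff_eq_mul.1 e) with ⟨u, hu, j, rfl, h1, h2⟩ | ⟨u, hu, j, v, hv, rfl, h1, h2, rfl⟩
  · exact ⟨j, Or.inl ⟨by rw [hk u hu h1, one_mul], h2⟩⟩
  · exact ⟨j, Or.inr ⟨by rw [hk' u hu h1, hk' v hv h2, one_mul, mul_one], rfl⟩⟩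

theorem cent_h {k : M} (hk : ∀ u ∈ X.U, X.h k * u * (X.h k)⁻¹ = u → u = 1) (h2 : k ^ 2 ≠ 1) :
    Subgroup.centralizer {X.h k} = X.h.range := by
  refine le_antisymm (fun x hx => ?_) ?_
  · obtain ⟨j, ⟨rfl, -⟩ | ⟨-, e⟩⟩ := X.conj_h' hk (k' := k) (x := x)
      (by rw [Subgroup.mem_centralizer_singleton_iff.1 hx, mul_inv_cancel_right])
    · exact ⟨j, rfl⟩
    · exact absurd (by rw [sq]; exact mul_eq_one_iff_eq_inv.2 e) h2
  · rintro _ ⟨j, rfl⟩; exact Subgroup.mem_centralizer_singleton_iff.2 (X.h_comm _ _)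

theorem mem_normalizer_H [Finite G] (j : M) :
    X.h j ∈ Subgroup.normalizer (X.h.range : Set G) ∧ X.h j * X.n ∈ Subgroup.normalizer (X.h.range : Set G) := by
  have := Subgroup.le_normalizer (H := X.h.range) ⟨j, rfl⟩
  refine ⟨this, mul_mem this (Subgroup.mem_normalizer_fintype ?_)⟩
  rintro _ ⟨k, rfl⟩; exact ⟨_, (X.n_h k).symm⟩

theorem mem_normalizer_of_conj [Finite G] {x : G} {k : M} (hk : ∀ u ∈ X.U, X.h k * u * (X.h k)⁻¹ = u → u = 1)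
    (e : x * X.h k * x⁻¹ ∈ X.h.range) : x ∈ Subgroup.normalizer (X.h.range : Set G) := by
  obtain ⟨k', e⟩ := e
  obtain ⟨j, ⟨rfl, -⟩ | ⟨rfl, -⟩⟩ := X.conj_h' hk e.symm
  exacts [(X.mem_normalizer_H j).1, (X.mem_normalizer_H j).2]

theorem card_normalizer_H [Finite G] {k : M} (hk : ∀ u ∈ X.U, X.h k * u * (X.h k)⁻¹ = u → u = 1) :
    Nat.card (Subgroup.normalizer (X.h.range : Set G)) = 2 * Nat.card M := by
  have : Finite M := Finite.of_injective _ X.h_inj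
  rw [two_mul, ← Nat.card_sum]
  symm
  refine Nat.card_eq_of_bijective (Sum.elim (fun j => ⟨_, (X.mem_normalizer_H j).1⟩)
    fun j => ⟨_, (X.mem_normalizer_H j).2⟩) ⟨?_, fun x => ?_⟩
  · have h : ∀ a b, X.h a ≠ X.h b * X.n := fun a b e =>
      X.not_mem_B (one_mem _) (one_mem _) b (by rw [one_mul, mul_one, ← e]; exact X.h_mem_B a)
    rintro (a | a) (b | b) e <;> simp only [Sum.elim_inl, Sum.elim_inr, Subtype.mk.injEq] at e
    exacts [by rw [X.h_inj e], absurd e (h _ _), absurd e.symm (h _ _), by rw [X.h_inj (mul_right_cancel e)]]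
  · obtain ⟨k', e⟩ := (x.2 (X.h k)).1 ⟨k, rfl⟩
    obtain ⟨j, ⟨h, -⟩ | ⟨h, -⟩⟩ := X.conj_h' hk e.symm
    exacts [⟨Sum.inl j, Subtype.ext h.symm⟩, ⟨Sum.inr j, Subtype.ext h.symm⟩]

section cosets

open MulAction

theorem smul_mk (g x : G) : g • (x : G ⧸ X.B) = (g * x : G) := rfl

theorem mem_stab {g x : G} : g ∈ stabilizer G (x : G ⧸ X.B) ↔ x⁻¹ * g * x ∈ X.B := by
  rw [mem_stabilizer_iff, smul_mk, eq_comm, QuotientGroup.eq, mul_assoc]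

theorem coset_cases (x : G ⧸ X.B) : x = (1 : G) ∨ ∃ u ∈ X.U, x = (u * X.n : G) := by
  obtain ⟨x, rfl⟩ := QuotientGroup.mk_surjective x
  rcases X.cases x with h | ⟨u, hu, k, v, hv, rfl⟩
  · exact Or.inl (QuotientGroup.eq.2 (by simpa using h))
  · refine Or.inr ⟨u, hu, (QuotientGroup.eq.2 ?_).symm⟩
    rw [← inv_inv k, ← X.n_mul_h]
    simpa [mul_assoc] using mul_mem (X.h_mem_B k⁻¹) (X.U_le_B hv)

theorem two_trans {x y : G ⧸ X.B} (h : x ≠ y) : ∃ g : G, g • x = (1 : G) ∧ g • y = X.n := by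
  obtain ⟨a, rfl⟩ := QuotientGroup.mk_surjective x
  rcases X.coset_cases (a⁻¹ • y) with e | ⟨u, hu, e⟩
  · exact absurd (by rw [inv_smul_eq_iff.1 e, smul_mk, mul_one]) h
  · refine ⟨u⁻¹ * a⁻¹, QuotientGroup.eq.2 (by simpa using X.U_le_B hu), ?_⟩
    rw [mul_smul, e, smul_mk, inv_mul_cancel_left]

theorem n_ne : ((1 : G) : G ⧸ X.B) ≠ X.n := fun e => X.n_not_mem (by simpa using QuotientGroup.eq.1 e)

theorem stab_one : stabilizer G ((1 : G) : G ⧸ X.B) = X.B := by ext g; simp [mem_stab]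

theorem stab_two : stabilizer G ((1 : G) : G ⧸ X.B) ⊓ stabilizer G (X.n : G ⧸ X.B) = X.h.range := by
  have h : ∀ k, X.n⁻¹ * X.h k * X.n = X.h k⁻¹ := fun k => by rw [mul_assoc, ← inv_inv k, ← X.n_mul_h]; simp
  ext g
  rw [Subgroup.mem_inf, stab_one, mem_stab]
  constructor
  · rintro ⟨h1, h2⟩
    obtain ⟨u, hu, k, rfl⟩ := X.mem_B.1 h1
    by_cases hu1 : u = 1
    · exact ⟨k, by rw [hu1, one_mul]⟩
    · refine absurd (inv_mem_iff.1 (X.TI (x := X.n⁻¹) hu hu1 ?_)) X.n_not_mem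
      rwa [show X.n⁻¹ * (u * X.h k) * X.n = X.n⁻¹ * u * X.n⁻¹⁻¹ * (X.n⁻¹ * X.h k * X.n) by group, h,
        mul_mem_cancel_right (X.h_mem_B _)] at h2
  · rintro ⟨k, rfl⟩
    exact ⟨X.h_mem_B k, h k ▸ X.h_mem_B _⟩

theorem U_regular {u v : G} (hu : u ∈ X.U) (hv : v ∈ X.U) (e : ((u * X.n : G) : G ⧸ X.B) = (v * X.n : G)) : u = v := by
  obtain ⟨k, hk⟩ := X.stab_two.le (x := u⁻¹ * v) ⟨X.stab_one.ge (X.U_le_B (mul_mem (inv_mem hu) hv)),
    mem_stabilizer_iff.2 (by rw [mul_smul, smul_mk _ v, ← e, smul_mk, inv_mul_cancel_left])⟩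
  rw [X.uniq0 k (hk ▸ mul_mem (inv_mem hu) hv), map_one] at hk
  exact inv_mul_eq_one.1 hk.symm

theorem h_smul_eq {u : G} (hu : u ∈ X.U) {k : M} :
    X.h k • ((u * X.n : G) : G ⧸ X.B) = (u * X.n : G) ↔ X.h k * u * (X.h k)⁻¹ = u := by
  have : X.h k • ((u * X.n : G) : G ⧸ X.B) = (X.h k * u * (X.h k)⁻¹ * X.n : G) := by
    rw [smul_mk, QuotientGroup.eq, ← map_inv, mul_assoc _ (X.h k⁻¹), ← X.n_mul_h]
    simpa [mul_assoc] using X.h_mem_B k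
  rw [this]
  exact ⟨X.U_regular (X.conj k u hu) hu, fun e => by rw [e]⟩

theorem card_stab_three (x y z : G ⧸ X.B) (g : G) :
    Nat.card (stabilizer G (g • x) ⊓ stabilizer G (g • y) ⊓ stabilizer G (g • z) : Subgroup G) =
      Nat.card (stabilizer G x ⊓ stabilizer G y ⊓ stabilizer G z : Subgroup G) := by
  simp only [stabilizer_smul_eq_stabilizer_map_conj]
  rw [← Subgroup.map_inf _ _ _ (MulAut.conj g).injective, ← Subgroup.map_inf _ _ _ (MulAut.conj g).injective,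
    Subgroup.card_map_of_injective (MulAut.conj g).injective]

end cosets

theorem sylow_TI [Finite G] {p : ℕ} [Fact p.Prime] (hU : IsPGroup p X.U) (h : ¬ p ∣ X.U.index) (P Q : Sylow p G)
    (hPQ : P ≠ Q) : (P : Subgroup G) ⊓ Q = ⊥ := by
  obtain ⟨x, rfl⟩ := MulAction.exists_smul_eq G (hU.toSylow h) P
  obtain ⟨y, rfl⟩ := MulAction.exists_smul_eq G (hU.toSylow h) Q
  by_contra hne
  obtain ⟨⟨u, hu, hu'⟩, h1⟩ := Subgroup.ne_bot_iff_exists_ne_one.1 hne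
  obtain ⟨a, ha, rfl⟩ := hu
  obtain ⟨b, hb, e⟩ := hu'
  have ha1 : a ≠ 1 := fun e => h1 (Subtype.ext (by simp [e]))
  have h2 := X.TI (x := y⁻¹ * x) ha ha1 (by
    rw [show y⁻¹ * x * a * (y⁻¹ * x)⁻¹ = b by
      rw [← mul_right_inj y, ← mul_left_inj y⁻¹]; exact Eq.trans (by simp [mul_assoc]) e.symm]
    exact X.U_le_B hb)
  rw [← X.normalizer_U (Subgroup.ne_bot_iff_exists_ne_one.2 ⟨⟨a, ha⟩, fun e => ha1 (congrArg Subtype.val e)⟩)] at h2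
  exact hPQ (by rw [← inv_smul_eq_iff, ← mul_smul]; exact (Sylow.smul_eq_iff_mem_normalizer.2 h2))

end Rk1

end Cfsg.Agent.Lie
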