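import Cfsg.Agent.Lie.Tw2G2
import Cfsg.Agent.Lie.SL2
import Cfsg.Agent.Lie.Rk1

set_option autoImplicit false
set_option linter.unusedSectionVars false
set_option linter.unusedSimpArgs false
set_option maxRecDepth 100000

/-! The structure of the small Ree groups. -/

namespace Cfsg.Agent.Lie

open Cfsg.Lie
open scoped Matrix MatrixGroups

/-- the basic facts on a small Ree group -/
structure Ree (G K : Type*) [Group G] [Field K] extends Rk1 G Kˣ where
  f : SL(2, K) →* G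
  ν : Kˣ →* Kˣ
  ρ : G →* Matrix (Fin 7) (Fin 7) K
  g : G
  ρ_inj : Function.Injective ρ
  card_U : Nat.card U = Nat.card K ^ 3
  card_U3 : {u | u ∈ U ∧ u ^ 3 = 1}.ncard = Nat.card K ^ 2
  pow9 : ∀ u ∈ U, u ^ 9 = 1
  fpf : ∀ k, ∀ u ∈ U, h k * u * (h k)⁻¹ = u → k ^ 2 = 1 ∨ u = 1
  f_N : f (sN 1) = n
  f_U : ∀ u, u ∈ U ∧ h (-1) * u * (h (-1))⁻¹ = u ↔ ∃ t, u = f (sU t)
  f_U_inj : ∀ t, f (sU t) = 1 → t = 0
  f_D : ∀ c, f (sD c) = h (ν c)
  ν_sq : ∀ s, ∃ c, ν c = s * s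
  ν_neg : ν (-1) = 1
  ν_inj : ∀ c, ν c ^ 2 = 1 → c ^ 2 = 1
  g1 : g * h (-1) = n * g
  g2 : g * n = h (-1) * n * g
  g3 : g * f (sU (-1) * sL (-1)) = n * f (sU (-1) * sL (-1)) * g

namespace G2T

local notation "ι" k:max => (⟨k, by decide⟩ : Ix chevG2)
local notation "𝐫" k:max => (⟨k, by decide⟩ : Rt chevG2)

variable {K : Type*} [Field K] [CharP K 3] (φ : K →+* K)

theorem uR_mid (u : K) : uR φ 0 u 0 = xA (𝐫 8) (φ u) * xA (𝐫 10) u := by simp [uR, sys_xA.x_zero]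
theorem vR_mid (u : K) : vR φ 0 u 0 = xA (𝐫 3) (-φ u) * xA (𝐫 1) (-u) := by simp [vR, sys_xA.x_zero]

theorem c810 : ∀ a' ∈ [𝐫 8, ng (𝐫 8)], ∀ b' ∈ [𝐫 10, ng (𝐫 10)], ∀ t u : K,
    Commute (xA a' t : chevG2.group K) (xA b' u) := sys_xA.comm4 three (by decide +kernel)

theorem exists_f : ∃ f : SL(2, K) →* chevG2.group K, (∀ t, f (sU t) = uR φ 0 t 0) ∧ (∀ t, f (sL t) = vR φ 0 (-t) 0) ∧
    f (sN 1) = nX xA (𝐫 8) 1 * nX xA (𝐫 10) 1 ∧
    ∀ c, f (sD c) = hX xA (𝐫 8) (Units.map φ.toMonoidHom c) * hX xA (𝐫 10) c := by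
  obtain ⟨f1, a1, b1, c1, d1⟩ := (sys_xA (F := K)).exists_sl2 (𝐫 8)
  obtain ⟨f2, a2, b2, c2, d2⟩ := (sys_xA (F := K)).exists_sl2 (𝐫 10)
  have hc : ∀ x y, Commute (f1 x) (f2 y) := fun x y => by
    refine sl2_le (S := (Submonoid.centralizer {f2 y}).comap f1) (fun t => ?_) (fun t => ?_) x _ rfl |>.symm <;>
    · rintro _ rfl
      refine sl2_le (S := (Submonoid.centralizer {f1 _}).comap f2) (fun t => ?_) (fun t => ?_) y _ rfl |>.symm <;>
      · rintro _ rfl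
        simp only [a1, a2, b1, b2]
        exact c810 _ (by simp) _ (by simp) _ _
  have m : ∀ (A B : SL(2, K)), A.1.map φ = B.1 → Matrix.SpecialLinearGroup.map φ A = B := fun A B h => Subtype.ext h
  refine ⟨(MonoidHom.noncommCoprod f1 f2 hc).comp ((Matrix.SpecialLinearGroup.map φ).prod (MonoidHom.id _)),
    fun t => ?_, fun t => ?_, ?_, fun c => ?_⟩ <;>
    simp only [MonoidHom.comp_apply, MonoidHom.prod_apply, MonoidHom.noncommCoprod_apply, MonoidHom.id_apply]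
  · rw [m _ (sU (φ t)) (by ext i j; fin_cases i <;> fin_cases j <;> simp), a1, a2, uR_mid]
  · rw [m _ (sL (φ t)) (by ext i j; fin_cases i <;> fin_cases j <;> simp), b1, b2, vR_mid, map_neg, neg_neg, neg_neg]
    rfl
  · rw [m _ (sN 1) (by ext i j; fin_cases i <;> fin_cases j <;> simp), c1, c2]
  · rw [m _ (sD (Units.map φ.toMonoidHom c)) (by ext i j; fin_cases i <;> fin_cases j <;> simp), d1, d2]

/-- unitriangular matrices with given superdiagonal -/
def UT (M : Matrix (Fin 7) (Fin 7) K) (s : Fin 7 → K) : Prop :=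
  ∀ i j : Fin 7, (j ≤ i → (M - 1) i j = 0) ∧ ((i : ℕ) + 1 = j → (M - 1) i j = s i)

omit [CharP K 3] in
theorem UT.mul {M M' : Matrix (Fin 7) (Fin 7) K} {s s' : Fin 7 → K} (h : UT M s) (h' : UT M' s') :
    UT (M * M') (s + s') := by
  intro i j
  have h1 : M * M' - 1 = (M - 1) + (M' - 1) + (M - 1) * (M' - 1) := by noncomm_ring
  have h2 : (j : ℕ) ≤ i + 1 → ((M - 1) * (M' - 1)) i j = 0 := fun hj => by
    rw [Matrix.mul_apply]
    refine Finset.sum_eq_zero fun l _ => ?_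
    by_cases hl : l ≤ i
    · rw [(h i l).1 hl, zero_mul]
    · rw [(h' l j).1 (by omega), mul_zero]
  rw [h1, Matrix.add_apply, Matrix.add_apply]
  exact ⟨fun e => by rw [(h i j).1 e, (h' i j).1 e, h2 (by omega), add_zero, add_zero],
    fun e => by rw [(h i j).2 e, (h' i j).2 e, h2 (by omega), add_zero]; rfl⟩

omit [CharP K 3] in
theorem UT_Y7 {r : ℕ} (h : ∀ i j : Fin 7, (j ≤ i → mL (tb71 r) i j = 0) ∧ ((j : ℕ) ≤ i + 1 → mL (tb72 r) i j = 0))
    (t : K) : UT (Y7 r t) fun i => t * mL (tb71 r) i (i + 1) := fun i j =>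
  ⟨fun e => by simp [Y7, toM, (h i j).1 e, (h i j).2 (by omega)], fun e => by simp [Y7, toM, (h i j).2 e.ge, e]⟩

theorem ρ7_uR (t u v : K) : UT (ρ7 (uR φ t u v)) ![φ t, t, φ t, φ t, -t, -φ t, 0] := by
  simp only [uR, map_mul, ρ7_xA]
  convert (((((UT_Y7 (r := 7) (by decide) _).mul (UT_Y7 (r := 6) (by decide) _)).mul
    (UT_Y7 (r := 8) (by decide) _)).mul (UT_Y7 (r := 9) (by decide) _)).mul (UT_Y7 (r := 10) (by decide) _)).mul
    (UT_Y7 (r := 11) (by decide) _) using 1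
  funext i
  fin_cases i <;> simp [tb71, mL]

theorem uR_pow_nine (t u v : K) : uR φ t u v ^ 9 = 1 := by
  have : Fact (Nat.Prime 3) := ⟨Nat.prime_three⟩
  have h : ∀ k (i j : Fin 7), (j : ℕ) < i + k → ((ρ7 (uR φ t u v) - 1) ^ k) i j = 0 := fun k => by
    induction k with
    | zero => exact fun i j h => Matrix.one_apply_ne (by omega)
    | succ k ih =>
      intro i j h
      rw [pow_succ, Matrix.mul_apply]
      refine Finset.sum_eq_zero fun l _ => ?_
      by_cases hl : j ≤ l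
      · rw [(ρ7_uR φ t u v l j).1 hl, mul_zero]
      · rw [ih i l (by omega), zero_mul]
  apply ρ7_inj
  rw [map_pow, map_one, ← sub_eq_zero, ← one_pow (3 ^ 2), show 9 = 3 ^ 2 from rfl,
    ← sub_pow_char_pow_of_commute _ _ (Commute.one_right _)]
  ext i j; exact h _ i j (by omega)

theorem uR_cube {t u v : K} : uR φ t u v ^ 3 = 1 ↔ t = 0 := by
  have : Fact (Nat.Prime 3) := ⟨Nat.prime_three⟩
  constructor
  · intro h
    have h1 := congrArg ρ7 h
    rw [map_pow, map_one, ← sub_eq_zero, ← one_pow 3, ← sub_pow_char_of_commute _ (Commute.one_right _)] at h1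
    have h2 := congrFun (congrFun h1 0) 3
    have h3 := fun i j => (ρ7_uR φ t u v i j).1
    have h4 := fun i j => (ρ7_uR φ t u v i j).2
    generalize ρ7 (uR φ t u v) - 1 = M at h2 h3 h4
    simp [pow_succ, Matrix.mul_apply, Fin.sum_univ_seven, h3, h4 0 1, h4 1 2, h4 2 3] at h2
    exact h2
  · rintro rfl
    have h : ∀ (r : Rt chevG2) (t : K), xA r t ^ 3 = 1 := fun r t => by
      rw [pow_three, sys_xA.x_add, sys_xA.x_add, ← sys_xA.x_zero r]
      congr 1; linear_combination t * three (K := K)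
    have c := fun {a b : Rt chevG2} (h : CommOK 3 a b) (t u : K) => sys_xA.commute_of_OK three h t u
    simp only [uR, map_zero, sys_xA.x_zero, one_mul]
    rw [Commute.mul_pow, Commute.mul_pow, Commute.mul_pow, h, h, h, h]
    · simp
    · exact c (by decide +kernel) _ _
    · exact (c (by decide +kernel) _ _).mul_left (c (by decide +kernel) _ _)
    · exact ((c (by decide +kernel) _ _).mul_left (c (by decide +kernel) _ _)).mul_left (c (by decide +kernel) _ _)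

theorem hR_neg_conj (t u v : K) : hR φ (-1) * uR φ t u v * (hR φ (-1))⁻¹ = uR φ (-t) u (-v) := by
  have h : ∀ r : Rt chevG2, ca (ι 0) r + ca (ι 1) r = 2 * (ca (ι 0) r + ca (ι 1) r) / 2 := fun r => by omega
  simp only [uR, ← MulAut.conj_apply, map_mul]
  simp only [MulAut.conj_apply, hR_conj, show ca (ι 0) (𝐫 7) = 2 by decide +kernel,
    show ca (ι 1) (𝐫 7) = -1 by decide +kernel, show ca (ι 0) (𝐫 6) = -3 by decide +kernel,
    show ca (ι 1) (𝐫 6) = 2 by decide +kernel, show ca (ι 0) (𝐫 8) = -1 by decide +kernel,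
    show ca (ι 1) (𝐫 8) = 1 by decide +kernel, show ca (ι 0) (𝐫 9) = 1 by decide +kernel,
    show ca (ι 1) (𝐫 9) = 0 by decide +kernel, show ca (ι 0) (𝐫 10) = 3 by decide +kernel,
    show ca (ι 1) (𝐫 10) = -1 by decide +kernel, show ca (ι 0) (𝐫 11) = 0 by decide +kernel,
    show ca (ι 1) (𝐫 11) = 1 by decide +kernel]
  simp [zpow_ofNat, Odd.neg_pow (by decide : Odd 3), add_comm]

omit [CharP K 3] in
theorem sq_eq_one_iff_of_ne_zero_units {c : Kˣ} (h : c ^ 2 = 1) : c = 1 ∨ c = -1 := by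
  have : (c : K) ^ 2 = 1 := by rw [← Units.val_pow_eq_pow_val, h, Units.val_one]
  exact (sq_eq_one_iff.1 this).imp Units.ext Units.ext

/-- the map on the torus of `SL₂` -/
def νR : Kˣ →* Kˣ := Units.map φ.toMonoidHom ^ 3 * MonoidHom.id _

theorem νR_apply (c : Kˣ) : νR φ c = Units.map φ.toMonoidHom c ^ 3 * c := rfl

variable {φ} [Fintype K] {m : ℕ} (hK : Fintype.card K = 3 ^ (2 * m + 1))
  (hφ : ∀ t, φ t = t ^ 3 ^ m) {σ : chevG2.group K →* chevG2.group K} (hT : Tw xA σ embG2 φ embG20)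
include hK hφ

theorem φφ' (c : Kˣ) : Units.map φ.toMonoidHom (Units.map φ.toMonoidHom c) ^ 3 = c := Units.ext (φφ hK hφ c)

theorem hh_eq (c : Kˣ) : hX xA (𝐫 8) (Units.map φ.toMonoidHom c) * hX xA (𝐫 10) c = hR φ (νR φ c) := by
  apply Subtype.ext
  rw [θ_hR]
  refine (sys_xA.θ_hh _ _ _ _).trans (congrArg dg (funext fun j => ?_))
  rw [← chv_sim (carH _ _), chv_hR, νR_apply, map_mul, map_pow, φφ' hK hφ]
  have : ∀ j : Ix chevG2, A (𝐫 8) (sim j) = ca (ι 0) (sim j) + 3 * ca (ι 1) (sim j) ∧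
    A (𝐫 10) (sim j) = ca (ι 0) (sim j) + ca (ι 1) (sim j) := by decide +kernel
  rw [Pi.mul_apply, ← chv_sim (coch _ _), ← chv_sim (coch _ _), chv_coch_co, chv_coch_co, (this j).1, (this j).2]
  apply Additive.ofMul.injective
  simp only [ofMul_mul, ofMul_zpow, ofMul_pow]
  module

include hT

set_option maxHeartbeats 1000000 in
theorem exists_ree (hσ : Function.Injective σ) : ∃ X : Ree (twistedG2 K (3 ^ m)) K,
    X.U = (chevG2.posUnipotent K ⊓ twistedG2 K (3 ^ m)).subgroupOf _ ∧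
    X.h.range = (chevG2.diagonalSubgroup K ⊓ twistedG2 K (3 ^ m)).subgroupOf _ ∧
    X.B = (chevG2.borelSubgroup K ⊓ twistedG2 K (3 ^ m)).subgroupOf _ := by
  have hI := isTw hK hφ hT hσ
  have hF := hI.fold
  have hmem : ∀ {x : chevG2.group K}, x ∈ G1 xA σ embG20 → (x : GL _ K) ∈ twistedG2 K (3 ^ m) := fun hx =>
    hI.eq ▸ Subgroup.mem_map_of_mem _ hx
  let j : twistedG2 K (3 ^ m) →* chevG2.group K := Subgroup.inclusion (hI.eq ▸ Subgroup.map_subtype_le _)
  have hj : Function.Injective j := Subgroup.inclusion_injective _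
  have hj1 : ∀ x, j x ∈ G1 xA σ embG20 := fun x => by
    obtain ⟨y, hy, e⟩ := hI.eq.le x.2
    rwa [show j x = y from Subtype.ext e.symm]
  have hj2 : ∀ x ∈ G1 xA σ embG20, ∃ y, j y = x := fun x hx => ⟨⟨x, hmem hx⟩, rfl⟩
  have lift : ∀ {A : Type _} [Group A] (f : A →* chevG2.group K), (∀ a, f a ∈ G1 xA σ embG20) →
      ∃ f' : A →* twistedG2 K (3 ^ m), ∀ a, j (f' a) = f a := fun f hf =>
    ⟨((Subgroup.subtype _).comp f).codRestrict _ fun a => hmem (hf a), fun _ => rfl⟩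
  have hsub : ∀ S : Subgroup (chevG2.group K),
      (S.map (Subgroup.subtype _) ⊓ twistedG2 K (3 ^ m)).subgroupOf (twistedG2 K (3 ^ m)) = S.comap j := fun S => by
    ext x
    rw [Subgroup.inf_subgroupOf_right, Subgroup.mem_subgroupOf, Subgroup.mem_comap]
    exact Subgroup.mem_map_iff_mem (x := j x) Subtype.val_injective
  obtain ⟨f0, fU, fL, fN, fD⟩ := exists_f φ
  obtain ⟨f, hf⟩ := lift f0 fun a => sl2_le (S := ((G1 xA σ embG20).comap f0).toSubmonoid)
    (fun t => Subgroup.mem_comap.2 (by rw [fU]; exact uR_mem hK hφ hT _ _ _))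
    (fun t => Subgroup.mem_comap.2 (by rw [fL]; exact vR_mem hK hφ hT _ _ _)) a
  obtain ⟨h, hh⟩ := lift (hR φ) (hR_mem hK hφ hT hσ)
  obtain ⟨g, hg⟩ := hj2 _ (gR_mem hK hφ hT [(true, -1, 0, 0), (false, 1, 1, 0)])
  have hU : ∀ {x}, x ∈ (UX xA).comap j ↔ ∃ t u v, j x = uR φ t u v := fun {x} => by
    rw [← mem_U1 hK hφ hT]; exact ⟨fun h => ⟨h, hj1 x⟩, fun h => h.1⟩
  have hH : ∀ {x}, j x ∈ HX xA ↔ ∃ k, x = h k := fun {x} => by
    refine ⟨fun hx => ?_, by rintro ⟨k, rfl⟩; rw [hh]; exact hR_mem_H φ k⟩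
    obtain ⟨k, hk⟩ := (H1_eq hK hφ hT hσ).le ⟨hx, hj1 x⟩
    exact ⟨k, hj (by rw [hh, hk])⟩
  have hB : ∀ {x}, j x ∈ BX xA → ∃ u ∈ (UX xA).comap j, ∃ k, x = u * h k := fun {x} hx => by
    obtain ⟨u, hu, a, ha, e⟩ := sys_xA.mem_B.1 hx
    obtain ⟨u, rfl⟩ := hj2 u (hF.mem_of_mul_H sys_xA hu ha (e ▸ hj1 x))
    obtain ⟨k, hk⟩ := (hH (x := u⁻¹ * x)).1 (by rw [map_mul, map_inv, e]; simpa using ha)
    exact ⟨u, hu, k, by rw [← hk]; simp⟩
  set w : W chevG2 := rf (𝐫 8) * rf (𝐫 10) with hw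
  have hw1 : ∀ r, w.1 r = ng r := fun r => by
    obtain ⟨s, h1, h2⟩ : ∃ s, co s = co r - A (𝐫 10) r • co (𝐫 10) ∧ co (ng r) = co s - A (𝐫 8) s • co (𝐫 8) := by
      revert r; decide +kernel
    rw [hw, W_mul_apply, show (rf (𝐫 10)).1 r = s from co_inj (by rw [co_rf, h1])]
    exact co_inj (by rw [co_rf, h2])
  have hn : Lift xA (j (f (sN 1))) w := by rw [hf, fN]; exact (sys_xA.lift_n _ _).mul (sys_xA.lift_n _ _)
  have hn' : ∀ k, Lift xA (j (h k * f (sN 1))) w := fun k => by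
    rw [map_mul, hh, ← one_mul w]; exact (sys_xA.lift_of_mem_H (hR_mem_H φ k)).mul hn
  have hUW : UW xA w = UX (xA (F := K)) := by
    rw [UW, UX]; congr 1; ext r; simp [mem_inv, hw1, pos_ng]
  have hw2 : w ≠ 1 := fun e => absurd (hw1 (𝐫 0)) (by rw [e]; decide)
  have hcard : ∀ P : K → Prop, {x | ∃ t u v, P t ∧ j x = uR φ t u v}.ncard = Nat.card {t // P t} * Nat.card K ^ 2 := by
    intro P
    choose s hs using fun t u v => hj2 _ (uR_mem hK hφ hT t u v)
    rw [sq, ← Nat.card_prod, ← Nat.card_prod, ← Nat.card_coe_set_eq]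
    symm
    refine Nat.card_eq_of_bijective (fun p => ⟨s p.1 p.2.1 p.2.2, _, _, _, p.1.2, hs _ _ _⟩) ⟨fun a b e => ?_, ?_⟩
    · have := congrArg (fun x => j x.1) e
      simp only [hs] at this
      obtain ⟨e1, e2, e3⟩ := uR_inj φ this
      exact Prod.ext (Subtype.ext e1) (Prod.ext e2 e3)
    · rintro ⟨x, t, u, v, ht, e⟩
      exact ⟨(⟨t, ht⟩, u, v), Subtype.ext (hj (by simp only [hs, e]))⟩
  have e1 : ∀ t : ℤ, f0 (sU t) = gR K [(true, 0, t, 0)] := fun t => by rw [fU, gR_true φ]; simp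
  have e2 : ∀ t : ℤ, f0 (sL t) = gR K [(false, 0, -t, 0)] := fun t => by rw [fL, gR_false φ]; simp
  have e3 : f0 (sN 1) = gR K [(true, 0, 1, 0), (false, 0, 1, 0), (true, 0, 1, 0)] := by
    have := e1 1
    have := e2 (-1)
    simp_all [sN_eq, ← gR_append]
  have e4 : f0 (sU (-1) * sL (-1)) = gR K [(true, 0, -1, 0), (false, 0, 1, 0)] := by
    have := e1 (-1)
    have := e2 (-1)
    simp_all [← gR_append]
  refine ⟨⟨⟨(UX xA).comap j, h, f (sN 1), fun a b e => hR_inj φ (by rw [← hh, e, hh]), fun k u hu => ?_,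
    fun x => ?_, fun k hk => ?_, fun u hu v hv u' hu' v' hv' k k' e => ?_, fun u hu k e => ?_, fun k => ?_⟩,
    f, νR φ, ρ7.comp j, g, ρ7_inj.comp hj, ?_, ?_, fun u hu => ?_, fun k u hu e => ?_, rfl, fun u => ?_,
    fun t e => ?_, fun c => ?_, fun s => ?_, ?_, fun c e => ?_, ?_, ?_, ?_⟩, ?_, ?_, ?_⟩
  · rw [Subgroup.mem_comap, map_mul, map_mul, map_inv, hh]
    exact sys_xA.H_conj_XS (hR_mem_H φ k) hu
  · obtain ⟨w', hw'⟩ := sys_xA.exists_cell (g := j x) (by simp [XS_xA])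
    obtain ⟨h1, a, ha, n', h2, h3, u, hu, e⟩ := hF.bruhat sys_xA (hj1 x) hw'
    by_cases h4 : w' = 1
    · exact Or.inl (hB (sys_xA.mem_Cell_one.1 (h4 ▸ hw')))
    · have h5 : w' = w := by
        obtain ⟨e⟩ := twf hK hφ hT hσ
        have h6 : ∀ a b : Multiplicative (ZMod 2), a ≠ 1 → b ≠ 1 → a = b := by decide
        exact congrArg Subtype.val (e.injective (h6 (e ⟨w', h1⟩)
          (e ⟨w, hF.mem_Wf_of_fixed sys_xA hn (G1_le_fix (hj1 _))⟩)
          (by simpa [Subtype.ext_iff (p := (· ∈ Wf _))] using h4)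
          (by simpa [Subtype.ext_iff (p := (· ∈ Wf _))] using hw2)))
      obtain ⟨a, rfl⟩ := hj2 a ha.2
      obtain ⟨u, rfl⟩ := hj2 u hu.2
      obtain ⟨n', rfl⟩ := hj2 n' h2
      obtain ⟨k, hk⟩ := (hH (x := n' * (f (sN 1))⁻¹)).1 (by
        rw [map_mul, map_inv]; exact sys_xA.lift_mul_inv (h5 ▸ h3) hn)
      exact Or.inr ⟨a, ha.1, k, u, UW_le_UX _ _ hu.1, hj (by rw [e, ← hk]; simp)⟩
  · exact hR_inj φ ((hh k).symm.trans ((sys_xA.eq_one_of_U_H hk (hH.2 ⟨k, rfl⟩)).trans (map_one _).symm))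
  · obtain ⟨h1, h2, h3⟩ := sys_xA.sharp_unique' (hn' k) (hn' k') hu hu' (hUW.ge hv) (hUW.ge hv')
      (by simpa only [map_mul] using congrArg j e)
    refine ⟨hj h1, hR_inj φ ?_, hj h3⟩
    rw [← hh, ← hh, mul_right_cancel (hj h2)]
  · refine hw2 (sys_xA.cell_unique hn.mem_Cell (sys_xA.mem_Cell_one.2 ?_))
    rw [e, map_mul]; exact mul_mem (UX_le_BX hu) (HX_le_BX (hH.2 ⟨k, rfl⟩))
  · apply hj
    rw [map_mul, map_mul, map_inv, hh, hh, map_inv]
    exact sys_xA.conj_H_of_neg Subtype.val_injective hn hw1 (hR_mem_H φ k)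
  · have := hcard fun _ => True
    simp only [true_and, ← hU] at this
    rw [← Nat.card_coe_set_eq, Nat.card_congr (Equiv.subtypeUnivEquiv fun _ => trivial), ← pow_succ'] at this
    exact this
  · have := hcard (· = 0)
    rw [Nat.card_unique, one_mul] at this
    rw [← this]
    congr 1; ext x
    simp only [hU, ← hj.eq_iff, map_pow, map_one]
    constructor
    · rintro ⟨⟨t, u, v, e⟩, h⟩; exact ⟨t, u, v, (uR_cube φ).1 (e ▸ h), e⟩
    · rintro ⟨t, u, v, h, e⟩; exact ⟨⟨t, u, v, e⟩, e ▸ (uR_cube φ).2 h⟩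
  · obtain ⟨t, u, v, e⟩ := hU.1 hu
    exact hj (by rw [map_pow, e, uR_pow_nine, map_one])
  · by_contra! hc
    refine hc.2 (hj ((sys_xA.eq_one_of_fpf closed_pos subset_rfl (hR_mem_H φ k) (θ_hR φ k) (fun r _ e => ?_) hu
      (by rw [← hh, ← map_inv, ← map_mul, ← map_mul, e])).trans (map_one j).symm))
    rw [chv_hR, Units.ext_iff] at e
    exact hc.1 (sq_eq_one hK hφ (by simpa using e))
  · simp only [hU, ← hj.eq_iff, map_mul, map_inv, hh, hf, fU]
    constructor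
    · rintro ⟨⟨t, u, v, e⟩, h⟩
      rw [e, hR_neg_conj] at h
      obtain ⟨h1, -, h2⟩ := uR_inj φ h
      have h3 : ∀ t : K, -t = t → t = 0 := fun t h => by linear_combination h + t * three (K := K)
      exact ⟨u, by rw [e, h3 t h1, h3 v h2]⟩
    · rintro ⟨t, e⟩
      exact ⟨⟨_, _, _, e⟩, by rw [e, hR_neg_conj, neg_zero]⟩
  · exact (uR_inj φ (by rw [← fU, ← hf, e, map_one, uR_zero])).2.1
  · exact hj (by rw [hf, fD, hh, hh_eq hK hφ])
  · refine ⟨Units.map φ.toMonoidHom s ^ 3 * s⁻¹, ?_⟩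
    rw [νR_apply, map_mul, map_pow, φφ' hK hφ, map_inv]
    apply Additive.ofMul.injective
    simp only [ofMul_mul, ofMul_inv, ofMul_pow]
    module
  · exact Units.ext (by simp [νR_apply, Odd.neg_pow (by decide : Odd 3)])
  · have h1 := zpow_eq_one hK hφ (k := c ^ 2) (i := 3) (j := 1) (by
      simpa [νR_apply, mul_pow, ← pow_mul, Units.ext_iff, zpow_ofNat] using e)
    have h2 : (c ^ 2) ^ 2 = 1 := eq_one_of_cube (by
      rw [← pow_mul, ← inv_eq_one, ← zpow_natCast, ← zpow_neg]; exact h1)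
    rcases sq_eq_one_iff_of_ne_zero_units h2 with h3 | h3
    · exact h3
    · refine absurd ?_ (FiniteField.isSquare_neg_one_iff.1 ⟨(c : K), by simpa [sq] using congrArg Units.val h3.symm⟩)
      rw [hK, pow_succ, pow_mul, Nat.mul_mod, Nat.pow_mod]; simp
  · change g * h (-1) = f (sN 1) * g
    apply hj
    rw [map_mul j, map_mul j, hh, hf, hg, e3, hR_neg_one, ← gR_append, ← gR_append]
    exact gR_eq (by decide +kernel)
  · change g * f (sN 1) = h (-1) * f (sN 1) * g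
    apply hj
    rw [map_mul j, map_mul j, map_mul j, hh, hf, hg, e3, hR_neg_one, ← gR_append, ← gR_append, ← gR_append]
    exact gR_eq (by decide +kernel)
  · change g * f (sU (-1) * sL (-1)) = f (sN 1) * f (sU (-1) * sL (-1)) * g
    apply hj
    rw [map_mul j, map_mul j, map_mul j, hf, hf, hg, e3, e4, ← gR_append, ← gR_append, ← gR_append]
    exact gR_eq (by decide +kernel)
  · exact ((congrArg (fun S => (S ⊓ twistedG2 K (3 ^ m)).subgroupOf _) posU_eq').trans (hsub _)).symm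
  · refine Eq.trans ?_ ((congrArg (fun S => (S ⊓ twistedG2 K (3 ^ m)).subgroupOf _) diag_eq').trans (hsub _)).symm
    ext x; simp only [MonoidHom.mem_range, Subgroup.mem_comap, hH, eq_comm]
  · refine Eq.trans ?_ ((congrArg (fun S => (S ⊓ twistedG2 K (3 ^ m)).subgroupOf _) borel_eq').trans (hsub _)).symm
    change (UX xA).comap j ⊔ h.range = _
    refine le_antisymm (sup_le (Subgroup.comap_mono UX_le_BX) ?_) fun x hx => ?_
    · rintro _ ⟨k, rfl⟩; exact HX_le_BX (hH.2 ⟨k, rfl⟩)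
    · obtain ⟨u, hu, k, rfl⟩ := hB hx
      exact mul_mem (Subgroup.mem_sup_left hu) (Subgroup.mem_sup_right ⟨k, rfl⟩)

end G2T

end Cfsg.Agent.Lie
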