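import Cfsg.Agent.Lie.Ree0
import Cfsg.Agent.Class.Dick6

set_option autoImplicit false
set_option linter.unusedSectionVars false
set_option linter.unusedSimpArgs false

/-! Involutions in the small Ree groups. -/

namespace Cfsg.Agent.Lie

open scoped Matrix MatrixGroups
open Subgroup

theorem mem_cent {G : Type*} [Group G] {x y : G} : x ∈ centralizer {y} ↔ x * y = y * x :=
  mem_centralizer_singleton_iff

theorem card_orbit {G : Type*} [Group G] [Finite G] (M : Subgroup G) (a : G) :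
    (cov M {a}).ncard * Nat.card (M ⊓ centralizer {a} : Subgroup G) = Nat.card M := by
  rw [card_cov inf_le_left (by rintro n hn _ rfl; simp [mem_cent.1 hn.2])
    (by rintro x hx _ rfl e; exact ⟨hx, mem_cent.2 (mul_inv_eq_iff_eq_mul.1 e)⟩)]
  simp

theorem mem_cov_one {G : Type*} [Group G] {M : Subgroup G} {a g : G} : g ∈ cov M {a} ↔ ∃ x ∈ M, g = x * a * x⁻¹ :=
  ⟨by rintro ⟨x, hx, e⟩; exact ⟨x⁻¹, inv_mem hx, by rw [← Set.mem_singleton_iff.1 e]; group⟩,
    by rintro ⟨x, hx, rfl⟩; exact ⟨x⁻¹, inv_mem hx, by simp [mul_assoc]⟩⟩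

theorem sylow_cyclic {G : Type*} [Group G] [Finite G] {p : ℕ} [Fact p.Prime] {C : Subgroup G} (hC : IsCyclic C)
    (h : ¬ p ∣ C.index) (P : Sylow p G) : IsCyclic P := by
  obtain ⟨Q⟩ : Nonempty (Sylow p C) := inferInstance
  have h1 : ¬ p ∣ (Q.1.map C.subtype).index := by
    rw [index_map_subtype]; exact fun e => ((Nat.Prime.dvd_mul Fact.out).1 e).elim Q.not_dvd_index h
  have h2 : IsCyclic ((Q.isPGroup'.map C.subtype).toSylow h1) :=
    isCyclic_of_surjective _ (Q.1.equivMapOfInjective _ C.subtype_injective).surjective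
  exact isCyclic_of_surjective _ (((Q.isPGroup'.map _).toSylow h1).equiv P).surjective

section field

variable {K : Type*} [Field K] [Fintype K] {m : ℕ} (hK : Fintype.card K = 3 ^ (2 * m + 1))
include hK

theorem q_mod : Fintype.card K % 8 = 3 := by
  rw [hK, pow_succ, pow_mul, Nat.mul_mod, Nat.pow_mod]; norm_num

theorem r3_three : (3 : K) = 0 := by
  have := FiniteField.cast_card_eq_zero K
  rw [hK] at this
  exact pow_eq_zero_iff (n := 2 * m + 1) (by omega) |>.1 (by simpa using this)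

theorem r3_two : (2 : K) ≠ 0 := fun h => one_ne_zero (by linear_combination r3_three hK - h : (1 : K) = 0)

theorem r3_ns : ¬ IsSquare (-1 : K) := by
  have := q_mod hK
  rw [FiniteField.isSquare_neg_one_iff]; omega

theorem r3_sq (j : Kˣ) : ∃ s : Kˣ, j = s * s ∨ j = -1 * (s * s) := by
  by_cases h : IsSquare (j : K)
  · obtain ⟨s, hs⟩ := h
    exact ⟨Units.mk0 s (by rintro rfl; simp at hs), Or.inl (Units.ext hs)⟩
  · obtain ⟨s, hs⟩ := Class.isSquare_mul_of_not (r3_ns hK) h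
    exact ⟨Units.mk0 s (by rintro rfl; simp at hs), Or.inr (Units.ext (by simp [← hs]))⟩

theorem r3_neg : (-1 : Kˣ) ≠ 1 := fun h => r3_two hK (by
  have : (-1 : K) = 1 := by simpa using congrArg Units.val h
  linear_combination -this)

theorem r3_four {x : SL(2, K)} : x ^ 4 ≠ -1 := fun h => by
  have h1 := Class.trace_of_sq_eq_neg_one (A := x * x) (by rw [← h]; simp only [pow_succ, pow_zero, one_mul, mul_assoc])
  rw [Matrix.SpecialLinearGroup.coe_mul, Class.sl2_sq] at h1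
  simp only [Matrix.trace_sub, Matrix.trace_smul, Matrix.trace_one, Fintype.card_fin, smul_eq_mul] at h1
  exact r3_ns hK ⟨x.1.trace, by push_cast at h1; linear_combination -h1 - r3_three hK⟩

end field

namespace Ree

variable {G K : Type*} [Group G] [Finite G] [Field K] [Fintype K] (X : Ree G K) {m : ℕ}
  (hK : Fintype.card K = 3 ^ (2 * m + 1))

local notation "q" => Fintype.card K

/-- the involution in the torus -/
def a : G := X.h (-1)
/-- another involution -/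
def w : G := X.f (sU (-1) * sL (-1))

theorem a_sq : X.a * X.a = 1 := by rw [a, ← map_mul]; simp
theorem a_inv : X.a⁻¹ = X.a := inv_eq_of_mul_eq_one_right X.a_sq
theorem a_a (x : G) : X.a * (X.a * x) = x := by rw [← mul_assoc, a_sq, one_mul]

theorem f_neg_one : X.f (-1) = 1 := by
  rw [show (-1 : SL(2, K)) = sD (-1) by ext i j; fin_cases i <;> fin_cases j <;> simp, X.f_D, X.ν_neg, map_one]

theorem f_neg (x : SL(2, K)) : X.f (-x) = X.f x := by rw [← neg_one_mul, map_mul, f_neg_one, one_mul]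

theorem fU_mem (t : K) : X.f (sU t) ∈ X.U := ((X.f_U _).2 ⟨t, rfl⟩).1

theorem f_sN (c : Kˣ) : X.f (sN c) = X.h (X.ν c) * X.n := by
  rw [← X.f_D, ← X.f_N, ← map_mul]; congr 1
  ext i j; fin_cases i <;> fin_cases j <;> simp

theorem f_comm (x : SL(2, K)) : X.f x * X.a = X.a * X.f x := by
  have h1 : ∀ t, Commute X.a (X.f (sU t)) := fun t => mul_inv_eq_iff_eq_mul.1 ((X.f_U _).2 ⟨t, rfl⟩).2
  have h2 : ∀ k, Commute X.a (X.h k) := fun k => X.h_comm _ _
  have h3 : Commute X.a X.n := by simpa [a, commute_iff_eq] using (X.n_mul_h (-1)).symm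
  rcases sl2_cases x with ⟨c, t, rfl⟩ | ⟨t, c, u, rfl⟩ <;> simp only [map_mul, X.f_D, X.f_sN]
  exacts [((h2 _).mul_right (h1 _)).symm, (((h1 _).mul_right ((h2 _).mul_right h3)).mul_right (h1 _)).symm]

theorem f_eq_h {x : SL(2, K)} {k : Kˣ} (e : X.f x = X.h k) (hk : k ^ 2 = 1) : x = 1 ∨ x = -1 := by
  rcases sl2_cases x with ⟨c, t, rfl⟩ | ⟨t, c, u, rfl⟩ <;> simp only [map_mul, X.f_D, X.f_sN] at e
  · have h1 : X.f (sU t) = X.h ((X.ν c)⁻¹ * k) := by rw [map_mul, map_inv, ← e]; simp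
    have h2 := X.uniq0 _ (h1 ▸ X.fU_mem t)
    rw [h2, map_one] at h1
    rw [inv_mul_eq_one] at h2
    have h3 : (c : K) ^ 2 = 1 := by simpa using congrArg Units.val (X.ν_inj c (h2 ▸ hk))
    rw [X.f_U_inj t h1]
    rcases sq_eq_one_iff.1 h3 with h | h <;> [left; right] <;> ext i j <;> fin_cases i <;> fin_cases j <;>
      simp [h]
  · exact absurd (e ▸ X.h_mem_B k) (X.not_mem_B (X.fU_mem t) (X.fU_mem u) _)

theorem f_eq_one {x : SL(2, K)} : X.f x = 1 ↔ x = 1 ∨ x = -1 :=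
  ⟨fun e => X.f_eq_h (k := 1) (by rw [e, map_one]) (one_pow _), by rintro (rfl | rfl); exacts [map_one _, X.f_neg_one]⟩

theorem f_eq {x y : SL(2, K)} : X.f x = X.f y ↔ x = y ∨ x = -y := by
  rw [← mul_inv_eq_one, ← map_inv, ← map_mul, f_eq_one, mul_inv_eq_one, mul_inv_eq_iff_eq_mul, neg_one_mul]

theorem n_sq : X.n * X.n = 1 := by
  rw [← X.f_N, ← map_mul, f_eq_one]; right; ext i j; fin_cases i <;> fin_cases j <;> simp

theorem a_n : X.a * X.n = X.n * X.a := by rw [← X.f_N, X.f_comm]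
theorem a_w : X.a * X.w = X.w * X.a := (X.f_comm _).symm

include hK

theorem a_ne : X.a ≠ 1 := fun e => r3_neg hK (X.h_inj (e.trans (map_one _).symm))

theorem ord_a : orderOf X.a = 2 := orderOf_eq_prime (by rw [sq, a_sq]) (X.a_ne hK)

theorem f_ne_a (x : SL(2, K)) : X.f x ≠ X.a := fun e =>
  X.a_ne hK (by rw [← e, X.f_eq_one.2 (X.f_eq_h e (by simp))])

theorem f_ne (x y : SL(2, K)) : X.f x ≠ X.a * X.f y := fun e =>
  X.f_ne_a hK (x * y⁻¹) (by rw [map_mul, map_inv, e, mul_inv_cancel_right])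

theorem h_cases (j : Kˣ) : ∃ c, X.h j = X.f (sD c) ∨ X.h j = X.a * X.f (sD c) := by
  obtain ⟨s, hs⟩ := r3_sq hK j
  obtain ⟨c, hc⟩ := X.ν_sq s
  exact ⟨c, hs.imp (fun e => by rw [e, X.f_D, hc]) fun e => by rw [e, X.f_D, hc, map_mul]; rfl⟩

theorem mem_Ca {x : G} : x ∈ centralizer {X.a} ↔ ∃ y, x = X.f y ∨ x = X.a * X.f y := by
  rw [mem_cent]
  constructor
  · intro h
    rcases X.conj_h h with ⟨u, hu, j, rfl, h1, -⟩ | ⟨u, hu, j, v, hv, rfl, h1, h2, -⟩ <;>
      obtain ⟨t, rfl⟩ := (X.f_U u).1 ⟨hu, h1⟩ <;> obtain ⟨c, hc⟩ := X.h_cases hK j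
    · exact ⟨sU t * sD c, hc.imp (fun e => by rw [e, map_mul]) fun e => by
        rw [e, map_mul, ← mul_assoc, X.f_comm, mul_assoc]⟩
    · obtain ⟨t', rfl⟩ := (X.f_U v).1 ⟨hv, h2⟩
      exact ⟨sU t * (sD c * sN 1) * sU t', hc.imp (fun e => by simp only [e, map_mul, X.f_N]) fun e => by
        simp only [e, map_mul, X.f_N, ← mul_assoc, X.f_comm]⟩
  · rintro ⟨y, rfl | rfl⟩
    exacts [X.f_comm y, by rw [mul_assoc, X.f_comm]]

theorem Ca_equiv : Nonempty (centralizer {X.a} ≃* Multiplicative (ZMod 2) × PSL(2, K)) := by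
  let f1 : PSL(2, K) →* G := QuotientGroup.lift _ X.f fun x hx =>
    X.f_eq_one.2 (Class.psl_eq_one_iff.1 ((QuotientGroup.eq_one_iff x).2 hx))
  let f2 : Multiplicative (ZMod 2) →* G := MonoidHom.mk' (fun i => if i = 1 then 1 else X.a) (by
    intro i j; fin_cases i <;> fin_cases j
    exacts [by simp; rfl, by simp; rfl, by simp; rfl, by rw [if_pos (by decide), if_neg (by decide), X.a_sq]])
  have h2 : ∀ i, (i = 1 ∧ f2 i = 1) ∨ f2 i = X.a := fun i => by
    by_cases h : i = 1 <;> simp [f2, h]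
  let F := MonoidHom.noncommCoprod f2 f1 fun i x => by
    obtain ⟨x, rfl⟩ := QuotientGroup.mk_surjective x
    rcases h2 i with ⟨-, e⟩ | e <;> rw [e]
    exacts [Commute.one_left _, (X.f_comm x).symm]
  have hF : ∀ i (x : SL(2, K)), F (i, x) = f2 i * X.f x := fun _ _ => rfl
  have h1 : Function.Injective F := (injective_iff_map_eq_one F).2 fun ⟨i, x⟩ e => by
    obtain ⟨x, rfl⟩ := QuotientGroup.mk_surjective x
    rcases h2 i with ⟨rfl, e'⟩ | e' <;> rw [hF, e'] at e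
    · rw [Class.psl_eq_one_iff.2 (X.f_eq_one.1 (by simpa using e))]; rfl
    · exact absurd ((map_one _).trans e.symm) (X.f_ne hK _ _)
  have h3 : F.range = centralizer {X.a} := by
    ext x
    rw [X.mem_Ca hK]
    constructor
    · rintro ⟨⟨i, x⟩, rfl⟩
      obtain ⟨x, rfl⟩ := QuotientGroup.mk_surjective x
      exact ⟨x, (h2 i).imp (fun e => by rw [hF, e.2, one_mul]) fun e => by rw [hF, e]⟩
    · rintro ⟨y, rfl | rfl⟩
      exacts [⟨(1, y), by rw [hF, map_one, one_mul]⟩, ⟨(Multiplicative.ofAdd 1, y), by rw [hF]; rfl⟩]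
  exact ⟨((MonoidHom.ofInjective h1).trans (MulEquiv.subgroupCongr h3)).symm⟩

theorem card_Ca : Nat.card (centralizer {X.a}) = q * (q ^ 2 - 1) := by
  obtain ⟨e⟩ := X.Ca_equiv hK
  have := q_mod hK
  rw [Nat.card_congr e.toEquiv, Nat.card_prod, ← Class.card_PSL2, Nat.gcd_eq_left (by omega)]
  simp

omit hK in include X in
theorem card_G : Nat.card G = q ^ 3 * (q - 1) * (q ^ 3 + 1) := by
  rw [X.card_eq, X.card_U, Nat.card_units, Nat.card_eq_fintype_card (α := K)]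

/-- the cyclotomic factor -/
def Q (K : Type*) [Fintype K] : ℕ := Fintype.card K ^ 2 - Fintype.card K + 1

omit hK in
theorem Q_eq : (Q K : ℤ) = q ^ 2 - q + 1 := by
  rw [Q]; push_cast [Nat.le_self_pow two_ne_zero]; rfl

omit hK in include X in
theorem card_G' : Nat.card G = q ^ 3 * (q - 1) * (q + 1) * Q K := by
  rw [X.card_G, mul_assoc _ (q + 1)]; congr 1; zify; rw [Q_eq]; ring

theorem index_Ca : (centralizer {X.a}).index = q ^ 2 * Q K := by
  refine Nat.eq_of_mul_eq_mul_left (Nat.card_pos (α := centralizer {X.a})) ?_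
  rw [card_mul_index, X.card_G', X.card_Ca hK]
  zify [Fintype.card_pos, Nat.one_le_pow 2 q Fintype.card_pos]; ring

omit hK in
theorem Q_odd : ¬ 2 ∣ Q K := by
  rw [← Int.natCast_dvd_natCast, Q_eq, show (q : ℤ) ^ 2 - q + 1 = q * (q - 1) + 1 by ring]
  have := Int.even_mul_pred_self (q : ℤ)
  grind

theorem conj_Ca {y : G} {k : ℕ} (hy : y ^ 2 ^ k = 1) : ∃ x, x * y * x⁻¹ ∈ centralizer {X.a} := by
  refine exists_conj_mem Nat.prime_two ?_ hy
  have := q_mod hK
  rw [X.index_Ca hK, Nat.Prime.dvd_mul Nat.prime_two, not_or]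
  exact ⟨fun h => by have := Nat.prime_two.dvd_of_dvd_pow h; omega, Q_odd⟩

omit hK in
theorem mul_pow_a (x : SL(2, K)) (k : ℕ) : (X.a * X.f x) ^ (2 * k) = X.f (x ^ (2 * k)) := by
  rw [Commute.mul_pow (X.f_comm x).symm, pow_mul X.a, sq, a_sq, one_pow, one_mul, map_pow]

include X in
theorem sq_of_four {y : G} (hy : y ^ 4 = 1) : y ^ 2 = 1 := by
  obtain ⟨x, hx⟩ := X.conj_Ca hK (k := 2) hy
  obtain ⟨z, hz⟩ := (X.mem_Ca hK).1 hx
  have h : ∀ k, (x * y * x⁻¹) ^ (2 * k) = X.f (z ^ (2 * k)) := fun k => by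
    rcases hz with e | e <;> rw [e]
    exacts [(map_pow _ _ _).symm, X.mul_pow_a _ _]
  have h1 := h 2
  have h2 := h 1
  rw [conj_pow, show 2 * 2 = 4 from rfl, hy, mul_one, mul_inv_cancel, eq_comm, f_eq_one] at h1
  rw [conj_pow, mul_one, X.f_eq_one.2 (Class.sl2_sq_eq_one (r3_two hK) (by
    rw [← pow_add, h1.resolve_right (r3_four hK)]))] at h2
  simpa using h2

include X in
theorem sq_of_pow {y : G} {k : ℕ} (hy : y ^ 2 ^ k = 1) : y ^ 2 = 1 := by
  induction k generalizing y with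
  | zero => simp_all
  | succ k ih => exact X.sq_of_four hK (by rw [show 4 = 2 * 2 from rfl, pow_mul, ih (by rwa [← pow_mul, ← pow_succ'])])

include X in
theorem card_sylow (S : Sylow 2 G) : Nat.card S = 8 := by
  have h := q_mod hK
  obtain ⟨c, hc⟩ : ∃ c, q = 8 * c + 3 := ⟨q / 8, by omega⟩
  have h1 : Nat.card G = 2 ^ 3 * (q ^ 3 * (4 * c + 1) * (2 * c + 1) * Q K) := by
    rw [X.card_G', show q - 1 = 2 * (4 * c + 1) by omega, show q + 1 = 4 * (2 * c + 1) by omega]; ring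
  have h2 : ¬ 2 ∣ q ^ 3 * (4 * c + 1) * (2 * c + 1) * Q K := by
    simp only [Nat.Prime.dvd_mul Nat.prime_two, not_or]
    exact ⟨⟨⟨fun h => by have := Nat.prime_two.dvd_of_dvd_pow h; omega, by omega⟩, by omega⟩, Q_odd⟩
  rw [S.card_eq_multiplicity, h1, Nat.factorization_mul (by simp) (by rintro e; simp [e] at h2),
    Nat.Prime.factorization_pow Nat.prime_two]
  simp [Nat.factorization_eq_zero_of_not_dvd h2]

omit hK in
theorem g_a : X.g * X.a * X.g⁻¹ = X.n := mul_inv_eq_iff_eq_mul.2 X.g1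
omit hK in
theorem g_n : X.g * X.n * X.g⁻¹ = X.a * X.n := mul_inv_eq_iff_eq_mul.2 X.g2
omit hK in
theorem g_w : X.g * X.w * X.g⁻¹ = X.n * X.w := mul_inv_eq_iff_eq_mul.2 X.g3

theorem conj_a {y : G} (hy : y * y = 1) (h1 : y ≠ 1) : IsConj X.a y := by
  obtain ⟨x, hx⟩ := X.conj_Ca hK (k := 1) (y := y) (by rwa [pow_one, sq])
  obtain ⟨z, hz⟩ := (X.mem_Ca hK).1 hx
  refine IsConj.trans ?_ (isConj_iff.2 ⟨x, rfl⟩).symm
  have h : (x * y * x⁻¹) ^ (2 * 1) = X.f (z ^ (2 * 1)) := by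
    rcases hz with e | e <;> rw [e]
    exacts [(map_pow _ _ _).symm, X.mul_pow_a _ _]
  rw [conj_pow, mul_one, sq, hy, mul_one, mul_inv_cancel, eq_comm, f_eq_one, sq] at h
  rcases h with h | h
  · rw [X.f_eq_one.2 (Class.sl2_sq_eq_one (r3_two hK) h)] at hz
    rw [hz.resolve_left (by simpa using h1), mul_one]
  · obtain ⟨c, rfl⟩ := isConj_iff.1 (Class.isConj_of_sq_eq_neg_one (r3_two hK) (a := sN 1) (by
      ext i j; fin_cases i <;> fin_cases j <;> simp) h)
    have h2 := isConj_iff.2 ⟨_, X.g_a⟩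
    simp only [map_mul, map_inv, X.f_N] at hz
    rcases hz with e | e <;> rw [e]
    · exact h2.trans (isConj_iff.2 ⟨_, rfl⟩)
    · exact (h2.trans (isConj_iff.2 ⟨_, X.g_n⟩)).trans (isConj_iff.2 ⟨X.f c, by simp only [← mul_assoc, X.f_comm]⟩)

theorem fix_sq {k : Kˣ} (hk : k ^ 2 = 1) : X.h k = 1 ∨ X.h k = X.a := by
  have h3 : (k : K) ^ 2 = 1 := by simpa using congrArg Units.val hk
  rcases sq_eq_one_iff.1 h3 with h | h
  exacts [Or.inl (by rw [show k = 1 from Units.ext h, map_one]), Or.inr (by rw [show k = -1 from Units.ext h]; rfl)]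

theorem U_pgroup : IsPGroup 3 X.U := fun u => ⟨2, Subtype.ext (X.pow9 u u.2)⟩

theorem index_U : X.U.index = (q - 1) * (q ^ 3 + 1) := by
  refine Nat.eq_of_mul_eq_mul_left (Nat.card_pos (α := X.U)) ?_
  rw [card_mul_index, X.card_G, X.card_U, Nat.card_eq_fintype_card, mul_assoc]

omit X in
theorem three_dvd : 3 ∣ q := hK ▸ dvd_pow_self 3 (by omega)

theorem index_U' : ¬ 3 ∣ X.U.index := by
  have h := three_dvd hK
  have h1 := h.trans (dvd_pow_self q three_ne_zero)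
  have := Fintype.card_pos (α := K)
  rw [X.index_U hK, Nat.Prime.dvd_mul Nat.prime_three]; omega

theorem stab_le (x y z : G ⧸ X.B) (h1 : x ≠ y) (h2 : x ≠ z) (h3 : y ≠ z) :
    Nat.card (MulAction.stabilizer G x ⊓ MulAction.stabilizer G y ⊓ MulAction.stabilizer G z : Subgroup G) ≤ 2 := by
  obtain ⟨g, e1, e2⟩ := X.two_trans h1
  rw [← X.card_stab_three x y z g, e1, e2, X.stab_two]
  rcases X.coset_cases (g • z) with e | ⟨u, hu, e⟩
  · exact absurd (smul_left_cancel g (e1.trans e.symm)) h2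
  have hu1 : u ≠ 1 := fun e' => h3 (smul_left_cancel g (by rw [e2, e, e', one_mul]))
  refine (Subgroup.card_le_of_le (K := zpowers X.a) ?_).trans (by rw [Nat.card_zpowers]; exact orderOf_le_of_pow_eq_one two_pos (by rw [sq, a_sq]))
  rintro _ ⟨⟨k, rfl⟩, h⟩
  rw [e] at h
  rcases X.fix_sq hK ((X.fpf k u hu ((X.h_smul_eq hu).1 h)).resolve_right hu1) with e | e <;> rw [e]
  exacts [one_mem _, mem_zpowers _]

theorem stab_eq : ∃ x y z : G ⧸ X.B, x ≠ y ∧ x ≠ z ∧ y ≠ z ∧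
    Nat.card (MulAction.stabilizer G x ⊓ MulAction.stabilizer G y ⊓ MulAction.stabilizer G z : Subgroup G) = 2 := by
  have hu := X.fU_mem 1
  have h2 : ((1 : G) : G ⧸ X.B) ≠ (X.f (sU 1) * X.n : G) := fun e => X.n_not_mem (by
    simpa [mul_mem_cancel_left (X.U_le_B hu)] using QuotientGroup.eq.1 e)
  have h3 : (X.n : G ⧸ X.B) ≠ (X.f (sU 1) * X.n : G) := fun e =>
    one_ne_zero (X.f_U_inj 1 (X.U_regular (one_mem _) hu (by rwa [one_mul])).symm)
  refine ⟨_, _, _, X.n_ne, h2, h3, le_antisymm (X.stab_le hK _ _ _ X.n_ne h2 h3) ?_⟩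
  rw [X.stab_two]
  exact ((Nat.card_zpowers _).trans (X.ord_a hK)).ge.trans <| Subgroup.card_le_of_le (zpowers_le.2 ⟨⟨_, rfl⟩, (X.h_smul_eq hu).2 ((X.f_U _).2 ⟨1, rfl⟩).2⟩)

end Ree

end Cfsg.Agent.Lie
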