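import Cfsg.Agent.Lie.Ree1

set_option autoImplicit false
set_option linter.unusedSectionVars false
set_option linter.unusedSimpArgs false

/-! The torus of order `q + 1` and the Sylow 2-normaliser in the small Ree groups. -/

namespace Cfsg.Agent.Lie

open scoped Matrix MatrixGroups
open Subgroup

theorem exists_conj_of_comm {G : Type*} [Group G] [Finite G] {A T : Subgroup G} {r : ℕ} (hr : r.Prime)
    (h : ¬ r ∣ A.index) (hT : ∀ y ∈ A, orderOf y = r → centralizer {y} ≤ T) {x y : G} (hx : r ∣ orderOf x)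
    (hy : Commute x y) : ∃ c, c * y * c⁻¹ ∈ T := by
  have h1 := orderOf_pow_orderOf_div (orderOf_pos x).ne' hx
  obtain ⟨c, hc⟩ := exists_conj_mem hr h (y := x ^ (orderOf x / r)) (k := 1)
    (by rw [pow_one]; exact orderOf_dvd_iff_pow_eq_one.1 h1.dvd)
  exact ⟨c, hT _ hc (by rw [orderOf_conj', h1]) (mem_cent.2 ((hy.pow_left _).symm.conj c))⟩

theorem normalizer_of_cent {G : Type*} [Group G] [Finite G] {T : Subgroup G} {x y : G} (h : centralizer {y} = T)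
    (h' : centralizer {x * y * x⁻¹} = T) : x ∈ normalizer (T : Set G) :=
  mem_normalizer_fintype fun t ht => by
    rw [← h', SetLike.mem_coe, mem_cent]
    rw [← h, SetLike.mem_coe, mem_cent] at ht
    exact Commute.conj ht x

section field

variable {K : Type*} [Field K] [Fintype K] {m : ℕ} (hK : Fintype.card K = 3 ^ (2 * m + 1))

/-- the non-split torus of `SL₂` -/
def ZJ (K : Type*) [Field K] : Subgroup SL(2, K) := centralizer {sN 1}

theorem mem_ZJ {x : SL(2, K)} : x ∈ ZJ K ↔ x 1 1 = x 0 0 ∧ x 1 0 = -x 0 1 := by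
  rw [ZJ, mem_cent]
  constructor
  · intro h
    have h1 := congrArg (fun y : SL(2, K) => y 0 0) h
    have h2 := congrArg (fun y : SL(2, K) => y 0 1) h
    simp [Matrix.mul_apply] at h1 h2
    exact ⟨h2.symm, h1.symm⟩
  · rintro ⟨h1, h2⟩
    ext i j; fin_cases i <;> fin_cases j <;> simp [Matrix.mul_apply, h1, h2]

theorem sN_sq : (sN 1 : SL(2, K)) * sN 1 = -1 := by ext i j; fin_cases i <;> fin_cases j <;> simp

theorem ZJ_comm {x y : SL(2, K)} (hx : x ∈ ZJ K) (hy : y ∈ ZJ K) : x * y = y * x := by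
  obtain ⟨h1, h2⟩ := mem_ZJ.1 hx
  obtain ⟨h3, h4⟩ := mem_ZJ.1 hy
  ext i j; fin_cases i <;> fin_cases j <;> simp [Matrix.mul_apply, h1, h2, h3, h4] <;> ring

theorem mem_ZJ_of_comm {x y : SL(2, K)} (hy : y ∈ ZJ K) (h : x * y = y * x) (h0 : y 0 1 ≠ 0) : x ∈ ZJ K := by
  obtain ⟨h3, h4⟩ := mem_ZJ.1 hy
  have h1 := congrArg (fun y : SL(2, K) => y 0 0) h
  have h2 := congrArg (fun y : SL(2, K) => y 0 1) h
  simp only [Matrix.SpecialLinearGroup.coe_mul, Matrix.mul_apply, Fin.sum_univ_two, h3, h4] at h1 h2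
  exact mem_ZJ.2 ⟨mul_left_cancel₀ h0 (by linear_combination -h2), mul_left_cancel₀ h0 (by linear_combination -h1)⟩

theorem ZJ_scalar {y : SL(2, K)} (hy : y ∈ ZJ K) (h0 : y 0 1 = 0) : y = 1 ∨ y = -1 := by
  obtain ⟨h3, h4⟩ := mem_ZJ.1 hy
  refine Class.sl2_scalar (u := y 0 0) ?_
  ext i j; fin_cases i <;> fin_cases j <;> simp [h3, h4, h0]

theorem sq_of_anti (h2 : (2 : K) ≠ 0) {x y : SL(2, K)} (h : x * y = -(y * x)) : y * y = -1 := by
  refine Class.sl2_sq_of_trace (mul_left_cancel₀ h2 ?_)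
  have h1 : (x * y * x⁻¹).1.trace = (-y).1.trace := by rw [h]; simp
  rw [Matrix.SpecialLinearGroup.coe_mul, Matrix.trace_mul_comm, ← Matrix.SpecialLinearGroup.coe_mul,
    inv_mul_cancel_left, Matrix.SpecialLinearGroup.coe_neg, Matrix.trace_neg] at h1
  linear_combination h1

include hK

theorem card_ZJ : Nat.card (ZJ K) = Fintype.card K + 1 :=
  (Class.card_centralizer_of_sq (r3_two hK) sN_sq).2 (by have := q_mod hK; omega)

theorem ZJ_cyclic : IsCyclic (ZJ K) := by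
  let L := AlgebraicClosure K
  obtain ⟨i, hi⟩ := IsAlgClosed.exists_pow_nat_eq (-1 : L) two_pos
  let φ : ZJ K →* L :=
    { toFun x := algebraMap K L (x.1 0 0) + i * algebraMap K L (x.1 0 1)
      map_one' := by simp
      map_mul' x y := by
        obtain ⟨h3, h4⟩ := mem_ZJ.1 y.2
        simp [Matrix.mul_apply, h3, h4]
        linear_combination -(algebraMap K L (x.1 0 1) * algebraMap K L (y.1 0 1)) * hi }
  refine isCyclic_of_injective_ringHom φ ((injective_iff_map_eq_one φ).2 fun x hx => ?_)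
  change algebraMap K L (x.1 0 0) + i * algebraMap K L (x.1 0 1) = 1 at hx
  have h0 : x.1 0 1 = 0 := by
    by_contra h0
    refine r3_ns hK ⟨(x.1 0 0 - 1) / x.1 0 1, ?_⟩
    field_simp
    apply (algebraMap K L).injective
    simp only [map_neg, map_pow, map_sub, map_one]
    rw [← hx]; linear_combination -(algebraMap K L (x.1 0 1)) ^ 2 * hi
  obtain ⟨h3, h4⟩ := mem_ZJ.1 x.2
  have h1 : x.1 0 0 = 1 := (algebraMap K L).injective (by simpa [h0] using hx)
  ext i j; fin_cases i <;> fin_cases j <;> simp [h3, h4, h0, h1]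

theorem w_ZJ {y : SL(2, K)} (hy : y ∈ ZJ K) : sU (-1) * sL (-1) * y * (sU (-1) * sL (-1))⁻¹ = y⁻¹ := by
  obtain ⟨h3, h4⟩ := mem_ZJ.1 hy
  have h := r3_three hK
  rw [mul_inv_eq_iff_eq_mul]
  ext i j; fin_cases i <;> fin_cases j <;>
    simp [Matrix.mul_apply, h3, h4, Matrix.SpecialLinearGroup.coe_inv, Matrix.adjugate_fin_two] <;>
    first | ring1 | linear_combination y 0 1 * h | linear_combination -y 0 1 * h

theorem w_sq : (sU (-1) * sL (-1) : SL(2, K)) * (sU (-1) * sL (-1)) = -1 :=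
  Class.sl2_sq_of_trace (by simp [Matrix.trace_fin_two]; linear_combination r3_three hK)

theorem ZJ_sq {y : SL(2, K)} (hy : y ∈ ZJ K) (h : y * y = -1) : y = sN 1 ∨ y = -sN 1 := by
  obtain ⟨h3, h4⟩ := mem_ZJ.1 hy
  have h1 := Class.trace_of_sq_eq_neg_one h
  have h2 := sl2_det y
  rw [Matrix.trace_fin_two, h3, ← two_mul, mul_eq_zero, or_iff_right (r3_two hK)] at h1
  have h5 : y 0 1 ^ 2 = 1 := by rw [h1, h4] at h2; linear_combination h2
  rcases sq_eq_one_iff.1 h5 with h | h <;> [left; right] <;> ext i j <;> fin_cases i <;> fin_cases j <;>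
    simp [h, h3, h4, h1]

theorem exists_gen : ∃ z : SL(2, K), orderOf z = Fintype.card K + 1 ∧ zpowers z = ZJ K := by
  obtain ⟨z, hz⟩ := (ZJ_cyclic hK).exists_ofOrder_eq_natCard
  have h : orderOf (z : SL(2, K)) = Nat.card (ZJ K) := by rw [orderOf_coe, hz]
  exact ⟨z, h.trans (card_ZJ hK), eq_of_le_of_card_ge (zpowers_le.2 z.2) (by rw [Nat.card_zpowers, h])⟩

end field

namespace Ree

variable {G K : Type*} [Group G] [Finite G] [Field K] [Fintype K] (X : Ree G K) {m : ℕ}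
  (hK : Fintype.card K = 3 ^ (2 * m + 1))

local notation "q" => Fintype.card K

/-- the torus of order `q + 1` -/
def T : Subgroup G := (ZJ K).map X.f ⊔ zpowers X.a
/-- the centraliser of the four-group -/
def CV : Subgroup G := X.T ⊔ zpowers X.w

theorem T1 : ∀ y ∈ (ZJ K).map X.f, X.a * y * X.a⁻¹ ∈ (ZJ K).map X.f := by
  rintro _ ⟨y, hy, rfl⟩; exact ⟨y, hy, by rw [← X.f_comm, mul_inv_cancel_right]⟩

theorem mem_T {x : G} : x ∈ X.T ↔ ∃ y ∈ ZJ K, x = X.f y ∨ x = X.a * X.f y := by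
  rw [T, Inv.mem_sup_zpowers_iff X.T1 (by rw [a_sq]; exact one_mem _)]
  simp only [mem_map, @eq_comm _ _ (X.f _), eq_mul_inv_iff_mul_eq, X.f_comm, and_or_left, exists_or, @eq_comm _ x]

theorem a_mem : X.a ∈ X.T := mem_sup_right (mem_zpowers _)
theorem n_mem : X.n ∈ X.T := mem_sup_left ⟨_, mem_cent.2 rfl, X.f_N⟩

theorem T_comm {x y : G} (hx : x ∈ X.T) (hy : y ∈ X.T) : Commute x y := by
  obtain ⟨x, h1, hx⟩ := X.mem_T.1 hx
  obtain ⟨y, h2, hy⟩ := X.mem_T.1 hy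
  have h3 : Commute (X.f x) (X.f y) := Commute.map (ZJ_comm h1 h2) _
  have h4 : ∀ x, Commute (X.f x) X.a := X.f_comm
  rcases hx with rfl | rfl <;> rcases hy with rfl | rfl
  exacts [h3, (h4 _).mul_right h3, (h4 _).symm.mul_left h3,
    ((Commute.refl _).mul_right (h4 _).symm).mul_left ((h4 _).mul_right h3)]

include hK

theorem exists_t : ∃ t, orderOf t = (q + 1) / 2 ∧ zpowers t = (ZJ K).map X.f := by
  obtain ⟨z, h1, h2⟩ := exists_gen hK
  have h := q_mod hK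
  refine ⟨X.f z, (orderOf_eq_iff (by omega)).2 ⟨?_, fun k hk hk' e => ?_⟩, by rw [← h2, MonoidHom.map_zpowers]⟩
  · rw [← map_pow, f_eq_one]
    refine Class.sl2_sq_eq_one (r3_two hK) ?_
    rw [← pow_add, show (q + 1) / 2 + (q + 1) / 2 = q + 1 by omega, ← h1, pow_orderOf_eq_one]
  · rw [← map_pow, f_eq_one] at e
    refine pow_ne_one_of_lt_orderOf (x := z) (n := k + k) (by omega) (by omega) ?_
    rcases e with e | e <;> simp [pow_add, e]

theorem card_T : Nat.card X.T = q + 1 := by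
  obtain ⟨t, h1, h2⟩ := X.exists_t hK
  have h := q_mod hK
  rw [T, Inv.card_sup_zpowers X.T1 (by rw [a_sq]; exact one_mem _) (by rintro ⟨y, -, e⟩; exact X.f_ne_a hK y e),
    ← h2, Nat.card_zpowers, h1]
  omega

theorem pow_T {x : G} (hx : x ∈ X.T) : x ^ ((q + 1) / 2) = 1 := by
  obtain ⟨t, h1, h2⟩ := X.exists_t hK
  have h := q_mod hK
  obtain ⟨y, hy, hx⟩ := X.mem_T.1 hx
  have h3 : X.f y ^ ((q + 1) / 2) = 1 := by
    rw [← orderOf_dvd_iff_pow_eq_one, ← h1]; exact orderOf_dvd_of_mem_zpowers (h2 ▸ ⟨y, hy, rfl⟩)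
  rcases hx with rfl | rfl
  · exact h3
  · rw [show (q + 1) / 2 = 2 * ((q + 1) / 4) by omega] at h3 ⊢
    rw [mul_pow_a, map_pow, h3]

theorem w_w : X.w * X.w = 1 := by rw [w, ← map_mul, w_sq hK, f_neg_one]

theorem w_T {x : G} (hx : x ∈ X.T) : X.w * x * X.w⁻¹ = x⁻¹ := by
  obtain ⟨y, hy, hx⟩ := X.mem_T.1 hx
  have h : X.w * X.f y * X.w⁻¹ = (X.f y)⁻¹ := by rw [w, ← map_inv, ← map_mul, ← map_mul, w_ZJ hK hy, map_inv]
  rcases hx with rfl | rfl
  · exact h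
  · rw [← mul_assoc, ← a_w, mul_assoc X.a, mul_assoc X.a, h, ← X.f_comm, mul_inv_rev, a_inv]

theorem sq_T {x : G} (hx : x ∈ X.T) (h : x * x = 1) : x = 1 ∨ x = X.a ∨ x = X.n ∨ x = X.a * X.n := by
  obtain ⟨y, hy, hx⟩ := X.mem_T.1 hx
  have h1 : X.f (y * y) = 1 := by
    rcases hx with rfl | rfl
    · rwa [map_mul]
    · simpa [sq, h] using (X.mul_pow_a y 1).symm
  have h2 : X.f y = 1 ∨ X.f y = X.n := (X.f_eq_one.1 h1).imp
    (fun e => X.f_eq_one.2 (Class.sl2_sq_eq_one (r3_two hK) e)) fun e => X.f_N ▸ X.f_eq.2 (ZJ_sq hK hy e)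
  rcases hx with rfl | rfl <;> rcases h2 with e | e <;> simp [e]

theorem n_ne_one : X.n ≠ 1 := fun e => X.n_not_mem (e ▸ one_mem _)
theorem n_ne_a : X.n ≠ X.a := fun e => X.n_not_mem (e ▸ X.h_mem_B _)

theorem n_w : X.n * X.w = X.w * X.n := by
  have := X.w_T hK X.n_mem
  rwa [inv_eq_of_mul_eq_one_right X.n_sq, mul_inv_eq_iff_eq_mul, eq_comm] at this

theorem w_not_mem : X.w ∉ X.T := fun h => by
  obtain ⟨y, hy, e | e⟩ := X.mem_T.1 h
  · have h1 : sU (-1) * sL (-1) ∈ ZJ K := by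
      rcases X.f_eq.1 e with e | e <;> rw [e]
      exacts [hy, mem_cent.2 (by rw [neg_mul, mul_neg, mem_cent.1 hy])]
    have := (mem_ZJ.1 h1).1
    simp at this
  · exact X.f_ne hK _ _ e

theorem CV1 : ∀ y ∈ X.T, X.w * y * X.w⁻¹ ∈ X.T := fun y hy => X.w_T hK hy ▸ inv_mem hy

theorem mem_CV' {x : G} : x ∈ X.CV ↔ x ∈ X.T ∨ x * X.w⁻¹ ∈ X.T :=
  Inv.mem_sup_zpowers_iff (X.CV1 hK) (by rw [X.w_w hK]; exact one_mem _)

theorem card_CV : Nat.card X.CV = 2 * (q + 1) := by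
  rw [CV, Inv.card_sup_zpowers (X.CV1 hK) (by rw [X.w_w hK]; exact one_mem _) (X.w_not_mem hK), X.card_T hK]

theorem mem_CV {x : G} : x ∈ X.CV ↔ Commute x X.a ∧ Commute x X.n := by
  rw [X.mem_CV' hK]
  constructor
  · rintro (h | h)
    · exact ⟨X.T_comm h X.a_mem, X.T_comm h X.n_mem⟩
    · exact ⟨by simpa using (X.T_comm h X.a_mem).mul_left X.a_w.symm,
        by simpa using (X.T_comm h X.n_mem).mul_left (X.n_w hK).symm⟩
  · rintro ⟨h1, h2⟩
    obtain ⟨y, hy⟩ := (X.mem_Ca hK).1 (mem_cent.2 h1)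
    have h3 : X.f (y * sN 1) = X.f (sN 1 * y) := by
      simp only [map_mul, X.f_N]
      rcases hy with rfl | rfl
      exacts [h2, by simpa using ((Commute.inv_left X.a_n).mul_left h2).eq]
    rw [mem_T, mem_T]
    rcases X.f_eq.1 h3 with e | e
    · exact Or.inl ⟨y, mem_cent.2 e, hy⟩
    · refine Or.inr ⟨y * (sU (-1) * sL (-1))⁻¹, mem_cent.2 ?_, by
        simpa only [w, map_mul X.f y, map_inv, ← mul_assoc, mul_left_inj] using hy⟩
      have := w_ZJ hK (mem_cent.2 rfl : sN 1 ∈ ZJ K)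
      rw [show (sN 1 : SL(2, K))⁻¹ = -sN 1 from inv_eq_of_mul_eq_one_right (by rw [mul_neg, sN_sq, neg_neg])] at this
      rw [← mul_assoc, ← neg_neg (sN 1 * y), ← e, ← neg_mul_neg _ (sN 1), ← this]; simp [mul_assoc]

theorem CV_cases {x : G} (hx : x ∈ X.CV) (h : x * x ≠ 1) : x ∈ X.T :=
  ((X.mem_CV' hK).1 hx).resolve_right fun e => h (by
    have := X.w_T hK e
    rw [mul_inv_rev, inv_inv, mul_assoc, mul_right_inj, inv_eq_of_mul_eq_one_right (X.w_w hK), mul_assoc, X.w_w hK,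
      mul_one, eq_inv_iff_mul_eq_one] at this
    exact this)

theorem g_mem : X.g ∈ normalizer (X.T : Set G) := mem_normalizer_fintype fun t ht => by
  by_cases h : t * t = 1
  · rcases X.sq_T hK ht h with rfl | rfl | rfl | rfl
    · simp
    · rw [g_a]; exact X.n_mem
    · rw [g_n]; exact mul_mem X.a_mem X.n_mem
    · rw [← conj_mul, g_a, g_n]; exact mul_mem X.n_mem (mul_mem X.a_mem X.n_mem)
  · have h1 := (X.T_comm ht X.a_mem).conj X.g
    have h2 := (X.T_comm ht X.n_mem).conj X.g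
    rw [g_a] at h1
    rw [g_n] at h2
    exact X.CV_cases hK ((X.mem_CV hK).2 ⟨by simpa using h2.mul_right h1.inv_right, h1⟩) (by simpa using h)

theorem NT_inf : normalizer (X.T : Set G) ⊓ centralizer {X.a} = X.CV := by
  refine le_antisymm (fun x ⟨h1, h2⟩ => (X.mem_CV hK).2 ⟨mem_cent.1 h2, ?_⟩) (le_inf (sup_le le_normalizer
    (zpowers_le.2 (mem_normalizer_fintype (X.CV1 hK)))) fun x hx => mem_cent.2 ((X.mem_CV hK).1 hx).1)
  rcases X.sq_T hK ((h1 _).1 X.n_mem) (by simp [n_sq]) with e | e | e | e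
  · exact absurd (by simpa using e) (X.n_ne_one hK)
  · exact absurd (by rwa [mul_inv_eq_iff_eq_mul, ← mem_cent.1 h2, mul_right_inj] at e) (X.n_ne_a hK)
  · exact mul_inv_eq_iff_eq_mul.1 e
  · obtain ⟨y, rfl | rfl⟩ := (X.mem_Ca hK).1 h2 <;> refine absurd ?_ (X.f_ne hK (y * sN 1 * y⁻¹) (sN 1)) <;>
      simp only [map_mul, map_inv, X.f_N, ← e]
    rw [← X.f_comm, mul_assoc _ X.a, a_n]; group

theorem cov_NT : cov (normalizer (X.T : Set G)) {X.a} = {X.a, X.n, X.a * X.n} := by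
  ext x
  rw [mem_cov_one]
  constructor
  · rintro ⟨c, hc, rfl⟩
    exact (X.sq_T hK ((hc _).1 X.a_mem) (by simp [a_sq])).resolve_left (by simpa using X.a_ne hK)
  · rintro (rfl | rfl | rfl)
    exacts [⟨1, one_mem _, by simp⟩, ⟨_, X.g_mem hK, X.g_a.symm⟩,
      ⟨_, mul_mem (X.g_mem hK) (X.g_mem hK), by rw [← g_n, ← g_a]; group⟩]

theorem card_NT : Nat.card (normalizer (X.T : Set G)) = 6 * (q + 1) := by
  rw [← card_orbit _ X.a, X.NT_inf hK, X.card_CV hK, X.cov_NT hK, Set.ncard_eq_three.2 ⟨_, _, _, (X.n_ne_a hK).symm,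
    by simpa using X.n_ne_one hK, by simpa using X.a_ne hK, rfl⟩]
  ring

theorem cube_mem {x : G} (hx : x ∈ normalizer (X.T : Set G)) : x ^ 3 ∈ X.CV := by
  have h0 : X.CV ≤ normalizer (X.T : Set G) := X.NT_inf hK ▸ inf_le_left
  have h1 : (X.CV.subgroupOf (normalizer (X.T : Set G))).index = 3 := by
    have := (X.CV.subgroupOf (normalizer (X.T : Set G))).card_mul_index
    rw [Nat.card_congr (subgroupOfEquivOfLe h0).toEquiv, X.card_NT hK, X.card_CV hK] at this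
    exact Nat.eq_of_mul_eq_mul_left (by omega) (this.trans (by ring))
  have : (X.CV.subgroupOf (normalizer (X.T : Set G))).Normal := ⟨fun d hd c => by
    obtain ⟨h2, h3⟩ := (X.mem_CV hK).1 hd
    have h4 : ∀ t ∈ X.T, t * t = 1 → Commute (c * d * c⁻¹ : G) t := fun t ht h => by
      have : Commute (d : G) ((c : G)⁻¹ * t * (c : G)⁻¹⁻¹) := by
        rcases X.sq_T hK ((inv_mem c.2 t).1 ht) (by rw [conj_mul, h]; simp) with e | e | e | e <;> rw [e]
        exacts [Commute.one_right _, h2, h3, h2.mul_right h3]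
      simpa [mul_assoc] using this.conj c
    exact (X.mem_CV hK).2 ⟨h4 _ X.a_mem X.a_sq, h4 _ X.n_mem X.n_sq⟩⟩
  have := (X.CV.subgroupOf (normalizer (X.T : Set G))).pow_index_mem ⟨x, hx⟩
  rwa [h1] at this

include X in
theorem three_cent {x y : G} (hx : 3 ∣ orderOf x) (h : Commute x y) : orderOf y ∣ q ^ 3 * (q - 1) := by
  obtain ⟨c, hc⟩ := exists_conj_of_comm Nat.prime_three (X.index_U' hK) (fun u hu e => X.cent_le_B hu (by
    rintro rfl; simp at e)) hx h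
  have := Subgroup.orderOf_dvd_natCard _ hc
  rwa [orderOf_conj', X.card_B, X.card_U, Nat.card_units, Nat.card_eq_fintype_card] at this

theorem cent_T_a {x y : G} (hy : y ∈ X.T) (h : y * y ≠ 1) (h1 : Commute x y) (h2 : Commute x X.a) : x ∈ X.T := by
  obtain ⟨x', hx⟩ := (X.mem_Ca hK).1 (mem_cent.2 h2)
  obtain ⟨y', hy', hy⟩ := X.mem_T.1 hy
  have h3 : X.f (y' * y') ≠ 1 := fun e => h (by
    rcases hy with rfl | rfl
    exacts [by rwa [← map_mul], by simpa [sq, e] using X.mul_pow_a y' 1])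
  have h4 : Commute (X.f x') y := by
    rcases hx with rfl | rfl
    exacts [h1, by simpa using (X.T_comm X.a_mem (X.mem_T.2 ⟨_, hy', hy⟩)).inv_left.mul_left h1]
  have h5 : X.f (x' * y') = X.f (y' * x') := by
    simp only [map_mul]
    rcases hy with rfl | rfl
    exacts [h4, by simpa using ((Commute.inv_right (X.f_comm x')).mul_right h4).eq]
  refine X.mem_T.2 ⟨x', mem_ZJ_of_comm hy' ((X.f_eq.1 h5).resolve_right fun e => h3 ?_) fun e => h3 ?_, hx⟩
  · rw [sq_of_anti (r3_two hK) e, f_neg_one]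
  · rcases ZJ_scalar hy' e with rfl | rfl <;> simp

theorem cent_T_inv {x y i : G} (hy : y ∈ X.T) (h : y * y ≠ 1) (hi : i ∈ X.T) (hi2 : orderOf i = 2) (h1 : Commute x y)
    (h2 : Commute x i) : x ∈ X.T := by
  obtain ⟨c, hc, rfl⟩ := mem_cov_one.1 ((X.cov_NT hK).ge
    ((X.sq_T hK hi (Inv.sq_of_ord2 hi2)).resolve_left (Inv.ne_one_of_ord2 hi2)))
  exact (inv_mem hc x).2 (X.cent_T_a hK ((inv_mem hc y).1 hy) (by rwa [conj_mul, Ne, conj_eq_one_iff]) (h1.conj _)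
    (by simpa [mul_assoc] using h2.conj c⁻¹))

theorem cent_T {y : G} (hy : y ∈ X.T) (h : y * y ≠ 1) : centralizer {y} = X.T := by
  refine le_antisymm (fun x hx => ?_) fun x hx => mem_cent.2 (X.T_comm hx hy)
  have ha := X.ord_a hK
  have hn : orderOf X.n = 2 := Inv.ord2_iff.2 ⟨X.n_sq, X.n_ne_one hK⟩
  have h0 : X.T ≤ centralizer {y} := fun t ht => mem_cent.2 (X.T_comm ht hy)
  have h1 : ∀ x ∈ centralizer {y}, x * X.a * x⁻¹ ∈ X.T → Commute x X.a := fun x hx e => by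
    have h2 := ((X.mem_CV hK).1 (X.cube_mem hK (x := x) (mem_normalizer_fintype fun t ht =>
      X.cent_T_inv hK hy h e (by rw [orderOf_conj', ha]) (mem_cent.1 (mul_mem (mul_mem hx (h0 ht)) (inv_mem hx)))
        ((X.T_comm ht X.a_mem).conj x)))).1
    have h3 : (orderOf x).Coprime 3 := by
      refine ((Nat.Prime.coprime_iff_not_dvd Nat.prime_three).2 fun e => h ?_).symm
      have h4 := X.three_cent hK e (mem_cent.1 hx)
      have h5 := Subgroup.orderOf_dvd_natCard _ hy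
      rw [X.card_T hK] at h5
      have h6 := (Nat.Coprime.pow_right 3 (Nat.Coprime.coprime_dvd_left h5 (by simp))).dvd_of_dvd_mul_left h4
      have h7 := Nat.dvd_sub h5 h6
      have := q_mod hK
      rwa [show q + 1 - (q - 1) = 2 by omega, orderOf_dvd_iff_pow_eq_one, sq] at h7
    obtain ⟨k, hk⟩ := exists_pow_eq_self_of_coprime h3.symm
    exact hk ▸ h2.pow_left k
  have hc := mul_mem (mul_mem (mul_mem hx (h0 X.a_mem)) (inv_mem hx)) (h0 X.n_mem)
  have ha' : orderOf (x * X.a * x⁻¹) = 2 := by rw [orderOf_conj', ha]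
  refine X.cent_T_a hK hy h (mem_cent.1 hx) (h1 x hx ?_)
  rcases Nat.even_or_odd (orderOf (x * X.a * x⁻¹ * X.n)) with e | e
  · obtain ⟨h2, h3, h4⟩ := Inv.s0209 _ _ ha' hn e
    exact X.cent_T_inv hK hy h (X.cent_T_inv hK hy h X.n_mem hn (mem_cent.1 (pow_mem hc _)) h4) h2
      (mem_cent.1 (mul_mem (mul_mem hx (h0 X.a_mem)) (inv_mem hx))) h3.symm
  · obtain ⟨k, hk⟩ := Inv.exists_zpow_conj_of_odd (Inv.sq_of_ord2 ha') X.n_sq e
    rw [show ∀ d, d * (x * X.a * x⁻¹) * d⁻¹ = d * x * X.a * (d * x)⁻¹ from fun d => by group] at hk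
    have h3 := h1 _ (mul_mem (zpow_mem hc k) hx) (by rw [hk]; exact X.n_mem)
    rw [h3.eq, mul_inv_cancel_right] at hk
    exact absurd hk.symm (X.n_ne_a hK)

theorem mem_NT {x y : G} (hy : y ∈ X.T) (h : y * y ≠ 1) (e : x * y * x⁻¹ ∈ X.T) : x ∈ normalizer (X.T : Set G) :=
  normalizer_of_cent (X.cent_T hK hy h) (X.cent_T hK e (by rwa [conj_mul, Ne, conj_eq_one_iff]))

theorem exists_A : ∃ A : Subgroup G, IsCyclic A ∧ Nat.card A = (q + 1) / 4 ∧ A ≤ X.T ∧
    (∀ y ∈ A, y * y = 1 → y = 1) ∧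
    ∀ A₀ ≤ A, A₀ ≠ ⊥ → normalizer (A₀ : Set G) = normalizer (X.T : Set G) := by
  obtain ⟨t, h1, h2⟩ := X.exists_t hK
  have h := q_mod hK
  have h3 : orderOf (t ^ 2) = (q + 1) / 4 := by
    rw [orderOf_pow_of_dvd two_ne_zero (by omega), h1]; omega
  have h4 : zpowers (t ^ 2) ≤ X.T := zpowers_le.2 (pow_mem (mem_sup_left (h2 ▸ mem_zpowers t)) _)
  have h5 : ∀ y ∈ zpowers (t ^ 2), y ^ ((q + 1) / 4 + 1) = y := fun y hy => by
    rw [pow_succ, ← h3, orderOf_dvd_iff_pow_eq_one.1 (orderOf_dvd_of_mem_zpowers hy), one_mul]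
  have h6 : (q + 1) / 4 + 1 = 2 * (((q + 1) / 4 + 1) / 2) := by omega
  have h7 : ∀ y ∈ zpowers (t ^ 2), y * y = 1 → y = 1 := fun y hy e => by
    rw [← h5 y hy, h6, pow_mul, sq, e, one_pow]
  refine ⟨zpowers (t ^ 2), inferInstance, by rw [Nat.card_zpowers, h3], h4, h7, fun A hA hA' => le_antisymm ?_ ?_⟩
  · obtain ⟨⟨y, hy⟩, hy1⟩ := ne_bot_iff_exists_ne_one.1 hA'
    exact fun x hx => X.mem_NT hK (h4 (hA hy)) (fun e => hy1 (Subtype.ext (h7 y (hA hy) e))) (h4 (hA ((hx y).1 hy)))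
  · refine le_trans (fun x hx => mem_normalizer_fintype fun y hy => ?_) (normalizer_le_of_cyclic inferInstance hA)
    rw [← h5 y hy, ← conj_pow, h6, pow_mul]
    obtain ⟨z, hz, e⟩ := X.mem_T.1 ((hx y).1 (h4 hy))
    obtain ⟨k, hk⟩ : X.f z ∈ zpowers t := h2 ▸ ⟨z, hz, rfl⟩
    have : (x * y * x⁻¹) ^ 2 = (t ^ 2) ^ k := by
      rw [← zpow_natCast, ← zpow_natCast t, ← zpow_mul, mul_comm, zpow_mul, show t ^ k = _ from hk, zpow_natCast,
        zpow_natCast]
      rcases e with e | e <;> rw [e]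
      rw [← map_pow]; exact X.mul_pow_a z 1
    exact pow_mem (this ▸ zpow_mem (mem_zpowers _) _) _

theorem index_T : X.T.index = q ^ 3 * (q - 1) * Q K := by
  refine Nat.eq_of_mul_eq_mul_left (Nat.card_pos (α := X.T)) ?_
  rw [card_mul_index, X.card_G', X.card_T hK]; ring

/-- a Sylow 2-subgroup -/
def S : Subgroup G := X.CV ⊓ centralizer {X.w}

theorem mem_S {x : G} : x ∈ X.S ↔ x ∈ ({1, X.a, X.n, X.a * X.n} : Set G) ∨ x * X.w ∈ ({1, X.a, X.n, X.a * X.n} : Set G) := by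
  have hw := inv_eq_of_mul_eq_one_right (X.w_w hK)
  have h : ∀ t, t ∈ X.T ∧ Commute t X.w ↔ t ∈ ({1, X.a, X.n, X.a * X.n} : Set G) := fun t => ⟨fun ⟨h1, h2⟩ =>
    X.sq_T hK h1 (by rw [← eq_inv_iff_mul_eq_one, ← X.w_T hK h1, ← h2.eq, mul_inv_cancel_right]), by
    rintro (rfl | rfl | rfl | rfl)
    exacts [⟨one_mem _, Commute.one_left _⟩, ⟨X.a_mem, X.a_w⟩, ⟨X.n_mem, X.n_w hK⟩,
      ⟨mul_mem X.a_mem X.n_mem, Commute.mul_left X.a_w (X.n_w hK)⟩]⟩
  rw [S, mem_inf, X.mem_CV' hK, mem_cent, hw, ← h, ← h, or_and_right]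
  simp [commute_iff_eq, mul_assoc]
  simp [← mul_assoc]

theorem mem_S' {x : G} : x ∈ X.S ↔ Commute x X.a ∧ Commute x X.n ∧ Commute x X.w := by
  rw [S, mem_inf, X.mem_CV hK, mem_cent, and_assoc]; rfl

theorem S_sq {x : G} (hx : x ∈ X.S) : x * x = 1 := by
  by_contra h
  exact h (by rw [← eq_inv_iff_mul_eq_one, ← X.w_T hK (X.CV_cases hK hx.1 h), ← mem_cent.1 hx.2, mul_inv_cancel_right])

theorem a_S : X.a ∈ X.S := (X.mem_S' hK).2 ⟨Commute.refl _, X.a_n, X.a_w⟩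
theorem n_S : X.n ∈ X.S := (X.mem_S' hK).2 ⟨X.a_n.symm, Commute.refl _, X.n_w hK⟩
theorem w_S : X.w ∈ X.S := (X.mem_S' hK).2 ⟨X.a_w.symm, (X.n_w hK).symm, Commute.refl _⟩

theorem S_sylow : ∃ P : Sylow 2 G, P = X.S := by
  obtain ⟨P, hP⟩ := IsPGroup.exists_le_sylow (p := 2) (P := X.S) fun x => ⟨1, Subtype.ext (by
    simpa [sq] using X.S_sq hK x.2)⟩
  have h : ∀ x ∈ P, x * x = 1 := fun x hx => by
    obtain ⟨k, hk⟩ := P.isPGroup' ⟨x, hx⟩
    rw [← sq]; exact X.sq_of_pow hK (congrArg Subtype.val hk)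
  have h1 : ∀ x ∈ P, ∀ y ∈ P, Commute x y := fun x hx y hy => by
    rw [commute_iff_eq, ← inv_eq_of_mul_eq_one_right (h _ (mul_mem hx hy)), mul_inv_rev,
      inv_eq_of_mul_eq_one_right (h _ hx), inv_eq_of_mul_eq_one_right (h _ hy)]
  exact ⟨P, le_antisymm (fun x hx => (X.mem_S' hK).2
    ⟨h1 _ hx _ (hP (X.a_S hK)), h1 _ hx _ (hP (X.n_S hK)), h1 _ hx _ (hP (X.w_S hK))⟩) hP⟩

theorem cent_S : centralizer (X.S : Set G) = X.S := by
  refine le_antisymm (fun x hx => (X.mem_S' hK).2 ⟨(hx _ (X.a_S hK)).symm, (hx _ (X.n_S hK)).symm,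
    (hx _ (X.w_S hK)).symm⟩) fun x hx y hy => ?_
  rw [← inv_eq_of_mul_eq_one_right (X.S_sq hK (mul_mem hy hx)), mul_inv_rev,
    inv_eq_of_mul_eq_one_right (X.S_sq hK hx), inv_eq_of_mul_eq_one_right (X.S_sq hK hy)]

theorem card_NS : Nat.card (normalizer (X.S : Set G)) = 168 := by
  have h3 := r3_three hK
  have hww := X.w_w hK
  have hnw := X.n_w hK
  have ua : X.f (sU 1) * X.a * (X.f (sU 1))⁻¹ = X.a := by rw [f_comm, mul_inv_cancel_right]
  have un : X.f (sU 1) * X.n * (X.f (sU 1))⁻¹ = X.w := by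
    rw [mul_inv_eq_iff_eq_mul, ← X.f_N, w, ← map_mul, ← map_mul]; congr 1
    ext i j; fin_cases i <;> fin_cases j <;> simp <;> linear_combination -h3
  have uw : X.f (sU 1) * X.w * (X.f (sU 1))⁻¹ = X.n * X.w := by
    rw [mul_inv_eq_iff_eq_mul, ← X.f_N, w, ← map_mul, ← map_mul, ← map_mul, ← X.f_neg]; congr 1
    ext i j; fin_cases i <;> fin_cases j <;> simp <;> first | ring1 | linear_combination h3
  have hg : X.g ∈ normalizer (X.S : Set G) := mem_normalizer_fintype fun x hx => by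
    obtain ⟨h1, h2, h4⟩ := (X.mem_S' hK).1 hx
    have h1 := h1.conj X.g
    have h2 := h2.conj X.g
    have h4 := h4.conj X.g
    rw [g_a] at h1; rw [g_n] at h2; rw [g_w] at h4
    exact (X.mem_S' hK).2 ⟨by simpa using h2.mul_right h1.inv_right, h1, by simpa using h1.inv_right.mul_right h4⟩
  have hu : X.f (sU 1) ∈ normalizer (X.S : Set G) := mem_normalizer_fintype fun x hx => by
    obtain ⟨h1, h2, h4⟩ := (X.mem_S' hK).1 hx
    have h1 := h1.conj (X.f (sU 1))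
    have h2 := h2.conj (X.f (sU 1))
    have h4 := h4.conj (X.f (sU 1))
    rw [ua] at h1; rw [un] at h2; rw [uw] at h4
    exact (X.mem_S' hK).2 ⟨h1, by simpa using h4.mul_right h2.inv_right, h2⟩
  obtain ⟨P, hP⟩ := X.S_sylow hK
  have hS : Nat.card X.S = 8 := hP ▸ X.card_sylow hK P
  have c1 : cov (normalizer (X.S : Set G)) {X.a} = (X.S : Set G) \ {1} := by
    ext x
    have h : ∀ {x c}, c ∈ normalizer (X.S : Set G) → x ∈ cov (normalizer (X.S : Set G)) {X.a} →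
        c * x * c⁻¹ ∈ cov (normalizer (X.S : Set G)) {X.a} := fun {x c} hc ⟨d, hd, e⟩ =>
      ⟨d * c⁻¹, mul_mem hd (inv_mem hc), by simpa [mul_assoc] using e⟩
    have h1 : X.a ∈ cov (normalizer (X.S : Set G)) {X.a} := ⟨1, one_mem _, by simp⟩
    have h2 := h hg h1
    rw [g_a] at h2
    have h4 := h hg h2
    have h5 := h hu h2
    rw [g_n] at h4
    have h6 := h hu h4
    rw [un] at h5
    have h7 := h hu h5
    rw [← conj_mul, ua, un] at h6
    have h8 := h hu h6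
    rw [uw] at h7
    rw [← conj_mul, ua, uw, ← mul_assoc] at h8
    refine ⟨fun hx => ?_, fun ⟨hx, hx1⟩ => ?_⟩
    · obtain ⟨c, hc, rfl⟩ := mem_cov_one.1 hx
      exact ⟨(hc _).1 (X.a_S hK), by simpa using X.a_ne hK⟩
    · rcases (X.mem_S hK).1 hx with (rfl | rfl | rfl | rfl) | e
      exacts [absurd rfl hx1, h1, h2, h4, by
        rw [← mul_one x, ← hww, ← mul_assoc]
        rcases e with e | e | e | e <;> rw [e]
        exacts [by rwa [one_mul], h6, h7, h8]]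
  have c2 : cov (normalizer (X.S : Set G) ⊓ centralizer {X.a}) {X.n} = {X.n, X.w, X.n * X.w} := by
    ext x
    rw [mem_cov_one]
    have hu' : X.f (sU 1) ∈ normalizer (X.S : Set G) ⊓ centralizer {X.a} := ⟨hu, mem_cent.2 (X.f_comm _)⟩
    refine ⟨?_, ?_⟩
    · rintro ⟨c, ⟨hc, hc'⟩, rfl⟩
      obtain ⟨z, hz⟩ : ∃ z, c * X.n * c⁻¹ = X.f z := by
        obtain ⟨y, rfl | rfl⟩ := (X.mem_Ca hK).1 hc' <;> refine ⟨y * sN 1 * y⁻¹, ?_⟩ <;>
          simp only [map_mul, map_inv, X.f_N]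
        rw [← X.f_comm, mul_assoc _ X.a, a_n]; group
      have h1 := (X.mem_S hK).1 ((hc _).1 (X.n_S hK))
      have h2 : c * X.n * c⁻¹ ≠ 1 := by simpa using X.n_ne_one hK
      rw [hz] at h1 h2 ⊢
      have h4 : X.f z * X.w = X.f (z * (sU (-1) * sL (-1))) := (map_mul _ _ _).symm
      rcases h1 with (e | e | e | e) | e | e | e | e
      exacts [absurd e h2, absurd e (X.f_ne_a hK _), Or.inl e, absurd (X.f_N ▸ e) (X.f_ne hK _ _),
        Or.inr (Or.inl (by rw [← mul_left_inj X.w, e, hww])), absurd (h4 ▸ e) (X.f_ne_a hK _),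
        Or.inr (Or.inr (by rw [← Set.mem_singleton_iff.1 e, mul_assoc, hww, mul_one]; rfl)),
        absurd (X.f_N ▸ h4 ▸ e) (X.f_ne hK _ _)]
    · rintro (rfl | rfl | rfl)
      exacts [⟨1, one_mem _, by simp⟩, ⟨_, hu', un.symm⟩, ⟨_, mul_mem hu' hu', by rw [← uw, ← un]; group⟩]
  have c3 : normalizer (X.S : Set G) ⊓ centralizer {X.a} ⊓ centralizer {X.n} = X.S := by
    refine le_antisymm (fun x ⟨⟨h1, h2⟩, h4⟩ => ?_) fun x hx => ⟨⟨le_normalizer hx, mem_cent.2 ((X.mem_S' hK).1 hx).1⟩,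
      mem_cent.2 ((X.mem_S' hK).1 hx).2.1⟩
    have h5 := (X.mem_CV hK).2 ⟨mem_cent.1 h2, mem_cent.1 h4⟩
    have h6 : ∀ t ∈ X.T, t * X.w * t⁻¹ ∈ X.S → Commute t X.w := fun t ht h => by
      have h7 := X.S_sq hK (mul_mem h (inv_mem (X.w_S hK)))
      rw [mul_assoc t, mul_assoc t, X.w_T hK (inv_mem ht), inv_inv] at h7
      have h8 := X.sq_of_four hK (y := t) (by rw [← h7]; simp only [pow_succ, pow_zero, one_mul, mul_assoc])
      rw [commute_iff_eq, eq_comm, ← mul_inv_eq_iff_eq_mul, X.w_T hK ht, inv_eq_of_mul_eq_one_right (sq t ▸ h8)]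
    refine ⟨h5, mem_cent.2 ?_⟩
    rcases (X.mem_CV' hK).1 h5 with h | h
    · exact h6 x h ((h1 _).1 (X.w_S hK))
    · simpa using ((h6 _ h (by simpa [mul_assoc] using (h1 _).1 (X.w_S hK))).mul_left (Commute.refl X.w)).eq
  have hw : X.w ≠ 1 := fun e => X.w_not_mem hK (e ▸ one_mem _)
  rw [← card_orbit _ X.a, ← card_orbit _ X.n, c1, c2, c3, hS, Set.ncard_sdiff_singleton_of_mem (one_mem _),
    ← Nat.card_coe_set_eq, Set.ncard_eq_three.2 ⟨X.n, X.w, X.n * X.w, fun e => X.w_not_mem hK (e ▸ X.n_mem), by simpa using hw,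
      by simpa using X.n_ne_one hK, rfl⟩]
  exact congrArg (fun k => (k - 1) * (3 * 8)) hS

end Ree

end Cfsg.Agent.Lie
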