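import Cfsg.Agent.Lie.Ree2

set_option autoImplicit false
set_option linter.unusedSectionVars false
set_option linter.unusedSimpArgs false

/-! Counting elements in the small Ree groups. -/

namespace Cfsg.Agent.Lie

open scoped Matrix MatrixGroups
open Subgroup

theorem cov_ord {G : Type*} [Group G] [Finite G] {A : Set G} {P : ℕ → Prop} (h : ∀ a ∈ A, P (orderOf a)) :
    ∀ g ∈ cov ⊤ A, P (orderOf g) := fun g ⟨x, _, hx⟩ => orderOf_conj' x g ▸ h _ hx

theorem Tor.lower {G : Type*} [Group G] [Finite G] {C : Subgroup G} {k d : ℕ} (h : Tor C k) (hd : d < Nat.card C) :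
    d * Nat.card G ≤ (d + 1) * k * (ordS G (Nat.card C)).ncard ∧ k ∣ Nat.card G := by
  refine ⟨Nat.le_of_mul_le_mul_right ?_ (Nat.card_pos (α := C)),
    (h.norm ▸ dvd_mul_right _ _ :  k ∣ _).trans (card_subgroup_dvd_card _)⟩
  have := h.count
  obtain ⟨e, he⟩ := Nat.exists_eq_add_of_lt hd
  rw [show (d + 1) * k * _ * _ = (d + 1) * _ from Eq.trans (by ring) (congrArg _ this), he, Nat.add_sub_cancel]
  nlinarith [Nat.zero_le (Nat.card G * e)]

theorem lt_of_ord {q p d : ℕ} (hp : p.Prime) (h : ¬ p ∣ q) (hd : ∀ i, q ^ i ≡ 1 [MOD p] ↔ d ∣ i) : d < p := by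
  have := Nat.le_of_dvd (Nat.totient_pos.2 hp.pos) ((hd _).1 (Nat.ModEq.pow_totient
    ((hp.coprime_iff_not_dvd.2 h).symm)))
  rw [Nat.totient_prime hp] at this
  have := hp.pos; omega

namespace Ree

variable {G K : Type*} [Group G] [Finite G] [Field K] [Fintype K] (X : Ree G K) {m : ℕ}
  (hK : Fintype.card K = 3 ^ (2 * m + 1))

local notation "q" => Fintype.card K

theorem fpf' {k : Kˣ} (hk : k ^ 2 ≠ 1) : ∀ u ∈ X.U, X.h k * u * (X.h k)⁻¹ = u → u = 1 :=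
  fun u hu e => (X.fpf k u hu e).resolve_left hk

theorem sq_ne {k : Kˣ} (hk : X.h k * X.h k ≠ 1) : k ^ 2 ≠ 1 := fun e => hk (by rw [← map_mul, ← sq, e, map_one])

theorem card_H' : Nat.card X.h.range = q - 1 := by rw [X.card_H, Nat.card_units, Nat.card_eq_fintype_card]

theorem index_H : X.h.range.index = q ^ 3 * (q ^ 3 + 1) := by
  refine Nat.eq_of_mul_eq_mul_left (Nat.card_pos (α := X.h.range)) ?_
  rw [card_mul_index, X.card_G, X.card_H']; ring

theorem Q_prime {p : ℕ} (hp : p.Prime) (h : p ∣ Q K) (h3 : 3 ∣ q) :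
    ¬ p ∣ q ∧ ¬ p ∣ q - 1 ∧ ¬ p ∣ q + 1 ∧ ∀ i, q ^ i ≡ 1 [MOD p] ↔ 6 ∣ i := by
  have : Fact p.Prime := ⟨hp⟩
  have h0 : (q : ZMod p) ^ 2 - q + 1 = 0 := by
    have := (ZMod.intCast_zmod_eq_zero_iff_dvd _ p).2 (Int.natCast_dvd_natCast.2 h)
    rw [Q_eq] at this; simpa using this
  have h1 : (q : ZMod p) ≠ 0 := fun e => by simp [e] at h0
  have h2 : (q : ZMod p) ≠ 1 := fun e => by simp [e] at h0
  have h4 : (q : ZMod p) ≠ -1 := fun e => by
    have h5 : ((3 : ℕ) : ZMod p) = 0 := by rw [e] at h0; push_cast; linear_combination h0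
    rw [ZMod.natCast_eq_zero_iff, Nat.prime_dvd_prime_iff_eq hp Nat.prime_three] at h5
    exact h1 ((ZMod.natCast_eq_zero_iff _ _).2 (h5 ▸ h3))
  have h5 : orderOf (q : ZMod p) = 6 := by
    refine orderOf_eq_of_pow_and_pow_div_prime (by norm_num) (by linear_combination ((q : ZMod p) ^ 3 - 1) * (q + 1) * h0)
      fun r hr hr' => ?_
    obtain rfl | rfl : r = 2 ∨ r = 3 := by
      have := (Nat.Prime.dvd_mul hr (m := 2) (n := 3)).1 hr'
      rwa [Nat.prime_dvd_prime_iff_eq hr Nat.prime_two, Nat.prime_dvd_prime_iff_eq hr Nat.prime_three] at this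
    · intro e
      have h6 : ((2 : ℕ) : ZMod p) = 0 := by push_cast; linear_combination (q + 1) * h0 - e
      rw [ZMod.natCast_eq_zero_iff, Nat.prime_dvd_prime_iff_eq hp Nat.prime_two] at h6
      exact Q_odd (h6 ▸ h)
    · exact fun e => (sq_eq_one_iff.1 e).elim h2 h4
  refine ⟨by rwa [← ZMod.natCast_eq_zero_iff], ?_, ?_, fun i => ?_⟩
  · rw [← ZMod.natCast_eq_zero_iff, Nat.cast_sub Fintype.card_pos, sub_eq_zero]; simpa
  · rw [← ZMod.natCast_eq_zero_iff, Nat.cast_add, ← eq_neg_iff_add_eq_zero]; simpa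
  · rw [← ZMod.natCast_eq_natCast_iff, ← h5, orderOf_dvd_iff_pow_eq_one]; simp

include hK

theorem odd_H {r : ℕ} (hr : r.Prime) (h2 : r ≠ 2) (h : r ∣ q - 1) : ¬ r ∣ X.h.range.index := by
  have h1 : (1 : ℕ) ≡ q [MOD r] := (Nat.modEq_iff_dvd' Fintype.card_pos).2 h
  rw [index_H, ← Nat.modEq_zero_iff_dvd]
  intro e
  have := ((h1.pow 3).mul ((h1.pow 3).add_right 1)).trans e
  exact h2 ((Nat.prime_dvd_prime_iff_eq hr Nat.prime_two).1 (Nat.modEq_zero_iff_dvd.1 this))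

theorem odd_T {r : ℕ} (hr : r.Prime) (h2 : r ≠ 2) (h : r ∣ q + 1) : ¬ r ∣ X.T.index := by
  rw [X.index_T hK, hr.dvd_mul, hr.dvd_mul]
  have := q_mod hK
  rintro ((e | e) | e)
  · exact hr.one_lt.ne' (Nat.dvd_one.1 ((Nat.dvd_add_right (hr.dvd_of_dvd_pow e)).1 h))
  · have h1 := Nat.dvd_sub h e
    rw [show q + 1 - (q - 1) = 2 by omega] at h1
    exact h2 ((Nat.prime_dvd_prime_iff_eq hr Nat.prime_two).1 h1)
  · exact (Q_prime hr e (three_dvd hK)).2.2.1 h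

omit [Field K] X hK in
theorem sq_ne_of {y : G} {r : ℕ} (hr : r.Prime) (h2 : r ≠ 2) (h : r ∣ orderOf y) : y * y ≠ 1 := fun e =>
  h2 ((Nat.prime_dvd_prime_iff_eq hr Nat.prime_two).1 (h.trans (orderOf_dvd_of_pow_eq_one (by rwa [sq]))))

theorem cent_H {r : ℕ} (hr : r.Prime) (h2 : r ≠ 2) : ∀ y ∈ X.h.range, orderOf y = r → centralizer {y} ≤ X.h.range := by
  rintro _ ⟨k, rfl⟩ e
  have := X.sq_ne (sq_ne_of hr h2 e.symm.dvd)
  exact (X.cent_h (X.fpf' this) this).le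

theorem cent_T' {r : ℕ} (hr : r.Prime) (h2 : r ≠ 2) : ∀ y ∈ X.T, orderOf y = r → centralizer {y} ≤ X.T :=
  fun _ hy e => (X.cent_T hK hy (sq_ne_of hr h2 e.symm.dvd)).le

include X in
theorem prime_cases {r : ℕ} (hr : r.Prime) (h : r ∣ Nat.card G) : r = 3 ∨ r ∣ q - 1 ∨ r ∣ q + 1 ∨ r ∣ Q K := by
  rw [X.card_G', hr.dvd_mul, hr.dvd_mul, hr.dvd_mul, or_assoc, or_assoc] at h
  exact h.imp_left fun e => (Nat.prime_dvd_prime_iff_eq hr Nat.prime_three).1
    (hr.dvd_of_dvd_pow (hK ▸ hr.dvd_of_dvd_pow e))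

include X in
theorem exists_tor {p : ℕ} (hp : p.Prime) (h : p ∣ Q K) :
    ∃ (C : Subgroup G) (k : ℕ), Tor C k ∧ k ≤ 6 ∧ p ∣ Nat.card C ∧ Nat.card C ∣ Q K := by
  refine Lie.exists_tor (q ^ ·) (X.card_G' ▸ dvd_mul_left _ _) (fun y hy hy' => ?_) hp h
  obtain ⟨h1, h2, h3, h4⟩ := Q_prime hy hy' (three_dvd hK)
  have h5 : Nat.card (centralizer {y}) ∣ Q K := by
    refine Nat.Coprime.dvd_of_dvd_mul_left (Nat.coprime_of_dvd fun r hr hr1 hr2 => ?_)
      (X.card_G' ▸ card_subgroup_dvd_card _)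
    have : Fact r.Prime := ⟨hr⟩
    obtain ⟨x, hx⟩ := exists_prime_orderOf_dvd_card' r hr1
    rw [← orderOf_coe] at hx
    have hc : Commute (x : G) y := mem_cent.1 x.2
    have h6 : ∀ {A T : Subgroup G}, ¬ r ∣ A.index → (∀ y ∈ A, orderOf y = r → centralizer {y} ≤ T) →
        orderOf y ∣ Nat.card T := fun hA hT => by
      obtain ⟨c, hc⟩ := exists_conj_of_comm hr hA hT hx.symm.dvd hc
      exact orderOf_conj' c y ▸ Subgroup.orderOf_dvd_natCard _ hc
    by_cases e2 : r = 2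
    · obtain ⟨c, e⟩ := isConj_iff.1 (X.conj_a hK (Inv.sq_of_ord2 (hx.trans e2)) (Inv.ne_one_of_ord2 (hx.trans e2))).symm
      have := Subgroup.orderOf_dvd_natCard _ (mem_cent.2 (e ▸ hc.symm.conj c))
      rw [orderOf_conj', X.card_Ca hK, ← one_pow 2, Nat.sq_sub_sq, hy.dvd_mul, hy.dvd_mul] at this
      tauto
    rw [hr.dvd_mul, hr.dvd_mul] at hr2
    rcases hr2 with (e | e) | e
    · obtain rfl := (Nat.prime_dvd_prime_iff_eq hr Nat.prime_three).1 (hr.dvd_of_dvd_pow (hK ▸ hr.dvd_of_dvd_pow e))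
      exact (hy.dvd_mul.1 (X.three_cent hK hx.symm.dvd hc)).elim (fun e => h1 (hy.dvd_of_dvd_pow e)) h2
    · exact h2 (X.card_H' ▸ h6 (X.odd_H hK hr e2 e) (X.cent_H hK hr e2))
    · exact h3 (X.card_T hK ▸ h6 (X.odd_T hK hr e2 e) (X.cent_T' hK hr e2))
  exact ⟨reg_cyclic X.ρ X.ρ_inj (by norm_num) le_rfl hy rfl le_rfl h4
    fun r hr hr' => (Q_prime hr (hr'.trans h5) (three_dvd hK)).2.2.2, h5,
    fun g k => reg_conj X.ρ X.ρ_inj (by norm_num) le_rfl hy rfl h4⟩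

include X in
theorem sylow_cyc {p : ℕ} [Fact p.Prime] (hp : 3 < p) (P : Sylow p G) : IsCyclic P := by
  have hr : p.Prime := Fact.out
  by_cases h : p ∣ Nat.card G
  · rcases X.prime_cases hK hr h with e | e | e | e
    · omega
    · exact sylow_cyclic (isCyclic_of_surjective _ X.h.rangeRestrict_surjective) (X.odd_H hK hr (by omega) e) P
    · obtain ⟨A, h1, h2, h3, -⟩ := X.exists_A hK
      refine sylow_cyclic h1 (fun e' => ?_) P
      have h4 := q_mod hK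
      have h5 : A.index = 4 * X.T.index := Nat.eq_of_mul_eq_mul_left (Nat.card_pos (α := A)) (by
        rw [card_mul_index, ← X.T.card_mul_index, h2, X.card_T hK, ← mul_assoc, Nat.div_mul_cancel (by omega)])
      rcases hr.dvd_mul.1 (h5 ▸ e') with h | h
      · have := (Nat.prime_dvd_prime_iff_eq hr Nat.prime_two).1 (hr.dvd_of_dvd_pow (n := 2) h); omega
      · exact X.odd_T hK hr (by omega) e h
    · obtain ⟨C, k, h1, -, h2, -⟩ := X.exists_tor hK hr e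
      exact sylow_cyclic h1.cyc (h1.not_dvd hr h2) P
  · exact sylow_cyclic (C := ⊥) inferInstance (by simpa using h) P

/-- elements of the Borel subgroup of order divisible by three -/
def A3 : Set G := {b | b ∈ X.B ∧ 3 ∣ orderOf b}

theorem mem_U_of {b : G} (hb : b ∈ X.B) (h : b ^ 3 = 1) : b ∈ X.U := by
  obtain ⟨u, hu, k, rfl⟩ := X.mem_B.1 hb
  have h1 := X.pow_eq_one hu (h ▸ one_mem _)
  have h2 := three_dvd hK
  have h3 := q_mod hK
  obtain rfl := (pow_eq_one_iff_of_coprime (a := k) ((Nat.Prime.coprime_iff_not_dvd Nat.prime_three).2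
    (show ¬ 3 ∣ q - 1 by omega))).1 ⟨h1, by rw [← Nat.card_eq_fintype_card, ← Nat.card_units, pow_card_eq_one']⟩
  simpa

theorem A3_cases {b : G} : b ∈ X.A3 ↔ (b ∈ X.U ∧ b ≠ 1) ∨ (b * X.a ∈ X.U ∧ b ∉ cov X.U {X.a}) := by
  have h9 : ∀ b : G, b ^ 9 = 1 → b ≠ 1 → 3 ∣ orderOf b := fun b h h1 => by
    obtain ⟨k, -, hk⟩ := (Nat.dvd_prime_pow Nat.prime_three (m := 2)).1 (orderOf_dvd_of_pow_eq_one h)
    exact hk ▸ dvd_pow_self 3 (by rintro rfl; exact h1 (orderOf_eq_one_iff.1 hk))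
  constructor
  · rintro ⟨hb, h⟩
    obtain ⟨u, hu, k, rfl⟩ := X.mem_B.1 hb
    by_cases hk : k ^ 2 = 1
    · rcases X.fix_sq hK hk with e | e <;> rw [e] at h ⊢
      · exact Or.inl ⟨by simpa, by rintro e; simp [e] at h⟩
      · refine Or.inr ⟨by rwa [mul_assoc, a_sq, mul_one], fun ⟨x, _, e⟩ => ?_⟩
        rw [← orderOf_conj' x, Set.mem_singleton_iff.1 e, X.ord_a hK] at h
        omega
    · obtain ⟨v, -, e⟩ := X.exists_conj_h (X.fpf' hk) hu
      have := h.trans (e ▸ orderOf_conj' v _ ▸ Subgroup.orderOf_dvd_natCard X.h.range ⟨k, rfl⟩)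
      have h2 := three_dvd hK
      have h3 := q_mod hK
      rw [card_H'] at this
      omega
  · rintro (⟨h, h1⟩ | ⟨h, h1⟩)
    · exact ⟨X.U_le_B h, h9 b (X.pow9 b h) h1⟩
    · have hb : b = b * X.a * X.h (-1) := by rw [mul_assoc, show X.h (-1) = X.a from rfl, a_sq, mul_one]
      have h2 : b ^ 2 ∈ X.U := hb ▸ X.pow_mem_U h (by simp)
      refine ⟨X.mem_B.2 ⟨_, h, _, hb⟩, (h9 _ (X.pow9 _ h2) fun e => h1 ?_).trans (orderOf_pow_dvd 2)⟩
      have h3 : X.a * (b * X.a) * X.a⁻¹ = (b * X.a)⁻¹ := by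
        rw [mul_inv_rev, inv_eq_of_mul_eq_one_right (sq b ▸ e :)]; simp [mul_assoc, a_inv, a_sq]
      refine mem_cov_one.2 ⟨(b * X.a) ^ 5, pow_mem h 5, ?_⟩
      have h4 : X.a * ((b * X.a) ^ 5)⁻¹ = (b * X.a) ^ 5 * X.a := by
        rw [← Inv.conj_pow_inv h3 5]; simp [a_a, mul_assoc, a_inv]
      rw [mul_assoc, h4, ← mul_assoc, ← pow_add, pow_succ', X.pow9 _ h, mul_one, mul_assoc, a_sq, mul_one]

theorem card_covU : (cov X.U {X.a}).ncard = q ^ 2 := by
  have h := card_orbit X.U X.a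
  have h1 : Nat.card K = Nat.card (X.U ⊓ centralizer {X.a} : Subgroup G) :=
    Nat.card_eq_of_bijective (fun t => ⟨X.f (sU t), X.fU_mem t, mem_cent.2 (X.f_comm _)⟩) ⟨fun s t e => by
      have h1 : X.f (sU s) = X.f (sU t) := congrArg Subtype.val e
      refine sub_eq_zero.1 (X.f_U_inj _ ?_)
      rw [← mul_left_inj (X.f (sU t)), one_mul, ← map_mul, ← h1]; congr 1
      ext i j; fin_cases i <;> fin_cases j <;> simp, fun ⟨x, h1, h2⟩ => by
      obtain ⟨t, rfl⟩ := (X.f_U x).1 ⟨h1, mul_inv_eq_iff_eq_mul.2 (mem_cent.1 h2).symm⟩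
      exact ⟨t, rfl⟩⟩
  rw [← h1, X.card_U, Nat.card_eq_fintype_card, pow_succ] at h
  exact Nat.eq_of_mul_eq_mul_right Fintype.card_pos h

theorem card_A3 : X.A3.ncard + q ^ 2 + 1 = 2 * q ^ 3 := by
  have h1 : X.A3 = (X.U : Set G) \ {1} ∪ ((· * X.a) ⁻¹' X.U \ cov X.U {X.a}) := by
    ext b; exact X.A3_cases hK
  have h2 : cov X.U {X.a} ⊆ (· * X.a) ⁻¹' X.U := fun x hx => by
    obtain ⟨c, hc, rfl⟩ := mem_cov_one.1 hx
    simpa [mul_assoc, a, ← map_inv] using mul_mem hc (X.conj (-1) _ (inv_mem hc))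
  have h3 : (X.U : Set G).ncard = q ^ 3 := by rw [← Nat.card_eq_fintype_card, ← X.card_U]; rfl
  have h4 := Set.ncard_le_ncard h2
  rw [h1, Set.ncard_union_eq (Set.disjoint_left.2 fun b hb hb' => r3_neg hK (X.uniq0 _
    ((mul_mem_cancel_left hb.1).1 hb'.1))), Set.ncard_sdiff_singleton_of_mem (one_mem _), Set.ncard_sdiff h2]
  rw [Set.ncard_preimage_of_injective_subset_range (mul_left_injective _) (by simp [(Group.mulRight_bijective _).2.range_eq]),
    h3, X.card_covU hK] at h4 ⊢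
  have := Nat.one_le_pow 3 q Fintype.card_pos
  omega

theorem cov_A3 : (cov ⊤ X.A3).ncard = (q ^ 3 + 1) * X.A3.ncard := by
  have h := card_cov (M := ⊤) (N := X.B) (A := X.A3) le_top
    (fun n hn a ha => ⟨mul_mem (mul_mem hn ha.1) (inv_mem hn), by rw [orderOf_conj']; exact ha.2⟩)
    (fun x _ a ha hx => by
      have h1 := orderOf_pow_orderOf_div (orderOf_pos a).ne' ha.2
      refine X.TI (X.mem_U_of hK (pow_mem ha.1 (orderOf a / 3)) (orderOf_dvd_iff_pow_eq_one.1 h1.dvd))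
        (fun e => by simp [e] at h1) (by rw [← conj_pow]; exact pow_mem hx.1 _))
  rw [card_top, ← X.B.card_mul_index, X.index_B, X.card_U, Nat.card_eq_fintype_card (α := K), mul_comm, mul_assoc] at h
  exact Nat.eq_of_mul_eq_mul_left Nat.card_pos h

theorem mem_cov_A3 {g : G} (h : 3 ∣ orderOf g) : g ∈ cov ⊤ X.A3 := by
  obtain ⟨x, hx⟩ := exists_conj_mem_of_dvd Nat.prime_three (X.index_U' hK) (fun u hu e => X.cent_le_B hu (by
    rintro rfl; simp at e)) h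
  exact ⟨x, trivial, hx, by rwa [orderOf_conj']⟩

theorem ord_A3 {b : G} (hb : b ∈ X.A3) : orderOf b ∣ 6 ∨ orderOf b ∣ 9 := by
  rcases (X.A3_cases hK).1 hb with ⟨h, -⟩ | ⟨h, -⟩
  · exact Or.inr (orderOf_dvd_of_pow_eq_one (X.pow9 b h))
  have hb' : b = b * X.a * X.h (-1) := by rw [mul_assoc, show X.h (-1) = X.a from rfl, a_sq, mul_one]
  have h2 : b ^ 2 ∈ X.U := hb' ▸ X.pow_mem_U h (by simp)
  obtain ⟨v, hv, e⟩ := X.pow_mul h (-1) 9
  rw [← hb', show (-1 : Kˣ) ^ 9 = -1 from Odd.neg_one_pow (by decide)] at e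
  have h3 : b ^ 9 ∈ cov X.U {X.a} := by
    by_contra h3
    have := ((X.A3_cases hK).2 (Or.inr ⟨by rwa [e, mul_assoc, show X.h (-1) = X.a from rfl, a_sq, mul_one], h3⟩)).2
    have h4 : orderOf (b ^ 9) ∣ 2 := orderOf_dvd_of_pow_eq_one (by rw [← pow_mul, mul_comm, pow_mul, X.pow9 _ h2])
    exact absurd (this.trans h4) (by norm_num)
  obtain ⟨c, hc, e⟩ := h3
  obtain ⟨t, ht⟩ := (X.f_U (c * b ^ 2 * c⁻¹)).1 ⟨mul_mem (mul_mem hc h2) (inv_mem hc), by
    rw [show X.h (-1) = X.a from rfl, ← Set.mem_singleton_iff.1 e]; group⟩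
  refine Or.inl (orderOf_dvd_of_pow_eq_one ?_)
  rw [← conj_eq_one_iff (a := c), show 6 = 2 * 3 from rfl, pow_mul, ← conj_pow, ht, ← map_pow, ← map_one X.f]
  congr 1
  ext i j; fin_cases i <;> fin_cases j <;> simp [pow_succ]
  linear_combination t * r3_three hK

/-- regular elements of the split torus -/
def A4 : Set G := {b | b ∈ X.h.range ∧ b * b ≠ 1}
/-- regular elements of the torus of order `q + 1` -/
def A5 : Set G := {b | b ∈ X.T ∧ b * b ≠ 1}

omit X in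
theorem exists_k (hm : 1 ≤ m) : 27 ≤ q ∧ ∃ k : Kˣ, orderOf k = q - 1 ∧ k ^ 2 ≠ 1 := by
  have h : 27 ≤ q := hK ▸ Nat.pow_le_pow_right (n := 3) (i := 3) (by norm_num) (by omega)
  obtain ⟨k, hk⟩ := IsCyclic.exists_ofOrder_eq_natCard (α := Kˣ)
  rw [Nat.card_units, Nat.card_eq_fintype_card] at hk
  exact ⟨h, k, hk, pow_ne_one_of_lt_orderOf two_ne_zero (by omega)⟩

theorem card_NH (hm : 1 ≤ m) : Nat.card (normalizer (X.h.range : Set G)) = 2 * (q - 1) := by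
  obtain ⟨-, k, -, hk⟩ := exists_k hK hm
  rw [X.card_normalizer_H (X.fpf' hk), Nat.card_units, Nat.card_eq_fintype_card]

theorem cov_A4 (hm : 1 ≤ m) : (cov ⊤ X.A4).ncard * (2 * (q - 1)) = Nat.card G * (q - 3) := by
  have h1 : X.A4 = (X.h.range : Set G) \ {1, X.a} := by
    ext b
    refine and_congr_right ?_
    rintro ⟨k, rfl⟩
    exact not_congr ⟨fun e => X.fix_sq hK (X.h_inj (by rw [sq, map_mul, e, map_one])), by
      rintro (e | e) <;> rw [e]; exacts [mul_one _, X.a_sq]⟩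
  rw [← X.card_NH hK hm, card_cov (A := X.A4) le_top
    (fun n hn a ha => ⟨(hn a).1 ha.1, by rw [conj_mul, Ne, conj_eq_one_iff]; exact ha.2⟩)
    (by rintro x - _ ⟨⟨k, rfl⟩, hk⟩ hx; exact X.mem_normalizer_of_conj (X.fpf' (X.sq_ne hk)) hx.1), card_top, h1,
    Set.ncard_sdiff (by rintro _ (rfl | rfl); exacts [one_mem _, ⟨_, rfl⟩]), Set.ncard_pair (X.a_ne hK).symm,
    ← Nat.card_coe_set_eq]
  exact congrArg (fun k => _ * (k - 2)) X.card_H'

theorem cov_A5 : (cov ⊤ X.A5).ncard * (6 * (q + 1)) = Nat.card G * (q - 3) := by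
  have h1 : X.A5 = (X.T : Set G) \ insert 1 {X.a, X.n, X.a * X.n} := by
    ext b
    refine and_congr_right fun hb => not_congr ⟨X.sq_T hK hb, ?_⟩
    rintro (rfl | rfl | rfl | rfl)
    exacts [mul_one _, X.a_sq, X.n_sq, by rw [mul_assoc, ← mul_assoc X.n, ← a_n, mul_assoc, n_sq, mul_one, a_sq]]
  have h2 : (1 : G) ∉ ({X.a, X.n, X.a * X.n} : Set G) := by
    rw [← X.cov_NT hK, mem_cov_one]; rintro ⟨x, -, e⟩; exact X.a_ne hK (conj_eq_one_iff.1 e.symm)
  rw [← X.card_NT hK, card_cov (A := X.A5) le_top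
    (fun n hn a ha => ⟨(hn a).1 ha.1, by rw [conj_mul, Ne, conj_eq_one_iff]; exact ha.2⟩)
    (fun x _ a ha hx => X.mem_NT hK ha.1 ha.2 hx.1), card_top, h1,
    Set.ncard_sdiff (by rintro _ (rfl | rfl | rfl | rfl); exacts [one_mem _, X.a_mem, X.n_mem, mul_mem X.a_mem X.n_mem]),
    Set.ncard_insert_of_notMem h2, Set.ncard_eq_three.2 ⟨X.a, X.n, X.a * X.n, (X.n_ne_a hK).symm,
    by simpa using X.n_ne_one hK, by simpa using X.a_ne hK, rfl⟩, ← Nat.card_coe_set_eq]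
  exact congrArg (fun k => _ * (k - 4)) (X.card_T hK)

theorem cover (g : G) : g ∈ {1} ∪ cov ⊤ {X.a} ∪ cov ⊤ X.A3 ∪ cov ⊤ X.A4 ∪ cov ⊤ X.A5 ∪ ordS G (Q K) := by
  simp only [Set.mem_union, or_assoc]
  by_cases h1 : g = 1
  · exact Or.inl h1
  by_cases h2 : g * g = 1
  · obtain ⟨c, hc⟩ := isConj_iff.1 (X.conj_a hK h2 h1)
    exact Or.inr (Or.inl (mem_cov_one.2 ⟨c, trivial, hc.symm⟩))
  obtain ⟨k, hk⟩ | ⟨r, hr, h, h3⟩ := (orderOf g).eq_two_pow_or_exists_odd_prime_and_dvd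
  · exact absurd (sq g ▸ X.sq_of_pow hK (hk ▸ pow_orderOf_eq_one g)) h2
  have h4 : r ≠ 2 := by rintro rfl; exact absurd h3 (by decide)
  have h5 : ∀ x, x * g * x⁻¹ * (x * g * x⁻¹) ≠ 1 := fun x => by rwa [conj_mul, Ne, conj_eq_one_iff]
  refine Or.inr (Or.inr ?_)
  rcases X.prime_cases hK hr (h.trans (orderOf_dvd_natCard g)) with rfl | e | e | e
  · exact Or.inl (X.mem_cov_A3 hK h)
  · obtain ⟨x, hx⟩ := exists_conj_mem_of_dvd hr (X.odd_H hK hr h4 e) (X.cent_H hK hr h4) h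
    exact Or.inr (Or.inl ⟨x, trivial, hx, h5 x⟩)
  · obtain ⟨x, hx⟩ := exists_conj_mem_of_dvd hr (X.odd_T hK hr h4 e) (X.cent_T' hK hr h4) h
    exact Or.inr (Or.inr (Or.inl ⟨x, trivial, hx, h5 x⟩))
  · obtain ⟨C, k, h6, -, h7, h8⟩ := X.exists_tor hK hr e
    exact Or.inr (Or.inr (Or.inr ⟨h1, (h6.dvd hr h7 h).trans h8⟩))

include X in
theorem count (hm : 1 ≤ m) : 3 * (ordS G (Q K)).ncard * Q K = Nat.card G * (q * (q - 2)) := by
  have o1 : ∀ g ∈ ({1} : Set G), orderOf g ∣ 2 ∧ orderOf g = 1 := by simp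
  have o2 := cov_ord (A := {X.a}) (P := fun k => k ∣ 2 ∧ k = 2) (by simp [X.ord_a hK])
  have o3 := cov_ord (A := X.A3) (P := (3 ∣ ·)) fun _ h => h.2
  have o4 := cov_ord (A := X.A4) (P := fun k => k ∣ q - 1 ∧ ¬ k ∣ 2) fun a h =>
    ⟨X.card_H' ▸ Subgroup.orderOf_dvd_natCard _ h.1, by rw [orderOf_dvd_iff_pow_eq_one, sq]; exact h.2⟩
  have o5 := cov_ord (A := X.A5) (P := fun k => k ∣ q + 1 ∧ ¬ k ∣ 2) fun a h =>
    ⟨X.card_T hK ▸ Subgroup.orderOf_dvd_natCard _ h.1, by rw [orderOf_dvd_iff_pow_eq_one, sq]; exact h.2⟩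
  have h3 := three_dvd hK
  have h8 := q_mod hK
  have o6 : ∀ g ∈ ordS G (Q K), ¬ orderOf g ∣ q - 1 ∧ ¬ orderOf g ∣ q + 1 ∧ ¬ 3 ∣ orderOf g := fun g hg => by
    obtain ⟨r, hr, hr'⟩ := Nat.exists_prime_and_dvd (mt orderOf_eq_one_iff.1 hg.1)
    obtain ⟨-, h1, h2, -⟩ := Q_prime hr (hr'.trans hg.2) h3
    exact ⟨fun e => h1 (hr'.trans e), fun e => h2 (hr'.trans e), fun e => (Q_prime Nat.prime_three (e.trans hg.2) h3).1 h3⟩
  have t2 : 2 ∣ q - 1 := by omega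
  have t3 : ¬ 3 ∣ q - 1 ∧ ¬ 3 ∣ q + 1 ∧ ¬ 3 ∣ 2 := by omega
  have t4 : ∀ k, k ∣ q - 1 → k ∣ q + 1 → k ∣ 2 := fun k h h' => by
    have := Nat.dvd_sub h' h; rwa [show q + 1 - (q - 1) = 2 by omega] at this
  have h := congrArg Set.ncard (Set.eq_univ_of_forall (X.cover hK))
  rw [Set.ncard_union_eq, Set.ncard_union_eq, Set.ncard_union_eq, Set.ncard_union_eq, Set.ncard_union_eq,
    Set.ncard_univ, Set.ncard_singleton, X.cov_A3 hK] at h
  · have h2 := card_orbit ⊤ X.a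
    rw [top_inf_eq, card_top, ← (centralizer {X.a}).card_mul_index, mul_comm, X.index_Ca hK] at h2
    have h2 := Nat.eq_of_mul_eq_mul_left Nat.card_pos h2
    have h4 := X.cov_A4 hK hm
    have h5 := X.cov_A5 hK
    have h6 := X.card_A3 hK
    have h7 := (exists_k hK hm).1
    have h9 : (cov ⊤ X.A4).ncard * 2 = q ^ 3 * (q + 1) * Q K * (q - 3) :=
      Nat.eq_of_mul_eq_mul_right (by omega : 0 < q - 1) (by rw [mul_assoc, h4, X.card_G']; ring)
    have h10 : (cov ⊤ X.A5).ncard * 6 = q ^ 3 * (q - 1) * Q K * (q - 3) :=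
      Nat.eq_of_mul_eq_mul_right (by omega : 0 < q + 1) (by rw [mul_assoc, h5, X.card_G']; ring)
    rw [X.card_G'] at h ⊢
    refine Nat.eq_of_mul_eq_mul_left two_pos ?_
    zify [show 1 ≤ q by omega, show 2 ≤ q by omega, show 3 ≤ q by omega] at h h2 h6 h9 h10 ⊢
    rw [Q_eq] at h h2 h9 h10 ⊢
    linear_combination ((q : ℤ) ^ 2 - q + 1) * (6 * h - 6 * h2 - 6 * ((q : ℤ) ^ 3 + 1) * h6 - 3 * h9 - h10)
  all_goals
    try simp only [Set.disjoint_union_left]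
    repeat' constructor
  all_goals
    refine Set.disjoint_left.2 fun g h h' => ?_
    first
    | (have := o1 g h; have := o2 g h'; omega)
    | (have := o1 g h; have := o3 g h'; omega)
    | (have := o2 g h; have := o3 g h'; omega)
    | exact (o4 g h').2 (o1 g h).1
    | exact (o4 g h').2 (o2 g h).1
    | exact (o5 g h').2 (o1 g h).1
    | exact (o5 g h').2 (o2 g h).1
    | exact t3.1 ((o3 g h).trans (o4 g h').1)
    | exact t3.2.1 ((o3 g h).trans (o5 g h').1)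
    | exact (o4 g h).2 (t4 _ (o4 g h).1 (o5 g h').1)
    | exact (o6 g h').1 ((o1 g h).1.trans t2)
    | exact (o6 g h').1 ((o2 g h).1.trans t2)
    | exact (o6 g h').2.2 (o3 g h)
    | exact (o6 g h').1 (o4 g h).1
    | exact (o6 g h').2.1 (o5 g h).1

include X in
theorem tori (hm : 1 ≤ m) : ∃ C C' : Subgroup G, Tor C 6 ∧ Tor C' 6 ∧ Nat.card C = q - 3 ^ (m + 1) + 1 ∧
    Nat.card C' = q + 3 ^ (m + 1) + 1 ∧ ∀ g ∈ ordS G (Q K), orderOf g ∣ Nat.card C ∨ orderOf g ∣ Nat.card C' := by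
  have h7 := (exists_k hK hm).1
  have hc := X.count hK hm
  have hQ := Q_eq (K := K)
  have hG := Nat.card_pos (α := G)
  have h0 : 3 * (ordS G (Q K)).ncard < Nat.card G := by
    refine Nat.lt_of_mul_lt_mul_right (a := Q K) (hc ▸ Nat.mul_lt_mul_of_pos_left ?_ hG)
    zify [show 2 ≤ q by omega]; rw [hQ]; nlinarith
  have h1 : ∀ {c}, 1 < c → c ∣ Q K → 6 < c := fun {c} h h' => by
    obtain ⟨r, hr, hr'⟩ := Nat.exists_prime_and_dvd h.ne'
    obtain ⟨h1, -, -, h2⟩ := Q_prime hr (hr'.trans h') (three_dvd hK)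
    exact (lt_of_ord hr h1 h2).trans_le (Nat.le_of_dvd (by omega) hr')
  have h5 : ¬ 5 ∣ Nat.card G := by
    have : q % 5 = 3 ∨ q % 5 = 2 := by
      rw [hK, pow_succ, pow_mul, Nat.mul_mod, Nat.pow_mod]
      rcases Nat.even_or_odd' m with ⟨k, rfl | rfl⟩ <;> simp [pow_succ, pow_mul, Nat.mul_mod, Nat.pow_mod]
    rw [X.card_G, Nat.prime_five.dvd_mul, Nat.prime_five.dvd_mul, Nat.dvd_iff_mod_eq_zero (n := q ^ 3 + 1), Nat.add_mod,
      Nat.pow_mod]
    rintro ((e | e) | e)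
    · have := Nat.prime_five.dvd_of_dvd_pow e; omega
    · omega
    · rcases this with h | h <;> simp [h] at e
  rcases Lie.tori (by zify; rw [hQ]; nlinarith) (X.card_G' ▸ dvd_mul_left _ _) (fun p => X.exists_tor hK) with
    ⟨C, k, t, -, e⟩ | ⟨C, C', k, k', t, t', hk, hk', c, c', e, h, h'⟩ |
      ⟨C, C', C'', k, k', k'', t, t', t'', hk, hk', hk'', c, c', c'', d, d', d'', h⟩
  · have h2 := t.count
    rw [e] at h2
    have h3 : k * (q - 2) = 3 * (q - 1) := by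
      refine Nat.eq_of_mul_eq_mul_left (Nat.mul_pos hG (by omega : 0 < q)) ?_
      zify [show 2 ≤ q by omega, show 1 ≤ q by omega, show 1 ≤ Q K from Nat.le_add_left _ _] at h2 hc ⊢
      rw [hQ] at h2 hc
      linear_combination 3 * h2 - k * hc
    have h4 : q - 2 ∣ 3 := (Nat.dvd_add_right (dvd_mul_left _ 3)).1 ⟨k, by rw [mul_comm _ k, h3]; omega⟩
    have := Nat.le_of_dvd three_pos h4
    omega
  · obtain ⟨l, d⟩ := t.lower (h1 c ⟨_, e.symm⟩)
    obtain ⟨l', d'⟩ := t'.lower (h1 c' (e ▸ dvd_mul_left _ _))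
    have k5 : k ≠ 5 := by rintro rfl; exact h5 d
    have k5' : k' ≠ 5 := by rintro rfl; exact h5 d'
    obtain rfl : k = 6 := by
      by_contra
      have := Nat.mul_le_mul_right (ordS G (Nat.card C)).ncard (show (6 + 1) * k ≤ 28 by omega)
      have := Nat.mul_le_mul_right (ordS G (Nat.card C')).ncard (show (6 + 1) * k' ≤ 42 by omega)
      omega
    obtain rfl : k' = 6 := by
      by_contra
      have := Nat.mul_le_mul_right (ordS G (Nat.card C')).ncard (show (6 + 1) * k' ≤ 28 by omega)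
      omega
    have h2 := t.count
    have h3 := t'.count
    have h4 : Nat.card C + Nat.card C' = 2 * q + 2 := by
      refine Nat.eq_of_mul_eq_mul_left hG ?_
      rw [h', ← e] at hc
      rw [← e] at hQ
      zify [show 2 ≤ q by omega, c.le, c'.le] at h2 h3 hc hQ ⊢
      linear_combination Nat.card C' * h2 + Nat.card C * h3 - 2 * hc + 2 * Nat.card G * hQ
    have h6 : (3 ^ (m + 1)) ^ 2 = 3 * q := by rw [hK]; ring
    have h8 : 3 ^ (m + 1) ≤ q := hK ▸ Nat.pow_le_pow_right (by norm_num) (by omega)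
    have h9 : ((Nat.card C : ℤ) - (q - 3 ^ (m + 1) + 1)) * (Nat.card C - (q + 3 ^ (m + 1) + 1)) = 0 := by
      rw [← e] at hQ
      zify at h4 h6 hQ
      linear_combination Nat.card C * h4 - hQ - h6
    zify [h8]
    zify at h4
    rcases mul_eq_zero.1 h9 with e | e
    exacts [⟨C, C', t, t', by linarith, by linarith, by simpa [Int.natCast_dvd_natCast] using h⟩,
      ⟨C', C, t', t, by linarith, by linarith, by simpa [Int.natCast_dvd_natCast, or_comm] using h⟩]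
  · have l := (t.lower (h1 c d)).1
    have l' := (t'.lower (h1 c' d')).1
    have l'' := (t''.lower (h1 c'' d'')).1
    have := Nat.mul_le_mul_right (ordS G (Nat.card C)).ncard (show (6 + 1) * k ≤ 42 by omega)
    have := Nat.mul_le_mul_right (ordS G (Nat.card C')).ncard (show (6 + 1) * k' ≤ 42 by omega)
    have := Nat.mul_le_mul_right (ordS G (Nat.card C'')).ncard (show (6 + 1) * k'' ≤ 42 by omega)
    omega

include X in
theorem orders (hm : 1 ≤ m) (d : ℕ) : (∃ g : G, orderOf g = d) ↔ (d ∣ 6 ∨ d ∣ 9 ∨ d ∣ q - 1 ∨ d ∣ (q + 1) / 2 ∨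
    d ∣ q - 3 ^ (m + 1) + 1 ∨ d ∣ q + 3 ^ (m + 1) + 1) := by
  obtain ⟨C, C', t, t', c, c', h⟩ := X.tori hK hm
  constructor
  · rintro ⟨g, rfl⟩
    rcases X.cover hK g with ((((h1 | h1) | h1) | h1) | h1) | h1
    · simp [Set.mem_singleton_iff.1 h1]
    · exact Or.inl (cov_ord (P := (· ∣ 6)) (by simp [X.ord_a hK]) g h1)
    · exact (cov_ord (P := fun k => k ∣ 6 ∨ k ∣ 9) (fun _ => X.ord_A3 hK) g h1).imp_right Or.inl
    · exact Or.inr (Or.inr (Or.inl (cov_ord (P := (· ∣ q - 1))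
        (fun a h => X.card_H' ▸ Subgroup.orderOf_dvd_natCard _ h.1) g h1)))
    · exact Or.inr (Or.inr (Or.inr (Or.inl (cov_ord (P := (· ∣ (q + 1) / 2))
        (fun a h => orderOf_dvd_of_pow_eq_one (X.pow_T hK h.1)) g h1))))
    · exact Or.inr (Or.inr (Or.inr (Or.inr (c ▸ c' ▸ h g h1))))
  · have h1 : ∀ {e}, (∃ g : G, orderOf g = e) → d ∣ e → ∃ g : G, orderOf g = d := by
      rintro _ ⟨g, rfl⟩ h; exact ⟨_, orderOf_pow_orderOf_div (orderOf_pos g).ne' h⟩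
    have h2 : ∀ {C : Subgroup G}, IsCyclic C → ∃ g : G, orderOf g = Nat.card C := fun h =>
      let ⟨g, hg⟩ := h.exists_ofOrder_eq_natCard; ⟨g, (orderOf_coe g).trans hg⟩
    have : Fact (Nat.Prime 3) := ⟨Nat.prime_three⟩
    rintro (e | e | e | e | e | e) <;> refine h1 ?_ e
    · refine ⟨X.a * X.f (sU 1), ?_⟩
      have h3 : orderOf (X.f (sU 1)) = 3 := orderOf_eq_prime (by
        rw [← map_pow, ← map_one X.f]; congr 1
        ext i j; fin_cases i <;> fin_cases j <;> simp [pow_succ]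
        linear_combination r3_three hK) fun e => one_ne_zero (X.f_U_inj 1 e)
      rw [Commute.orderOf_mul_eq_mul_orderOf_of_coprime (X.f_comm _).symm (by rw [h3, X.ord_a hK]; decide), h3, X.ord_a hK]
    · by_contra! h3
      have h4 := X.card_U3
      rw [show {u | u ∈ X.U ∧ u ^ 3 = 1} = (X.U : Set G) from Set.ext fun u => and_iff_left_of_imp fun hu => by
        by_contra h4
        exact h3 u (orderOf_eq_prime_pow (p := 3) (n := 1) h4 (X.pow9 u hu)), ← Nat.card_coe_set_eq] at h4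
      exact absurd (Nat.pow_right_injective Finite.one_lt_card (X.card_U.symm.trans h4)) (by norm_num)
    · exact X.card_H' ▸ h2 (isCyclic_of_surjective _ X.h.rangeRestrict_surjective)
    · exact let ⟨t, h, _⟩ := X.exists_t hK; ⟨t, h⟩
    · exact c ▸ h2 t.cyc
    · exact c' ▸ h2 t'.cyc

include X in
theorem exists_AH (hm : 1 ≤ m) : ∃ A : Subgroup G, IsCyclic A ∧ Nat.card A = (q - 1) / 2 ∧
    Nat.card (normalizer (A : Set G)) = 2 * (q - 1) ∧
    ∀ A₀ ≤ A, A₀ ≠ ⊥ → normalizer (A₀ : Set G) = normalizer (A : Set G) := by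
  obtain ⟨h0, k, hk, -⟩ := exists_k hK hm
  have h8 := q_mod hK
  have h1 : orderOf (X.h k ^ 2) = (q - 1) / 2 := by
    rw [orderOf_pow_of_dvd two_ne_zero (by rw [orderOf_injective _ X.h_inj]; omega), orderOf_injective _ X.h_inj, hk]
  have h2 : zpowers (X.h k ^ 2) ≤ X.h.range := zpowers_le.2 ⟨k ^ 2, map_pow _ _ _⟩
  have h3 : ∀ A₀ ≤ zpowers (X.h k ^ 2), A₀ ≠ ⊥ → normalizer (A₀ : Set G) = normalizer (X.h.range : Set G) := by
    refine fun A hA hA' => le_antisymm (fun x hx => ?_)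
      (normalizer_le_of_cyclic (isCyclic_of_surjective _ X.h.rangeRestrict_surjective) (hA.trans h2))
    obtain ⟨⟨y, hy⟩, hy1⟩ := ne_bot_iff_exists_ne_one.1 hA'
    obtain ⟨j, rfl⟩ := h2 (hA hy)
    refine X.mem_normalizer_of_conj (X.fpf' (X.sq_ne fun e => hy1 (Subtype.ext (orderOf_eq_one_iff.1 ?_))))
      (h2 (hA ((hx _).1 hy)))
    exact Nat.eq_one_of_dvd_coprimes ((Nat.Prime.coprime_iff_not_dvd Nat.prime_two).2 (by omega))
      (orderOf_dvd_of_pow_eq_one (by rwa [sq])) (h1 ▸ orderOf_dvd_of_mem_zpowers (hA hy))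
  have h4 := h3 _ le_rfl (by rw [Ne, zpowers_eq_bot, ← orderOf_eq_one_iff]; omega)
  exact ⟨_, inferInstance, by rw [Nat.card_zpowers, h1], h4 ▸ X.card_NH hK hm, h4 ▸ h3⟩

end Ree

end Cfsg.Agent.Lie
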