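import Cfsg.Agent.Lie.Ree1
import Cfsg.Agent.Core.Cores

set_option autoImplicit false
set_option linter.unusedSectionVars false

/-! The derived group of the smallest Ree group. -/

namespace Cfsg.Agent.Lie

open scoped Matrix MatrixGroups commutatorElement
open Subgroup

namespace Ree

variable {G : Type*} [Group G] [Finite G] (X : Ree G (ZMod 3))

theorem sU_mul3 (s t : ZMod 3) : (sU s : SL(2, ZMod 3)) * sU t = sU (s + t) := by
  revert s t; decide

theorem sU_zero3 : (sU 0 : SL(2, ZMod 3)) = 1 := by decide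

theorem hK3 : Fintype.card (ZMod 3) = 3 ^ (2 * 0 + 1) := by simp

theorem card_U27 : Nat.card X.U = 27 := by rw [X.card_U]; simp

theorem card_CU : Nat.card (X.U ⊓ centralizer {X.a} : Subgroup G) = 3 := by
  have : Function.Bijective (fun t : ZMod 3 => (⟨X.f (sU t), ((X.f_U _).2 ⟨t, rfl⟩).1,
      mem_cent.2 (X.f_comm _)⟩ : (X.U ⊓ centralizer {X.a} : Subgroup G))) := by
    constructor
    · intro s t e
      have e' : X.f (sU s) = X.f (sU t) := congrArg Subtype.val e
      have := X.f_U_inj (s - t) (by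
        rw [sub_eq_add_neg, ← sU_mul3, map_mul, e', ← map_mul, sU_mul3, add_neg_cancel, sU_zero3, map_one])
      exact sub_eq_zero.1 this
    · rintro ⟨u, h1, h2⟩
      obtain ⟨t, rfl⟩ := (X.f_U u).1 ⟨h1, by
        rw [mul_inv_eq_iff_eq_mul]; exact (mem_cent.1 h2).symm⟩
      exact ⟨t, rfl⟩
  rw [← Nat.card_eq_of_bijective _ this]; simp

/-- the elements of `U` inverted by `a` -/
def I3 : Set G := {y | ∃ u ∈ X.U, y = ⁅u, X.a⁆}

theorem ncard_I3 : X.I3.ncard = 9 := by
  have h := card_orbit X.U X.a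
  rw [X.card_CU, X.card_U27] at h
  have : X.I3 = (fun y => y * X.a⁻¹) '' cov X.U {X.a} := by
    ext y
    simp only [I3, Set.mem_setOf_eq, Set.mem_image, mem_cov_one, commutatorElement_def]
    exact ⟨fun ⟨u, hu, e⟩ => ⟨_, ⟨u, hu, rfl⟩, e.symm⟩, by
      rintro ⟨_, ⟨u, hu, rfl⟩, rfl⟩; exact ⟨u, hu, rfl⟩⟩
  rw [this, Set.ncard_image_of_injective _ (mul_left_injective _)]
  omega

theorem mem_I3 {y : G} : y ∈ X.I3 ↔ y ∈ X.U ∧ X.a * y * X.a⁻¹ = y⁻¹ := by
  constructor
  · rintro ⟨u, hu, rfl⟩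
    refine ⟨?_, ?_⟩
    · rw [commutatorElement_def, mul_assoc, mul_assoc, ← mul_assoc X.a]
      exact mul_mem hu (X.conj _ _ (inv_mem hu))
    · simp only [commutatorElement_def, mul_inv_rev, inv_inv, X.a_inv, mul_assoc, X.a_sq, mul_one]
  · rintro ⟨h1, h2⟩
    refine ⟨y ^ 5, pow_mem h1 5, ?_⟩
    rw [commutatorElement_def, mul_assoc, mul_assoc, ← mul_assoc X.a, ← inv_pow, ← conj_pow,
      ← conj_inv, h2, inv_inv, ← pow_add, show 5 + 5 = 9 + 1 from rfl, pow_succ, X.pow9 y h1, one_mul]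

theorem exists_F : ∃ F : Subgroup G, F < X.U ∧ ∀ x ∈ X.U, ∀ b ∈ X.B, ⁅x, b⁆ ∈ F := by
  obtain ⟨y, hy, y3⟩ : ∃ y ∈ X.I3, y ^ 3 ≠ 1 := by
    by_contra hne
    push Not at hne
    have hc : X.f (sU 1) ∉ X.I3 := fun h => by
      have e := (X.mem_I3.1 h).2
      rw [← X.f_comm, mul_inv_cancel_right, eq_inv_iff_mul_eq_one, ← map_mul, sU_mul3] at e
      exact absurd (X.f_U_inj _ e) (by decide)
    have := Set.ncard_le_ncard (s := insert (X.f (sU 1)) X.I3) (t := {u | u ∈ X.U ∧ u ^ 3 = 1}) (by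
      rintro _ (rfl | h)
      · refine ⟨X.fU_mem 1, ?_⟩
        rw [pow_three, ← map_mul, ← map_mul, sU_mul3, sU_mul3, show (1 + (1 + 1) : ZMod 3) = 0 from rfl,
          sU_zero3, map_one]
      · exact ⟨(X.mem_I3.1 h).1, hne _ h⟩)
    rw [Set.ncard_insert_of_notMem hc, X.ncard_I3, X.card_U3] at this
    simp at this
  obtain ⟨y1, y2⟩ := X.mem_I3.1 hy
  have ho : orderOf y = 9 := orderOf_eq_prime_pow (p := 3) (n := 1) (by simpa using y3) (X.pow9 y y1)
  have hI : (zpowers y : Set G) = X.I3 := by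
    refine Set.eq_of_subset_of_ncard_le ?_ ?_
    · rintro _ ⟨k, rfl⟩
      exact X.mem_I3.2 ⟨zpow_mem y1 k, by rw [← conj_zpow, y2, inv_zpow]⟩
    · rw [X.ncard_I3, ← Nat.card_coe_set_eq, SetLike.coe_sort_coe, Nat.card_zpowers, ho]
  have hle : zpowers y ≤ X.U := zpowers_le.2 y1
  have hi : ((zpowers y).subgroupOf X.U).index = 3 := by
    have := ((zpowers y).subgroupOf X.U).card_mul_index
    rw [Nat.card_congr (subgroupOfEquivOfLe hle).toEquiv, Nat.card_zpowers, ho, X.card_U27] at this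
    omega
  have hn : ((zpowers y).subgroupOf X.U).Normal :=
    normal_of_index_eq_minFac_card (by rw [hi, X.card_U27]; norm_num)
  have hc : ∀ x ∈ X.U, ∀ u ∈ X.U, ⁅x, u⁆ ∈ zpowers y := fun x hx u hu => by
    have : IsCyclic (X.U ⧸ (zpowers y).subgroupOf X.U) := isCyclic_of_prime_card (p := 3) hi
    have h1 : ((⁅(⟨x, hx⟩ : X.U), ⟨u, hu⟩⁆ : X.U) : X.U ⧸ (zpowers y).subgroupOf X.U) = 1 := by
      rw [← QuotientGroup.mk'_apply, map_commutatorElement, commutatorElement_eq_one_iff_mul_comm]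
      exact this.isMulCommutative.1.1 _ _
    exact mem_subgroupOf.1 ((QuotientGroup.eq_one_iff _).1 h1)
  refine ⟨zpowers y, lt_of_le_of_ne hle fun e => ?_, fun x hx b hb => ?_⟩
  · have := X.card_U27
    rw [← e, Nat.card_zpowers, ho] at this
    omega
  obtain ⟨u, hu, k, rfl⟩ := X.mem_B.1 hb
  rcases X.fix_sq hK3 (k := k) (by clear hb; revert k; decide) with e | e <;> rw [e]
  · rw [mul_one]; exact hc x hx u hu
  · have h1 : ⁅x, X.a⁆ ∈ zpowers y := by rw [← SetLike.mem_coe, hI]; exact ⟨x, hx, rfl⟩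
    have h2 : u * ⁅x, X.a⁆ * u⁻¹ ∈ zpowers y := hn.conj_mem ⟨_, hle h1⟩ h1 ⟨u, hu⟩
    have : ⁅x, u * X.a⁆ = ⁅x, u⁆ * (u * ⁅x, X.a⁆ * u⁻¹) := by
      simp only [commutatorElement_def]; group
    rw [this]
    exact mul_mem (hc x hx u hu) h2

include X in
theorem commutator_ne_top : commutator G ≠ ⊤ := fun h => by
  obtain ⟨F, h1, h2⟩ := X.exists_F
  have := commutator_inf_eq_focalSubgroup ((X.U_pgroup hK3).toSylow (X.index_U' hK3))
  rw [h, top_inf_eq] at this
  refine h1.not_ge (this.le.trans ((closure_le _).2 ?_))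
  rintro _ ⟨h3, x, hx, g, rfl⟩
  by_cases e : x = 1
  · simp [e]
  refine h2 x hx g (X.TI (inv_mem hx) (inv_ne_one.2 e) (X.U_le_B ?_))
  have h4 := X.U.mul_mem (X.U.inv_mem hx) h3
  simpa [commutatorElement_def, mul_assoc] using h4

theorem dvd_card (hB : X.B.normalCore = ⊥) (N : Subgroup G) [hN : N.Normal] (h : N ≠ ⊥) :
    504 ∣ Nat.card N := by
  obtain ⟨x, x1, x2⟩ : ∃ x ∈ N, x ∉ X.B := by
    by_contra hne
    push Not at hne
    exact h (eq_bot_iff.2 (hB ▸ normal_le_normalCore.2 hne))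
  obtain ⟨u, hu, k, v, hv, rfl⟩ := (X.cases x).resolve_left x2
  have hU : X.U ≤ N ⊔ X.B := X.U_le_B.trans le_sup_right
  have hh : ∀ k, X.h k ∈ N ⊔ X.B := fun k => mem_sup_right (X.h_mem_B k)
  have hn : X.n ∈ N ⊔ X.B := by
    have := mul_mem (mul_mem (inv_mem (hh k)) (inv_mem (hU hu)))
      (mul_mem (mem_sup_left x1) (inv_mem (hU hv)))
    simpa [mul_assoc] using this
  have ht : N ⊔ X.B = ⊤ := eq_top_iff.2 fun g _ => by
    rcases X.cases g with e | ⟨u, hu, k, v, hv, rfl⟩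
    · exact mem_sup_right e
    · exact mul_mem (mul_mem (hU hu) (mul_mem (hh k) hn)) (hU hv)
  have h1 : N.relIndex X.B = N.index := by rw [← relIndex_sup_left, ht, relIndex_top_right]
  have h2 := N.card_mul_index
  have h3 := (N.subgroupOf X.B).card_mul_index
  have hB' : Nat.card X.B = 54 := by rw [X.card_B, X.card_U27]; simp; rfl
  rw [X.card_G] at h2
  rw [← relIndex, h1, hB'] at h3
  have h4 : Nat.card N = 28 * Nat.card (N.subgroupOf X.B) := by
    refine Nat.eq_of_mul_eq_mul_right (Nat.pos_of_ne_zero (index_ne_zero_of_finite (H := N))) ?_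
    rw [h2, mul_assoc 28, h3]; simp
  obtain ⟨t, ht⟩ := exists_prime_orderOf_dvd_card' (G := N) 2 (by omega)
  have ha : X.a ∈ N := by
    have e : (t : G) * t = 1 := by rw [← coe_mul, ← pow_two, ← ht, pow_orderOf_eq_one, coe_one]
    obtain ⟨c, hc⟩ := isConj_iff.1 (X.conj_a hK3 e (fun e => by
      rw [show t = 1 from Subtype.ext e] at ht; simp at ht)).symm
    exact hc ▸ hN.conj_mem _ t.2 c
  have h5 : 2 ∣ Nat.card (N.subgroupOf X.B) := by
    rw [← X.ord_a hK3, ← orderOf_mk X.a (X.h_mem_B _)]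
    exact (N.subgroupOf X.B).orderOf_dvd_natCard ha
  have h6 : 9 ∣ Nat.card (N ⊓ X.U : Subgroup G) := by
    have h7 : Nat.card (N ⊓ X.U : Subgroup G) ∣ 3 ^ 3 := by
      rw [show 3 ^ 3 = 27 from rfl, ← X.card_U27]; exact card_dvd_of_le inf_le_right
    have h8 : 9 ≤ Nat.card (N ⊓ X.U : Subgroup G) := by
      rw [← X.ncard_I3, ← SetLike.coe_sort_coe, Nat.card_coe_set_eq]
      refine Set.ncard_le_ncard fun y hy => ⟨?_, (X.mem_I3.1 hy).1⟩
      obtain ⟨u, -, rfl⟩ := hy
      exact N.mul_mem (hN.conj_mem _ ha u) (N.inv_mem ha)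
    obtain ⟨i, hi, e⟩ := (Nat.dvd_prime_pow Nat.prime_three).1 h7
    rw [e] at h8 ⊢
    interval_cases i <;> simp_all
  have h7 : 9 ∣ Nat.card (N.subgroupOf X.B) := by
    rw [← inf_subgroupOf_right, Nat.card_congr (subgroupOfEquivOfLe inf_le_right).toEquiv]
    exact h6.trans (card_dvd_of_le (inf_le_inf_left _ X.U_le_B))
  omega

theorem derived (hB : X.B.normalCore = ⊥) :
    Nat.card (commutator G) = 504 ∧ IsSimpleGroup (commutator G) := by
  have hG : Nat.card G = 1512 := by rw [X.card_G]; simp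
  have h0 : commutator G ≠ ⊥ := fun e => by
    have h1 := X.card_Ca hK3
    have : centralizer {X.a} = ⊤ := eq_top_iff.2 fun g _ => mem_cent.2
      (commutatorElement_eq_one_iff_mul_comm.1 (mem_bot.1
        (e ▸ commutator_mem_commutator (mem_top _) (mem_top _))))
    rw [this, card_top, hG] at h1
    simp at h1
  have h1 : Nat.card (commutator G) = 504 := by
    obtain ⟨k, hk⟩ := X.dvd_card hB _ h0
    have h2 := (commutator G).card_mul_index
    have h3 : (commutator G).index ≠ 1 := fun e => X.commutator_ne_top (index_eq_one.1 e)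
    rw [hG, hk, mul_assoc] at h2
    have h4 : k * (commutator G).index = 3 := by omega
    rw [hk, (Nat.prime_three.eq_one_or_self_of_dvd k ⟨_, h4.symm⟩).resolve_right
      (fun e => h3 (by rw [e] at h4; omega))]
  have : Nontrivial (commutator G) := (nontrivial_iff_ne_bot _).2 h0
  refine ⟨h1, ⟨fun M hM => ?_⟩⟩
  have : Fact (Nat.Prime 7) := ⟨by norm_num⟩
  by_cases h7 : 7 ∣ Nat.card M
  · right
    obtain ⟨x, hx⟩ := exists_prime_orderOf_dvd_card' (G := commutator G) 7 (by omega)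
    have key : ∀ y : commutator G, y ^ 7 = 1 → y ∈ M := fun y hy => by
      have h2 := M.card_mul_index
      have h3 : Nat.Coprime 7 M.index := (Nat.Prime.coprime_iff_not_dvd (by norm_num)).2 fun e => by
        have := mul_dvd_mul h7 e
        omega
      rw [← QuotientGroup.eq_one_iff, ← orderOf_eq_one_iff, ← Nat.dvd_one, ← h3.gcd_eq_one]
      exact Nat.dvd_gcd (orderOf_dvd_of_pow_eq_one (by rw [← QuotientGroup.mk_pow, hy]; rfl))
        (orderOf_dvd_natCard _)
    have h2 : (M.map (commutator G).subtype).normalCore ≠ ⊥ := fun e => by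
      have : (x : G) ∈ (M.map (commutator G).subtype).normalCore := fun g =>
        ⟨⟨_, Normal.conj_mem inferInstance _ x.2 g⟩, key _ (Subtype.ext (by
          rw [coe_pow, conj_pow, ← coe_pow, ← hx, pow_orderOf_eq_one]; simp)), rfl⟩
      rw [e, mem_bot, OneMemClass.coe_eq_one] at this
      simp [this] at hx
    have h3 := Nat.le_of_dvd Nat.card_pos ((X.dvd_card hB _ h2).trans
      (card_dvd_of_le (normalCore_le _)))
    rw [card_subtype] at h3
    exact eq_top_of_le_card _ (h1 ▸ h3)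
  · left
    have h2 : M ≤ pPrimeCore 7 (commutator G) := Core.le_pPrimeCore hM
      ((Nat.Prime.coprime_iff_not_dvd (by norm_num)).2 h7).symm
    have h3 : pPrimeCore 7 G = ⊥ := by
      by_contra e
      exact Core.not_dvd_card_pPrimeCore 7 ((by norm_num : 7 ∣ 504).trans (X.dvd_card hB _ e))
    have h4 := (map_mono h2).trans (Core.map_subtype_pPrimeCore_le 7 (commutator G))
    rw [h3, le_bot_iff, map_eq_bot_iff_of_injective _ (subtype_injective _)] at h4
    exact h4

end Ree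

end Cfsg.Agent.Lie
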