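import Mathlib

set_option autoImplicit false
set_option linter.unusedSectionVars false

/-! Regular elements of small linear groups over finite fields, and counting of TI-subsets. -/

namespace Cfsg.Agent.Lie

open scoped Matrix
open Polynomial

section eigen

variable {K : Type*} [Field K] [Fintype K] {L : Type*} [Field L] [Algebra K L] {n : ℕ}

/-- eigenvectors over an extension field -/
def EV (M : Matrix (Fin n) (Fin n) K) (μ : L) (v : Fin n → L) : Prop :=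
  v ≠ 0 ∧ M.map (algebraMap K L) *ᵥ v = μ • v

/-- eigenvalues over an extension field -/
noncomputable def evs (L : Type*) [Field L] [Algebra K L] (M : Matrix (Fin n) (Fin n) K) : Multiset L :=
  (M.charpoly.map (algebraMap K L)).roots

theorem frob_mulVec (M : Matrix (Fin n) (Fin n) K) (v : Fin n → L) :
    M.map (algebraMap K L) *ᵥ (FiniteField.frobeniusAlgHom K L ∘ v) =
      FiniteField.frobeniusAlgHom K L ∘ (M.map (algebraMap K L) *ᵥ v) := by
  funext i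
  simp only [Matrix.mulVec, dotProduct, Function.comp, Matrix.map_apply, map_sum, map_mul, AlgHom.commutes]

theorem EV.frob {M : Matrix (Fin n) (Fin n) K} {μ : L} {v : Fin n → L} (h : EV M μ v) :
    EV M (μ ^ Fintype.card K) (FiniteField.frobeniusAlgHom K L ∘ v) := by
  refine ⟨fun e => h.1 (funext fun i => ?_), ?_⟩
  · simpa using congrFun e i
  · rw [frob_mulVec, h.2]; funext i; simp [mul_pow]

theorem mem_evs {M : Matrix (Fin n) (Fin n) K} {μ : L} : μ ∈ evs L M ↔ ∃ v, EV M μ v := by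
  rw [evs, ← Matrix.charpoly_map, mem_roots (Matrix.charpoly_monic _).ne_zero, ← Matrix.charpoly_toLin',
    ← Module.End.hasEigenvalue_iff_isRoot_charpoly]
  constructor
  · intro h
    obtain ⟨v, hv⟩ := h.exists_hasEigenvector
    exact ⟨v, hv.2, hv.apply_eq_smul⟩
  · rintro ⟨v, h1, h2⟩
    exact Module.End.hasEigenvalue_of_hasEigenvector ⟨Module.End.mem_eigenspace_iff.2 h2, h1⟩

theorem EV.eq_smul {M : Matrix (Fin n) (Fin n) K} {μ : L} {v w : Fin n → L} (h : EV M μ v)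
    (hM : (evs L M).Nodup) (hw : M.map (algebraMap K L) *ᵥ w = μ • w) : ∃ c : L, w = c • v := by
  classical
  have h1 := (Matrix.toLin' (M.map (algebraMap K L))).finrank_eigenspace_le μ
  rw [Matrix.charpoly_toLin', Matrix.charpoly_map, ← count_roots] at h1
  obtain ⟨u, hu⟩ := finrank_le_one_iff.1 (h1.trans (Multiset.nodup_iff_count_le_one.1 hM μ))
  obtain ⟨a, ha⟩ := hu ⟨v, Module.End.mem_eigenspace_iff.2 h.2⟩
  obtain ⟨b, hb⟩ := hu ⟨w, Module.End.mem_eigenspace_iff.2 hw⟩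
  have ha' : a • (u : Fin n → L) = v := congrArg Subtype.val ha
  have hb' : b • (u : Fin n → L) = w := congrArg Subtype.val hb
  have : a ≠ 0 := fun e => h.1 (by rw [← ha', e, zero_smul])
  exact ⟨b / a, by rw [← ha', ← hb', smul_smul, div_mul_cancel₀ _ this]⟩

theorem EV.pow {M : Matrix (Fin n) (Fin n) K} {μ : L} {v : Fin n → L} (h : EV M μ v) (k : ℕ) :
    EV (M ^ k) (μ ^ k) v := by
  refine ⟨h.1, ?_⟩
  induction k with
  | zero => simp
  | succ k ih => rw [pow_succ, Matrix.map_mul, ← Matrix.mulVec_mulVec, h.2, Matrix.mulVec_smul, ih, smul_smul, pow_succ']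

theorem EV.unique {M : Matrix (Fin n) (Fin n) K} {μ ν : L} {v : Fin n → L} (h : EV M μ v) (h' : EV M ν v) :
    μ = ν := smul_left_injective L h.1 (h.2.symm.trans h'.2)

theorem EV.pow_eq_one {M : Matrix (Fin n) (Fin n) K} {μ : L} {v : Fin n → L} (h : EV M μ v) {k : ℕ}
    (hk : M ^ k = 1) : μ ^ k = 1 := (h.pow k).unique ⟨h.1, by simp [hk]⟩

variable [IsAlgClosed L]

theorem card_evs (M : Matrix (Fin n) (Fin n) K) : (evs L M).card = n := by
  rw [evs, ← (IsAlgClosed.splits _).natDegree_eq_card_roots, ← Matrix.charpoly_map, Matrix.charpoly_natDegree_eq_dim,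
    Fintype.card_fin]

theorem map_evs (M : Matrix (Fin n) (Fin n) K) : (evs L M).map (· ^ Fintype.card K) = evs L M := by
  have := roots_map_of_injective_of_card_eq_natDegree (p := M.charpoly.map (algebraMap K L))
    (f := (FiniteField.frobeniusAlgHom K L : L →+* L)) (RingHom.injective _)
    (IsAlgClosed.splits _).natDegree_eq_card_roots.symm
  rwa [Polynomial.map_map, AlgHom.comp_algebraMap] at this

theorem exists_evs_ne_one {M : Matrix (Fin n) (Fin n) K} {p : ℕ} (hM : M ^ p = 1) (h1 : M ≠ 1)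
    (hp : (Fintype.card K).Coprime p) : ∃ μ ∈ evs L M, μ ≠ 1 := by
  by_contra! h
  obtain ⟨l, hl, k, hl', hk⟩ := FiniteField.card' K
  have : Fact l.Prime := ⟨hl'⟩
  have : CharP L l := charP_of_injective_algebraMap (algebraMap K L).injective l
  rcases n with _ | n
  · exact h1 (Subsingleton.elim _ _)
  have h2 : evs L M = Multiset.replicate (n + 1) 1 := Multiset.eq_replicate.2 ⟨card_evs M, h⟩
  have h3 := Matrix.aeval_self_charpoly (M.map (algebraMap K L))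
  rw [(IsAlgClosed.splits _).eq_prod_roots_of_monic (Matrix.charpoly_monic _), Matrix.charpoly_map] at h3
  change aeval _ (Multiset.map _ (evs L M)).prod = 0 at h3
  simp only [h2, Multiset.map_replicate, Multiset.prod_replicate, map_pow, map_sub, aeval_X, map_one] at h3
  have h4 : (M.map (algebraMap K L) - 1) ^ l ^ (n + 1) = 0 :=
    pow_eq_zero_of_le (Nat.lt_pow_self hl'.one_lt).le h3
  rw [sub_pow_char_pow_of_commute _ _ (Commute.one_right _), one_pow, sub_eq_zero] at h4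
  have h5 : M ^ l ^ (n + 1) = 1 := Matrix.map_injective (algebraMap K L).injective (by
    simpa [← RingHom.mapMatrix_apply] using h4)
  have h6 : (l ^ (n + 1)).Coprime p := by
    rw [hk] at hp; exact Nat.Coprime.pow_left _ ((Nat.coprime_pow_left_iff k.pos _ _).1 hp)
  exact h1 ((pow_eq_one_iff_of_coprime h6).1 ⟨h5, hM⟩)

theorem reg_evs {M : Matrix (Fin n) (Fin n) K} {p d : ℕ} (hp : p.Prime) (hM : M ^ p = 1) (h1 : M ≠ 1)
    (hd : ∀ i, Fintype.card K ^ i ≡ 1 [MOD p] ↔ d ∣ i) (h2 : 2 ≤ d) (hn : n ≤ d + 1) :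
    (evs L M).Nodup ∧ ∃ μ ∈ evs L M, orderOf μ = p ∧ ∀ ν ∈ evs L M, ν = 1 ∨ ∃ i < d, ν = μ ^ Fintype.card K ^ i := by
  classical
  set q := Fintype.card K
  have : Fact p.Prime := ⟨hp⟩
  have hq : q.Coprime p := by
    have := (Nat.coprime_of_mul_modEq_one 1 (by rw [mul_one]; exact (hd d).2 dvd_rfl) : (q ^ d).Coprime p)
    exact (Nat.coprime_pow_left_iff (by omega) _ _).1 this
  have hpow : ∀ ν ∈ evs L M, ν ^ p = 1 := fun ν h => let ⟨v, hv⟩ := mem_evs.1 h; hv.pow_eq_one hM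
  obtain ⟨μ, hμ, hμ1⟩ := exists_evs_ne_one (L := L) hM h1 hq
  have ho : orderOf μ = p := orderOf_eq_prime (hpow μ hμ) hμ1
  have hmem : ∀ i, μ ^ q ^ i ∈ evs L M := fun i => by
    induction i with
    | zero => simpa
    | succ i ih => rw [← map_evs, pow_succ, pow_mul]; exact Multiset.mem_map_of_mem _ ih
  have hfin : IsOfFinOrder μ := orderOf_pos_iff.1 (ho ▸ hp.pos)
  have hinj : ∀ i j, i < d → j < d → μ ^ q ^ i = μ ^ q ^ j → i = j := by
    intro i j hi hj e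
    wlog hij : i ≤ j generalizing i j
    · exact (this j i hj hi e.symm (by omega)).symm
    obtain ⟨k, rfl⟩ := Nat.exists_eq_add_of_le hij
    rw [hfin.pow_eq_pow_iff_modEq, ho, pow_add] at e
    have := (hd k).1 (Nat.ModEq.cancel_left_of_coprime (c := q ^ i) (hq.pow_left i).symm (by simpa using e.symm))
    have := Nat.eq_zero_of_dvd_of_lt this (by omega)
    omega
  let O : Multiset L := (Multiset.range d).map fun i => μ ^ q ^ i
  have hO : O.Nodup := (Multiset.nodup_range d).map_on fun i hi j hj =>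
    hinj i j (Multiset.mem_range.1 hi) (Multiset.mem_range.1 hj)
  obtain ⟨R, hR⟩ := Multiset.le_iff_exists_add.1 ((Multiset.le_iff_subset hO).2 fun ν h => by
    obtain ⟨i, -, rfl⟩ := Multiset.mem_map.1 h; exact hmem i)
  have hO1 : O.map (· ^ q) = O := by
    obtain ⟨d, rfl⟩ : ∃ e, d = e + 1 := ⟨d - 1, by omega⟩
    have e1 : μ ^ q ^ (d + 1) = μ ^ q ^ 0 := by
      rw [hfin.pow_eq_pow_iff_modEq, ho]; exact (hd _).2 dvd_rfl
    simp only [O, Multiset.map_map, Function.comp, ← pow_mul, ← pow_succ]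
    conv_lhs => rw [Multiset.range_succ, Multiset.map_cons, e1]
    rw [← Multiset.coe_range, ← Multiset.coe_range, List.range_succ_eq_map]
    simp [Function.comp_def]
  have hR1 : R.map (· ^ q) = R := by
    have := map_evs (L := L) M
    rwa [hR, Multiset.map_add, hO1, add_right_inj] at this
  have hc : R.card ≤ 1 := by
    have := card_evs (L := L) M
    rw [hR, Multiset.card_add, Multiset.card_map, Multiset.card_range] at this
    omega
  have hR2 : ∀ ν ∈ R, ν = 1 := fun ν hν => by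
    obtain ⟨a, rfl⟩ := Multiset.card_eq_one.1 (le_antisymm hc (Multiset.card_pos_iff_exists_mem.2 ⟨ν, hν⟩))
    obtain rfl := Multiset.mem_singleton.1 hν
    by_contra h
    have h3 : orderOf ν = p := orderOf_eq_prime (hpow ν (by simp [hR])) h
    have h4 : ν ^ q ^ 1 = ν ^ 1 := by simpa using hR1
    rw [(orderOf_pos_iff.1 (h3 ▸ hp.pos)).pow_eq_pow_iff_modEq, h3, hd] at h4
    exact absurd (Nat.le_of_dvd one_pos h4) (by omega)
  refine ⟨?_, μ, hμ, ho, fun ν hν => ?_⟩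
  · rw [hR, Multiset.nodup_add]
    refine ⟨hO, ?_, Multiset.disjoint_left.2 fun {ν} h h' => ?_⟩
    · rw [Multiset.nodup_iff_count_le_one]
      exact fun a => (Multiset.count_le_card _ _).trans hc
    · obtain ⟨i, -, e⟩ := Multiset.mem_map.1 h
      rw [hR2 _ h', ← orderOf_dvd_iff_pow_eq_one, ho] at e
      exact hp.one_lt.ne' (((hq.pow_left i).symm).eq_one_of_dvd e)
  · rcases Multiset.mem_add.1 (hR ▸ hν) with h | h
    · obtain ⟨i, hi, rfl⟩ := Multiset.mem_map.1 h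
      exact Or.inr ⟨i, Multiset.mem_range.1 hi, rfl⟩
    · exact Or.inl (hR2 _ h)

end eigen

section group

variable {K : Type*} [Field K] [Fintype K] {n : ℕ} {G : Type*} [Group G] [Finite G]
  (ρ : G →* Matrix (Fin n) (Fin n) K) (hρ : Function.Injective ρ) {d : ℕ} (h2 : 2 ≤ d) (hn : n ≤ d + 1)
include hρ h2 hn

theorem reg_conj {y : G} {p : ℕ} (hp : p.Prime) (hy : orderOf y = p)
    (hd : ∀ i, Fintype.card K ^ i ≡ 1 [MOD p] ↔ d ∣ i) {g : G} {k : ℕ} (h : g * y * g⁻¹ = y ^ k) :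
    ∃ i < d, g * y * g⁻¹ = y ^ Fintype.card K ^ i := by
  have h1 : y ≠ 1 := fun e => hp.one_lt.ne' (by rw [← hy, e, orderOf_one])
  obtain ⟨-, μ, hμ, ho, hν⟩ := reg_evs (L := AlgebraicClosure K) (M := ρ y) hp
    (by rw [← map_pow, ← hy, pow_orderOf_eq_one, map_one]) (fun e => h1 (hρ (by rw [e, map_one]))) hd h2 hn
  obtain ⟨v, hv⟩ := mem_evs.1 hμ
  have h3 : evs (AlgebraicClosure K) (ρ y ^ k) = evs (AlgebraicClosure K) (ρ y) := by
    rw [← map_pow, ← h, evs, evs, map_mul, map_mul]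
    have := Matrix.charpoly_units_conj (ρ.toHomUnits g) (ρ y)
    rw [← Matrix.coe_units_inv, ← map_inv, MonoidHom.coe_toHomUnits, MonoidHom.coe_toHomUnits] at this
    rw [this]
  have hfin : IsOfFinOrder μ := orderOf_pos_iff.1 (ho ▸ hp.pos)
  rcases hν _ (h3 ▸ mem_evs.2 ⟨v, hv.pow k⟩) with e | ⟨i, hi, e⟩
  · rw [← orderOf_dvd_iff_pow_eq_one, ho, ← hy, orderOf_dvd_iff_pow_eq_one, ← h] at e
    exact absurd (by simpa using e) h1
  · exact ⟨i, hi, by rwa [h, pow_eq_pow_iff_modEq, hy, ← ho, ← hfin.pow_eq_pow_iff_modEq]⟩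

theorem reg_cyclic {y : G} {p : ℕ} (hp : p.Prime) (hy : orderOf y = p) {C : Subgroup G}
    (hC : C ≤ Subgroup.centralizer {y}) (hd' : ∀ i, Fintype.card K ^ i ≡ 1 [MOD p] ↔ d ∣ i)
    (hd : ∀ r, r.Prime → r ∣ Nat.card C → ∀ i, Fintype.card K ^ i ≡ 1 [MOD r] ↔ d ∣ i) : IsCyclic C := by
  let L := AlgebraicClosure K
  have hev : ∀ {z : G} {r : ℕ}, r.Prime → orderOf z = r → (∀ i, Fintype.card K ^ i ≡ 1 [MOD r] ↔ d ∣ i) →
      (evs L (ρ z)).Nodup ∧ ∃ μ ∈ evs L (ρ z), orderOf μ = r ∧ _ := fun {z r} hr hz h =>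
    reg_evs (M := ρ z) hr (by rw [← map_pow, ← hz, pow_orderOf_eq_one, map_one])
      (fun e => hr.one_lt.ne' (by rw [← hz, hρ (e.trans (map_one ρ).symm), orderOf_one])) h h2 hn
  obtain ⟨h1, μ, hμ, ho, -⟩ := hev hp hy hd'
  obtain ⟨v, hv⟩ := mem_evs.1 hμ
  have h3 : ∀ g : C, ∃ c : L, EV (ρ g) c v := fun g => by
    obtain ⟨c, hc⟩ := hv.eq_smul h1 (w := (ρ g).map (algebraMap K L) *ᵥ v) (by
      rw [Matrix.mulVec_mulVec, ← Matrix.map_mul, ← map_mul, (hC g.2) y rfl, map_mul, Matrix.map_mul,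
        ← Matrix.mulVec_mulVec, hv.2, Matrix.mulVec_smul])
    exact ⟨c, hv.1, hc⟩
  choose χ hχ using h3
  let f : C →* L :=
    { toFun := χ
      map_one' := (hχ 1).unique ⟨hv.1, by simp⟩
      map_mul' := fun a b => (hχ _).unique ⟨hv.1, by
        rw [Subgroup.coe_mul, map_mul, Matrix.map_mul, ← Matrix.mulVec_mulVec, (hχ b).2, Matrix.mulVec_smul, (hχ a).2,
          smul_smul, mul_comm]⟩ }
  refine isCyclic_of_injective_ringHom f ((injective_iff_map_eq_one f).2 fun g hg => ?_)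
  by_contra hg1
  obtain ⟨r, hr, hr'⟩ := Nat.exists_prime_and_dvd (mt orderOf_eq_one_iff.1 hg1)
  have h4 : orderOf ((g ^ (orderOf g / r) : C) : G) = r := by
    rw [Subgroup.orderOf_coe, orderOf_pow_orderOf_div (orderOf_pos g).ne' hr']
  have h5 := hχ (g ^ (orderOf g / r))
  rw [show χ _ = f _ from rfl, map_pow, hg, one_pow] at h5
  obtain ⟨c, hc⟩ := h5.eq_smul (hev hr h4 (hd r hr (hr'.trans (orderOf_dvd_natCard g)))).1
    (by simpa using h5.frob.2)
  have h6 : μ ^ Fintype.card K ^ 1 = μ ^ 1 := by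
    have := hv.frob
    rw [hc] at this
    simpa using this.unique ⟨this.1, by rw [Matrix.mulVec_smul, hv.2, smul_comm]⟩
  rw [(orderOf_pos_iff.1 (ho ▸ hp.pos)).pow_eq_pow_iff_modEq, ho, hd'] at h6
  exact absurd (Nat.le_of_dvd one_pos h6) (by omega)

end group

section count

variable {G : Type*} [Group G] [Finite G]

/-- conjugates of elements of `A` under `M` -/
def cov (M : Subgroup G) (A : Set G) : Set G := {g | ∃ x ∈ M, x * g * x⁻¹ ∈ A}

theorem card_cov {M N : Subgroup G} {A : Set G} (h0 : N ≤ M) (h1 : ∀ n ∈ N, ∀ a ∈ A, n * a * n⁻¹ ∈ A)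
    (h2 : ∀ x ∈ M, ∀ a ∈ A, x * a * x⁻¹ ∈ A → x ∈ N) : (cov M A).ncard * Nat.card N = Nat.card M * A.ncard := by
  rw [← Nat.card_coe_set_eq, ← Nat.card_coe_set_eq, ← Nat.card_prod, ← Nat.card_prod]
  choose x hx hx' using fun g : cov M A => g.2
  refine Nat.card_eq_of_bijective (fun p => (⟨p.2 * x p.1, mul_mem (h0 p.2.2) (hx _)⟩,
    ⟨p.2 * (x p.1 * p.1 * (x p.1)⁻¹) * (p.2 : G)⁻¹, h1 _ p.2.2 _ (hx' _)⟩)) ⟨?_, ?_⟩
  · rintro ⟨g, a⟩ ⟨g', a'⟩ e
    simp only [Prod.mk.injEq, Subtype.mk.injEq] at e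
    obtain rfl : g = g' := Subtype.ext (by
      have := e.2
      rwa [← mul_assoc, ← mul_assoc, mul_assoc _ _ (a : G)⁻¹, ← mul_inv_rev, e.1, ← mul_assoc, ← mul_assoc,
        mul_assoc _ _ (a' : G)⁻¹, ← mul_inv_rev, mul_left_inj, mul_right_inj] at this)
    rw [Subtype.ext (mul_right_cancel e.1)]
  · rintro ⟨y, a⟩
    let g : cov M A := ⟨(y : G)⁻¹ * a * y, y, y.2, by simp [mul_assoc]⟩
    exact ⟨(g, ⟨y * (x g)⁻¹, h2 _ (mul_mem y.2 (inv_mem (hx g))) _ (hx' g) (by simp [g, mul_assoc])⟩),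
      by simp [g, mul_assoc]⟩

theorem exists_conj_mem {A : Subgroup G} {r : ℕ} (hr : r.Prime) (h : ¬ r ∣ A.index) {y : G} {k : ℕ}
    (hy : y ^ r ^ k = 1) : ∃ x, x * y * x⁻¹ ∈ A := by
  have : Fact r.Prime := ⟨hr⟩
  have h1 : IsPGroup r (Subgroup.zpowers y) := by
    obtain ⟨j, -, hj⟩ := (Nat.dvd_prime_pow hr).1 (orderOf_dvd_of_pow_eq_one hy)
    exact IsPGroup.of_card (by rw [Nat.card_zpowers, hj])
  obtain ⟨c, hc⟩ := h1.nonempty_fixed_point_of_prime_not_dvd_card (G ⧸ A) h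
  obtain ⟨x, rfl⟩ := QuotientGroup.mk_surjective c
  have : ((y * x : G) : G ⧸ A) = x := hc ⟨y, Subgroup.mem_zpowers y⟩
  rw [eq_comm, QuotientGroup.eq] at this
  exact ⟨x⁻¹, by simpa [mul_assoc] using this⟩

theorem orderOf_conj' (x g : G) : orderOf (x * g * x⁻¹) = orderOf g := by
  simpa using (MulAut.conj x).orderOf_eq g

theorem exists_conj_mem_of_dvd {A T : Subgroup G} {r : ℕ} (hr : r.Prime) (h : ¬ r ∣ A.index)
    (hT : ∀ y ∈ A, orderOf y = r → Subgroup.centralizer {y} ≤ T) {g : G} (hg : r ∣ orderOf g) :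
    ∃ x, x * g * x⁻¹ ∈ T := by
  have h1 := orderOf_pow_orderOf_div (orderOf_pos g).ne' hg
  obtain ⟨x, hx⟩ := exists_conj_mem hr h (y := g ^ (orderOf g / r)) (k := 1)
    (by rw [pow_one]; exact orderOf_dvd_iff_pow_eq_one.1 h1.dvd)
  refine ⟨x, hT _ hx (by rw [orderOf_conj', h1]) (Subgroup.mem_centralizer_singleton_iff.2 ?_)⟩
  rw [← conj_pow]; exact (Commute.self_pow _ _).eq

theorem exists_prime_pow {g : G} (hg : g ≠ 1) : ∃ k, (orderOf (g ^ k)).Prime ∧ orderOf (g ^ k) ∣ orderOf g := by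
  obtain ⟨r, hr, hr'⟩ := Nat.exists_prime_and_dvd (mt orderOf_eq_one_iff.1 hg)
  exact ⟨orderOf g / r, by rw [orderOf_pow_orderOf_div (orderOf_pos g).ne' hr']; exact ⟨hr, hr'⟩⟩

theorem conj_mem_zpowers {C : Subgroup G} (h : IsCyclic C) {g y : G} (hg : g ∈ Subgroup.normalizer (C : Set G))
    (hy : y ∈ C) : ∃ k : ℕ, g * y * g⁻¹ = y ^ k := by
  obtain ⟨c, hc⟩ := h.exists_monoid_generator
  obtain ⟨k, hk⟩ := hc ⟨g * c * g⁻¹, (hg c).1 c.2⟩
  obtain ⟨j, hj⟩ := hc ⟨y, hy⟩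
  simp only [Subtype.ext_iff, Subgroup.coe_pow] at hk hj
  exact ⟨k, by rw [← hj, ← conj_pow, ← hk, ← pow_mul, ← pow_mul, mul_comm]⟩

theorem normalizer_le_of_cyclic {C A : Subgroup G} (h : IsCyclic C) (hA : A ≤ C) :
    Subgroup.normalizer (C : Set G) ≤ Subgroup.normalizer (A : Set G) := fun g hg =>
  Subgroup.mem_normalizer_fintype fun y hy => by
    obtain ⟨k, hk⟩ := conj_mem_zpowers h hg (hA hy)
    exact hk ▸ pow_mem hy k

/-- nonidentity elements of order dividing `c` -/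
def ordS (G : Type*) [Group G] (c : ℕ) : Set G := {g | g ≠ 1 ∧ orderOf g ∣ c}

/-- a cyclic subgroup which is the centraliser of its nonidentity elements -/
structure Tor (C : Subgroup G) (k : ℕ) : Prop where
  cyc : IsCyclic C
  cent : ∀ u ∈ C, u ≠ 1 → Subgroup.centralizer {u} = C
  norm : Nat.card (Subgroup.normalizer (C : Set G)) = k * Nat.card C

namespace Tor

variable {C : Subgroup G} {k : ℕ} (h : Tor C k)
include h

theorem not_dvd {r : ℕ} (hr : r.Prime) (h1 : r ∣ Nat.card C) : ¬ r ∣ C.index := by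
  have : Fact r.Prime := ⟨hr⟩
  obtain ⟨u, hu⟩ := exists_prime_orderOf_dvd_card' r h1
  rw [← Subgroup.orderOf_coe] at hu
  have hu1 : (u : G) ≠ 1 := fun e => hr.one_lt.ne' (by rw [← hu, e, orderOf_one])
  obtain ⟨P, hP⟩ := (IsPGroup.of_card (G := Subgroup.zpowers (u : G)) (n := 1)
    (by rw [Nat.card_zpowers, hu, pow_one])).exists_le_sylow
  have huP := hP (Subgroup.mem_zpowers _)
  have : Nontrivial P := ⟨⟨u, huP⟩, 1, fun e => hu1 (congrArg Subtype.val e)⟩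
  have := P.isPGroup'.center_nontrivial
  obtain ⟨z, hz⟩ := exists_ne (1 : Subgroup.center P)
  have hz1 : ∀ g ∈ P, g ∈ Subgroup.centralizer {((z : P) : G)} := fun g hg =>
    Subgroup.mem_centralizer_singleton_iff.2 (congrArg Subtype.val (Subgroup.mem_center_iff.1 z.2 ⟨g, hg⟩))
  have hz2 : ((z : P) : G) ∈ C := by
    rw [← h.cent u u.2 hu1, Subgroup.mem_centralizer_singleton_iff]
    exact (Subgroup.mem_centralizer_singleton_iff.1 (hz1 u huP)).symm
  rw [h.cent _ hz2 fun e => hz (Subtype.ext (Subtype.ext e))] at hz1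
  exact fun e => P.not_dvd_index (e.trans (Subgroup.index_dvd_of_le hz1))

theorem conj {r : ℕ} (hr : r.Prime) (h1 : r ∣ Nat.card C) {g : G} (hg : r ∣ orderOf g) : ∃ x, x * g * x⁻¹ ∈ C :=
  exists_conj_mem_of_dvd hr (h.not_dvd hr h1) (fun y hy e => (h.cent y hy fun e' => hr.one_lt.ne' (by
    rw [← e, e', orderOf_one])).le) hg

theorem dvd {r : ℕ} (hr : r.Prime) (h1 : r ∣ Nat.card C) {g : G} (hg : r ∣ orderOf g) : orderOf g ∣ Nat.card C := by
  obtain ⟨x, hx⟩ := h.conj hr h1 hg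
  rw [← orderOf_conj' x]; exact Subgroup.orderOf_dvd_natCard _ hx

theorem mem_normalizer {x a : G} (ha : a ∈ C) (h1 : a ≠ 1) (hx : x * a * x⁻¹ ∈ C) :
    x ∈ Subgroup.normalizer (C : Set G) := by
  refine Subgroup.mem_normalizer_fintype fun y hy => ?_
  rw [← h.cent _ hx (by simpa using h1), SetLike.mem_coe, Subgroup.mem_centralizer_singleton_iff]
  rw [← h.cent _ ha h1, SetLike.mem_coe, Subgroup.mem_centralizer_singleton_iff] at hy
  simp [mul_assoc, ← mul_assoc y, hy]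

theorem normalizer_eq {A : Subgroup G} (hA : A ≤ C) (h1 : A ≠ ⊥) :
    Subgroup.normalizer (A : Set G) = Subgroup.normalizer (C : Set G) := by
  refine le_antisymm (fun x hx => ?_) (normalizer_le_of_cyclic h.cyc hA)
  obtain ⟨⟨a, ha⟩, ha1⟩ := Subgroup.ne_bot_iff_exists_ne_one.1 h1
  exact h.mem_normalizer (hA ha) (fun e => ha1 (Subtype.ext e)) (hA ((hx a).1 ha))

theorem count : (ordS G (Nat.card C)).ncard * (k * Nat.card C) = Nat.card G * (Nat.card C - 1) := by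
  have h1 : ordS G (Nat.card C) = cov ⊤ ((C : Set G) \ {1}) := by
    ext g
    constructor
    · rintro ⟨h1, h2⟩
      obtain ⟨r, hr, hr'⟩ := Nat.exists_prime_and_dvd (mt orderOf_eq_one_iff.1 h1)
      obtain ⟨x, hx⟩ := h.conj hr (hr'.trans h2) hr'
      exact ⟨x, trivial, hx, by simpa using h1⟩
    · rintro ⟨x, -, h1, h2⟩
      exact ⟨by simpa using h2, by rw [← orderOf_conj' x]; exact Subgroup.orderOf_dvd_natCard _ h1⟩
  rw [h1, ← h.norm, card_cov le_top, Subgroup.card_top, Set.ncard_diff_singleton_of_mem (one_mem C),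
    ← Nat.card_coe_set_eq]
  · rfl
  · exact fun n hn a ha => ⟨(hn a).1 ha.1, by simpa using ha.2⟩
  · exact fun x _ a ha hx => h.mem_normalizer ha.1 ha.2 hx.1

theorem coprime {C' : Subgroup G} {k' : ℕ} (h' : Tor C' k') {p : ℕ} (h1 : p ∣ Nat.card C') (h2 : ¬ p ∣ Nat.card C) :
    (Nat.card C).Coprime (Nat.card C') := by
  refine Nat.coprime_of_dvd fun r hr h3 h4 => h2 (h1.trans ?_)
  obtain ⟨c, hc⟩ := h'.cyc.exists_ofOrder_eq_natCard
  rw [← hc, ← Subgroup.orderOf_coe] at h4 ⊢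
  exact h.dvd hr h3 h4

end Tor

theorem exists_tor {Q d : ℕ} (e : ℕ → ℕ) (hQ : Q ∣ Nat.card G)
    (hC : ∀ y : G, (orderOf y).Prime → orderOf y ∣ Q → IsCyclic (Subgroup.centralizer {y}) ∧
      Nat.card (Subgroup.centralizer {y}) ∣ Q ∧ ∀ (g : G) (k : ℕ), g * y * g⁻¹ = y ^ k → ∃ i < d, g * y * g⁻¹ = y ^ e i)
    {p : ℕ} (hp : p.Prime) (h : p ∣ Q) :
    ∃ (C : Subgroup G) (k : ℕ), Tor C k ∧ k ≤ d ∧ p ∣ Nat.card C ∧ Nat.card C ∣ Q := by
  have : Fact p.Prime := ⟨hp⟩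
  obtain ⟨y, hy⟩ := exists_prime_orderOf_dvd_card' p (h.trans hQ)
  obtain ⟨h1, h2, h3⟩ := hC y (hy ▸ hp) (hy ▸ h)
  have hyy : y ∈ Subgroup.centralizer {y} := Subgroup.mem_centralizer_singleton_iff.2 rfl
  have hab : ∀ {C : Subgroup G}, IsCyclic C → ∀ u ∈ C, C ≤ Subgroup.centralizer {u} := fun {C} h u hu v hv =>
    Subgroup.mem_centralizer_singleton_iff.2 (congrArg Subtype.val (h.isMulCommutative.1.1 ⟨v, hv⟩ ⟨u, hu⟩))
  have h4 := card_cov (M := Subgroup.normalizer (Subgroup.centralizer {y} : Subgroup G)) (A := {y})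
    (N := Subgroup.centralizer {y}) Subgroup.le_normalizer
    (by rintro n hn _ rfl; simp [Subgroup.mem_centralizer_singleton_iff.1 hn])
    (by rintro x - _ rfl e; exact Subgroup.mem_centralizer_singleton_iff.2 (mul_inv_eq_iff_eq_mul.1 e))
  refine ⟨_, _, ⟨h1, fun u hu hu1 => le_antisymm ?_ (hab h1 u hu), by rw [h4]; simp⟩, ?_,
    hy ▸ Subgroup.orderOf_dvd_natCard _ hyy, h2⟩
  · obtain ⟨k, hk, hk'⟩ := exists_prime_pow hu1
    have h5 := (hC _ hk ((hk'.trans (Subgroup.orderOf_dvd_natCard _ hu)).trans h2)).1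
    refine le_trans (fun g hg => ?_) (hab h5 y (hab h1 _ (pow_mem hu k) hyy))
    rw [Subgroup.mem_centralizer_singleton_iff] at hg ⊢
    exact (Commute.pow_right hg k).eq
  · refine (Set.ncard_le_ncard (t := (fun i => y ^ e i) '' Set.Iio d) ?_).trans
      ((Set.ncard_image_le (Set.finite_Iio d)).trans (by simp))
    rintro g ⟨x, hx, e⟩
    obtain ⟨k, hk⟩ := conj_mem_zpowers h1 (inv_mem hx) hyy
    obtain ⟨i, hi, e'⟩ := h3 _ _ hk
    exact ⟨i, hi, e'.symm.trans (by rw [← Set.mem_singleton_iff.1 e]; simp [mul_assoc])⟩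

theorem tori {Q d : ℕ} (hQ : 1 < Q) (hQ' : Q ∣ Nat.card G) (hT : ∀ p, p.Prime → p ∣ Q →
      ∃ (C : Subgroup G) (k : ℕ), Tor C k ∧ k ≤ d ∧ p ∣ Nat.card C ∧ Nat.card C ∣ Q) :
    (∃ (C : Subgroup G) (k : ℕ), Tor C k ∧ k ≤ d ∧ Nat.card C = Q) ∨
    (∃ (C C' : Subgroup G) (k k' : ℕ), Tor C k ∧ Tor C' k' ∧ k ≤ d ∧ k' ≤ d ∧ 1 < Nat.card C ∧ 1 < Nat.card C' ∧
      Nat.card C * Nat.card C' = Q ∧ (∀ g ∈ ordS G Q, orderOf g ∣ Nat.card C ∨ orderOf g ∣ Nat.card C') ∧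
      (ordS G Q).ncard = (ordS G (Nat.card C)).ncard + (ordS G (Nat.card C')).ncard) ∨
    ∃ (C C' C'' : Subgroup G) (k k' k'' : ℕ), Tor C k ∧ Tor C' k' ∧ Tor C'' k'' ∧ k ≤ d ∧ k' ≤ d ∧ k'' ≤ d ∧
      1 < Nat.card C ∧ 1 < Nat.card C' ∧ 1 < Nat.card C'' ∧ Nat.card C ∣ Q ∧ Nat.card C' ∣ Q ∧ Nat.card C'' ∣ Q ∧
      (ordS G (Nat.card C)).ncard + (ordS G (Nat.card C')).ncard + (ordS G (Nat.card C'')).ncard ≤ (ordS G Q).ncard := by
  have hlt : ∀ {p : ℕ} {C : Subgroup G}, p.Prime → p ∣ Nat.card C → 1 < Nat.card C := fun hp h =>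
    hp.one_lt.trans_le (Nat.le_of_dvd Nat.card_pos h)
  have hdis : ∀ {a b : ℕ}, a.Coprime b → Disjoint (ordS G a) (ordS G b) := fun h =>
    Set.disjoint_left.2 fun g h1 h2 => h1.1 (orderOf_eq_one_iff.1 (Nat.eq_one_of_dvd_coprimes h h1.2 h2.2))
  have hsub : ∀ {a : ℕ}, a ∣ Q → ordS G a ⊆ ordS G Q := fun h g hg => ⟨hg.1, hg.2.trans h⟩
  have hnew : ∀ {p : ℕ} {C : Subgroup G} {k a : ℕ}, p.Prime → Tor C k → Nat.card C * a ∣ Q → p ∣ a →
      ¬ p ∣ Nat.card C := fun {p C k a} hp h h1 h2 h3 => by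
    have := h1.trans hQ'
    rw [← C.card_mul_index, Nat.mul_dvd_mul_iff_left Nat.card_pos] at this
    exact h.not_dvd hp h3 (h2.trans this)
  obtain ⟨p, hp, hpQ⟩ := Nat.exists_prime_and_dvd hQ.ne'
  obtain ⟨C, k, t1, k1, p1, a, ha⟩ := hT p hp hpQ
  by_cases ha1 : a = 1
  · exact Or.inl ⟨C, k, t1, k1, by rw [ha, ha1, mul_one]⟩
  obtain ⟨p', hp', hpa⟩ := Nat.exists_prime_and_dvd ha1
  obtain ⟨C', k', t2, k2, p2, d2⟩ := hT p' hp' (ha ▸ hpa.trans (dvd_mul_left _ _))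
  have c12 := t1.coprime t2 p2 (hnew hp' t1 ha.symm.dvd hpa)
  have d1 : Nat.card C ∣ Q := ⟨a, ha⟩
  obtain ⟨b, hb⟩ := c12.mul_dvd_of_dvd_of_dvd d1 d2
  by_cases hb1 : b = 1
  · rw [hb1, mul_one] at hb
    have h3 : ∀ g ∈ ordS G Q, orderOf g ∣ Nat.card C ∨ orderOf g ∣ Nat.card C' := fun g hg => by
      obtain ⟨r, hr, hr'⟩ := Nat.exists_prime_and_dvd (mt orderOf_eq_one_iff.1 hg.1)
      exact ((Nat.Prime.dvd_mul hr).1 (hb ▸ hr'.trans hg.2)).imp (t1.dvd hr · hr') (t2.dvd hr · hr')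
    refine Or.inr (Or.inl ⟨C, C', k, k', t1, t2, k1, k2, hlt hp p1, hlt hp' p2, hb.symm, h3, ?_⟩)
    rw [← Set.ncard_union_eq (hdis c12)]
    congr 1
    exact Set.Subset.antisymm (fun g hg => (h3 g hg).imp (⟨hg.1, ·⟩) (⟨hg.1, ·⟩))
      (Set.union_subset (hsub d1) (hsub d2))
  obtain ⟨p'', hp'', hpb⟩ := Nat.exists_prime_and_dvd hb1
  obtain ⟨C'', k'', t3, k3, p3, d3⟩ := hT p'' hp'' (hb ▸ hpb.trans (dvd_mul_left _ _))
  have c13 := t1.coprime t3 p3 (hnew hp'' t1 (a := Nat.card C' * b) (by rw [hb, mul_assoc]) (hpb.mul_left _))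
  have c23 := t2.coprime t3 p3 (hnew hp'' t2 (a := Nat.card C * b) (by rw [hb, mul_left_comm, mul_assoc])
    (hpb.mul_left _))
  refine Or.inr (Or.inr ⟨C, C', C'', k, k', k'', t1, t2, t3, k1, k2, k3, hlt hp p1, hlt hp' p2, hlt hp'' p3,
    d1, d2, d3, ?_⟩)
  rw [← Set.ncard_union_eq (hdis c12), ← Set.ncard_union_eq (Set.disjoint_union_left.2 ⟨hdis c13, hdis c23⟩)]
  exact Set.ncard_le_ncard (Set.union_subset (Set.union_subset (hsub d1) (hsub d2)) (hsub d3))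

end count

end Cfsg.Agent.Lie
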