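import Cfsg.Agent.Lie.Good
import Cfsg.Agent.Lie.WordLen

set_option autoImplicit false
set_option linter.unusedSectionVars false

/-! Root system of a good datum and its Weyl group. -/

namespace Cfsg.Agent.Lie

open Cfsg.Lie

variable {D : ChevalleyDatum} [G : Good D]

/-- coordinates of a root -/
def co (r : Rt D) : Ix D → ℤ := fun j => Good.co D r j
/-- coordinates of a coroot -/
def cr (r : Rt D) : Ix D → ℤ := fun j => cor D r j
/-- Cartan integers with fundamental roots -/
def ca (i : Ix D) (r : Rt D) : ℤ := D.cartan i r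
/-- Cartan integers -/
def A (r s : Rt D) : ℤ := ∑ i, cr r i * ca i s
/-- fundamental roots -/
def sim (i : Ix D) : Rt D := ⟨D.simple i, G.is.simple_lt i i.2⟩
/-- negative root -/
def ng (r : Rt D) : Rt D := Fin.rev r
/-- structure constants -/
def N (r s : Rt D) : ℤ := Good.N D r s
/-- sum of roots (junk if not a root) -/
def add (r s : Rt D) : Rt D := ⟨Good.add D r s, G.is.add_lt r r.2 s s.2⟩
/-- squared length -/
def len (r : Rt D) : ℤ := Good.len D r
/-- the linear functional giving the order of the roots -/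
def fv (v : Ix D → ℤ) : ℤ := ∑ j, v j * Good.ord D j
/-- the value of the order functional on a root -/
def f (r : Rt D) : ℤ := fv (co r)
/-- positive roots -/
def Pos (r : Rt D) : Prop := 0 < f r

instance instDecPos (r : Rt D) : Decidable (Pos r) := inferInstanceAs (Decidable (0 < f r))

omit G in
theorem ng_val (r : Rt D) : (ng r : ℕ) = D.nroots - 1 - r := by simp [ng, Fin.val_rev]; omega
omit G in
@[simp] theorem ng_ng (r : Rt D) : ng (ng r) = r := Fin.rev_rev r
omit G in
theorem ng_inj {r s : Rt D} : ng r = ng s ↔ r = s := Fin.rev_inj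
omit G in
theorem ng_eq_iff {r s : Rt D} : ng r = s ↔ r = ng s := by
  constructor <;> rintro rfl <;> simp
omit G in
theorem eq_ng_comm {r s : Rt D} : r = ng s ↔ s = ng r := by
  constructor <;> rintro rfl <;> simp
theorem neg_val (r : Rt D) : D.neg r = (ng r : ℕ) := by rw [ng_val]; exact G.is.neg_eq r r.2
theorem sim_val (i : Ix D) : (sim i : ℕ) = D.simple i := rfl
theorem add_val (r s : Rt D) : (add r s : ℕ) = Good.add D r s := rfl

theorem sum_range_eq (g : ℕ → ℤ) : ∑ j ∈ Finset.range D.rank, g j = ∑ j : Ix D, g j :=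
  (Fin.sum_univ_eq_sum_range g D.rank).symm

theorem ca_co (i : Ix D) (s : Rt D) : ca i s = ∑ j, co s j * ca i (sim j) := by
  have := G.is.car_co s s.2 i i.2
  rw [sum_range_eq] at this; exact this

@[simp] theorem co_ng (r : Rt D) : co (ng r) = - co r := by
  funext j; simp only [co, ng_val, Pi.neg_apply]; exact G.is.co_neg r r.2 j j.2

@[simp] theorem cr_ng (r : Rt D) : cr (ng r) = - cr r := by
  funext j; simp only [cr, ng_val, Pi.neg_apply]; exact G.is.cor_neg r r.2 j j.2

theorem co_sim (i : Ix D) : co (sim i) = Pi.single i 1 := by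
  funext j
  have := G.is.co_simple i i.2 j j.2
  simp only [Fin.val_inj] at this
  rw [Pi.single_apply]; exact this

theorem len_pos (r : Rt D) : 0 < len r := G.is.len_pos r r.2

theorem cr_len (r : Rt D) (i : Ix D) : cr r i * len r = co r i * len (sim i) := G.is.cor_len r r.2 i i.2

theorem cr_sim (i : Ix D) : cr (sim i) = Pi.single i 1 := by
  funext j
  have := cr_len (sim i) j
  have h := len_pos (sim i)
  rw [co_sim] at this
  by_cases hj : j = i
  · subst hj; simp only [Pi.single_eq_same] at this ⊢; exact mul_right_cancel₀ h.ne' this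
  · simp only [Pi.single_eq_of_ne hj, zero_mul, mul_eq_zero] at this ⊢
    exact this.resolve_right h.ne'

theorem ca_symm (i j : Ix D) : ca i (sim j) * len (sim i) = ca j (sim i) * len (sim j) :=
  G.is.car_symm i i.2 j j.2

@[simp] theorem A_self (r : Rt D) : A r r = 2 := by
  have := G.is.A_self r r.2
  rw [sum_range_eq] at this; exact this

theorem A_sim (i : Ix D) (s : Rt D) : A (sim i) s = ca i s := by
  simp [A, cr_sim, Pi.single_apply]

@[simp] theorem ca_self (i : Ix D) : ca i (sim i) = 2 := by rw [← A_sim, A_self]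

theorem sign_co (r : Rt D) : (∀ j, 0 ≤ co r j) ∨ (∀ j, co r j ≤ 0) := by
  rcases G.is.sign r r.2 with h | h
  · exact Or.inl fun j => h j j.2
  · exact Or.inr fun j => h j j.2

theorem ord_pos (j : Ix D) : 0 < Good.ord D j := G.is.ord_pos j j.2

theorem f_strictMono : StrictMono (f : Rt D → ℤ) := by
  have key : ∀ k : ℕ, ∀ r s : Rt D, (s : ℕ) = r + k + 1 → f r < f s := by
    intro k
    induction k with
    | zero =>
      intro r s h
      have := G.is.ord_lt r (by rw [← h]; exact s.2)
      rw [sum_range_eq, sum_range_eq] at this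
      simp only [f, fv, co, h]
      exact this
    | succ k ih =>
      intro r s h
      have h1 := ih r ⟨r + k + 1, by omega⟩ rfl
      have := G.is.ord_lt (r + k + 1) (by omega)
      rw [sum_range_eq, sum_range_eq] at this
      refine h1.trans ?_
      simp only [f, fv, co, h]
      exact this
  intro r s h
  exact key (s - r - 1) r s (by have : (r : ℕ) < s := h; omega)

theorem co_inj : Function.Injective (co : Rt D → Ix D → ℤ) := fun r s h =>
  f_strictMono.injective (by simp only [f, h])

theorem fv_add (v w : Ix D → ℤ) : fv (v + w) = fv v + fv w := by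
  simp [fv, add_mul, Finset.sum_add_distrib]
theorem fv_smul (a : ℤ) (v : Ix D → ℤ) : fv (a • v) = a * fv v := by
  simp [fv, Finset.mul_sum, mul_assoc]
theorem fv_neg (v : Ix D → ℤ) : fv (-v) = - fv v := by simp [fv]
theorem fv_sub (v w : Ix D → ℤ) : fv (v - w) = fv v - fv w := by
  simp [fv, sub_mul, Finset.sum_sub_distrib]
@[simp] theorem fv_zero : fv (0 : Ix D → ℤ) = 0 := by simp [fv]
theorem fv_sum {ι : Type*} (s : Finset ι) (v : ι → Ix D → ℤ) : fv (∑ k ∈ s, v k) = ∑ k ∈ s, fv (v k) := by
  classical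
  induction s using Finset.induction_on with
  | empty => simp
  | insert a s ha ih => rw [Finset.sum_insert ha, Finset.sum_insert ha, fv_add, ih]

@[simp] theorem f_ng (r : Rt D) : f (ng r) = - f r := by simp [f, fv_neg]

theorem prim_co (r : Rt D) : ∃ a : Ix D → ℤ, ∑ j, a j * co r j = 1 := by
  obtain ⟨a, h⟩ := G.is.prim_co r r.2
  rw [sum_range_eq] at h
  exact ⟨fun j => a j, h⟩

theorem prim_cr (r : Rt D) : ∃ a : Ix D → ℤ, ∑ j, a j * cr r j = 1 := by
  obtain ⟨a, h⟩ := G.is.prim_cor r r.2
  rw [sum_range_eq] at h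
  exact ⟨fun j => a j, h⟩

theorem co_ne_zero (r : Rt D) : co r ≠ 0 := by
  intro h
  obtain ⟨a, ha⟩ := prim_co r
  simp [h] at ha

theorem fv_pos {v : Ix D → ℤ} (h : ∀ j, 0 ≤ v j) (h0 : v ≠ 0) : 0 < fv v := by
  obtain ⟨j, hj⟩ := Function.ne_iff.1 h0
  refine Finset.sum_pos' (fun i _ => mul_nonneg (h i) (ord_pos i).le) ⟨j, Finset.mem_univ _, ?_⟩
  exact mul_pos (lt_of_le_of_ne (h j) (Ne.symm hj)) (ord_pos j)

theorem pos_iff (r : Rt D) : Pos r ↔ ∀ j, 0 ≤ co r j := by
  refine ⟨fun h => ?_, fun h => fv_pos h (co_ne_zero r)⟩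
  rcases sign_co r with h1 | h1
  · exact h1
  · have := fv_pos (v := - co r) (fun j => by simpa using h1 j) (by simpa using co_ne_zero r)
    rw [fv_neg] at this
    have h : 0 < fv (co r) := h
    omega

theorem f_ne_zero (r : Rt D) : f r ≠ 0 := by
  rcases sign_co r with h | h
  · exact (fv_pos h (co_ne_zero r)).ne'
  · have := fv_pos (v := - co r) (fun j => by simpa using h j) (by simpa using co_ne_zero r)
    rw [fv_neg] at this
    unfold f; omega

theorem pos_ng (r : Rt D) : Pos (ng r) ↔ ¬ Pos r := by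
  have := f_ne_zero r
  simp only [Pos, f_ng]; omega

theorem not_pos_iff (r : Rt D) : ¬ Pos r ↔ ∀ j, co r j ≤ 0 := by
  rw [← pos_ng, pos_iff]; simp

theorem pos_of_co_pos {r : Rt D} {j : Ix D} (h : 0 < co r j) : Pos r := by
  by_contra hc
  have := (not_pos_iff r).1 hc j
  omega

theorem not_pos_of_co_neg {r : Rt D} {j : Ix D} (h : co r j < 0) : ¬ Pos r := by
  intro hc
  have := (pos_iff r).1 hc j
  omega

theorem pos_sim (i : Ix D) : Pos (sim i) := pos_of_co_pos (j := i) (by simp [co_sim])

theorem ng_ne (r : Rt D) : ng r ≠ r := by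
  intro h
  have := pos_ng r
  rw [h] at this
  tauto

theorem sim_inj : Function.Injective (sim : Ix D → Rt D) := by
  intro i j h
  have := congrFun (congrArg co h) i
  rw [co_sim, co_sim, Pi.single_eq_same] at this
  by_contra hc
  rw [Pi.single_eq_of_ne hc] at this
  exact one_ne_zero this

theorem cr_sign (r : Rt D) (j : Ix D) : (0 ≤ cr r j ↔ 0 ≤ co r j) ∧ (cr r j ≤ 0 ↔ co r j ≤ 0) ∧
    (cr r j = 0 ↔ co r j = 0) := by
  have h := cr_len r j
  have h1 := len_pos r
  have h2 := len_pos (sim j)
  refine ⟨⟨fun h3 => ?_, fun h3 => ?_⟩, ⟨fun h3 => ?_, fun h3 => ?_⟩, ⟨fun h3 => ?_, fun h3 => ?_⟩⟩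
  · by_contra hc; push Not at hc; nlinarith
  · by_contra hc; push Not at hc; nlinarith
  · by_contra hc; push Not at hc; nlinarith
  · by_contra hc; push Not at hc; nlinarith
  · rw [h3, zero_mul, eq_comm, mul_eq_zero] at h; exact h.resolve_right h2.ne'
  · rw [h3, zero_mul, mul_eq_zero] at h; exact h.resolve_right h1.ne'

theorem forall_coroot (r : Rt D) (p : ℤ → Prop) :
    (∀ c ∈ (D.coroot.getD r #[]).toList, p c) ↔ ∀ j, p (cr r j) := by
  have hs := G.is.cor_size r r.2
  constructor
  · intro h j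
    apply h
    have hj : (j : ℕ) < (D.coroot.getD r #[]).size := by rw [hs]; exact j.2
    simp only [cr, cor]
    generalize D.coroot.getD r #[] = a at hj ⊢
    rw [Array.getD_eq_getD_getElem?, Array.getElem?_eq_getElem hj]
    simp
  · intro h c hc
    rw [Array.mem_toList_iff, Array.mem_iff_getElem] at hc
    obtain ⟨j, hj, rfl⟩ := hc
    have := h ⟨j, by rw [← hs]; exact hj⟩
    simp only [cr, cor] at this
    rw [Array.getD_eq_getD_getElem?, Array.getElem?_eq_getElem hj] at this
    simpa using this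

theorem isPosRoot_iff (r : Rt D) : D.IsPosRoot r ↔ Pos r := by
  rw [ChevalleyDatum.IsPosRoot, forall_coroot r (fun c => 0 ≤ c), pos_iff]
  simp only [r.2, true_and]
  exact forall_congr' fun j => (cr_sign r j).1

theorem isNegRoot_iff (r : Rt D) : D.IsNegRoot r ↔ ¬ Pos r := by
  rw [ChevalleyDatum.IsNegRoot, forall_coroot r (fun c => c ≤ 0), not_pos_iff]
  simp only [r.2, true_and]
  exact forall_congr' fun j => (cr_sign r j).2.1

theorem indep {r s : Rt D} (h1 : s ≠ r) (h2 : s ≠ ng r) {i j : ℤ} (h : i • co r + j • co s = 0) :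
    i = 0 ∧ j = 0 := by
  obtain ⟨a, ha⟩ := prim_co r
  obtain ⟨b, hb⟩ := prim_co s
  have e : ∀ k, i * co r k + j * co s k = 0 := fun k => by simpa using congrFun h k
  have e1 : i = j * (- ∑ k, a k * co s k) := by
    have : ∑ k, a k * (i * co r k + j * co s k) = 0 := by simp [e]
    simp only [mul_add, Finset.sum_add_distrib, mul_left_comm (a _), ← Finset.mul_sum, ha] at this
    linarith
  have e2 : j = i * (- ∑ k, b k * co r k) := by
    have : ∑ k, b k * (i * co r k + j * co s k) = 0 := by simp [e]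
    simp only [mul_add, Finset.sum_add_distrib, mul_left_comm (b _), ← Finset.mul_sum, hb] at this
    linarith
  have e3 : i = j ∨ i = -j := by
    have := Int.natAbs_eq_natAbs_iff.1 (Nat.dvd_antisymm (Int.natAbs_dvd_natAbs.2 ⟨_, e2⟩)
      (Int.natAbs_dvd_natAbs.2 ⟨_, e1⟩))
    exact this
  by_cases hj : j = 0
  · subst hj; simpa using e3
  exfalso
  rcases e3 with rfl | rfl
  · apply h2
    apply co_inj
    funext k
    have := e k
    rw [← mul_add, mul_eq_zero] at this
    simp only [co_ng, Pi.neg_apply]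
    linarith [this.resolve_left hj]
  · apply h1
    apply co_inj
    funext k
    have := e k
    have h3 : j * (co s k - co r k) = 0 := by linarith
    linarith [(mul_eq_zero.1 h3).resolve_left hj]

theorem add_co {r s : Rt D} (h : N r s ≠ 0) : co (add r s) = co r + co s := by
  funext j; exact G.is.add_co r r.2 s s.2 h j j.2

theorem N_ne {r s u : Rt D} (h : co u = co r + co s) : N r s ≠ 0 :=
  G.is.N_ne r r.2 s s.2 u u.2 fun j hj => congrFun h ⟨j, hj⟩

theorem add_eq {r s u : Rt D} (h : co u = co r + co s) : add r s = u :=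
  co_inj (by rw [add_co (N_ne h), h])

theorem N_anti (r s : Rt D) : N s r = - N r s := G.is.N_anti r r.2 s s.2

theorem N_ng (r s : Rt D) : N (ng r) (ng s) = - N r s := by
  simp only [N, ng_val]; exact G.is.N_neg r r.2 s s.2

@[simp] theorem N_self (r : Rt D) : N r r = 0 := by have := N_anti r r; omega

@[simp] theorem N_ng_self (r : Rt D) : N r (ng r) = 0 := by
  by_contra h
  have := add_co h
  rw [co_ng, add_neg_cancel] at this
  exact co_ne_zero _ this

@[simp] theorem N_ng_self' (r : Rt D) : N (ng r) r = 0 := by rw [N_anti, N_ng_self, neg_zero]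

theorem ne_of_N {r s : Rt D} (h : N r s ≠ 0) : s ≠ r ∧ s ≠ ng r := by
  constructor <;> rintro rfl <;> simp at h

theorem add_comm' {r s : Rt D} (h : N r s ≠ 0) : add s r = add r s :=
  add_eq (by rw [add_co h, add_comm])

theorem add_ng {r s : Rt D} (h : N r s ≠ 0) : add (ng r) (ng s) = ng (add r s) :=
  add_eq (by rw [co_ng, add_co h, co_ng, co_ng, neg_add])

/-- pairing of a coroot with a vector of the root lattice -/
def pr (r : Rt D) (v : Ix D → ℤ) : ℤ := ∑ j, v j * A r (sim j)

theorem A_eq_pr (r s : Rt D) : A r s = pr r (co s) := by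
  simp only [pr, A]
  conv_lhs => enter [2, i]; rw [ca_co, Finset.mul_sum]
  rw [Finset.sum_comm]
  simp only [Finset.mul_sum]
  exact Finset.sum_congr rfl fun j _ => Finset.sum_congr rfl fun i _ => by ring

theorem pr_add (r : Rt D) (v w : Ix D → ℤ) : pr r (v + w) = pr r v + pr r w := by
  simp [pr, add_mul, Finset.sum_add_distrib]
theorem pr_sub (r : Rt D) (v w : Ix D → ℤ) : pr r (v - w) = pr r v - pr r w := by
  simp [pr, sub_mul, Finset.sum_sub_distrib]
theorem pr_smul (r : Rt D) (a : ℤ) (v : Ix D → ℤ) : pr r (a • v) = a * pr r v := by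
  simp [pr, Finset.mul_sum, mul_assoc]
theorem pr_neg (r : Rt D) (v : Ix D → ℤ) : pr r (-v) = - pr r v := by simp [pr]
@[simp] theorem pr_zero (r : Rt D) : pr r 0 = 0 := by simp [pr]

@[simp] theorem A_ng_right (r s : Rt D) : A r (ng s) = - A r s := by
  rw [A_eq_pr, A_eq_pr, co_ng, pr_neg]
@[simp] theorem A_ng_left (r s : Rt D) : A (ng r) s = - A r s := by simp [A]
@[simp] theorem ca_ng (i : Ix D) (s : Rt D) : ca i (ng s) = - ca i s := by
  rw [← A_sim, ← A_sim, A_ng_right]

theorem A_add {r s : Rt D} (h : N r s ≠ 0) (u : Rt D) : A u (add r s) = A u r + A u s := by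
  rw [A_eq_pr, add_co h, pr_add, ← A_eq_pr, ← A_eq_pr]

theorem ca_add {r s : Rt D} (h : N r s ≠ 0) (i : Ix D) : ca i (add r s) = ca i r + ca i s := by
  simp only [← A_sim, A_add h]

/-- the invariant form on the root lattice -/
def Q (v w : Ix D → ℤ) : ℤ := ∑ i, ∑ j, v i * w j * (ca i (sim j) * len (sim i))

theorem Q_symm (v w : Ix D → ℤ) : Q v w = Q w v := by
  simp only [Q]
  rw [Finset.sum_comm]
  exact Finset.sum_congr rfl fun j _ => Finset.sum_congr rfl fun i _ => by rw [ca_symm]; ring

theorem Q_co (r : Rt D) (v : Ix D → ℤ) : Q (co r) v = pr r v * len r := by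
  simp only [Q, pr, A, Finset.sum_mul, Finset.mul_sum]
  rw [Finset.sum_comm]
  refine Finset.sum_congr rfl fun j _ => Finset.sum_congr rfl fun i _ => ?_
  linear_combination (- v j * ca i (sim j)) * cr_len r i

theorem A_len (r s : Rt D) : A r s * len r = A s r * len s := by
  rw [A_eq_pr, ← Q_co, Q_symm, Q_co, ← A_eq_pr]

theorem Q_sub_left (u v w : Ix D → ℤ) : Q (u - v) w = Q u w - Q v w := by
  simp [Q, sub_mul, Finset.sum_sub_distrib]
theorem Q_smul_left (a : ℤ) (v w : Ix D → ℤ) : Q (a • v) w = a * Q v w := by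
  simp [Q, Finset.mul_sum, mul_assoc]

theorem A_eq_zero_iff (r s : Rt D) : A r s = 0 ↔ A s r = 0 := by
  have := A_len r s
  have h1 := len_pos r
  have h2 := len_pos s
  constructor <;> intro h <;> rw [h, zero_mul] at this
  · exact (mul_eq_zero.1 this.symm).resolve_right h2.ne'
  · exact (mul_eq_zero.1 this).resolve_right h1.ne'

theorem A_pos_iff (r s : Rt D) : 0 < A r s ↔ 0 < A s r := by
  have := A_len r s
  have h1 := len_pos r
  have h2 := len_pos s
  constructor <;> intro h <;> by_contra hc <;> push Not at hc <;> nlinarith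

/-- the Cartan matrix -/
def cartanM (D : ChevalleyDatum) [Good D] : Matrix (Ix D) (Ix D) ℤ := fun i j => ca i (sim j)

theorem det_cartanM : (cartanM D).det ≠ 0 := by
  obtain ⟨C, d, hd, h⟩ := G.is.nondeg
  have : (Matrix.of fun j i : Ix D => C j i) * cartanM D = d • (1 : Matrix (Ix D) (Ix D) ℤ) := by
    ext j k
    have := h j j.2 k k.2
    rw [sum_range_eq] at this
    simp only [Fin.val_inj] at this
    rw [Matrix.mul_apply, Matrix.smul_apply, Matrix.one_apply]
    simpa [cartanM, ca, sim_val] using this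
  intro h0
  have := congrArg Matrix.det this
  rw [Matrix.det_mul, h0, mul_zero, Matrix.det_smul, Matrix.det_one, mul_one] at this
  exact pow_ne_zero _ hd this.symm

theorem nondeg_co {v : Ix D → ℤ} (h : ∀ i, pr (sim i) v = 0) : v = 0 := by
  apply Matrix.eq_zero_of_mulVec_eq_zero det_cartanM
  funext i
  have := h i
  simp only [pr, A_sim] at this
  simpa [Matrix.mulVec, dotProduct, cartanM, mul_comm] using this

theorem nondeg_cr {v : Ix D → ℤ} (h : ∀ j, ∑ i, v i * ca i (sim j) = 0) : v = 0 := by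
  apply Matrix.eq_zero_of_vecMul_eq_zero det_cartanM
  funext j
  simpa [Matrix.vecMul, dotProduct, cartanM] using h j

theorem ext_ca {r s : Rt D} (h : ∀ i, ca i r = ca i s) : r = s := by
  apply co_inj
  rw [← sub_eq_zero]
  apply nondeg_co
  intro i
  rw [pr_sub, ← A_eq_pr, ← A_eq_pr, A_sim, A_sim, h, sub_self]

theorem exists_ca_ne_zero (r : Rt D) : ∃ i, ca i r ≠ 0 := by
  by_contra hc
  push Not at hc
  have := A_self r
  simp [A, hc] at this

end Cfsg.Agent.Lie
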