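import Cfsg.Agent.Lie.Compute
import Cfsg.Prelude.Def_Steinberg

set_option autoImplicit false
set_option linter.unusedSectionVars false
set_option linter.unusedSimpArgs false

/-! The Steinberg group, centres, and homomorphisms defined on root elements. -/

namespace Cfsg.Agent.Lie

open Cfsg.Lie
open scoped Matrix MatrixGroups commutatorElement

variable {D : ChevalleyDatum} [G : Good D] {F : Type*} [Field F] {Γ : Type*} [Group Γ]

/-- Steinberg's relations -/
structure Rel (y : Rt D → F → Γ) : Prop where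
  add : ∀ r t u, y r t * y r u = y r (t + u)
  comm : ∀ r s, s ≠ r → s ≠ ng r → ∀ t u, y s u * y r t = y r t * y s u * cwL y (cT r s) t u
  hmul : ∀ r t u, hX y r t * hX y r u = hX y r (t * u)

theorem Sys.rel {x : Rt D → F → Γ} {θ : Γ →* GL D.Idx F} (hS : Sys x θ) : Rel x :=
  ⟨hS.x_add, fun r s => hS.comm r trivial s trivial, hS.hmul⟩

/-- the generators of the Steinberg group -/
def xS (r : Rt D) (t : F) : D.SteinbergGroup F := D.stGen F r t

section free

variable (φ : FreeGroup (Fin D.nroots × F) →* Γ)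

omit G in
theorem stX_eq (r : Rt D) (t : F) : D.stX r t = FreeGroup.of (r, t) := dif_pos r.2

theorem map_commWord (r s : Rt D) (t u : F) :
    φ (D.stWord (D.commWord F r s t u)) = cwL (fun r t => φ (D.stX (r : Rt D) t)) (cT r s) t u := by
  simp only [ChevalleyDatum.stWord, ChevalleyDatum.commWord, commTerms_eq, List.map_map, cwL, map_list_prod]
  rfl

theorem map_stH (r : Rt D) (t : Fˣ) : φ (D.stH r (t : F)) = hX (fun r t => φ (D.stX (r : Rt D) t)) r t := by
  simp [ChevalleyDatum.stH, ChevalleyDatum.stWord, ChevalleyDatum.hWord, ChevalleyDatum.nWord, hX, nX,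
    neg_val, mul_assoc]

theorem rel_iff : Rel (fun (r : Rt D) t => φ (D.stX (r : Rt D) t)) ↔ ∀ g ∈ D.steinbergRels F, φ g = 1 := by
  constructor
  · rintro h g ((⟨r, t, u, hr, rfl⟩ | ⟨r, s, t, u, hr, hs, h1, h2, rfl⟩) | ⟨r, t, u, hr, ht, hu, rfl⟩)
    · lift r to Rt D using hr
      simp only [map_mul, map_inv, mul_inv_eq_one]
      exact h.add r t u
    · lift r to Rt D using hr
      lift s to Rt D using hs
      simp only [map_mul, map_inv, mul_inv_eq_one, map_commWord]
      have := h.comm r s (fun e => h1 (by rw [e])) (fun e => h2 (by rw [e, neg_val])) t u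
      simp only [mul_assoc] at this ⊢
      rw [this]; group
    · lift r to Rt D using hr
      lift t to Fˣ using ht.isUnit
      lift u to Fˣ using hu.isUnit
      simp only [map_mul, map_inv, mul_inv_eq_one, ← Units.val_mul, map_stH]
      exact h.hmul r t u
  · intro h
    refine ⟨fun r t u => ?_, fun r s h1 h2 t u => ?_, fun r t u => ?_⟩
    · simpa only [map_mul, map_inv, mul_inv_eq_one] using h _ (Or.inl (Or.inl ⟨r, t, u, r.2, rfl⟩))
    · have := h _ (Or.inl (Or.inr ⟨r, s, t, u, r.2, s.2, fun e => h1 (Fin.ext e),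
        fun e => h2 (Fin.ext (e.trans (neg_val r))), rfl⟩))
      simp only [map_mul, map_inv, mul_inv_eq_one, map_commWord] at this
      rw [← this]; group
    · simpa only [map_mul, map_inv, mul_inv_eq_one, ← Units.val_mul, map_stH] using
        h _ (Or.inr ⟨r, t, u, r.2, t.ne_zero, u.ne_zero, rfl⟩)

end free

theorem rel_xS : Rel (xS : Rt D → F → D.SteinbergGroup F) :=
  (rel_iff (PresentedGroup.mk (D.steinbergRels F))).2 fun _ hg => PresentedGroup.one_of_mem hg

/-- the homomorphism from the Steinberg group defined by a family satisfying the relations -/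
def Rel.lift {y : Rt D → F → Γ} (h : Rel y) : D.SteinbergGroup F →* Γ :=
  PresentedGroup.toGroup (f := fun p => y p.1 p.2) ((rel_iff _).1 (by simpa only [stX_eq, FreeGroup.lift_apply_of]))

theorem Rel.lift_xS {y : Rt D → F → Γ} (h : Rel y) (r : Rt D) (t : F) : h.lift (xS r t) = y r t := by
  rw [xS, ChevalleyDatum.stGen, stX_eq]
  exact PresentedGroup.toGroup.of _

theorem sys_xS : Sys (xS : Rt D → F → D.SteinbergGroup F) sys_xG.rel.lift :=
  ⟨⟨fun r _ => rel_xS.add r, fun r _ s _ => rel_xS.comm r s, fun r _ => sys_xG.rel.lift_xS r⟩, rel_xS.hmul⟩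

theorem XS_xS : XS (xS : Rt D → F → D.SteinbergGroup F) Set.univ = ⊤ := by
  rw [eq_top_iff, ← PresentedGroup.closure_range_of, Subgroup.closure_le]
  rintro _ ⟨⟨r, t⟩, rfl⟩
  have := mem_XS (x := (xS : Rt D → F → D.SteinbergGroup F)) (Set.mem_univ r) t
  rwa [xS, ChevalleyDatum.stGen, stX_eq] at this

omit G in
theorem hom_ext {x : Rt D → F → Γ} (hx : XS x Set.univ = ⊤) {Γ' : Type*} [Group Γ'] {φ ψ : Γ →* Γ'}
    (h : ∀ r t, φ (x r t) = ψ (x r t)) : φ = ψ :=
  MonoidHom.eq_of_eqOn_dense hx (by rintro _ ⟨r, -, t, rfl⟩; exact h r t)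

/-- the generators of the adjoint group -/
def xA (r : Rt D) (t : F) : D.group F := ⟨xG r t, by rw [group_eq]; exact mem_XS (Set.mem_univ _) _⟩

theorem sys_of_inj {x : Rt D → F → Γ} {θ : Γ →* GL D.Idx F} (hθ : Function.Injective θ)
    (h : ∀ r t, θ (x r t) = xG r t) : Sys x θ := by
  refine ⟨⟨fun r _ t u => hθ ?_, fun r _ s _ h1 h2 t u => hθ ?_, fun r _ => h r⟩, fun r t u => hθ ?_⟩
  · rw [map_mul, h, h, h, xG_add]
  · rw [map_mul, map_mul, map_mul, h, h, map_cwL' θ fun c _ => h c.1]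
    exact sys_xG.rel.comm r s h1 h2 t u
  · rw [map_mul, map_hX θ (h r) (h _), map_hX θ (h r) (h _), map_hX θ (h r) (h _), sys_xG.hmul]

theorem sys_xA : Sys (xA : Rt D → F → D.group F) (D.group F).subtype :=
  sys_of_inj Subtype.val_injective fun _ _ => rfl

theorem XS_xA : XS (xA : Rt D → F → D.group F) Set.univ = ⊤ := by
  apply Subgroup.map_injective (D.group F).subtype_injective
  rw [sys_xA.map_XS (Set.subset_univ _), ← group_eq, ← MonoidHom.range_eq_map, Subgroup.range_subtype]

section map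

variable {Γ' : Type*} [Group Γ'] {x : Rt D → F → Γ} {y : Rt D → F → Γ'} {φ : Γ →* Γ'}
  (h : ∀ r t, φ (x r t) = y r t)
include h

omit G in
theorem map_HX : (HX x).map φ = HX y := by
  rw [HX, MonoidHom.map_closure, HX]
  congr 1
  ext g
  constructor
  · rintro ⟨_, ⟨r, t, rfl⟩, rfl⟩; exact ⟨r, t, map_hX φ (h r) (h _) t⟩
  · rintro ⟨r, t, rfl⟩; exact ⟨_, ⟨r, t, rfl⟩, map_hX φ (h r) (h _) t⟩

omit G in
theorem map_NX : (NX x).map φ = NX y := by
  rw [NX, MonoidHom.map_closure, NX]
  congr 1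
  ext g
  constructor
  · rintro ⟨_, ⟨r, t, rfl⟩, rfl⟩; exact ⟨r, t, map_nX φ (h r) (h _) t⟩
  · rintro ⟨r, t, rfl⟩; exact ⟨_, ⟨r, t, rfl⟩, map_nX φ (h r) (h _) t⟩

theorem map_UX : (UX x).map φ = UX y := map_XS φ fun r _ => h r

theorem map_BX : (BX x).map φ = BX y := by rw [BX, Subgroup.map_sup, map_UX h, map_HX h, BX]

theorem Lift.map {n : Γ} {w : W D} (hn : Lift x n w) : Lift y (φ n) w :=
  ⟨map_NX h ▸ Subgroup.mem_map_of_mem φ hn.1, fun s => (hn.2 s).imp fun c hc u => by
    rw [← h, ← h, ← hc]; simp⟩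

end map

namespace Sys

variable {x : Rt D → F → Γ} {θ : Γ →* GL D.Idx F} (hS : Sys x θ)
include hS

theorem mem_H_of_ker {g : Γ} (hg : g ∈ XS x Set.univ) (h : θ g = 1) : g ∈ HX x := by
  obtain ⟨w, hw⟩ := hS.exists_cell hg
  obtain ⟨a, ha, n, hn, u, hu, rfl⟩ := hS.sharp' hw
  have h1 := hn.map hS.θ_x
  obtain ⟨h2, h3, h4⟩ := sys_xG.sharp_unique' h1 Lift.one (hS.map_mem (Set.subset_univ _) ha) (one_mem _)
    (hS.map_mem (Set.subset_univ _) hu) (one_mem _) (by simpa using h)
  rw [hS.U_inj ha h2, hS.U_inj (UW_le_UX _ _ hu) h4, one_mul, mul_one]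
  exact hS.mem_H_of_lift (sys_xG.lift_unique h1 (h3 ▸ Lift.one) ▸ hn)

theorem comm_of_ker {g : Γ} (hg : g ∈ XS x Set.univ) (h : θ g = 1) {a : Γ} (ha : a ∈ XS x Set.univ) :
    a * g = g * a := by
  have : XS x Set.univ ≤ Subgroup.centralizer {g} := XS_le.2 fun r _ t => by
    have := hS.h_conj (hS.mem_H_of_ker hg h) (χ := 1) (by rw [h, map_one]) r t
    rw [Subgroup.mem_centralizer_singleton_iff, mul_inv_eq_iff_eq_mul.1 this]
    simp
  exact Subgroup.mem_centralizer_singleton_iff.1 (this ha)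

theorem ker_of_comm {g : Γ} (hg : g ∈ XS x Set.univ) (h : ∀ r t, x r t * g = g * x r t) : θ g = 1 := by
  have h1 : ∀ a ∈ XS (xG : Rt D → F → GL D.Idx F) Set.univ, a * θ g = θ g * a := fun a ha => by
    have : XS (xG : Rt D → F → GL D.Idx F) Set.univ ≤ Subgroup.centralizer {θ g} := XS_le.2 fun r _ t => by
      rw [Subgroup.mem_centralizer_singleton_iff, ← hS.θ_x, ← map_mul, h, map_mul]
    exact Subgroup.mem_centralizer_singleton_iff.1 (this ha)
  have h2 := hS.map_mem (Set.subset_univ _) hg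
  have h3 : θ g ∈ BX xG := by
    have := sys_xG.mem_P_of_normalizer (J := ∅) h2 (Subgroup.mem_normalizer_iff.2 fun a => by
      refine ⟨fun ha => ?_, fun ha => ?_⟩
      · rwa [← h1 a (XS_mono (Set.subset_univ _) ha), mul_inv_cancel_right]
      · have := h1 _ (XS_mono (Set.subset_univ _) ha)
        rw [inv_mul_cancel_right, mul_right_inj] at this
        rwa [this])
    simpa [PX] using this
  have h4 : (⟨θ g, by rwa [group_eq]⟩ : D.group F) ∈ ((D.borelSubgroup F).subgroupOf (D.group F)).normalCore := by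
    intro b
    rw [Subgroup.mem_subgroupOf, borel_eq]
    have := h1 b (group_eq F (D := D) ▸ b.2)
    simp only [Subgroup.coe_mul, Subgroup.coe_inv, this, mul_inv_cancel_right, h3]
  rw [core_eq_bot] at h4
  exact congrArg Subtype.val h4

theorem ker_eq_center (hx : XS x Set.univ = ⊤) : θ.ker = Subgroup.center Γ := by
  ext g
  rw [Subgroup.mem_center_iff]
  exact ⟨fun h a => hS.comm_of_ker (by simp [hx]) h (by simp [hx]),
    fun h => hS.ker_of_comm (by simp [hx]) fun _ _ => h _⟩

theorem mem_ker_iff (hx : XS x Set.univ = ⊤) {g : Γ} : g ∈ θ.ker ↔ ∃ c ∈ (carH Fˣ).ker, hS.hP c = g := by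
  constructor
  · intro h
    obtain ⟨c, rfl⟩ := hS.range_hP ▸ hS.mem_H_of_ker (by simp [hx]) h
    exact ⟨c, dg_inj (by rw [← hS.θ_hP, map_one]; exact h), rfl⟩
  · rintro ⟨c, hc, rfl⟩
    rw [MonoidHom.mem_ker, hS.θ_hP, hc, map_one]

theorem card_ker (hx : XS x Set.univ = ⊤) (h : Function.Injective hS.hP) :
    Nat.card θ.ker = Nat.card (carH (D := D) Fˣ).ker := by
  rw [← Subgroup.card_map_of_injective h]
  congr 2
  ext g
  exact hS.mem_ker_iff hx

theorem inj_of_carH (hx : XS x Set.univ = ⊤) (h : Function.Injective (carH (D := D) Fˣ)) :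
    Function.Injective θ := by
  rw [← MonoidHom.ker_eq_bot_iff, eq_bot_iff] at h ⊢
  intro g hg
  obtain ⟨c, hc, rfl⟩ := (hS.mem_ker_iff hx).1 hg
  rw [h hc, map_one]; exact one_mem _

theorem hP_inj_of_carH (h : Function.Injective (carH (D := D) Fˣ)) : Function.Injective hS.hP :=
  fun c c' e => h (dg_inj (by rw [← hS.θ_hP, ← hS.θ_hP, e]))

theorem hP_eq_prod (c : Ix D → Fˣ) :
    hS.hP c = ((List.finRange D.rank).map fun i => hX x (sim i) (c i)).prod := by
  have : c = ((List.finRange D.rank).map fun i => Pi.mulSingle i (c i)).prod := by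
    rw [← Fin.prod_univ_def, Finset.univ_prod_mulSingle]
  conv_lhs => rw [this, map_list_prod, List.map_map]
  congr 1
  exact List.map_congr_left fun i _ => hS.hP_single i _

theorem finite (hx : XS x Set.univ = ⊤) [Finite F] : Finite Γ := by
  have h1 : Finite θ.ker := by
    refine Finite.of_surjective (fun c : (carH (D := D) Fˣ).ker => (⟨hS.hP c, (hS.mem_ker_iff hx).2 ⟨c, c.2, rfl⟩⟩ : θ.ker))
      fun g => ?_
    obtain ⟨c, hc, e⟩ := (hS.mem_ker_iff hx).1 g.2
    exact ⟨⟨c, hc⟩, Subtype.ext e⟩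
  have h2 : Finite (Γ ⧸ θ.ker) := Finite.of_injective _ (QuotientGroup.kerLift_injective θ)
  exact Finite.of_subgroup_quotient θ.ker

end Sys

/-- the projection of the Steinberg group onto the adjoint group -/
noncomputable def πA : D.SteinbergGroup F →* D.group F := sys_xA.rel.lift

theorem πA_xS (r : Rt D) (t : F) : πA (xS r t) = xA r t := Rel.lift_xS _ r t

omit G in
theorem surj_of_XS {Γ' : Type*} [Group Γ'] {φ : Γ →* Γ'} {y : Rt D → F → Γ'} (hy : XS y Set.univ = ⊤)
    (h : ∀ r t, y r t ∈ φ.range) : Function.Surjective φ := by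
  rw [← MonoidHom.range_eq_top, eq_top_iff, ← hy]
  exact XS_le.2 fun r _ => h r

theorem πA_surj : Function.Surjective (πA : D.SteinbergGroup F → D.group F) :=
  surj_of_XS XS_xA fun r t => ⟨_, πA_xS r t⟩

theorem subtype_πA : (D.group F).subtype.comp πA = sys_xG.rel.lift :=
  hom_ext XS_xS fun r t => by rw [Rel.lift_xS, MonoidHom.comp_apply, πA_xS]; rfl

theorem ker_πA : (πA : D.SteinbergGroup F →* D.group F).ker = Subgroup.center _ := by
  rw [← sys_xS.ker_eq_center XS_xS, ← subtype_πA,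
    MonoidHom.ker_comp_of_injective _ _ (D.group F).subtype_injective]

theorem center_group : Subgroup.center (D.group F) = ⊥ := by
  rw [← sys_xA.ker_eq_center XS_xA, Subgroup.ker_subtype]

/-- a family generating a centreless group and satisfying the relations defines a homomorphism from
the adjoint group -/
theorem Rel.exists_hom {y : Rt D → F → Γ} (h : Rel y) (hy : XS y Set.univ = ⊤) (hc : Subgroup.center Γ = ⊥) :
    ∃ α : D.group F →* Γ, ∀ r t, α (xA r t) = y r t := by
  have h1 : Function.Surjective h.lift := surj_of_XS hy fun r t => ⟨_, h.lift_xS r t⟩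
  have h2 : (πA : D.SteinbergGroup F →* D.group F).ker ≤ h.lift.ker := by
    rw [ker_πA]
    intro z hz
    rw [MonoidHom.mem_ker, ← Subgroup.mem_bot, ← hc, Subgroup.mem_center_iff]
    intro g
    obtain ⟨g, rfl⟩ := h1 g
    rw [← map_mul, ← map_mul, Subgroup.mem_center_iff.1 hz]
  refine ⟨πA.liftOfRightInverse _ (Function.rightInverse_surjInv πA_surj) ⟨_, h2⟩, fun r t => ?_⟩
  rw [← πA_xS, MonoidHom.liftOfRightInverse_comp_apply, h.lift_xS]

theorem carH_inj {C P P' Q Q' : List (List ℤ)} (hC : CartanIs D C)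
    (h : smithChk D.rank C P P' Q Q' (List.replicate D.rank 1) = true) (M : Type*) [CommGroup M] :
    Function.Injective (carH (D := D) M) := by
  simp only [smithChk, Bool.and_eq_true, allLt_iff, decide_eq_true_eq, sumLt_eq, sum_range_eq] at h
  have h1 : (Matrix.of fun i j : Ix D => mL P i j) * cartanM D * (Matrix.of fun i j : Ix D => mL Q i j) = 1 := by
    ext i j
    simpa [Matrix.mul_apply, Matrix.one_apply, Fin.val_inj, cartanM, hC.ca] using (h i i.2 j j.2).2
  have h2 := mul_eq_one_comm.1 ((mul_assoc _ _ _).symm.trans h1)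
  rw [carH_eq_mH]
  intro c c' e
  rw [← mH_one c, ← mH_one c', ← h2, mul_assoc, mH_mul, mH_mul (cartanM D), e]

end Cfsg.Agent.Lie
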