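import Cfsg.Agent.Lie.NConj

set_option autoImplicit false
set_option linter.unusedSectionVars false
set_option linter.unusedSimpArgs false

/-! The subgroups `U`, `V`, `H`, `N`, `B` of a group with Steinberg relations. -/

namespace Cfsg.Agent.Lie

open Cfsg.Lie
open scoped Matrix MatrixGroups

variable {D : ChevalleyDatum} [G : Good D] {F : Type*} [Field F] {Γ : Type*} [Group Γ]

/-- root elements satisfying Steinberg's relations, with a map to the matrix group -/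
structure Sys (x : Rt D → F → Γ) (θ : Γ →* GL D.Idx F) : Prop extends Loc Set.univ x θ where
  hmul : ∀ r t u, hX x r t * hX x r u = hX x r (t * u)

/-- the diagonal subgroup -/
def HX (x : Rt D → F → Γ) : Subgroup Γ := Subgroup.closure {g | ∃ r t, g = hX x r t}
/-- the monomial subgroup -/
def NX (x : Rt D → F → Γ) : Subgroup Γ := Subgroup.closure {g | ∃ r t, g = nX x r t}
/-- the positive unipotent subgroup -/
def UX (x : Rt D → F → Γ) : Subgroup Γ := XS x {r | Pos r}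
/-- the negative unipotent subgroup -/
def VX (x : Rt D → F → Γ) : Subgroup Γ := XS x {r | ¬ Pos r}
/-- the Borel subgroup -/
def BX (x : Rt D → F → Γ) : Subgroup Γ := UX x ⊔ HX x
/-- the representatives of the fundamental reflections -/
def nS (x : Rt D → F → Γ) (i : Ix D) : Γ := nX x (sim i) 1
/-- `n` is an element of `N` inducing `w` -/
def Lift (x : Rt D → F → Γ) (n : Γ) (w : W D) : Prop :=
  n ∈ NX x ∧ ∀ s, ∃ c : Fˣ, ∀ u, n * x s u * n⁻¹ = x (w.1 s) (c * u)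

theorem sys_xG : Sys (xG : Rt D → F → GL D.Idx F) (MonoidHom.id _) where
  toLoc := loc_xG
  hmul r t u := by rw [hG_eq, hG_eq, hG_eq, coch_mul, map_mul]

/-! ### closed sets -/

theorem closed_of_fn (l : Fn D) : Closed {r : Rt D | 0 < l (co r)} := fun r hr s hs u hu => by
  have := hu.le hr.le hs.le
  simp only [Set.mem_ofPred_eq] at *
  omega

theorem closed_of_fn' (l : Fn D) : Closed {r : Rt D | 0 ≤ l (co r)} := fun r hr s hs u hu => by
  have := hu.le hr hs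
  simp only [Set.mem_ofPred_eq] at *
  omega

theorem closed_pos : Closed {r : Rt D | Pos r} := closed_of_fn (fF D)

theorem not_pos_iff' (r : Rt D) : ¬ Pos r ↔ 0 < (- fF D) (co r) := by
  rw [← pos_ng, Pos, f_ng]; rfl

theorem closed_neg : Closed {r : Rt D | ¬ Pos r} := by
  simp only [not_pos_iff']; exact closed_of_fn _

theorem posOn_pos : PosOn (fF D) {r | Pos r} := fun _ h => h
theorem posOn_neg : PosOn (- fF D) {r | ¬ Pos r} := fun r h => (not_pos_iff' r).1 h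

theorem Closed.inter {S T : Set (Rt D)} (h : Closed S) (h' : Closed T) : Closed (S ∩ T) :=
  fun r hr s hs u hu => ⟨h r hr.1 s hs.1 u hu, h' r hr.2 s hs.2 u hu⟩

theorem Closed.preimage {S : Set (Rt D)} (h : Closed S) {w : Equiv.Perm (Rt D)} (hw : w ∈ AutR D) :
    Closed (w ⁻¹' S) := fun _ hr _ hs _ hu => h _ hr _ hs _ (hu.aut hw)

theorem closed_inv (w : W D) : Closed (inv w.1 : Set (Rt D)) := by
  have : (inv w.1 : Set (Rt D)) = {r | Pos r} ∩ w.1 ⁻¹' {r | ¬ Pos r} := by ext r; simp [mem_inv]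
  rw [this]; exact closed_pos.inter (closed_neg.preimage (W_aut w))

theorem inv_subset (w : Equiv.Perm (Rt D)) : (inv w : Set (Rt D)) ⊆ {r | Pos r} :=
  fun _ h => (mem_inv.1 h).1

theorem W_mul_apply (w v : W D) (r : Rt D) : (w * v).1 r = w.1 (v.1 r) := rfl
@[simp] theorem W_inv_apply (w : W D) (r : Rt D) : w⁻¹.1 (w.1 r) = r := by
  rw [← W_mul_apply, inv_mul_cancel]; rfl
@[simp] theorem W_apply_inv (w : W D) (r : Rt D) : w.1 (w⁻¹.1 r) = r := by
  rw [← W_mul_apply, mul_inv_cancel]; rfl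
theorem W_ng (w : W D) (r : Rt D) : w.1 (ng r) = ng (w.1 r) := aut_ng (W_aut w) r

/-- the sign `η` as a unit -/
noncomputable def etaU (F : Type*) [Field F] (r s : Rt D) : Fˣ := ⟨eta r s, eta r s, eta_sq' r s, eta_sq' r s⟩

theorem etaU_inv (r s : Rt D) : (etaU F r s)⁻¹ = etaU F r s := Units.ext rfl

section gen

variable {x : Rt D → F → Γ}

omit G in
theorem hX_mem (r : Rt D) (t : Fˣ) : hX x r t ∈ HX x := Subgroup.subset_closure ⟨r, t, rfl⟩
omit G in
theorem nX_mem_NX (r : Rt D) (t : Fˣ) : nX x r t ∈ NX x := Subgroup.subset_closure ⟨r, t, rfl⟩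
omit G in
theorem HX_le {K : Subgroup Γ} : HX x ≤ K ↔ ∀ r t, hX x r t ∈ K := by
  rw [HX, Subgroup.closure_le]
  exact ⟨fun h r t => h ⟨r, t, rfl⟩, by rintro h _ ⟨r, t, rfl⟩; exact h r t⟩
omit G in
theorem NX_le {K : Subgroup Γ} : NX x ≤ K ↔ ∀ r t, nX x r t ∈ K := by
  rw [NX, Subgroup.closure_le]
  exact ⟨fun h r t => h ⟨r, t, rfl⟩, by rintro h _ ⟨r, t, rfl⟩; exact h r t⟩
omit G in
theorem HX_le_NX : HX x ≤ NX x := HX_le.2 fun _ _ => mul_mem (nX_mem_NX _ _) (nX_mem_NX _ _)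
omit G in
theorem NX_le_XS : NX x ≤ XS x Set.univ :=
  NX_le.2 fun _ _ => nX_mem (fun _ => mem_XS (Set.mem_univ _) _) (fun _ => mem_XS (Set.mem_univ _) _) _
theorem UX_le_BX : UX x ≤ BX x := le_sup_left
theorem HX_le_BX : HX x ≤ BX x := le_sup_right
theorem nS_mem (i : Ix D) : nS x i ∈ NX x := nX_mem_NX _ _
theorem mem_UX {r : Rt D} (h : Pos r) (t : F) : x r t ∈ UX x := mem_XS (S := {r | Pos r}) h t
theorem mem_VX {r : Rt D} (h : ¬ Pos r) (t : F) : x r t ∈ VX x := mem_XS (S := {r | ¬ Pos r}) h t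
theorem BX_le_XS : BX x ≤ XS x Set.univ := sup_le (XS_mono (Set.subset_univ _)) (HX_le_NX.trans NX_le_XS)

omit G in
theorem conj_nX {g : Γ} {r r' : Rt D} {c : Fˣ} (h : ∀ u, g * x r u * g⁻¹ = x r' (c * u))
    (h' : ∀ u, g * x (ng r) u * g⁻¹ = x (ng r') ((c⁻¹ : Fˣ) * u)) (t : Fˣ) :
    g * nX x r t * g⁻¹ = nX x r' (c * t) := by
  simp only [nX, Units.val_mul, ← h, mul_inv_rev, mul_comm ((t⁻¹ : Fˣ) : F), ← mul_neg, ← h']
  group

theorem Lift.one : Lift x 1 1 := ⟨one_mem _, fun _ => ⟨1, fun u => by simp⟩⟩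

theorem Lift.mul {n n' : Γ} {w w' : W D} (h : Lift x n w) (h' : Lift x n' w') : Lift x (n * n') (w * w') := by
  refine ⟨mul_mem h.1 h'.1, fun s => ?_⟩
  obtain ⟨c', hc'⟩ := h'.2 s
  obtain ⟨c, hc⟩ := h.2 (w'.1 s)
  refine ⟨c * c', fun u => ?_⟩
  rw [W_mul_apply, Units.val_mul, mul_assoc (c : F), ← hc, ← hc']; group

theorem Lift.inv {n : Γ} {w : W D} (h : Lift x n w) : Lift x n⁻¹ w⁻¹ := by
  refine ⟨inv_mem h.1, fun s => ?_⟩
  obtain ⟨c, hc⟩ := h.2 (w⁻¹.1 s)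
  refine ⟨c⁻¹, fun u => ?_⟩
  have := hc ((c⁻¹ : Fˣ) * u)
  rw [W_apply_inv, Units.mul_inv_cancel_left] at this
  rw [← this]; group

theorem Lift.conj_mem {n : Γ} {w : W D} (h : Lift x n w) {S T : Set (Rt D)} (hST : ∀ s ∈ S, w.1 s ∈ T)
    {g : Γ} (hg : g ∈ XS x S) : n * g * n⁻¹ ∈ XS x T :=
  conj_mem_XS (fun r hr t => by obtain ⟨c, hc⟩ := h.2 r; rw [hc]; exact mem_XS (hST r hr) _) hg

theorem Lift.conj_mem' {n : Γ} {w : W D} (h : Lift x n w) {S T : Set (Rt D)} (hST : ∀ s ∈ S, w⁻¹.1 s ∈ T)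
    {g : Γ} (hg : g ∈ XS x S) : n⁻¹ * g * n ∈ XS x T := by
  simpa using h.inv.conj_mem hST hg

end gen

namespace Sys

variable {x : Rt D → F → Γ} {θ : Γ →* GL D.Idx F} (hS : Sys x θ)
include hS

theorem x_add (r : Rt D) (t u : F) : x r t * x r u = x r (t + u) := hS.add r trivial t u
theorem x_zero (r : Rt D) : x r 0 = 1 := hS.zero trivial
theorem x_neg (r : Rt D) (t : F) : x r (-t) = (x r t)⁻¹ := hS.neg trivial t
theorem θ_x (r : Rt D) (t : F) : θ (x r t) = xG r t := hS.map r trivial t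
theorem θ_n (r : Rt D) (t : Fˣ) : θ (nX x r t) = nX xG r t := hS.map_nX trivial trivial t
theorem θ_h (r : Rt D) (t : Fˣ) : θ (hX x r t) = dg (coch r t) := hS.map_hX trivial trivial t
theorem n_neg (r : Rt D) (t : Fˣ) : nX x r (-t) = (nX x r t)⁻¹ := hS.nX_neg trivial trivial t
theorem n_eq (r : Rt D) (t : Fˣ) : nX x r t = hX x r t * nX x r 1 := by rw [hX, hS.n_neg]; simp
theorem h_eq (r : Rt D) (t : Fˣ) : hX x r t = nX x r t * (nX x r 1)⁻¹ := by rw [hX, hS.n_neg]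
theorem h_one (r : Rt D) : hX x r 1 = 1 := by rw [hS.h_eq]; simp
theorem h_inv (r : Rt D) (t : Fˣ) : hX x r t⁻¹ = (hX x r t)⁻¹ :=
  eq_inv_of_mul_eq_one_left (by rw [hS.hmul, inv_mul_cancel, hS.h_one])
theorem n_mul_n (r : Rt D) (t u : Fˣ) : nX x r t * nX x r u = hX x r (- t * u⁻¹) := by
  rw [← neg_neg u, hS.n_neg, hS.n_eq r t, hS.n_eq r (-u), mul_inv_rev, mul_assoc, mul_inv_cancel_left,
    ← hS.h_inv, hS.hmul]
  simp
theorem x_inj {r : Rt D} {t u : F} (h : x r t = x r u) : t = u := xG_inj (by rw [← hS.θ_x, h, hS.θ_x])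
theorem eq_of_x_eq {r s : Rt D} {t u : F} (ht : t ≠ 0) (h : x r t = x s u) : r = s :=
  eq_of_xG_eq ht (by rw [← hS.θ_x, h, hS.θ_x])
theorem x_eq_one {r : Rt D} {t : F} (h : x r t = 1) : t = 0 := hS.x_inj (h.trans (hS.x_zero r).symm)

theorem n_conj (r : Rt D) (t : Fˣ) (s : Rt D) (u : F) :
    nX x r t * x s u * (nX x r t)⁻¹ = x ((rf r).1 s) ((etaU F r s * t ^ (- A r s) : Fˣ) * u) :=
  hS.nconj r t s u

theorem lift_n (r : Rt D) (t : Fˣ) : Lift x (nX x r t) (rf r) :=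
  ⟨nX_mem_NX r t, fun s => ⟨_, hS.n_conj r t s⟩⟩

theorem lift_nS (i : Ix D) : Lift x (nS x i) (sw i) := rf_sim i ▸ hS.lift_n (sim i) 1

theorem lift_wp (L : List (Ix D)) : Lift x (wp (nS x) L) (wp sw L) := by
  induction L with
  | nil => exact Lift.one
  | cons i L ih => rw [wp_cons, wp_cons]; exact (hS.lift_nS i).mul ih

theorem exists_lift (w : W D) : ∃ n, Lift x n w := by
  obtain ⟨L, rfl⟩ := invGen_sw.gen w
  exact ⟨_, hS.lift_wp L⟩

theorem exists_lift_of_mem {n : Γ} (hn : n ∈ NX x) : ∃ w, Lift x n w := by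
  induction hn using Subgroup.closure_induction with
  | mem g hg => obtain ⟨r, t, rfl⟩ := hg; exact ⟨_, hS.lift_n r t⟩
  | one => exact ⟨_, Lift.one⟩
  | mul a b _ _ ha hb => exact ⟨_, ha.choose_spec.mul hb.choose_spec⟩
  | inv a _ ha => exact ⟨_, ha.choose_spec.inv⟩

theorem lift_unique {n : Γ} {w w' : W D} (h : Lift x n w) (h' : Lift x n w') : w = w' := by
  ext s
  obtain ⟨c, hc⟩ := h.2 s
  obtain ⟨c', hc'⟩ := h'.2 s
  rw [hS.eq_of_x_eq (by simp) ((hc 1).symm.trans (hc' 1))]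

theorem lift_of_mem_H {h : Γ} (hh : h ∈ HX x) : Lift x h 1 := by
  induction hh using Subgroup.closure_induction with
  | mem g hg =>
    obtain ⟨r, t, rfl⟩ := hg
    exact rf_sq r ▸ (hS.lift_n r t).mul (hS.lift_n r (-1))
  | one => exact Lift.one
  | mul a b _ _ ha hb => simpa using ha.mul hb
  | inv a _ ha => simpa using ha.inv

theorem exists_dg {h : Γ} (hh : h ∈ HX x) : ∃ χ, θ h = dg χ := by
  have : HX x ≤ dg.range.comap θ := HX_le.2 fun r t => ⟨_, (hS.θ_h r t).symm⟩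
  obtain ⟨χ, hχ⟩ := this hh
  exact ⟨χ, hχ.symm⟩

theorem h_conj {h : Γ} (hh : h ∈ HX x) {χ : Ix D → Fˣ} (hχ : θ h = dg χ) (s : Rt D) (u : F) :
    h * x s u * h⁻¹ = x s ((chv χ (co s) : Fˣ) * u) := by
  obtain ⟨c, hc⟩ := (hS.lift_of_mem_H hh).2 s
  have := congrArg θ (hc u)
  rw [map_mul, map_mul, map_inv, hχ, hS.θ_x, hS.θ_x, dg_conj] at this
  rw [hc, xG_inj this]; rfl

theorem hX_conj (r : Rt D) (t : Fˣ) (s : Rt D) (u : F) :
    hX x r t * x s u * (hX x r t)⁻¹ = x s ((t ^ A r s : Fˣ) * u) := by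
  rw [hS.h_conj (hX_mem r t) (hS.θ_h r t), chv_coch_co]

theorem h_conj_n {h : Γ} (hh : h ∈ HX x) {χ : Ix D → Fˣ} (hχ : θ h = dg χ) (s : Rt D) (u : Fˣ) :
    h * nX x s u * h⁻¹ = nX x s (chv χ (co s) * u) :=
  conj_nX (hS.h_conj hh hχ s) (fun u => by rw [hS.h_conj hh hχ, co_ng, chv_neg]) u

theorem n_conj_n (r : Rt D) (t : Fˣ) (s : Rt D) (u : Fˣ) :
    nX x r t * nX x s u * (nX x r t)⁻¹ = nX x ((rf r).1 s) (etaU F r s * t ^ (- A r s) * u) := by
  refine conj_nX (hS.n_conj r t s) (fun u => ?_) u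
  rw [hS.n_conj, W_ng, mul_inv, etaU_inv, A_ng_right, zpow_neg t (- A r s)]
  simp only [etaU, eta_ng, neg_neg, zpow_neg]

theorem conj_h {g : Γ} {r r' : Rt D} {c : Fˣ} (h : ∀ u, g * nX x r u * g⁻¹ = nX x r' (c * u)) (t : Fˣ) :
    g * hX x r t * g⁻¹ = hX x r' t := by
  have : g * hX x r t * g⁻¹ = (g * nX x r t * g⁻¹) * (g * nX x r (-1) * g⁻¹) := by rw [hX]; group
  rw [this, h, h, hS.n_mul_n]
  congr 1
  simp [mul_comm c t]

theorem n_conj_h (r : Rt D) (t : Fˣ) (s : Rt D) (u : Fˣ) :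
    nX x r t * hX x s u * (nX x r t)⁻¹ = hX x ((rf r).1 s) u := hS.conj_h (hS.n_conj_n r t s) u

theorem lift_conj_n {n : Γ} {w : W D} (h : Lift x n w) (s : Rt D) :
    ∃ c : Fˣ, ∀ u, n * nX x s u * n⁻¹ = nX x (w.1 s) (c * u) := by
  have key : ∀ n ∈ NX x, ∃ w, Lift x n w ∧ ∀ s, ∃ c : Fˣ, ∀ u, n * nX x s u * n⁻¹ = nX x (w.1 s) (c * u) := by
    intro n hn
    induction hn using Subgroup.closure_induction with
    | mem g hg => obtain ⟨r, t, rfl⟩ := hg; exact ⟨_, hS.lift_n r t, fun s => ⟨_, hS.n_conj_n r t s⟩⟩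
    | one => exact ⟨_, Lift.one, fun s => ⟨1, by simp⟩⟩
    | mul a b _ _ ha hb =>
      obtain ⟨w, hw, ha⟩ := ha
      obtain ⟨w', hw', hb⟩ := hb
      refine ⟨_, hw.mul hw', fun s => ?_⟩
      obtain ⟨c', hc'⟩ := hb s
      obtain ⟨c, hc⟩ := ha (w'.1 s)
      refine ⟨c * c', fun u => ?_⟩
      rw [W_mul_apply, mul_assoc c, ← hc, ← hc']; group
    | inv a _ ha =>
      obtain ⟨w, hw, ha⟩ := ha
      refine ⟨_, hw.inv, fun s => ?_⟩
      obtain ⟨c, hc⟩ := ha (w⁻¹.1 s)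
      refine ⟨c⁻¹, fun u => ?_⟩
      have := hc (c⁻¹ * u)
      rw [W_apply_inv, mul_inv_cancel_left] at this
      rw [← this]; group
  obtain ⟨w', hw', h'⟩ := key n h.1
  rw [hS.lift_unique h hw']
  exact h' s

theorem lift_conj_h {n : Γ} {w : W D} (h : Lift x n w) (s : Rt D) (u : Fˣ) :
    n * hX x s u * n⁻¹ = hX x (w.1 s) u := by
  obtain ⟨c, hc⟩ := hS.lift_conj_n h s
  exact hS.conj_h hc u

theorem conj_mem_H {n h : Γ} (hn : n ∈ NX x) (hh : h ∈ HX x) : n * h * n⁻¹ ∈ HX x := by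
  obtain ⟨w, hw⟩ := hS.exists_lift_of_mem hn
  refine (HX_le (K := (HX x).comap (MulAut.conj n).toMonoidHom)).2 (fun r t => ?_) hh
  change n * hX x r t * n⁻¹ ∈ HX x
  rw [hS.lift_conj_h hw]; exact hX_mem _ _

theorem conj_mem_H' {n h : Γ} (hn : n ∈ NX x) (hh : h ∈ HX x) : n⁻¹ * h * n ∈ HX x := by
  simpa using hS.conj_mem_H (inv_mem hn) hh

theorem H_comm {h h' : Γ} (hh : h ∈ HX x) (hh' : h' ∈ HX x) : h * h' = h' * h := by
  have : HX x ≤ Subgroup.centralizer {h} := HX_le.2 fun r t => by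
    rw [Subgroup.mem_centralizer_singleton_iff, eq_comm, ← mul_inv_eq_iff_eq_mul]
    exact hS.lift_conj_h (hS.lift_of_mem_H hh) r t
  exact (Subgroup.mem_centralizer_singleton_iff.1 (this hh')).symm

theorem nS_sq (i : Ix D) : nS x i * nS x i ∈ HX x := by rw [nS, hS.n_mul_n]; exact hX_mem _ _

theorem wp_mem_H (L : List (Ix D)) (h : wp sw L = 1) : wp (nS x) L ∈ HX x := by
  induction hk : L.length using Nat.strong_induction_on generalizing L with
  | _ k ih =>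
  rcases List.eq_nil_or_concat L with rfl | ⟨L0, i, rfl⟩
  · exact one_mem _
  rw [List.concat_eq_append] at h hk ⊢
  rw [wp_append, wp_singleton, mul_eq_one_iff_eq_inv, invGen_sw.inv_s] at h
  obtain ⟨L1, j, L2, rfl, e⟩ := exists_split_of_neg i L0 (by
    rw [h, sw_coe, refl_sim, pos_ng, not_not]; exact pos_sim i)
  obtain ⟨c, hc⟩ := hS.lift_conj_n (hS.lift_wp L2) (sim i)
  have h1 := ih _ (by rw [← hk]; simp) (L1 ++ L2) (by
    rw [wp_append, wp_cons] at h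
    have := mul_sw_of_eq e
    rw [wp_append, ← mul_left_inj (sw i), one_mul, mul_assoc, this, h]) rfl
  have h2 : nS x j * nX x (sim j) (c * 1) ∈ HX x := by rw [nS, hS.n_mul_n]; exact hX_mem _ _
  have := mul_mem (hS.conj_mem_H (hS.lift_wp L1).1 h2) h1
  rw [← e, ← hc] at this
  convert this using 1
  simp only [wp_append, wp_cons, wp_nil, nS]; group

theorem exists_wp {n : Γ} (hn : n ∈ NX x) : ∃ h ∈ HX x, ∃ L, n = h * wp (nS x) L := by
  have hmul : ∀ a b : Γ, (∃ h ∈ HX x, ∃ L, a = h * wp (nS x) L) → (∃ h ∈ HX x, ∃ L, b = h * wp (nS x) L) →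
      ∃ h ∈ HX x, ∃ L, a * b = h * wp (nS x) L := by
    rintro _ _ ⟨h, hh, L, rfl⟩ ⟨h', hh', L', rfl⟩
    refine ⟨_, mul_mem hh (hS.conj_mem_H (hS.lift_wp L).1 hh'), L ++ L', ?_⟩
    rw [wp_append]; group
  have hinv : ∀ a : Γ, (∃ h ∈ HX x, ∃ L, a = h * wp (nS x) L) → ∃ h ∈ HX x, ∃ L, a⁻¹ = h * wp (nS x) L := by
    rintro _ ⟨h, hh, L, rfl⟩
    have := hS.wp_mem_H (L.reverse ++ L) (by rw [wp_append, wp_reverse sw_sq, inv_mul_cancel])
    rw [wp_append] at this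
    refine ⟨_, mul_mem (hS.conj_mem_H' (hS.lift_wp L).1 (inv_mem hh)) (inv_mem this), L.reverse, ?_⟩
    group
  induction hn using Subgroup.closure_induction with
  | mem g hg =>
    obtain ⟨r, t, rfl⟩ := hg
    obtain ⟨w, i, rfl⟩ := exists_conj_sim r
    obtain ⟨L, rfl⟩ := invGen_sw.gen w
    obtain ⟨c, hc⟩ := hS.lift_conj_n (hS.lift_wp L) (sim i)
    rw [← mul_inv_cancel_left c t, ← hc]
    have h1 : ∃ h ∈ HX x, ∃ L', wp (nS x) L = h * wp (nS x) L' := ⟨1, one_mem _, L, by simp⟩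
    refine hmul _ _ (hmul _ _ h1 ⟨_, hX_mem (sim i) (c⁻¹ * t), [i], ?_⟩) (hinv _ h1)
    rw [hS.n_eq, wp_singleton, nS]
  | one => exact ⟨1, one_mem _, [], by simp⟩
  | mul a b _ _ ha hb => exact hmul a b ha hb
  | inv a _ ha => exact hinv a ha

theorem mem_H_of_lift {n : Γ} (h : Lift x n 1) : n ∈ HX x := by
  obtain ⟨h', hh', L, rfl⟩ := hS.exists_wp h.1
  have := hS.lift_unique ((hS.lift_of_mem_H hh').mul (hS.lift_wp L)) h
  rw [one_mul] at this
  exact mul_mem hh' (hS.wp_mem_H L this)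

theorem lift_mul_inv {n n' : Γ} {w : W D} (h : Lift x n w) (h' : Lift x n' w) : n * n'⁻¹ ∈ HX x :=
  hS.mem_H_of_lift (by simpa using h.mul h'.inv)

theorem lift_inv_mul {n n' : Γ} {w : W D} (h : Lift x n w) (h' : Lift x n' w) : n⁻¹ * n' ∈ HX x :=
  hS.mem_H_of_lift (by simpa using h.inv.mul h')

/-- the homomorphism from `N` onto the Weyl group -/
noncomputable def π : NX x →* W D where
  toFun n := (hS.exists_lift_of_mem n.2).choose
  map_one' := hS.lift_unique (hS.exists_lift_of_mem (1 : NX x).2).choose_spec Lift.one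
  map_mul' a b := hS.lift_unique (hS.exists_lift_of_mem (a * b).2).choose_spec
    ((hS.exists_lift_of_mem a.2).choose_spec.mul (hS.exists_lift_of_mem b.2).choose_spec)

theorem lift_π (n : NX x) : Lift x n (hS.π n) := (hS.exists_lift_of_mem n.2).choose_spec

theorem π_eq {n : NX x} {w : W D} (h : Lift x n w) : hS.π n = w := hS.lift_unique (hS.lift_π n) h

theorem π_eq_one_iff (n : NX x) : hS.π n = 1 ↔ (n : Γ) ∈ HX x :=
  ⟨fun h => hS.mem_H_of_lift (h ▸ hS.lift_π n), fun h => hS.π_eq (hS.lift_of_mem_H h)⟩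

theorem H_eq_closure : HX x = Subgroup.closure {g | ∃ i t, g = hX x (sim i) t} := by
  refine le_antisymm (HX_le.2 fun r t => ?_) ((Subgroup.closure_le _).2 ?_)
  swap
  · rintro _ ⟨i, t, rfl⟩; exact hX_mem _ _
  set K := Subgroup.closure {g | ∃ i t, g = hX x (sim i) t}
  have hK : ∀ i t, hX x (sim i) t ∈ K := fun i t => Subgroup.subset_closure ⟨i, t, rfl⟩
  have key : ∀ i, ∀ g ∈ K, nS x i * g * (nS x i)⁻¹ ∈ K := by
    intro i g hg
    refine (Subgroup.closure_le (K.comap (MulAut.conj (nS x i)).toMonoidHom)).2 ?_ hg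
    rintro _ ⟨j, u, rfl⟩
    change nS x i * hX x (sim j) u * (nS x i)⁻¹ ∈ K
    have h1 := hS.h_conj_n (hX_mem (sim j) u) (hS.θ_h _ _) (sim i) (-1)
    have h2 : nS x i * hX x (sim j) u * (nS x i)⁻¹ =
        nS x i * (hX x (sim j) u * nX x (sim i) (-1) * (hX x (sim j) u)⁻¹) * hX x (sim j) u := by
      rw [hS.n_neg, nS]; group
    rw [h2, h1, nS, hS.n_mul_n]
    exact mul_mem (hK _ _) (hK _ _)
  obtain ⟨w, i, rfl⟩ := exists_conj_sim r
  obtain ⟨L, rfl⟩ := invGen_sw.gen w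
  rw [← hS.lift_conj_h (hS.lift_wp L)]
  induction L with
  | nil => simpa using hK i t
  | cons j L ih =>
    have := key j _ ih
    rw [wp_cons]
    convert this using 1; group

/-- `t ↦ h_r(t)` -/
def hHom (r : Rt D) : Fˣ →* Γ where
  toFun := hX x r
  map_one' := hS.h_one r
  map_mul' t u := (hS.hmul r t u).symm

theorem hHom_comm : Pairwise fun i j : Ix D => ∀ t u, Commute (hS.hHom (sim i) t) (hS.hHom (sim j) u) :=
  fun _ _ _ _ _ => hS.H_comm (hX_mem _ _) (hX_mem _ _)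

/-- the map from the standard torus onto `H` -/
noncomputable def hP : (Ix D → Fˣ) →* Γ := MonoidHom.noncommPiCoprod (fun i => hS.hHom (sim i)) hS.hHom_comm

theorem hP_single (i : Ix D) (t : Fˣ) : hS.hP (Pi.mulSingle i t) = hX x (sim i) t :=
  MonoidHom.noncommPiCoprod_mulSingle _ _ _

theorem range_hP : hS.hP.range = HX x := by
  rw [hP, MonoidHom.noncommPiCoprod_range]
  refine le_antisymm (iSup_le fun i => ?_) ?_
  · rintro _ ⟨t, rfl⟩; exact hX_mem _ _
  · rw [hS.H_eq_closure, Subgroup.closure_le]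
    rintro _ ⟨i, t, rfl⟩
    exact Subgroup.mem_iSup_of_mem i ⟨t, rfl⟩

end Sys

/-- the character attached to an element of the standard torus -/
def carH (M : Type*) [CommGroup M] : (Ix D → M) →* (Ix D → M) where
  toFun c := fun j => ∏ i, c i ^ ca i (sim j)
  map_one' := by funext j; simp
  map_mul' c c' := by funext j; simp [mul_zpow, Finset.prod_mul_distrib]

theorem carH_apply {M : Type*} [CommGroup M] (c : Ix D → M) (j : Ix D) :
    carH M c j = ∏ i, c i ^ ca i (sim j) := rfl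

theorem carH_eq {M : Type*} [CommGroup M] (c : Ix D → M) : carH M c = ∏ i, coch (sim i) (c i) := by
  funext j; simp [carH_apply, coch, A_sim]

theorem chv_carH {M : Type*} [CommGroup M] (c : Ix D → M) (s : Rt D) :
    chv (carH M c) (co s) = ∏ i, c i ^ ca i s := by
  simp only [chv, carH_apply, ← Finset.prod_zpow, ← zpow_mul]
  rw [Finset.prod_comm]
  refine Finset.prod_congr rfl fun i _ => ?_
  rw [ca_co i s]
  have := chv_pow (c i) (fun j => ca i (sim j)) (co s)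
  simp only [chv, ← zpow_mul] at this
  rw [this]; simp only [mul_comm]

theorem Sys.θ_hP {x : Rt D → F → Γ} {θ : Γ →* GL D.Idx F} (hS : Sys x θ) (c : Ix D → Fˣ) :
    θ (hS.hP c) = dg (carH Fˣ c) := by
  have : θ.comp hS.hP = dg.comp (carH Fˣ) := by
    refine MonoidHom.pi_ext fun i t => ?_
    rw [MonoidHom.comp_apply, MonoidHom.comp_apply, hS.hP_single, hS.θ_h]
    congr 1
    funext j
    rw [carH_apply, Finset.prod_eq_single i] <;> simp +contextual [coch, A_sim, Pi.mulSingle_eq_of_ne]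
  exact DFunLike.congr_fun this c

end Cfsg.Agent.Lie
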