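import Cfsg.Agent.Lie.Ree3

set_option autoImplicit false
set_option linter.unusedSectionVars false
set_option linter.unusedSimpArgs false

/-! Abstract theory of the Suzuki groups. -/

namespace Cfsg.Agent.Lie

open Subgroup

/-- transport of structure -/
def Rk1.map {G G' M : Type*} [Group G] [Group G'] [CommGroup M] (X : Rk1 G M) (e : G ≃* G') : Rk1 G' M where
  U := X.U.comap e.symm.toMonoidHom
  h := e.toMonoidHom.comp X.h
  n := e X.n
  h_inj := e.injective.comp X.h_inj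
  conj k u hu := by simpa [mem_comap] using X.conj k _ hu
  bruhat x := (X.bruhat (e.symm x)).imp
    (fun ⟨u, hu, k, h⟩ => ⟨e u, by simpa [mem_comap], k, by simpa using congrArg e h⟩)
    fun ⟨u, hu, k, v, hv, h⟩ => ⟨e u, by simpa [mem_comap], k, e v, by simpa [mem_comap], by simpa using congrArg e h⟩
  uniq0 k h := X.uniq0 k (by simpa [mem_comap] using h)
  uniq1 u hu v hv u' hu' v' hv' k k' h := by
    simpa using X.uniq1 _ hu _ hv _ hu' _ hv' k k' (by simpa using congrArg e.symm h)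
  disj u hu k h := X.disj _ hu k (by simpa using congrArg e.symm h)
  n_h k := by simpa using congrArg e (X.n_h k)

/-- the basic facts on a Suzuki group -/
structure Szk (G K : Type*) [Group G] [Field K] extends Rk1 G Kˣ where
  ρ : G →* Matrix (Fin 4) (Fin 4) K
  ρ_inj : Function.Injective ρ
  card_U : Nat.card U = Nat.card K ^ 2
  fpf : ∀ k, k ≠ 1 → ∀ u ∈ U, h k * u * (h k)⁻¹ = u → u = 1
  n_sq : n * n = 1

namespace Szk

variable {G K : Type*} [Group G] [Finite G] [Field K] [Fintype K] (X : Szk G K) {m : ℕ}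
  (hK : Fintype.card K = 2 ^ (2 * m + 1))

local notation "q" => Fintype.card K

/-- transport of structure -/
def map {G' : Type*} [Group G'] (e : G ≃* G') : Szk G' K where
  toRk1 := X.toRk1.map e
  ρ := X.ρ.comp e.symm.toMonoidHom
  ρ_inj := X.ρ_inj.comp e.symm.injective
  card_U := X.card_U ▸ Nat.card_congr (e.symm.toEquiv.subtypeEquiv fun _ => Iff.rfl)
  fpf k hk u hu h := by simpa using X.fpf k hk _ hu (by simpa [Rk1.map] using congrArg e.symm h)
  n_sq := by simpa [Rk1.map] using congrArg e X.n_sq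

include X in
theorem card_G : Nat.card G = q ^ 2 * (q - 1) * (q ^ 2 + 1) := by
  rw [X.card_eq, X.card_U, Nat.card_units, Nat.card_eq_fintype_card (α := K)]

theorem card_B' : Nat.card X.B = q ^ 2 * (q - 1) := by
  rw [X.card_B, X.card_U, Nat.card_units, Nat.card_eq_fintype_card (α := K)]

theorem card_H' : Nat.card X.h.range = q - 1 := by rw [X.card_H, Nat.card_units, Nat.card_eq_fintype_card]

theorem index_H : X.h.range.index = q ^ 2 * (q ^ 2 + 1) := by
  refine Nat.eq_of_mul_eq_mul_left (Nat.card_pos (α := X.h.range)) ?_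
  rw [card_mul_index, X.card_G, X.card_H']; ring

theorem index_U : X.U.index = (q - 1) * (q ^ 2 + 1) := by
  refine Nat.eq_of_mul_eq_mul_left (Nat.card_pos (α := X.U)) ?_
  rw [card_mul_index, X.card_G, X.card_U, Nat.card_eq_fintype_card, mul_assoc]

theorem U_ne_bot : X.U ≠ ⊥ := by
  rw [← one_lt_card_iff_ne_bot, X.card_U]; exact Nat.one_lt_pow two_ne_zero Finite.one_lt_card

theorem cent_U {u : G} (hu : u ∈ X.U) (h1 : u ≠ 1) : centralizer {u} ≤ X.U := fun x hx => by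
  obtain ⟨v, hv, k, rfl⟩ := X.mem_B.1 (X.cent_le_B hu h1 hx)
  by_cases hk : k = 1
  · simpa [hk]
  obtain ⟨c, hc, e⟩ := X.exists_conj_h (X.fpf k hk) hv
  refine absurd (conj_eq_one_iff.1 (X.fpf k hk _ (mul_mem (mul_mem (inv_mem hc) hu) (inv_mem (inv_mem hc))) ?_)) h1
  rw [mul_inv_eq_iff_eq_mul, ← mul_right_inj c, ← mul_left_inj c⁻¹]
  simpa [e, mul_assoc] using mem_cent.1 hx

theorem Q_prime {p : ℕ} (hp : p.Prime) (h : p ∣ q ^ 2 + 1) (h2 : 2 ∣ q) :
    ¬ p ∣ q ∧ ¬ p ∣ q - 1 ∧ ∀ i, q ^ i ≡ 1 [MOD p] ↔ 4 ∣ i := by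
  have : Fact p.Prime := ⟨hp⟩
  have : Fact (Nat.Prime 2) := ⟨Nat.prime_two⟩
  have h0 : (q : ZMod p) ^ 2 + 1 = 0 := by simpa using (ZMod.natCast_eq_zero_iff _ p).2 h
  have h1 : (q : ZMod p) ≠ 0 := fun e => by simp [e] at h0
  have h3 : (q : ZMod p) ^ 2 ≠ 1 := fun e => by
    have h5 : ((2 : ℕ) : ZMod p) = 0 := by push_cast; linear_combination h0 - e
    rw [ZMod.natCast_eq_zero_iff, Nat.prime_dvd_prime_iff_eq hp Nat.prime_two] at h5
    exact h1 ((ZMod.natCast_eq_zero_iff _ _).2 (h5 ▸ h2))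
  have h5 : orderOf (q : ZMod p) = 2 ^ (1 + 1) :=
    orderOf_eq_prime_pow h3 (by linear_combination ((q : ZMod p) ^ 2 - 1) * h0)
  refine ⟨by rwa [← ZMod.natCast_eq_zero_iff], ?_, fun i => ?_⟩
  · rw [← ZMod.natCast_eq_zero_iff, Nat.cast_sub Fintype.card_pos, sub_eq_zero]
    exact fun e => h3 (by simp [e])
  · rw [← ZMod.natCast_eq_natCast_iff, show 4 = _ from h5.symm, orderOf_dvd_iff_pow_eq_one]; simp

include hK

omit X in
theorem two_dvd : 2 ∣ q := hK ▸ dvd_pow_self 2 (by omega)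

theorem U_pgroup : IsPGroup 2 X.U := IsPGroup.of_card (by rw [X.card_U, Nat.card_eq_fintype_card, hK, ← pow_mul])

theorem index_U' : ¬ 2 ∣ X.U.index := by
  have h := two_dvd hK
  have h1 := h.trans (dvd_pow_self q two_ne_zero)
  have := Fintype.card_pos (α := K)
  rw [X.index_U, Nat.Prime.dvd_mul Nat.prime_two]; omega

omit X in
theorem sq_ne {k : Kˣ} (hk : k ≠ 1) : k ^ 2 ≠ 1 := fun e => by
  have h := two_dvd hK
  have := Fintype.card_pos (α := K)
  exact hk ((pow_eq_one_iff_of_coprime (a := k) ((Nat.Prime.coprime_iff_not_dvd Nat.prime_two).2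
    (show ¬ 2 ∣ q - 1 by omega))).1 ⟨e, by rw [← Nat.card_eq_fintype_card, ← Nat.card_units, pow_card_eq_one']⟩)

theorem cent_H {y : G} (hy : y ∈ X.h.range) (h1 : y ≠ 1) : centralizer {y} = X.h.range := by
  obtain ⟨k, rfl⟩ := hy
  have : k ≠ 1 := by rintro rfl; simp at h1
  exact X.cent_h (X.fpf k this) (sq_ne hK this)

omit X in
theorem exists_k (hm : 1 ≤ m) : 8 ≤ q ∧ ∃ k : Kˣ, k ≠ 1 := by
  have h : 8 ≤ q := hK ▸ Nat.pow_le_pow_right (n := 2) (i := 3) (by norm_num) (by omega)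
  have : Nontrivial Kˣ := Finite.one_lt_card_iff_nontrivial.1 (by rw [Nat.card_units, Nat.card_eq_fintype_card]; omega)
  exact ⟨h, exists_ne 1⟩

theorem tor_H (hm : 1 ≤ m) : Tor X.h.range 2 := by
  obtain ⟨-, k, hk⟩ := exists_k hK hm
  exact ⟨isCyclic_of_surjective _ X.h.rangeRestrict_surjective, fun _ => X.cent_H hK,
    by rw [X.card_normalizer_H (X.fpf k hk), X.card_H]⟩

include X in
theorem simple (hm : 1 ≤ m) : IsSimpleGroup G := by
  obtain ⟨-, k, hk⟩ := exists_k hK hm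
  have : Nontrivial G := ⟨X.n, 1, fun e => X.n_not_mem (e ▸ one_mem _)⟩
  have hU : X.U ≤ commutator G := fun u hu => by
    obtain ⟨v, -, e⟩ := X.exists_conj_h (X.fpf k hk) hu
    rw [eq_mul_inv_iff_mul_eq.2 e]
    exact commutator_mem_commutator (mem_top v) (mem_top _)
  have hn : X.n ∈ commutator G := by
    obtain ⟨x, hx⟩ := exists_conj_mem Nat.prime_two (X.index_U' hK) (y := X.n) (k := 1) (by rw [pow_one, sq, X.n_sq])
    simpa [mul_assoc] using (inferInstance : (commutator G).Normal).conj_mem _ (hU hx) x⁻¹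
  have hH : ∀ j, X.h j ∈ commutator G := fun j => by
    obtain ⟨s, rfl⟩ : ∃ s, s ^ 2 = j := Finite.surjective_of_injective (f := powMonoidHom 2)
      ((injective_iff_map_eq_one _).2 fun a h => by_contra fun e => sq_ne hK e h) j
    have := commutator_mem_commutator (mem_top (X.h s)) (mem_top X.n)
    rwa [commutatorElement_def, mul_assoc, mul_assoc, ← mul_assoc X.n, ← map_inv, X.n_h, inv_inv, ← map_mul, ← sq] at this
  have hp : commutator G = ⊤ := eq_top_iff.2 fun x _ => by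
    rcases X.bruhat x with ⟨u, hu, j, rfl⟩ | ⟨u, hu, j, v, hv, rfl⟩
    exacts [mul_mem (hU hu) (hH j), mul_mem (mul_mem (hU hu) (mul_mem (hH j) hn)) (hU hv)]
  refine ⟨fun N hN => ?_⟩
  by_cases h : N ≤ X.B
  · refine Or.inl (eq_bot_iff.2 fun x hx => ?_)
    obtain ⟨j, rfl⟩ := X.stab_two.le ⟨X.stab_one.ge (h hx), X.mem_stab.2 (h (hN.conj_mem' _ hx _))⟩
    obtain ⟨⟨u, hu⟩, hu1⟩ := ne_bot_iff_exists_ne_one.1 X.U_ne_bot
    obtain ⟨i, hi⟩ := X.stab_two.le ⟨X.stab_one.ge (h (hN.conj_mem _ hx u⁻¹)),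
      X.mem_stab.2 (h (hN.conj_mem' _ (hN.conj_mem _ hx u⁻¹) _))⟩
    by_contra hj
    have h1 := X.uniqB (one_mem _) (mul_mem (inv_mem hu) (X.conj j u hu)) (k := i) (k' := j) (by simp [hi, mul_assoc])
    exact hu1 (Subtype.ext (X.fpf j (by rintro rfl; simp at hj) u hu (inv_mul_eq_one.1 h1.1.symm).symm))
  · obtain ⟨x, hx, hxB⟩ := SetLike.not_le_iff_exists.1 h
    have h1 : X.B ⊔ N = ⊤ := by
      obtain ⟨u, hu, j, v, hv, rfl⟩ := (X.cases x).resolve_left hxB
      have hU : X.U ≤ X.B ⊔ N := X.U_le_B.trans le_sup_left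
      have hH : ∀ j, X.h j ∈ X.B ⊔ N := fun j => mem_sup_left (X.h_mem_B j)
      have hn : X.n ∈ X.B ⊔ N := by
        have := mem_sup_right (S := X.B) hx
        rwa [mul_mem_cancel_right (hU hv), mul_mem_cancel_left (hU hu), mul_mem_cancel_left (hH j)] at this
      refine eq_top_iff.2 fun x _ => ?_
      rcases X.bruhat x with ⟨u, hu, j, rfl⟩ | ⟨u, hu, j, v, hv, rfl⟩
      exacts [mul_mem (hU hu) (hH j), mul_mem (mul_mem (hU hu) (mul_mem (hH j) hn)) (hU hv)]
    have h2 : Group.IsSolvable X.B := by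
      have : Fact (Nat.Prime 2) := ⟨Nat.prime_two⟩
      have := (X.U_pgroup hK).isNilpotent
      have : (X.U.subgroupOf X.B).Normal := ⟨fun u hu b => X.B_conj b.2 hu⟩
      have : Group.IsSolvable (X.U.subgroupOf X.B) := solvable_of_solvable_injective (f := (subgroupOfEquivOfLe X.U_le_B).toMonoidHom)
        (subgroupOfEquivOfLe X.U_le_B).injective
      have : Group.IsSolvable (X.B ⧸ X.U.subgroupOf X.B) := solvable_of_surjective
        (f := (QuotientGroup.mk' _).comp (X.h.codRestrict _ X.h_mem_B)) fun b => by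
          obtain ⟨⟨b, hb⟩, rfl⟩ := QuotientGroup.mk_surjective b
          obtain ⟨u, hu, k, rfl⟩ := X.mem_B.1 hb
          exact ⟨k, QuotientGroup.eq.2 (by simpa [mem_subgroupOf, mul_assoc] using X.conj' k hu)⟩
      exact solvable_of_ker_le_range (X.U.subgroupOf X.B).subtype (QuotientGroup.mk' (X.U.subgroupOf X.B)) (by simp)
    have h3 : Group.IsSolvable (G ⧸ N) := solvable_of_surjective (f := (QuotientGroup.mk' N).comp X.B.subtype) fun g => by
      obtain ⟨g, rfl⟩ := QuotientGroup.mk_surjective g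
      obtain ⟨b, hb, c, hc, rfl⟩ := (mul_normal X.B N).le (h1.ge (mem_top g))
      exact ⟨⟨b, hb⟩, QuotientGroup.eq.2 (by simpa using hc)⟩
    refine Or.inr (by_contra fun h4 => ?_)
    have := QuotientGroup.nontrivial_iff.2 h4
    refine (Group.IsSolvable.commutator_lt_top_of_nontrivial (G ⧸ N)).ne ?_
    rw [_root_.commutator_def, ← map_top_of_surjective _ (QuotientGroup.mk'_surjective N), ← map_commutator,
      ← _root_.commutator_def, hp]

include X in
theorem prime_cases {r : ℕ} (hr : r.Prime) (h : r ∣ Nat.card G) : r = 2 ∨ r ∣ q - 1 ∨ r ∣ q ^ 2 + 1 := by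
  rw [X.card_G, hr.dvd_mul, hr.dvd_mul, or_assoc] at h
  exact h.imp_left fun e => (Nat.prime_dvd_prime_iff_eq hr Nat.prime_two).1
    (hr.dvd_of_dvd_pow (hK ▸ hr.dvd_of_dvd_pow e))

include X in
theorem exists_tor (hm : 1 ≤ m) {p : ℕ} (hp : p.Prime) (h : p ∣ q ^ 2 + 1) :
    ∃ (C : Subgroup G) (k : ℕ), Tor C k ∧ k ≤ 4 ∧ p ∣ Nat.card C ∧ Nat.card C ∣ q ^ 2 + 1 := by
  refine Lie.exists_tor (q ^ ·) (X.card_G ▸ dvd_mul_left _ _) (fun y hy hy' => ?_) hp h
  obtain ⟨h1, h2, h4⟩ := Q_prime hy hy' (two_dvd hK)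
  have h5 : Nat.card (centralizer {y}) ∣ q ^ 2 + 1 := by
    refine Nat.Coprime.dvd_of_dvd_mul_left (Nat.coprime_of_dvd fun r hr hr1 hr2 => ?_)
      (X.card_G ▸ card_subgroup_dvd_card _)
    have : Fact r.Prime := ⟨hr⟩
    obtain ⟨x, hx⟩ := exists_prime_orderOf_dvd_card' r hr1
    rw [← orderOf_coe] at hx
    have h6 : ∀ {A : Subgroup G}, ¬ r ∣ A.index → (∀ y ∈ A, y ≠ 1 → centralizer {y} ≤ A) →
        orderOf y ∣ Nat.card A := fun hA hT => by
      obtain ⟨c, hc⟩ := exists_conj_of_comm hr hA (fun y hy e => hT y hy (by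
        rintro rfl; exact hr.one_lt.ne (by simpa using e))) hx.symm.dvd (mem_cent.1 x.2)
      exact orderOf_conj' c y ▸ Subgroup.orderOf_dvd_natCard _ hc
    rcases hr.dvd_mul.1 hr2 with e | e
    · obtain rfl := (Nat.prime_dvd_prime_iff_eq hr Nat.prime_two).1 (hr.dvd_of_dvd_pow (hK ▸ hr.dvd_of_dvd_pow e))
      have := h6 (X.index_U' hK) fun _ => X.cent_U
      rw [X.card_U, Nat.card_eq_fintype_card] at this
      exact h1 (hy.dvd_of_dvd_pow this)
    · exact h2 (X.card_H' ▸ h6 ((X.tor_H hK hm).not_dvd hr (X.card_H' ▸ e)) fun _ h h' => (X.cent_H hK h h').le)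
  exact ⟨reg_cyclic X.ρ X.ρ_inj (by norm_num) (by norm_num) hy rfl le_rfl h4
    fun r hr hr' => (Q_prime hr (hr'.trans h5) (two_dvd hK)).2.2, h5,
    fun g k => reg_conj X.ρ X.ρ_inj (by norm_num) (by norm_num) hy rfl h4⟩

include X in
theorem exists_tor' (hm : 1 ≤ m) {p : ℕ} (hp : p.Prime) (h2 : p ≠ 2) (h : p ∣ Nat.card G) :
    ∃ (C : Subgroup G) (k : ℕ), Tor C k ∧ p ∣ Nat.card C ∧ (Nat.card C = q - 1 ∨ Nat.card C ∣ q ^ 2 + 1) := by
  rcases (X.prime_cases hK hp h).resolve_left h2 with e | e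
  · exact ⟨_, _, X.tor_H hK hm, X.card_H' ▸ e, Or.inl X.card_H'⟩
  · obtain ⟨C, k, h1, -, h2, h3⟩ := X.exists_tor hK hm hp e
    exact ⟨C, k, h1, h2, Or.inr h3⟩

include X in
theorem sylow_cyc (hm : 1 ≤ m) {p : ℕ} [Fact p.Prime] (hp : p ≠ 2) (P : Sylow p G) : IsCyclic P := by
  have hr : p.Prime := Fact.out
  by_cases h : p ∣ Nat.card G
  · obtain ⟨C, k, h1, h2, -⟩ := X.exists_tor' hK hm hr hp h
    exact sylow_cyclic h1.cyc (h1.not_dvd hr h2) P
  · exact sylow_cyclic (C := ⊥) inferInstance (by simpa using h) P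

theorem conj_U {g : G} (h : 2 ∣ orderOf g) : ∃ x, x * g * x⁻¹ ∈ X.U :=
  exists_conj_mem_of_dvd Nat.prime_two (X.index_U' hK) (fun u hu e => X.cent_U hu (by rintro rfl; simp at e)) h

include X in
theorem CN (hm : 1 ≤ m) (g : G) (hg : g ≠ 1) : Group.IsNilpotent (centralizer ({g} : Set G)) := by
  suffices ∃ x, Group.IsNilpotent (centralizer ({x * g * x⁻¹} : Set G)) by
    obtain ⟨x, hx⟩ := this
    rw [Inv.centralizer_conj] at hx
    exact nilpotent_of_mulEquiv ((centralizer {g}).equivMapOfInjective (MulAut.conj x).toMonoidHom (MulAut.conj x).injective).symm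
  obtain ⟨r, hr, hr'⟩ := Nat.exists_prime_and_dvd (mt orderOf_eq_one_iff.1 hg)
  by_cases h : r = 2
  · obtain ⟨x, hx⟩ := X.conj_U hK (h ▸ hr')
    have : Fact (Nat.Prime 2) := ⟨Nat.prime_two⟩
    exact ⟨x, ((X.U_pgroup hK).to_le (X.cent_U hx (by simpa using hg))).isNilpotent⟩
  · obtain ⟨C, k, h1, h2, -⟩ := X.exists_tor' hK hm hr h (hr'.trans (orderOf_dvd_natCard g))
    obtain ⟨x, hx⟩ := h1.conj hr h2 hr'
    have := h1.cyc
    exact ⟨x, h1.cent _ hx (by simpa using hg) ▸ @CommGroup.isNilpotent _ IsCyclic.commGroup⟩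

include X in
theorem count (hm : 1 ≤ m) : 2 * (ordS G (q ^ 2 + 1)).ncard * (q ^ 2 + 1) = Nat.card G * (q * (q - 1)) := by
  have h2 := two_dvd hK
  have h8 := (exists_k hK hm).1
  have hU : Nat.card X.U = q ^ 2 := by rw [X.card_U, Nat.card_eq_fintype_card]
  have o2 := cov_ord (A := (X.U : Set G) \ {1}) (P := (2 ∣ ·)) fun a h => by
    obtain ⟨k, -, hk⟩ := (Nat.dvd_prime_pow Nat.prime_two).1 (show orderOf a ∣ 2 ^ ((2 * m + 1) * 2) by
      rw [pow_mul, ← hK, ← hU]; exact Subgroup.orderOf_dvd_natCard _ h.1)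
    exact hk ▸ dvd_pow_self 2 (by rintro rfl; exact h.2 (orderOf_eq_one_iff.1 hk))
  have h : ∀ g, g ∈ {1} ∪ cov ⊤ ((X.U : Set G) \ {1}) ∪ ordS G (q - 1) ∪ ordS G (q ^ 2 + 1) := fun g => by
    simp only [Set.mem_union, or_assoc]
    refine or_iff_not_imp_left.2 fun hg => ?_
    obtain ⟨r, hr, hr'⟩ := Nat.exists_prime_and_dvd (mt orderOf_eq_one_iff.1 hg)
    by_cases h : r = 2
    · obtain ⟨x, hx⟩ := X.conj_U hK (h ▸ hr')
      exact Or.inl ⟨x, trivial, hx, by simpa using hg⟩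
    · obtain ⟨C, k, h1, h2, h3⟩ := X.exists_tor' hK hm hr h (hr'.trans (orderOf_dvd_natCard g))
      exact Or.inr (h3.imp (fun e => ⟨hg, (h1.dvd hr h2 hr').trans e.dvd⟩) fun e => ⟨hg, (h1.dvd hr h2 hr').trans e⟩)
  have h := congrArg Set.ncard (Set.eq_univ_of_forall h)
  have h4 := (X.tor_H hK hm).count
  have h3 := card_cov (M := ⊤) (N := X.B) (A := (X.U : Set G) \ {1}) le_top
    (fun n hn a ha => ⟨X.B_conj hn ha.1, by simpa using ha.2⟩) fun x _ a ha hx => X.TI ha.1 ha.2 (X.U_le_B hx.1)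
  rw [Set.ncard_union_eq, Set.ncard_union_eq, Set.ncard_union_eq, Set.ncard_univ, Set.ncard_singleton] at h
  · rw [card_top, Set.ncard_sdiff_singleton_of_mem (one_mem _), show (X.U : Set G).ncard = _ from hU,
      ← X.B.card_mul_index, X.index_B, hU, mul_comm, mul_assoc] at h3
    have h3 := Nat.eq_of_mul_eq_mul_left Nat.card_pos h3
    rw [X.card_H'] at h4
    have h9 : (ordS G (q - 1)).ncard * 2 = q ^ 2 * (q ^ 2 + 1) * (q - 1 - 1) :=
      Nat.eq_of_mul_eq_mul_right (by omega : 0 < q - 1) (by rw [mul_assoc, h4, X.card_G]; ring)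
    rw [X.card_G] at h ⊢
    zify [show 1 ≤ q by omega, show 1 ≤ q - 1 by omega, Nat.one_le_pow 2 q (by omega)] at h h3 h9 ⊢
    linear_combination ((q : ℤ) ^ 2 + 1) * (2 * h - 2 * h3 - h9)
  · exact Set.disjoint_left.2 fun g h h' => by simpa [Set.mem_singleton_iff.1 h] using o2 g h'
  · refine Set.disjoint_union_left.2 ⟨Set.disjoint_left.2 fun g h h' => h'.1 h, Set.disjoint_left.2 fun g h h' => ?_⟩
    have := (o2 g h).trans h'.2; omega
  · refine Set.disjoint_union_left.2 ⟨Set.disjoint_union_left.2 ⟨Set.disjoint_left.2 fun g h h' => h'.1 h,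
      Set.disjoint_left.2 fun g h h' => (Q_prime Nat.prime_two ((o2 g h).trans h'.2) h2).1 h2⟩,
      Set.disjoint_left.2 fun g h h' => ?_⟩
    obtain ⟨r, hr, hr'⟩ := Nat.exists_prime_and_dvd (mt orderOf_eq_one_iff.1 h.1)
    exact (Q_prime hr (hr'.trans h'.2) h2).2.1 (hr'.trans h.2)

include X in
theorem tori (hm : 1 ≤ m) : ∃ C C' : Subgroup G, Tor C 4 ∧ Tor C' 4 ∧ Nat.card C = q - 2 ^ (m + 1) + 1 ∧
    Nat.card C' = q + 2 ^ (m + 1) + 1 := by
  have h7 := (exists_k hK hm).1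
  have hc := X.count hK hm
  have hG := Nat.card_pos (α := G)
  have h0 : 2 * (ordS G (q ^ 2 + 1)).ncard < Nat.card G := by
    refine Nat.lt_of_mul_lt_mul_right (a := q ^ 2 + 1) (hc.trans_lt (Nat.mul_lt_mul_of_pos_left ?_ hG))
    zify [show 1 ≤ q by omega]; nlinarith
  have h1 : ∀ {c}, 1 < c → c ∣ q ^ 2 + 1 → 4 < c := fun {c} h h' => by
    obtain ⟨r, hr, hr'⟩ := Nat.exists_prime_and_dvd h.ne'
    obtain ⟨h1, -, h2⟩ := Q_prime hr (hr'.trans h') (two_dvd hK)
    exact (lt_of_ord hr h1 h2).trans_le (Nat.le_of_dvd (by omega) hr')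
  have h5 : ¬ 3 ∣ Nat.card G := by
    have : q % 3 = 2 := by rw [hK, pow_succ, pow_mul, Nat.mul_mod, Nat.pow_mod]; simp
    rw [X.card_G, Nat.prime_three.dvd_mul, Nat.prime_three.dvd_mul, Nat.dvd_iff_mod_eq_zero (n := q ^ 2 + 1), Nat.add_mod,
      Nat.pow_mod, this]
    rintro ((e | e) | e)
    · have := Nat.prime_three.dvd_of_dvd_pow e; omega
    · omega
    · simp at e
  rcases Lie.tori (by nlinarith) (X.card_G ▸ dvd_mul_left _ _) (fun p => X.exists_tor hK hm) with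
    ⟨C, k, t, -, e⟩ | ⟨C, C', k, k', t, t', hk, hk', c, c', e, -, h'⟩ |
      ⟨C, C', C'', k, k', k'', t, t', t'', hk, hk', hk'', c, c', c'', d, d', d'', h⟩
  · have h2 := t.count
    rw [e] at h2
    have h3 : k * (q - 1) = 2 * q := by
      refine Nat.eq_of_mul_eq_mul_left (Nat.mul_pos hG (by omega : 0 < q)) ?_
      zify [show 1 ≤ q by omega, show 1 ≤ q ^ 2 + 1 from Nat.le_add_left _ _] at h2 hc ⊢
      linear_combination 2 * h2 - k * hc
    have h4 : q - 1 ∣ 2 := (Nat.dvd_add_right (dvd_mul_left _ 2)).1 ⟨k, by rw [mul_comm _ k, h3]; omega⟩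
    have := Nat.le_of_dvd two_pos h4
    omega
  · obtain ⟨l, d⟩ := t.lower (h1 c ⟨_, e.symm⟩)
    obtain ⟨l', d'⟩ := t'.lower (h1 c' (e ▸ dvd_mul_left _ _))
    have k5 : k ≠ 3 := by rintro rfl; exact h5 d
    have k5' : k' ≠ 3 := by rintro rfl; exact h5 d'
    obtain rfl : k = 4 := by
      by_contra
      have := Nat.mul_le_mul_right (ordS G (Nat.card C)).ncard (show (4 + 1) * k ≤ 10 by omega)
      have := Nat.mul_le_mul_right (ordS G (Nat.card C')).ncard (show (4 + 1) * k' ≤ 20 by omega)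
      omega
    obtain rfl : k' = 4 := by
      by_contra
      have := Nat.mul_le_mul_right (ordS G (Nat.card C')).ncard (show (4 + 1) * k' ≤ 10 by omega)
      omega
    have h2 := t.count
    have h3 := t'.count
    have h4 : Nat.card C + Nat.card C' = 2 * q + 2 := by
      refine Nat.eq_of_mul_eq_mul_left hG ?_
      rw [h', ← e] at hc
      zify [show 1 ≤ q by omega, c.le, c'.le] at h2 h3 hc e ⊢
      linear_combination Nat.card C' * h2 + Nat.card C * h3 - 2 * hc + 2 * Nat.card G * e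
    have h6 : (2 ^ (m + 1)) ^ 2 = 2 * q := by rw [hK]; ring
    have h8 : 2 ^ (m + 1) ≤ q := hK ▸ Nat.pow_le_pow_right (by norm_num) (by omega)
    have h9 : ((Nat.card C : ℤ) - (q - 2 ^ (m + 1) + 1)) * (Nat.card C - (q + 2 ^ (m + 1) + 1)) = 0 := by
      zify at h4 h6 e
      linear_combination Nat.card C * h4 - e - h6
    zify [h8]
    zify at h4
    rcases mul_eq_zero.1 h9 with e | e
    exacts [⟨C, C', t, t', by linarith, by linarith⟩, ⟨C', C, t', t, by linarith, by linarith⟩]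
  · have l := (t.lower (h1 c d)).1
    have l' := (t'.lower (h1 c' d')).1
    have l'' := (t''.lower (h1 c'' d'')).1
    have := Nat.mul_le_mul_right (ordS G (Nat.card C)).ncard (show (4 + 1) * k ≤ 20 by omega)
    have := Nat.mul_le_mul_right (ordS G (Nat.card C')).ncard (show (4 + 1) * k' ≤ 20 by omega)
    have := Nat.mul_le_mul_right (ordS G (Nat.card C'')).ncard (show (4 + 1) * k'' ≤ 20 by omega)
    omega

end Szk

end Cfsg.Agent.Lie
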