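import Cfsg.Agent.Lie.Sz0
import Cfsg.Prelude.Def_Sz
import Cfsg.Prelude.Def_LieExceptional

set_option autoImplicit false
set_option linter.unusedSectionVars false
set_option linter.unusedSimpArgs false
set_option linter.unnecessarySeqFocus false

/-! The Suzuki groups as matrix groups. -/

namespace Cfsg.Agent.Lie.Suz

open Subgroup Cfsg.Lie
open scoped Matrix MatrixGroups Pointwise

variable {F : Type*} [Field F] [CharP F 2] (θ : F →+* F)

/-- the equation of the ovoid -/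
def fz (x y : F) : F := x * y + θ x * x ^ 2 + θ y

/-- unipotent elements -/
def mU (a b : F) : SL(4, F) :=
  ⟨!![1, a, b + a * θ a, fz θ a b; 0, 1, θ a, b; 0, 0, 1, a; 0, 0, 0, 1], by
    simp [Matrix.det_succ_column_zero, Fin.sum_univ_succ]⟩

/-- diagonal elements -/
def mH (t : Fˣ) : SL(4, F) :=
  ⟨!![t * θ t, 0, 0, 0; 0, t, 0, 0; 0, 0, (t : F)⁻¹, 0; 0, 0, 0, (t * θ t)⁻¹], by
    simp [Matrix.det_succ_column_zero, Fin.sum_univ_succ]; field_simp⟩

/-- the Weyl element -/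
def mN (F : Type*) [Field F] : SL(4, F) :=
  ⟨!![0, 0, 0, 1; 0, 0, 1, 0; 0, 1, 0, 0; 1, 0, 0, 0], by
    simp [Matrix.det_succ_row_zero, Fin.sum_univ_succ, Fin.succAbove]; ring⟩

@[simp] theorem coe_mU (a b : F) : (mU θ a b).1 =
    !![1, a, b + a * θ a, fz θ a b; 0, 1, θ a, b; 0, 0, 1, a; 0, 0, 0, 1] := rfl
@[simp] theorem coe_mH (t : Fˣ) : (mH θ t).1 =
    !![t * θ t, 0, 0, 0; 0, t, 0, 0; 0, 0, (t : F)⁻¹, 0; 0, 0, 0, (t * θ t)⁻¹] := rfl
@[simp] theorem coe_mN : (mN F).1 = !![0, 0, 0, 1; 0, 0, 1, 0; 0, 1, 0, 0; 1, 0, 0, 0] := rfl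

theorem mH_mul (s t : Fˣ) : mH θ (s * t) = mH θ s * mH θ t := by
  ext i j; fin_cases i <;> fin_cases j <;> simp <;> ring

theorem mN_sq : mN F * mN F = 1 := by ext i j; fin_cases i <;> fin_cases j <;> simp

theorem mN_mH (t : Fˣ) : mN F * mH θ t = mH θ t⁻¹ * mN F := by
  ext i j; fin_cases i <;> fin_cases j <;> simp [mul_comm]

theorem mU_zero : mU θ 0 0 = 1 := by ext i j; fin_cases i <;> fin_cases j <;> simp [fz]

theorem mU_inj {a b c d : F} (h : mU θ a b = mU θ c d) : a = c ∧ b = d :=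
  ⟨congrArg (fun g : SL(4, F) => g 0 1) h, congrArg (fun g : SL(4, F) => g 1 3) h⟩

/-- the defining condition in the symplectic model -/
def SS (g : Matrix (Fin 4) (Fin 4) F) : Prop := gᵀ * suzukiForm F * g = suzukiForm F ∧ star4 g = g.map θ

/-- the cone over the ovoid -/
def Ov (v : Fin 4 → F) : Prop := v ≠ 0 ∧ ∃ u : Fin 4 → F, v 0 * u 3 + v 1 * u 2 + v 2 * u 1 + v 3 * u 0 = 0 ∧
  v 0 * u 1 + v 1 * u 0 = θ (v 0) ∧ v 0 * u 2 + v 2 * u 0 = θ (v 1) ∧ v 1 * u 3 + v 3 * u 1 = θ (v 2) ∧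
  v 2 * u 3 + v 3 * u 2 = θ (v 3)

variable {θ}

theorem SS.det {g : Matrix (Fin 4) (Fin 4) F} (h : SS θ g) : g.det = 1 := by
  have h1 := congrArg Matrix.det h.1
  rw [Matrix.det_mul, Matrix.det_mul, Matrix.det_transpose, show (suzukiForm F).det = 1 from (mN F).2] at h1
  exact sub_eq_zero.1 (pow_eq_zero_iff two_ne_zero |>.1 (by grind))

theorem SS.ov {g : Matrix (Fin 4) (Fin 4) F} (h : SS θ g) {v : Fin 4 → F} (hv : Ov θ v) : Ov θ (g *ᵥ v) := by
  obtain ⟨h0, u, h1, h2, h3, h4, h5⟩ := hv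
  have hJ : suzukiForm F * suzukiForm F = 1 := congrArg Subtype.val mN_sq
  have h6 : g * suzukiForm F * gᵀ = suzukiForm F := by
    have : g * (suzukiForm F * gᵀ * suzukiForm F) = 1 :=
      mul_eq_one_comm.1 (by rw [mul_assoc, mul_assoc, ← mul_assoc gᵀ, h.1, hJ])
    rw [← mul_one (_ * gᵀ), ← hJ, ← mul_assoc, mul_assoc g, mul_assoc g, this, one_mul]
  have a : ∀ i j, g 0 i * g 3 j + g 1 i * g 2 j + g 2 i * g 1 j + g 3 i * g 0 j = suzukiForm F i j := fun i j => by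
    rw [← h.1]; simp [Matrix.mul_apply, Fin.sum_univ_four, suzukiForm]; ring
  have b : ∀ i j, g i 0 * g j 3 + g i 1 * g j 2 + g i 2 * g j 1 + g i 3 * g j 0 = suzukiForm F i j := fun i j => by
    rw [← h6]; simp [Matrix.mul_apply, Fin.sum_univ_four, suzukiForm]; ring
  have c : ∀ i j, θ (g i j) = star4 g i j := fun i j => by rw [h.2]; rfl
  refine ⟨fun e => h0 (Matrix.eq_zero_of_mulVec_eq_zero (by rw [h.det]; exact one_ne_zero) e), g *ᵥ u, ?_⟩
  simp only [Matrix.mulVec, dotProduct, Fin.sum_univ_four, map_add, map_mul, ← h2, ← h3, ← h4, ← h5, c]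
  simp only [star4, pairOf, Matrix.of_apply, Matrix.cons_val]
  refine ⟨?_, ?_, ?_, ?_, ?_⟩
  · have := a 0 1; have := a 0 2; have := a 0 3; have := a 1 2; have := a 1 3; have := a 2 3
    simp only [suzukiForm, Matrix.of_apply, Matrix.cons_val] at *
    grind
  · have := b 0 1; simp only [suzukiForm, Matrix.of_apply, Matrix.cons_val] at this
    linear_combination (norm := grind) (v 0 * u 3 + v 3 * u 0) * this + (g 0 1 * g 1 2 + g 0 2 * g 1 1) * h1
  · have := b 0 2; simp only [suzukiForm, Matrix.of_apply, Matrix.cons_val] at this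
    linear_combination (norm := grind) (v 0 * u 3 + v 3 * u 0) * this + (g 0 1 * g 2 2 + g 0 2 * g 2 1) * h1
  · have := b 1 3; simp only [suzukiForm, Matrix.of_apply, Matrix.cons_val] at this
    linear_combination (norm := grind) (v 0 * u 3 + v 3 * u 0) * this + (g 1 1 * g 3 2 + g 1 2 * g 3 1) * h1
  · have := b 2 3; simp only [suzukiForm, Matrix.of_apply, Matrix.cons_val] at this
    linear_combination (norm := grind) (v 0 * u 3 + v 3 * u 0) * this + (g 2 1 * g 3 2 + g 2 2 * g 3 1) * h1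

theorem Ov.smul {v : Fin 4 → F} (hv : Ov θ v) {c : F} (hc : c ≠ 0) : Ov θ (c • v) := by
  obtain ⟨h0, u, h1, h2, h3, h4, h5⟩ := hv
  refine ⟨smul_ne_zero hc h0, (θ c / c) • u, ?_⟩
  simp only [Pi.smul_apply, smul_eq_mul, map_mul, ← h2, ← h3, ← h4, ← h5]
  refine ⟨?_, ?_, ?_, ?_, ?_⟩ <;> field_simp
  linear_combination θ c * h1

theorem ov_inf : Ov θ ![1, 0, 0, 0] := ⟨by simp, ![0, 1, 0, 0], by simp⟩

theorem Ov.cases {v : Fin 4 → F} (hv : Ov θ v) :
    ∃ c : F, c ≠ 0 ∧ (v = c • ![1, 0, 0, 0] ∨ ∃ x y, v = c • ![fz θ x y, y, x, 1]) := by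
  obtain ⟨h0, u, h1, h2, h3, h4, h5⟩ := hv
  by_cases h : v 3 = 0
  · have e2 : v 2 = 0 := by
      by_contra e; exact mul_ne_zero e ((map_ne_zero θ).2 e) (by rw [h, map_zero] at h5; grind)
    have e1 : v 1 = 0 := by
      by_contra e
      exact mul_ne_zero e (mul_ne_zero e ((map_ne_zero θ).2 e)) (by rw [e2, map_zero] at h4; grind)
    have e : v = v 0 • ![1, 0, 0, 0] := by ext i; fin_cases i <;> simp [h, e1, e2]
    exact ⟨v 0, fun e' => h0 (by rw [e, e', zero_smul]), Or.inl e⟩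
  · refine ⟨v 3, h, Or.inr ⟨v 2 / v 3, v 1 / v 3, ?_⟩⟩
    have := (map_ne_zero θ).2 h
    ext i; fin_cases i <;> simp [fz] <;> field_simp
    grind

variable (hθ : ∀ x, θ (θ x) = x ^ 2)
include hθ

theorem mU_mul (a b c d : F) : mU θ a b * mU θ c d = mU θ (a + c) (b + d + θ a * c) := by
  ext i j; fin_cases i <;> fin_cases j <;> simp [fz, hθ] <;> grind

theorem mH_mU (t : Fˣ) (a b : F) : mH θ t * mU θ a b = mU θ (θ t * a) (t ^ 2 * θ t * b) * mH θ t := by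
  ext i j; fin_cases i <;> fin_cases j <;> simp [fz, hθ] <;> field_simp

theorem ss_mU (a b : F) : SS θ (mU θ a b).1 := by
  constructor <;> ext i j <;> fin_cases i <;> fin_cases j <;>
    simp [fz, hθ, suzukiForm, star4, pairOf, Matrix.mul_apply, Fin.sum_univ_four] <;> grind

theorem ss_mH (t : Fˣ) : SS θ (mH θ t).1 := by
  constructor <;> ext i j <;> fin_cases i <;> fin_cases j <;>
    simp [fz, hθ, suzukiForm, star4, pairOf, Matrix.mul_apply, Fin.sum_univ_four] <;> field_simp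

omit hθ in
theorem ss_mN : SS θ (mN F).1 := by
  constructor <;> ext i j <;> fin_cases i <;> fin_cases j <;>
    simp [suzukiForm, star4, pairOf, Matrix.mul_apply, Fin.sum_univ_four, CharTwo.neg_eq]

theorem ov_aff (x y : F) : Ov θ ![fz θ x y, y, x, 1] := by
  convert (ss_mU hθ x y).ov (ss_mN.ov ov_inf) using 1
  ext i; fin_cases i <;> simp [Matrix.mulVec, dotProduct, Fin.sum_univ_four]

theorem fz_eq_zero {x y : F} (h : fz θ x y = 0) : x = 0 ∧ y = 0 := by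
  obtain ⟨c, -, e | ⟨a, b, e⟩⟩ := (ss_mN.ov (ov_aff hθ x y)).cases
  · exact ⟨by simpa using congrFun e 1, by simpa using congrFun e 2⟩
  · have h1 := congrFun e 0
    have h2 := congrFun e 3
    simp [h] at h1 h2
    simp [← h2] at h1

theorem indep {k : F} (hk : k ≠ 0 ∧ k ≠ 1) {A B C : F} (h : ∀ y, A * y ^ 2 + B * (θ y * y ^ 2) + C * θ y = 0) :
    A = 0 ∧ B = 0 ∧ C = 0 := by
  have h0 : ∀ D, (∀ y, D * (θ y + y ^ 2) = 0) → D = 0 := fun D h => by_contra fun hD => by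
    have h1 : ∀ y, θ y = y ^ 2 := fun y => by have := (mul_eq_zero.1 (h y)).resolve_left hD; grind
    have := hθ k
    rw [h1, h1] at this
    exact mul_ne_zero hk.1 (sub_ne_zero.2 hk.2) (pow_eq_zero_iff two_ne_zero |>.1 (by grind))
  have h1 := h 1
  have hB := h0 B fun y => by
    have h2 := h y; have h3 := h (y + 1)
    simp only [map_add, map_one] at h1 h3; grind
  have hA := h0 A fun y => by have h2 := h y; rw [map_one] at h1; grind
  exact ⟨hA, hB, by simpa [hA, hB] using h1⟩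

theorem row3 {g : SL(4, F)} (hg : ∀ v, Ov θ v → Ov θ (g.1 *ᵥ v)) (h1 : g 1 0 = 0) (h2 : g 2 0 = 0) (h3 : g 3 0 = 0) :
    g 3 1 = 0 ∧ g 3 2 = 0 := by
  have h : ∀ x y, g 3 1 * y + g 3 2 * x + g 3 3 ≠ 0 := fun x y e => by
    obtain ⟨c, hc, e' | ⟨a, b, e'⟩⟩ := (hg _ (ov_aff hθ x y)).cases
    · have h4 : g.1 *ᵥ (g 0 0 • ![fz θ x y, y, x, 1] - c • ![1, 0, 0, 0]) = 0 := by
        rw [Matrix.mulVec_sub, Matrix.mulVec_smul, e', Matrix.mulVec_smul]
        ext i; fin_cases i <;> simp [Matrix.mulVec, dotProduct, Fin.sum_univ_four, h1, h2, h3, mul_comm]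
      have h5 := Matrix.eq_zero_of_mulVec_eq_zero (by simp) h4
      have h6 : g 0 0 = 0 := by simpa using congrFun h5 3
      exact hc (by simpa [h6] using congrFun h5 0)
    · exact hc (by simpa [Matrix.mulVec, dotProduct, Fin.sum_univ_four, h3, e] using (congrFun e' 3).symm)
  exact ⟨by_contra fun e => h 0 (g 3 3 / g 3 1) (by grind), by_contra fun e => h (g 3 3 / g 3 2) 0 (by grind)⟩

theorem fix_two {k : F} (hk : k ≠ 0 ∧ k ≠ 1) {g : SL(4, F)} (hg : ∀ v, Ov θ v → Ov θ (g.1 *ᵥ v)) (h1 : g 1 0 = 0)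
    (h2 : g 2 0 = 0) (h3 : g 3 0 = 0) (h4 : g 0 3 = 0) (h5 : g 1 3 = 0) (h6 : g 2 3 = 0) : ∃ t, g = mH θ t := by
  obtain ⟨h7, h8⟩ := row3 hθ hg h1 h2 h3
  obtain ⟨h9, h10⟩ : g 0 2 = 0 ∧ g 0 1 = 0 := by
    have e : ∀ i j, (mN F * g * mN F) i j = g i.rev j.rev := fun i j => by
      fin_cases i <;> fin_cases j <;> simp [Matrix.mul_apply, Fin.sum_univ_four, Matrix.vecMul, dotProduct]
    simpa [e] using row3 hθ (g := mN F * g * mN F) (fun v hv => by
      simpa only [Matrix.SpecialLinearGroup.coe_mul, ← Matrix.mulVec_mulVec] using ss_mN.ov (hg _ (ss_mN.ov hv)))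
      (e _ _ ▸ h6) (e _ _ ▸ h5) (e _ _ ▸ h4)
  have hd : g 0 0 * ((g 1 1 * g 2 2 - g 1 2 * g 2 1) * g 3 3) = 1 := by
    refine Eq.trans ?_ g.2
    rw [Matrix.det_succ_row_zero]
    simp [Matrix.det_fin_three, Fin.sum_univ_succ, Fin.succAbove, h1, h2, h3, h4, h5, h6, h7, h8, h9, h10]
    grind
  have h0 : g 3 3 ≠ 0 := fun e => by simp [e] at hd
  have h : ∀ x y, fz θ (g 2 2 / g 3 3 * x + g 2 1 / g 3 3 * y) (g 1 2 / g 3 3 * x + g 1 1 / g 3 3 * y) =
      g 0 0 / g 3 3 * fz θ x y := fun x y => by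
    obtain ⟨c, hc, e' | ⟨a, b, e'⟩⟩ := (hg _ (ov_aff hθ x y)).cases <;> have e0 := congrFun e' 0 <;>
      have e1 := congrFun e' 1 <;> have e2 := congrFun e' 2 <;> have e3 := congrFun e' 3 <;>
      simp [Matrix.mulVec, dotProduct, Fin.sum_univ_four, h1, h2, h3, h4, h5, h6, h7, h8, h9, h10, h0] at e0 e1 e2 e3
    rw [show _ + _ = a by grind, show _ + _ = b by grind]; grind
  obtain ⟨-, a1, a2⟩ := indep hθ hk (A := g 2 1 / g 3 3 * (g 1 1 / g 3 3)) (B := θ (g 2 1 / g 3 3) * (g 2 1 / g 3 3) ^ 2)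
    (C := θ (g 1 1 / g 3 3) - g 0 0 / g 3 3) fun y => by
      have := h 0 y; simp only [fz, map_mul, mul_zero, zero_add, map_zero] at this; linear_combination this
  obtain ⟨-, a3, a4⟩ := indep hθ hk (A := g 2 2 / g 3 3 * (g 1 2 / g 3 3))
    (B := θ (g 2 2 / g 3 3) * (g 2 2 / g 3 3) ^ 2 - g 0 0 / g 3 3) (C := θ (g 1 2 / g 3 3)) fun y => by
      have := h y 0; simp only [fz, map_mul, mul_zero, add_zero, map_zero] at this; linear_combination this
  have b1 : g 2 1 = 0 := by simpa [h0] using a1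
  have b2 : g 1 2 = 0 := by simpa [h0] using a4
  have a5 := h 1 1
  simp only [fz, b1, b2, zero_div, mul_one, add_zero, zero_add, map_one] at a5
  have b3 : g 1 1 * g 2 2 = g 0 0 * g 3 3 := by
    have : g 2 2 / g 3 3 * (g 1 1 / g 3 3) = g 0 0 / g 3 3 := by grind
    field_simp at this; linear_combination this
  have b4 : g 0 0 * g 3 3 = 1 := sub_eq_zero.1 (pow_eq_zero_iff two_ne_zero |>.1 (by grind))
  have b5 : g 1 1 / g 3 3 * θ (g 3 3) = 1 := θ.injective (by rw [map_mul, hθ, map_one]; grind)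
  have b6 : g 1 1 ≠ 0 := fun e => by simp [e] at b5
  have b7 : g 1 1 * θ (g 1 1) = g 0 0 := by
    have := (map_ne_zero θ).2 h0
    rw [map_div₀] at a2; grind
  refine ⟨Units.mk0 _ b6, ?_⟩
  ext i j; fin_cases i <;> fin_cases j <;> simp [*] <;> grind

variable [Fintype F] {m : ℕ} (hθ' : ∀ x, θ x = x ^ 2 ^ (m + 1))
include hθ'

theorem mem_O {v : Fin 4 → F} (hv : v ≠ 0) : Projectivization.mk F v hv ∈ suzukiOvoid F m ↔ Ov θ v := by
  have h : ∀ x y, fz θ x y = x * y + x ^ (2 ^ (m + 1) + 2) + y ^ 2 ^ (m + 1) := fun x y => by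
    rw [fz, hθ', hθ', pow_add x]
  constructor
  · rintro ⟨w, hw, e, h1⟩
    obtain ⟨c, rfl⟩ := (Projectivization.mk_eq_mk_iff F _ _ _ _).1 e
    refine Ov.smul ?_ c.ne_zero
    rcases h1 with rfl | ⟨x, y, rfl⟩
    exacts [ov_inf, h x y ▸ ov_aff hθ x y]
  · intro h1
    obtain ⟨c, hc, rfl | ⟨x, y, rfl⟩⟩ := h1.cases
    exacts [⟨_, by simp, (Projectivization.mk_eq_mk_iff' F _ _ _ _).2 ⟨c, rfl⟩, Or.inl rfl⟩,
      ⟨_, by simp, (Projectivization.mk_eq_mk_iff' F _ _ _ _).2 ⟨c, rfl⟩, Or.inr ⟨x, y, h x y ▸ rfl⟩⟩]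

theorem mem_Sz {g : SL(4, F)} : g ∈ Cfsg.Sz F m ↔ ∀ v, Ov θ v → Ov θ (g.1 *ᵥ v) := by
  rw [MulAction.mem_stabilizer_set' (Set.toFinite _)]
  refine ⟨fun h v hv => (mem_O hθ hθ' _).1 (h ((mem_O hθ hθ' hv.1).2 hv)), fun h p hp => ?_⟩
  induction p using Projectivization.ind with
  | h v hv => exact (mem_O hθ hθ' _).2 (h v ((mem_O hθ hθ' hv).1 hp))

theorem SS.mem {g : SL(4, F)} (h : SS θ g.1) : g ∈ Cfsg.Sz F m := (mem_Sz hθ hθ').2 fun _ => h.ov

theorem stab_inf {g : SL(4, F)} : g • suzukiPointInfinity F = suzukiPointInfinity F ↔ g 1 0 = 0 ∧ g 2 0 = 0 ∧ g 3 0 = 0 := by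
  rw [suzukiPointInfinity, Projectivization.smul_mk, Projectivization.mk_eq_mk_iff']
  have : g • ![1, 0, 0, 0] = fun i => g i 0 := by
    ext i; simp [Matrix.SpecialLinearGroup.smul_def, Matrix.mulVec, dotProduct, Fin.sum_univ_four]
  simp only [this]
  exact ⟨fun ⟨a, e⟩ => ⟨by simpa using (congrFun e 1).symm, by simpa using (congrFun e 2).symm,
    by simpa using (congrFun e 3).symm⟩, fun ⟨h1, h2, h3⟩ => ⟨g 0 0, by ext i; fin_cases i <;> simp [h1, h2, h3]⟩⟩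

theorem mem_B {k : F} (hk : k ≠ 0 ∧ k ≠ 1) {g : SL(4, F)} (hg : g ∈ Cfsg.Sz F m) (h1 : g 1 0 = 0) (h2 : g 2 0 = 0)
    (h3 : g 3 0 = 0) : ∃ a b t, g = mU θ a b * mH θ t := by
  have h4 := (mem_Sz hθ hθ').1 hg _ (ov_aff hθ 0 0)
  have h5 : g.1 *ᵥ ![fz θ 0 0, 0, 0, 1] = fun i => g i 3 := by
    ext i; simp [fz, Matrix.mulVec, dotProduct, Fin.sum_univ_four]
  obtain ⟨c, hc, e | ⟨a, b, e⟩⟩ := (h5 ▸ h4).cases
  · obtain ⟨h6, h7⟩ := row3 hθ ((mem_Sz hθ hθ').1 hg) h1 h2 h3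
    have := g.2
    rw [Matrix.det_eq_zero_of_row_eq_zero 3 fun j => by
      fin_cases j; exacts [h3, h6, h7, by simpa using congrFun e 3]] at this
    exact absurd this zero_ne_one
  have e0 := congrFun e 0
  have e1 := congrFun e 1
  have e2 := congrFun e 2
  have e3 := congrFun e 3
  simp at e0 e1 e2 e3
  have h6 : mU θ a b * mU θ a (b + θ a * a) = 1 := by rw [mU_mul hθ, ← mU_zero θ]; congr 1 <;> grind
  obtain ⟨t, ht⟩ := fix_two hθ hk ((mem_Sz hθ hθ').1 (mul_mem ((ss_mU hθ a (b + θ a * a)).mem hθ hθ') hg))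
    (by simp [Matrix.mul_apply, Fin.sum_univ_four, *]) (by simp [Matrix.mul_apply, Fin.sum_univ_four, *])
    (by simp [Matrix.mul_apply, Fin.sum_univ_four, *])
    (by simp [Matrix.mul_apply, Fin.sum_univ_four, fz, *]; grind)
    (by simp [Matrix.mul_apply, Fin.sum_univ_four, *]; grind) (by simp [Matrix.mul_apply, Fin.sum_univ_four, *]; grind)
  exact ⟨a, b, t, by rw [← ht, ← mul_assoc, h6, one_mul]⟩

/-- the unipotent subgroup -/
def UU : Subgroup (Cfsg.Sz F m) where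
  carrier := {g | ∃ a b, g.1 = mU θ a b}
  mul_mem' := by rintro x y ⟨a, b, h⟩ ⟨c, d, h'⟩; exact ⟨_, _, by rw [coe_mul, h, h', mU_mul hθ]⟩
  one_mem' := ⟨0, 0, (mU_zero θ).symm⟩
  inv_mem' := by
    rintro x ⟨a, b, h⟩
    exact ⟨a, b + θ a * a, by
      rw [coe_inv, h, inv_eq_iff_mul_eq_one, mU_mul hθ, ← mU_zero θ]; congr 1 <;> grind⟩

theorem card_UU : Nat.card (UU hθ (m := m)) = Nat.card F ^ 2 := by
  rw [sq, ← Nat.card_prod]
  refine (Nat.card_eq_of_bijective (fun p => ⟨⟨mU θ p.1 p.2, (ss_mU hθ _ _).mem hθ hθ'⟩, _, _, rfl⟩)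
    ⟨fun a b e => ?_, ?_⟩).symm
  · exact Prod.ext_iff.2 (mU_inj θ (congrArg (·.1.1) e))
  · rintro ⟨x, a, b, h⟩; exact ⟨(a, b), Subtype.ext (Subtype.ext h.symm)⟩

/-- the structure of the Suzuki group -/
def szk {k : F} (hk : k ≠ 0 ∧ k ≠ 1) : Szk (Cfsg.Sz F m) F where
  U := UU hθ
  h := MonoidHom.mk' (fun t => ⟨mH θ t, (ss_mH hθ t).mem hθ hθ'⟩) fun s t => Subtype.ext (mH_mul θ s t)
  n := ⟨mN F, ss_mN.mem hθ hθ'⟩
  h_inj s t e := Units.ext (congrArg (fun g => g.1.1 1 1) e)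
  conj := by
    rintro t u ⟨a, b, h⟩
    exact ⟨_, _, by simp only [coe_mul, coe_inv, h, MonoidHom.mk'_apply]; rw [mH_mU hθ, mul_inv_cancel_right]⟩
  bruhat g := by
    have h4 := (mem_Sz hθ hθ').1 g.2 _ ov_inf
    have h5 : g.1.1 *ᵥ ![1, 0, 0, 0] = fun i => g.1 i 0 := by
      ext i; simp [Matrix.mulVec, dotProduct, Fin.sum_univ_four]
    obtain ⟨c, hc, e | ⟨a, b, e⟩⟩ := (h5 ▸ h4).cases <;> have e0 := congrFun e 0 <;> have e1 := congrFun e 1 <;>
      have e2 := congrFun e 2 <;> have e3 := congrFun e 3 <;> simp at e0 e1 e2 e3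
    · obtain ⟨a, b, t, h⟩ := mem_B hθ hθ' hk g.2 e1 e2 e3
      exact Or.inl ⟨⟨_, (ss_mU hθ a b).mem hθ hθ'⟩, ⟨a, b, rfl⟩, t, Subtype.ext h⟩
    · have h6 : mU θ a b * mU θ a (b + θ a * a) = 1 := by rw [mU_mul hθ, ← mU_zero θ]; congr 1 <;> grind
      obtain ⟨a', b', t, h⟩ := mem_B hθ hθ' hk
        (mul_mem (ss_mN.mem hθ hθ') (mul_mem ((ss_mU hθ a (b + θ a * a)).mem hθ hθ') g.2))
        (by simp [Matrix.mul_apply, Matrix.vecMul, dotProduct, Fin.sum_univ_four, *]; grind)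
        (by simp [Matrix.mul_apply, Matrix.vecMul, dotProduct, Fin.sum_univ_four, *]; grind)
        (by simp [Matrix.mul_apply, Matrix.vecMul, dotProduct, Fin.sum_univ_four, fz, *]; grind)
      refine Or.inr ⟨⟨_, (ss_mU hθ a b).mem hθ hθ'⟩, ⟨a, b, rfl⟩, t⁻¹,
        ⟨_, (ss_mU hθ (a' / θ t) (b' / (t ^ 2 * θ t))).mem hθ hθ'⟩, ⟨_, _, rfl⟩, Subtype.ext ?_⟩
      change g.1 = mU θ a b * (mH θ t⁻¹ * mN F) * mU θ _ _
      rw [← mN_mH, mul_assoc, mul_assoc, mH_mU hθ, mul_div_cancel₀ _ (by simp), mul_div_cancel₀ _ (by simp), ← h,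
        ← mul_assoc (mN F), mN_sq, one_mul, ← mul_assoc, h6, one_mul]
  uniq0 t := by
    rintro ⟨a, b, h⟩; exact Units.ext (congrArg (fun g => g.1 1 1) h)
  uniq1 := by
    rintro u ⟨a, b, h⟩ v ⟨c, d, h'⟩ u' ⟨a', b', g⟩ v' ⟨c', d', g'⟩ t t' e
    have e1 := congrArg (fun g => g.1.1 1 0) e
    have e2 := congrArg (fun g => g.1.1 2 0) e
    have e3 := congrArg (fun g => g.1.1 3 0) e
    simp [h, h', g, g', Matrix.mul_apply, Fin.sum_univ_four] at e1 e2 e3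
    obtain rfl : u = u' := Subtype.ext (by simp_all)
    rw [mul_assoc, mul_assoc u, mul_right_inj] at e
    have e4 := congrArg (fun g => g.1.1 1 2) e
    simp [h', g', Matrix.mul_apply, Fin.sum_univ_four] at e4
    obtain rfl : t = t' := Units.ext e4
    exact ⟨rfl, rfl, mul_left_cancel e⟩
  disj := by
    rintro u ⟨a, b, h⟩ t e
    have := congrArg (fun g => g.1.1 3 0) e
    simp [h, Matrix.mul_apply, Fin.sum_univ_four] at this
  n_h t := mul_inv_eq_iff_eq_mul.2 (Subtype.ext (mN_mH θ t))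
  ρ := Matrix.SpecialLinearGroup.coeMonoidHom.comp (Subgroup.subtype _)
  ρ_inj := Subtype.val_injective.comp Subtype.val_injective
  card_U := card_UU hθ hθ'
  fpf := by
    rintro t ht u ⟨a, b, h⟩ e
    have e1 : mH θ t * mU θ a b = mU θ a b * mH θ t := h ▸ congrArg Subtype.val (mul_inv_eq_iff_eq_mul.1 e)
    rw [mH_mU hθ, mul_left_inj] at e1
    obtain ⟨e1, e2⟩ := mU_inj θ e1
    have h1 : θ t ≠ 1 := fun e => ht (Units.ext (θ.injective (by simpa using e)))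
    have h2 : t ^ 2 * θ t ≠ 1 := fun e => by
      have := congrArg θ e
      rw [map_mul, map_pow, hθ, map_one] at this
      have h3 : θ t * t = 1 := sub_eq_zero.1 (pow_eq_zero_iff two_ne_zero |>.1 (by grind))
      exact ht (Units.ext (by rw [← mul_one (t : F), ← h3, Units.val_one, ← e]; ring))
    exact Subtype.ext (by rw [h, show a = 0 by grind, show b = 0 by grind, mU_zero]; rfl)
  n_sq := Subtype.ext mN_sq

end Cfsg.Agent.Lie.Suz
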