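import Cfsg.Agent.Lie.Good
import Cfsg.Prelude.Def_ChevB2

set_option autoImplicit false
set_option maxRecDepth 100000

/-! Packed tables for type B2. -/

namespace Cfsg.Agent.Lie

open Cfsg.Lie

noncomputable section

def tabB2r0 : ℕ := 0x14400034a05fdb402160e0202bc040a8e0202da0e0e80080
def tabB2r1 : ℕ := 0x9c60bfcb8060c7a07e34c04126e0c0850002bb00e0324080
def tabB2r2 : ℕ := 0xbd00c1b7209e43c0001fe0c06ec02186208000801e9360c0
def tabB2r3 : ℕ := 0x566080bce0a12f602049a04031c08091403f40a0e04c40e0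
def tabB2r4 : ℕ := 0xab80007460403fe0c169e000b90020fe80e027a05ff9e000
def tabB2r5 : ℕ := 0x260c02440e23140a0bdc0dfe1a0c0a680e063406203c03f
def tabB2r6 : ℕ := 0xbd40c0c020a01c40fedae060fce0bf41c082ca8000ad0041
def tabB2r7 : ℕ := 0xa2e0605f80e066a0601ae0006e00209c20df4340a10f0060

/-- the tables for type B2 -/
def tabB2 : Tab where
  n := 8
  l := 2
  rows := [tabB2r0, tabB2r1, tabB2r2, tabB2r3, tabB2r4, tabB2r5, tabB2r6, tabB2r7]
  co := 0x5aef9dc6ea743f8182cb4d260e42608181653606e6c638808165d5c3deeb2581808aa8fcc4b60b7f803dcb20fbf45f807f779a4285c1a57f7f313f755ad24d7f7e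
  cr := 0x5758e5f205f2a98181e63d9361e13682814deb8530c4ea8081092dfe3cfe0b81809258d3d793cc7f80e0a35e957957807fa630212ca5f27e7f01968bf135d57f7f
  ca := 0xaef07d7081a7058082a1b96fa6889f81807642d75e3db47f828bf8825f846f827ed4978d9fa3737e829e3d9b10ab2d817ebe89ffc966327f80efe792846dfc807e
  len := 0xee8281818282818182
  ord := [14,1]
  cinv := 0x7c879fad21878d828185814706b5e68282
  det := 2
  pco := 0x9b204e8502c19c818088f44dc2479a818019208aca59ff8081d7b46380ff9081806c58a131af927f8029a2cc50fe76807fb74c1b2bf8f47f80718cae0045e37f80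
  pcor := 0x84931de047cee281801501b0eedf0f8081d8b2199c1cf780819c528bf865068180e24d83c4b45c7f804a9f3ca9b7d5807f0e543a0c105f807ff82fdb07d6877f80
  gam := [39,38]
  md := 50
  par := [0,0]
  dep := [0,1]
  spa := 0xfe0502010201000001
  spb := 0xc10407070707060504
  sim := [5,4]

end

end Cfsg.Agent.Lie
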