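import Cfsg.Agent.Lie.Good
import Cfsg.Prelude.Def_ChevG2

set_option autoImplicit false
set_option maxRecDepth 100000

/-! Packed tables for type G2. -/

namespace Cfsg.Agent.Lie

open Cfsg.Lie

noncomputable section

def tabG2r0 : ℕ := 0x5800a0d740bf5a407f514041eb61605300216820a09c0140bea02039a0205cc0e0106160
def tabG2r1 : ℕ := 0xb5c0dfa1e10040a09f52e1204420412f4020c4800100e140ec4080e3e100e0e040ba6080
def tabG2r2 : ℕ := 0x6fa11f8f40ffd800a079e082d4007ea7a040b42140f2202356c00311e060b0c08021e120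
def tabG2r3 : ℕ := 0x94612136c1001fa0e25480202fe0bdbd40818a0140e0e05ed220e0ed401d5aa0c0fd6000
def tabG2r4 : ℕ := 0x3520e007812136611eec60ddbba140fb0140286061f380a02fe04267403de18040fea0e0
def tabG2r5 : ℕ := 0x1821419d816014a00000a0e1a6c100c40020b8c1208e607f2e20807d60a049401f2ee040
def tabG2r6 : ℕ := 0x458120088161bfa1407a2000096101cf80409d0100002000b8409f10a0200ba0805b203f
def tabG2r7 : ℕ := 0x70a04010a0c00101435dc13e5620403fe11f51408099e1209960a370e062cb405fb18000
def tabG2r8 : ℕ := 0xd500209120a03f0163890080dd61226700002cc0ff9980c3ca60e0e0209e4b0080ee005f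
def tabG2r9 : ℕ := 0x4240e01c6120c580a0b2a17d77015dd081009e00607cc1021380fe6ba1605c00816ee061
def tabG2r10 : ℕ := 0xce0a05b216084414096a040a4002011a17fa8e02068613f5741408560e194414076e0a1
def tabG2r11 : ℕ := 0x810042008095c0c04b6140b0e020b1406046e15fc820a0e7a13fed2101c640c1fd4120

/-- the tables for type G2 -/
def tabG2 : Tab where
  n := 12
  l := 2
  rows := [tabG2r0, tabG2r1, tabG2r2, tabG2r3, tabG2r4, tabG2r5, tabG2r6, tabG2r7, tabG2r8, tabG2r9, tabG2r10, tabG2r11]
  co := 0x52e48f18ec72ed8283fd638ea9a6cf81830097fac6e5568182ee20fc6f710181817580bd99466380815c14eda108ff8180f72e542c51e67f80297b93696e54807f76dcb963dca07f7ff626faa2f2be7f7e03deb64e9c597f7d329f2dde4f9b7e7d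
  cr := 0xd72480b2e6b83f8281ab2e045f1bba818163f8af76c3b083827316df66fefa83812e27ba02c1a2808173e8ccac483f818072f3832bfd927f80013df82fc67a807fe734f59d39217d7fc3561d3a2ae67d7e0be770f90d717f7f8874e19fcbc97e7f
  ca := 0x71028178b0ca5c81808ccecf0b26037f8302673408242380819fe607736fbf817fadc127f7de827f82556189fc5524827d67c1f285ad1a7e83fdee0d7b01ce817ec3cb6c6d4aa07f81add86b8edccc807f22f9632870c2817d68982e8b24b17f80
  len := 0xe2838381818183838181818383
  ord := [14,1]
  cinv := 0xefb5283a1883f082810afca1409bb38382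
  det := 1
  pco := 0xf2a35d70ca33bb7f814e5e6a3845338180863cbf357f79818093f605367f0e8180b96d935693008081372430d84ae88180cb769791413e7f80cebc7fa2bde3807f671bbd85f4347f8006b435920b3c7f80a01783c8beec7f804db13dc717bc817f
  pcor := 0xc9bc89e10d51458081e20d3580bf8c81806d3350d1488f817f3724627813d280815ef51f4b01bb8081f5e4cfd5d4588180bff4499933c57f805e32068f8ebb807feea248e0aaeb807f89135fd8b4bc7f81b1c6a1f495f37f80aad8f1ab8b1e807f
  gam := [21,46]
  md := 50
  par := [0,0]
  dep := [0,1]
  spa := 0x80060503020201000100000001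
  spb := 0x930a0b0b0b0a0b0a0909080605
  sim := [7,6]

end

end Cfsg.Agent.Lie
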