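import Cfsg.Agent.Lie.CommF

set_option autoImplicit false
set_option linter.unusedSectionVars false
set_option linter.unusedSimpArgs false

/-! Diagonal automorphisms and the elements `n_r(t)`, `h_r(t)` in the matrix group. -/

namespace Cfsg.Agent.Lie

open Cfsg.Lie
open scoped Matrix MatrixGroups

variable {D : ChevalleyDatum} [G : Good D]

section char

variable {M : Type*} [CommGroup M]

/-- value of a character of the root lattice -/
def chv (χ : Ix D → M) (v : Ix D → ℤ) : M := ∏ j, χ j ^ v j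

omit G in
theorem chv_add (χ : Ix D → M) (v w : Ix D → ℤ) : chv χ (v + w) = chv χ v * chv χ w := by
  simp [chv, zpow_add, Finset.prod_mul_distrib]
omit G in
theorem chv_neg (χ : Ix D → M) (v : Ix D → ℤ) : chv χ (-v) = (chv χ v)⁻¹ := by simp [chv]
omit G in
theorem chv_sub (χ : Ix D → M) (v w : Ix D → ℤ) : chv χ (v - w) = chv χ v * (chv χ w)⁻¹ := by
  rw [sub_eq_add_neg, chv_add, chv_neg]
omit G in
theorem chv_smul (χ : Ix D → M) (a : ℤ) (v : Ix D → ℤ) : chv χ (a • v) = chv χ v ^ a := by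
  simp only [chv, ← Finset.prod_zpow, Pi.smul_apply, smul_eq_mul, ← zpow_mul, mul_comm]
omit G in
@[simp] theorem chv_zero (χ : Ix D → M) : chv χ 0 = 1 := by simp [chv]
omit G in
theorem chv_mul (χ ψ : Ix D → M) (v : Ix D → ℤ) : chv (χ * ψ) v = chv χ v * chv ψ v := by
  simp [chv, mul_zpow, Finset.prod_mul_distrib]
omit G in
@[simp] theorem chv_one (v : Ix D → ℤ) : chv (1 : Ix D → M) v = 1 := by simp [chv]
omit G in
theorem chv_inv (χ : Ix D → M) (v : Ix D → ℤ) : chv χ⁻¹ v = (chv χ v)⁻¹ := by simp [chv]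
theorem chv_sim (χ : Ix D → M) (i : Ix D) : chv χ (co (sim i)) = χ i := by
  rw [chv, Finset.prod_eq_single i] <;> simp +contextual [co_sim, Pi.single_eq_of_ne]
omit G in
theorem chv_pow (c : M) (a v : Ix D → ℤ) : chv (fun j => c ^ a j) v = c ^ (∑ j, a j * v j) := by
  simp only [chv, ← zpow_mul]
  classical
  induction (Finset.univ : Finset (Ix D)) using Finset.induction_on with
  | empty => simp
  | insert a s ha ih => rw [Finset.prod_insert ha, Finset.sum_insert ha, ih, zpow_add]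

/-- the character `s ↦ c ^ A r s` -/
def coch (r : Rt D) (c : M) : Ix D → M := fun j => c ^ A r (sim j)

theorem chv_coch (r : Rt D) (c : M) (v : Ix D → ℤ) : chv (coch r c) v = c ^ pr r v := by
  rw [show coch r c = fun j => c ^ A r (sim j) from rfl, chv_pow, pr]; simp only [mul_comm]

theorem chv_coch_co (r : Rt D) (c : M) (s : Rt D) : chv (coch r c) (co s) = c ^ A r s := by
  rw [chv_coch, A_eq_pr]

theorem coch_mul (r : Rt D) (c c' : M) : coch r (c * c') = coch r c * coch r c' := by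
  funext j; simp [coch, mul_zpow]

theorem coch_eq_prod (r : Rt D) (c : M) : coch r c = ∏ i, coch (sim i) (c ^ cr r i) := by
  funext j
  simp only [coch, Finset.prod_apply, ← zpow_mul, A_sim]
  exact (chv_pow c (cr r) fun i => ca i (sim j)).symm.trans (by simp only [chv, ← zpow_mul])

theorem exists_chv_eq (r : Rt D) (c : M) : ∃ χ : Ix D → M, chv χ (co r) = c := by
  obtain ⟨a, ha⟩ := prim_co r
  exact ⟨fun j => c ^ a j, by rw [chv_pow, ha, zpow_one]⟩

end char

variable {R : Type*} [CommRing R]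

/-- the diagonal matrix of a character -/
def dgM (χ : Ix D → Rˣ) : Matrix D.Idx D.Idx R :=
  Matrix.diagonal (Sum.elim (fun _ => 1) fun s => (chv χ (co s) : Rˣ))

theorem dgM_hE (χ : Ix D → Rˣ) (i : Ix D) : dgM χ *ᵥ hE R i = hE R i := by
  rw [dgM, diagonal_eB]; simp
theorem dgM_eE (χ : Ix D → Rˣ) (s : Rt D) : dgM χ *ᵥ eE R s = ((chv χ (co s) : Rˣ) : R) • eE R s := by
  rw [dgM, diagonal_eB]; simp
theorem dgM_hB (χ : Ix D → Rˣ) (s : Rt D) : dgM χ *ᵥ hB R s = hB R s := by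
  simp only [hB_eq, Matrix.mulVec_sum, Matrix.mulVec_smul, dgM_hE]

theorem dgM_mul (χ ψ : Ix D → Rˣ) : dgM (χ * ψ) = dgM χ * dgM ψ := by
  simp only [dgM, Matrix.diagonal_mul_diagonal]
  congr 1
  funext a
  rcases a with i | s <;> simp [chv_mul]

theorem dgM_one : dgM (1 : Ix D → Rˣ) = 1 := by
  rw [dgM, ← Matrix.diagonal_one]
  congr 1
  funext a
  rcases a with i | s <;> simp

theorem dgM_xR (χ : Ix D → Rˣ) (r : Rt D) (t : R) :
    dgM χ * xR R r t = xR R r ((chv χ (co r) : Rˣ) * t) * dgM χ := by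
  refine ext_eB fun b => ?_
  rw [← Matrix.mulVec_mulVec, ← Matrix.mulVec_mulVec]
  rcases b with i | s
  · simp only [xR_hE, dgM_hE, dgM_eE, Matrix.mulVec_sub, Matrix.mulVec_smul]
    module
  · by_cases h : s = ng r
    · subst h
      simp only [xR_eE_ng, dgM_hB, dgM_eE, Matrix.mulVec_sub, Matrix.mulVec_add, Matrix.mulVec_smul, co_ng,
        chv_neg]
      have := (chv χ (co r)).inv_mul
      match_scalars
      · ring
      · linear_combination (-t) * this
      · linear_combination (t ^ 2 * ((chv χ (co r) : Rˣ) : R)) * this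
    · simp only [xR_eE h, dgM_eE, Matrix.mulVec_add, Matrix.mulVec_smul, smul_add, smul_smul]
      congr 1
      congr 1
      congr 1
      · by_cases h0 : N r s = 0
        · simp [h0]
        · rw [add_co h0, chv_add]; congr 1; push_cast; ring
      · by_cases h0 : M2 r s = 0
        · simp [h0]
        · rw [co_add2 (M2_ne h0).1 (M2_ne h0).2, chv_add, chv_smul]; congr 1
          rw [zpow_ofNat]; push_cast; ring
      · by_cases h0 : M3 r s = 0
        · simp [h0]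
        · rw [co_add3 (M3_ne h0).1 (M3_ne h0).2.1 (M3_ne h0).2.2, chv_add, chv_smul]; congr 1
          rw [zpow_ofNat]; push_cast; ring

/-- the root elements in the general linear group -/
def xG (r : Rt D) (t : R) : GL D.Idx R := ⟨xR R r t, xR R r (-t), xR_mul_neg r t, xR_neg_mul r t⟩

@[simp] theorem coe_xG (r : Rt D) (t : R) : (xG r t : Matrix D.Idx D.Idx R) = xR R r t := rfl

theorem xG_add (r : Rt D) (t u : R) : xG r t * xG r u = xG r (t + u) := Units.ext (xR_add r t u)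

/-- the diagonal elements in the general linear group -/
def dg : (Ix D → Rˣ) →* GL D.Idx R where
  toFun χ := ⟨dgM χ, dgM χ⁻¹, by rw [← dgM_mul, mul_inv_cancel, dgM_one],
    by rw [← dgM_mul, inv_mul_cancel, dgM_one]⟩
  map_one' := Units.ext dgM_one
  map_mul' χ ψ := Units.ext (dgM_mul χ ψ)

@[simp] theorem coe_dg (χ : Ix D → Rˣ) : (dg χ : Matrix D.Idx D.Idx R) = dgM χ := rfl

theorem dg_inj : Function.Injective (dg : (Ix D → Rˣ) → GL D.Idx R) := by
  intro χ ψ h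
  funext i
  have : dgM χ (Sum.inr (sim i)) (Sum.inr (sim i)) = dgM ψ (Sum.inr (sim i)) (Sum.inr (sim i)) := by
    rw [← coe_dg, h, coe_dg]
  simpa [dgM, chv_sim, Units.val_inj] using this

theorem dg_conj (χ : Ix D → Rˣ) (r : Rt D) (t : R) :
    dg χ * xG r t * (dg χ)⁻¹ = xG r ((chv χ (co r) : Rˣ) * t) := by
  rw [mul_inv_eq_iff_eq_mul]; exact Units.ext (dgM_xR χ r t)

/-! ### the elements `n_r(t)` and `h_r(t)` -/

section nh

variable {Γ : Type*} [Group Γ]

/-- `n_r(t)` for a family of root elements -/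
def nX (x : Rt D → R → Γ) (r : Rt D) (t : Rˣ) : Γ := x r t * x (ng r) (-(t⁻¹ : Rˣ)) * x r t

/-- `h_r(t)` for a family of root elements -/
def hX (x : Rt D → R → Γ) (r : Rt D) (t : Rˣ) : Γ := nX x r t * nX x r (-1)

end nh

theorem xG_neg (r : Rt D) (t : R) : xG r (-t) = (xG r t)⁻¹ := Units.ext rfl

theorem nG_neg (r : Rt D) (t : Rˣ) : nX xG r (-t) = (nX xG r t)⁻¹ := by
  simp only [nX, mul_inv_rev, ← xG_neg, inv_neg, Units.val_neg, mul_assoc]

theorem xR_ng_eE (r : Rt D) (t : R) :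
    xR R (ng r) t *ᵥ eE R r = eE R r - t • hB R r - t ^ 2 • eE R (ng r) := by
  have := xR_eE_ng (ng r) t
  rw [ng_ng, hB_ng] at this
  rw [this]; module

omit G in
theorem cV_eR (r : Rt D) : cV R (eR r) = eE R r := cV_eV _
omit G in
theorem cV_eH (i : Ix D) : cV R (eH i) = hE R i := cV_eV _
theorem adR_hE_eE (i : Ix D) (s : Rt D) : adR R (hE R i) *ᵥ eE R s = (ca i s : R) • eE R s := by
  rw [← cV_eR, ← cV_eH, adR_cV, cM_mulVec, ← br_apply, br_he, cV_zsmul]
theorem adR_hB_eE (r s : Rt D) : adR R (hB R r) *ᵥ eE R s = (A r s : R) • eE R s := by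
  rw [hB, ← cV_eR, adR_cV, cM_mulVec, ← br_apply, br_hv_e, cV_zsmul]
theorem ER_eE_ng (r : Rt D) : ER R r *ᵥ eE R (ng r) = hB R r := by
  rw [ER, cM_eB, E_eR, if_pos rfl, hB]
theorem ER_eE {r s : Rt D} (h : s ≠ ng r) : ER R r *ᵥ eE R s = (N r s : R) • eE R (add r s) := by
  rw [ER, cM_eB, E_eR, if_neg h, cV_zsmul, cV_eV]
theorem ER_hE (r : Rt D) (i : Ix D) : ER R r *ᵥ hE R i = (- ca i r : R) • eE R r := by
  rw [ER, cM_eB, E_eH, cV_zsmul, cV_eV, Int.cast_neg]
theorem ER_int (r : Rt D) : ER ℤ r = E r := cM_int _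

theorem nG_hE (r : Rt D) (t : Rˣ) (i : Ix D) :
    (nX xG r t : GL D.Idx R).1 *ᵥ hE R i = hE R i - (ca i r : R) • hB R r := by
  simp only [nX, Units.val_mul, coe_xG, ← Matrix.mulVec_mulVec, xR_hE, Matrix.mulVec_sub,
    Matrix.mulVec_smul, Matrix.mulVec_add, xR_ng_eE, xR_eE_self, xR_eE_ng, hB_ng, Matrix.mulVec_neg, xR_hB, A_self,
    ca_ng]
  have := t.inv_mul
  match_scalars
  · ring
  · linear_combination (-(ca i r : R) * t * ((t⁻¹ : Rˣ) * t - 2)) * this
  · linear_combination ((ca i r : R) * (t⁻¹ : Rˣ)) * this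
  · linear_combination ((ca i r : R) * (t * (t⁻¹ : Rˣ) - 1)) * this

theorem nG_hB (r : Rt D) (t : Rˣ) (s : Rt D) :
    (nX xG r t : GL D.Idx R).1 *ᵥ hB R s = hB R ((rf r).1 s) := by
  rw [hB_eq s, hB_eq ((rf r).1 s), cr_rf]
  simp only [Matrix.mulVec_sum, Matrix.mulVec_smul, nG_hE, smul_sub, Finset.sum_sub_distrib, smul_smul,
    ← Finset.sum_smul, Pi.sub_apply, Pi.smul_apply, smul_eq_mul, Int.cast_sub, Int.cast_mul, sub_smul]
  congr 1
  rw [hB_eq, Finset.smul_sum]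
  simp only [smul_smul, A, Int.cast_sum, Int.cast_mul]

theorem nG_eE_self (r : Rt D) (t : Rˣ) :
    (nX xG r t : GL D.Idx R).1 *ᵥ eE R r = (- (t⁻¹ : Rˣ) ^ 2 : R) • eE R (ng r) := by
  simp only [nX, Units.val_mul, coe_xG, ← Matrix.mulVec_mulVec, Matrix.mulVec_sub,
    Matrix.mulVec_smul, Matrix.mulVec_add, xR_ng_eE, xR_eE_self, xR_eE_ng, hB_ng, Matrix.mulVec_neg, xR_hB, A_self]
  have := t.inv_mul
  match_scalars
  · linear_combination ((t⁻¹ : Rˣ) * t - 1) * this
  · linear_combination (- (t⁻¹ : Rˣ)) * this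
  · ring

theorem aut_nG (r : Rt D) (t : Rˣ) : Aut (nX xG r t : GL D.Idx R).1 :=
  ((aut_xR _ _).mul (aut_xR _ _)).mul (aut_xR _ _)

theorem eq_smul_of_weight {v : D.Idx → ℤ} {s : Rt D} (h : ∀ i, adR ℤ (hE ℤ i) *ᵥ v = ca i s • v) :
    v = v (Sum.inr s) • eE ℤ s := by
  funext a
  have e := fun i => congrFun (h i) a
  simp only [adR_eB, adb, cM_int, Hm, Matrix.mulVec_diagonal, Pi.smul_apply, smul_eq_mul] at e
  rcases a with j | u
  · obtain ⟨i, hi⟩ := exists_ca_ne_zero s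
    have := e i
    simp only [Sum.elim_inl, zero_mul, zero_eq_mul, hi, false_or] at this
    simp [this, eB]
  · by_cases hu : u = s
    · simp [hu, eB]
    · obtain ⟨i, hi⟩ : ∃ i, ca i u ≠ ca i s := by
        by_contra hc; push Not at hc; exact hu (ext_ca hc)
      have := e i
      simp only [Sum.elim_inr, mul_eq_mul_right_iff, hi, false_or] at this
      simp [this, eB, hu]

theorem ca_rf (i : Ix D) (r s : Rt D) : ca i ((rf r).1 s) = ca i s - A r s * ca i r := by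
  rw [← A_sim, A_rf_right, A_sim, A_sim]

theorem nZ_eR (r : Rt D) (t : ℤˣ) (s : Rt D) :
    ∃ c : ℤ, (nX xG r t : GL D.Idx ℤ).1 *ᵥ eE ℤ s = c • eE ℤ ((rf r).1 s) := by
  refine ⟨_, eq_smul_of_weight fun i => ?_⟩
  have h1 := aut_nG r t ((nX xG r (-t) : GL D.Idx ℤ).1 *ᵥ hE ℤ i)
  rw [Matrix.mulVec_mulVec, nG_neg, Units.mul_inv, Matrix.one_mulVec, ← nG_neg, nG_hE] at h1
  rw [Matrix.mulVec_mulVec, ← h1, ← Matrix.mulVec_mulVec, map_sub, map_smul]
  simp only [Matrix.sub_mulVec, Matrix.smul_mulVec, adR_hE_eE, adR_hB_eE, Matrix.mulVec_sub,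
    Matrix.mulVec_smul, ca_rf, Int.cast_id]
  module

/-- the signs `η_{r,s}` -/
noncomputable def eta (r s : Rt D) : ℤ := (nZ_eR r 1 s).choose

theorem nZ_eta (r s : Rt D) : (nX xG r 1 : GL D.Idx ℤ).1 *ᵥ eE ℤ s = eta r s • eE ℤ ((rf r).1 s) :=
  (nZ_eR r 1 s).choose_spec

omit G in
theorem smul_eB_inj {c c' : R} {a : D.Idx} (h : c • eB R a = c' • eB R a) : c = c' := by
  simpa [eB] using congrFun h a

theorem eta_sq (r s : Rt D) : eta r s * eta r s = 1 := by
  obtain ⟨c, hc⟩ := nZ_eR r (-1) ((rf r).1 s)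
  have h := congrArg ((nX xG r (-1) : GL D.Idx ℤ).1 *ᵥ ·) (nZ_eta r s)
  simp only [Matrix.mulVec_mulVec, Matrix.mulVec_smul, hc, rf_rf, smul_smul] at h
  rw [nG_neg, Units.inv_mul, Matrix.one_mulVec, ← one_smul ℤ (eE ℤ s), smul_smul, mul_one] at h
  rcases Int.eq_one_or_neg_one_of_mul_eq_one (smul_eB_inj h).symm with h | h <;> simp [h]

theorem eta_cases (r s : Rt D) : eta r s = 1 ∨ eta r s = -1 :=
  Int.eq_one_or_neg_one_of_mul_eq_one (eta_sq r s)

theorem eta_self (r : Rt D) : eta r r = -1 := by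
  have := nZ_eta r r
  rw [nG_eE_self, rf_self] at this
  simpa using (smul_eB_inj this).symm

theorem eta_ng (r s : Rt D) : eta r (ng s) = eta r s := by
  have h1 := congrArg (· *ᵥ eE ℤ (ng s)) (aut_nG r 1 (eE ℤ s))
  simp only [← Matrix.mulVec_mulVec, nZ_eta, map_smul, adR_eE, Matrix.smul_mulVec, Matrix.mulVec_smul,
    aut_ng (W_aut _), ER_eE_ng, smul_smul, nG_hB] at h1
  obtain ⟨a, ha⟩ := prim_cr ((rf r).1 s)
  have h2 : ∀ j, cr ((rf r).1 s) j = eta r (ng s) * eta r s * cr ((rf r).1 s) j := fun j => by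
    simpa [hB_inl] using congrFun h1 (Sum.inl j)
  have h3 : eta r (ng s) * eta r s = 1 := by
    rw [← ha]
    conv_rhs => enter [2, j]; rw [h2]
    simp only [mul_left_comm (a _), ← Finset.mul_sum, ha, mul_one]
  have := eta_sq r s
  linear_combination eta r s * h3 - eta r (ng s) * this

theorem map_nG {S : Type*} [CommRing S] (φ : R →+* S) (r : Rt D) (t : Rˣ) :
    φ.mapMatrix (nX xG r t : GL D.Idx R).1 = (nX xG r (Units.map φ.toMonoidHom t) : GL D.Idx S).1 := by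
  simp only [nX, Units.val_mul, map_mul, coe_xG, map_xR, map_neg]; rfl

theorem cM_nG (r : Rt D) : cM R (nX xG r 1 : GL D.Idx ℤ).1 = (nX xG r 1 : GL D.Idx R).1 := by
  rw [cM, map_nG, map_one]

theorem nG_one_eE (r s : Rt D) :
    (nX xG r 1 : GL D.Idx R).1 *ᵥ eE R s = (eta r s : R) • eE R ((rf r).1 s) := by
  rw [← cM_nG, cM_eB, ← eB_int, nZ_eta, cV_zsmul]; exact congrArg _ (cV_eV _)

theorem eta_sq' (r s : Rt D) : (eta r s : R) * eta r s = 1 := by
  rw [← Int.cast_mul, eta_sq, Int.cast_one]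

theorem nG_neg_one_eE (r s : Rt D) :
    (nX xG r (-1) : GL D.Idx R).1 *ᵥ eE R s = (eta r ((rf r).1 s) : R) • eE R ((rf r).1 s) := by
  have h := congrArg ((nX xG r (-1) : GL D.Idx R).1 *ᵥ ·) (nG_one_eE (R := R) r ((rf r).1 s))
  simp only [Matrix.mulVec_mulVec, Matrix.mulVec_smul, rf_rf] at h
  rw [nG_neg, Units.inv_mul, Matrix.one_mulVec, ← nG_neg] at h
  conv_rhs => enter [2]; rw [h]
  rw [smul_smul, eta_sq', one_smul]

theorem dg_conj_nG (χ : Ix D → Rˣ) (r : Rt D) (t : Rˣ) :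
    dg χ * nX xG r t * (dg χ)⁻¹ = nX xG r (chv χ (co r) * t) := by
  have := dg_conj χ (ng r) (-(t⁻¹ : Rˣ))
  rw [co_ng, chv_neg] at this
  simp only [nX, Units.val_mul, ← dg_conj, mul_inv_rev, mul_comm ((t⁻¹ : Rˣ) : R), ← mul_neg, ← this]
  group

theorem hG_eq (r : Rt D) (t : Rˣ) : hX xG r t = dg (coch r t) := by
  obtain ⟨χ, hχ⟩ := exists_chv_eq r t
  have := dg_conj_nG χ r 1
  rw [hχ, mul_one] at this
  rw [hX, ← this, ← map_inv]
  refine Units.ext (ext_eB fun b => ?_)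
  simp only [Units.val_mul, ← Matrix.mulVec_mulVec, coe_dg]
  rcases b with i | s
  · simp only [nG_hE, Matrix.mulVec_sub, Matrix.mulVec_smul, dgM_hE, dgM_hB, nG_hB, rf_self, hB_ng,
      Matrix.mulVec_neg]
    module
  · simp only [nG_neg_one_eE, nG_one_eE, Matrix.mulVec_smul, dgM_eE, rf_rf, smul_smul, chv_coch_co, co_rf,
      chv_inv, chv_sub, chv_smul, hχ]
    congr 1
    have := eta_sq' (R := R) r ((rf r).1 s)
    have h2 := (chv χ (co s)).inv_mul
    simp only [mul_inv_rev, inv_inv, Units.val_mul, inv_zpow]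
    linear_combination (((t ^ A r s : Rˣ) : R) * (((chv χ (co s))⁻¹ : Rˣ) : R) * ((chv χ (co s) : Rˣ) : R)) * this +
      ((t ^ A r s : Rˣ) : R) * h2

theorem eta_rf (r s : Rt D) : eta r s * eta r ((rf r).1 s) = (-1) ^ (A r s).natAbs := by
  have h := congrArg (fun g : GL D.Idx ℤ => g.1 *ᵥ eE ℤ s) (hG_eq r (-1))
  simp only [hX, Units.val_mul, ← Matrix.mulVec_mulVec, nG_neg_one_eE, Matrix.mulVec_smul, rf_rf, smul_smul,
    coe_dg, dgM_eE, chv_coch_co, Int.cast_id] at h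
  rw [mul_comm, smul_eB_inj h]
  rcases Int.even_or_odd (A r s) with h | h
  · rw [h.neg_one_zpow, (Int.natAbs_even.2 h).neg_one_pow]; rfl
  · rw [h.neg_one_zpow, (Int.natAbs_odd.2 h).neg_one_pow]; rfl

theorem conj_xR_of_int {P : Matrix D.Idx D.Idx ℤ} {r s : Rt D} {c : ℤ} (h : P * E r = c • E s * P) (t : R) :
    cM R P * xR R r t = xR R s (c * t) * cM R P := by
  have h2 : P * X2 r = c ^ 2 • X2 s * P := by
    apply zsmul_inj two_ne_zero
    rw [← mul_smul_comm, ← E_mul_E, ← mul_assoc, h, mul_assoc, h, ← smul_mul_assoc, smul_comm, ← E_mul_E]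
    simp only [smul_mul_assoc, mul_smul_comm, smul_smul, pow_two, mul_assoc]
  have h3 : P * X3 r = c ^ 3 • X3 s * P := by
    apply zsmul_inj (c := 3) (by norm_num)
    rw [← mul_smul_comm, ← E_mul_X2, ← mul_assoc, h, mul_assoc, h2, ← smul_mul_assoc, smul_comm, ← E_mul_X2]
    simp only [smul_mul_assoc, mul_smul_comm, smul_smul, mul_assoc, pow_succ c 2]
  simp only [xR, ER, mul_add, add_mul, mul_one, one_mul, mul_smul_comm, smul_mul_assoc, ← map_mul, h, h2, h3,
    cM_zsmul]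
  push_cast
  module

theorem nG_one_conj (r s : Rt D) (u : R) :
    nX xG r 1 * xG s u * (nX xG r 1)⁻¹ = xG ((rf r).1 s) (eta r s * u) := by
  rw [mul_inv_eq_iff_eq_mul]
  refine Units.ext ?_
  simp only [Units.val_mul, coe_xG]
  rw [← cM_nG]
  apply conj_xR_of_int
  have := aut_nG r (1 : ℤˣ) (eE ℤ s)
  rwa [nZ_eta, map_smul, adR_eE, adR_eE, ER_int, ER_int] at this

theorem nG_eq (r : Rt D) (t : Rˣ) : nX xG r t = hX xG r t * nX xG r 1 := by
  rw [hX, nG_neg]; simp

theorem nG_conj (r : Rt D) (t : Rˣ) (s : Rt D) (u : R) :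
    nX xG r t * xG s u * (nX xG r t)⁻¹ = xG ((rf r).1 s) ((eta r s : R) * (t ^ (- A r s) : Rˣ) * u) := by
  rw [nG_eq, hG_eq, mul_inv_rev]
  calc _ = dg (coch r t) * (nX xG r 1 * xG s u * (nX xG r 1)⁻¹) * (dg (coch r t))⁻¹ := by group
    _ = _ := by rw [nG_one_conj, dg_conj, chv_coch_co, A_rf_self]; congr 1; ring

end Cfsg.Agent.Lie
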