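import Cfsg.Agent.Lie.TwDataG2
import Cfsg.Agent.Lie.G2Rep
import Cfsg.Prelude.Def_LieTwisted

set_option autoImplicit false
set_option linter.unusedSectionVars false
set_option linter.unusedSimpArgs false
set_option maxRecDepth 100000

/-! The groups `²G₂(q)`. -/

namespace Cfsg.Agent.Lie

open Cfsg.Lie
open scoped Matrix MatrixGroups commutatorElement

/-- six one-parameter subgroups with the relations of the unipotent subgroup of `G₂` in characteristic three -/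
structure Six {Γ K : Type*} [Group Γ] [Field K] (A B C D E F : K → Γ) : Prop where
  aA : ∀ t u, A t * A u = A (t + u)
  aB : ∀ t u, B t * B u = B (t + u)
  aC : ∀ t u, C t * C u = C (t + u)
  aD : ∀ t u, D t * D u = D (t + u)
  aE : ∀ t u, E t * E u = E (t + u)
  aF : ∀ t u, F t * F u = F (t + u)
  BA : ∀ t u, B u * A t = A t * B u * C (t * u) * D (t ^ 2 * u) * E (-(t ^ 3 * u)) * F (-(t ^ 3 * u ^ 2))
  DC : ∀ t u, D u * C t = C t * D u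
  EC : ∀ t u, E u * C t = C t * E u
  FC : ∀ t u, F u * C t = C t * F u
  ED : ∀ t u, E u * D t = D t * E u
  FD : ∀ t u, F u * D t = D t * F u
  FE : ∀ t u, F u * E t = E t * F u
  inj : ∀ {t₁ t₂ t₃ t₄ t₅ t₆ u₁ u₂ u₃ u₄ u₅ u₆ : K}, A t₁ * B t₂ * C t₃ * D t₄ * E t₅ * F t₆ =
    A u₁ * B u₂ * C u₃ * D u₄ * E u₅ * F u₆ → t₁ = u₁ ∧ t₂ = u₂ ∧ t₃ = u₃ ∧ t₄ = u₄ ∧ t₅ = u₅ ∧ t₆ = u₆

theorem Six.fix {Γ K : Type*} [Group Γ] [Field K] [CharP K 3] {A B C D E F : K → Γ} (h : Six A B C D E F)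
    {σ : Γ →* Γ} {φ : K →+* K} (sA : ∀ t, σ (A t) = B (φ t ^ 3)) (sB : ∀ t, σ (B t) = A (φ t))
    (sC : ∀ t, σ (C t) = E (φ t ^ 3)) (sD : ∀ t, σ (D t) = F (φ t ^ 3)) (sE : ∀ t, σ (E t) = C (φ t))
    (sF : ∀ t, σ (F t) = D (φ t)) (hφ : ∀ t, φ (φ t) ^ 3 = t) (t₁ t₂ t₃ t₄ t₅ t₆ : K) :
    σ (A t₁ * B t₂ * C t₃ * D t₄ * E t₅ * F t₆) = A t₁ * B t₂ * C t₃ * D t₄ * E t₅ * F t₆ ↔
      t₁ = φ t₂ ∧ t₃ = φ t₂ * t₂ + φ t₅ ∧ t₄ = φ t₂ ^ 2 * t₂ + φ t₆ := by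
  have : Fact (Nat.Prime 3) := ⟨Nat.prime_three⟩
  have l : ∀ {X Y : K → Γ}, (∀ t u, Y u * X t = X t * Y u) → ∀ t u z, Y u * (X t * z) = X t * (Y u * z) :=
    fun h t u z => by rw [← mul_assoc, h, mul_assoc]
  have key : σ (A t₁ * B t₂ * C t₃ * D t₄ * E t₅ * F t₆) =
      A (φ t₂) * B (φ t₁ ^ 3) * C (φ t₂ * φ t₁ ^ 3 + φ t₅) * D (φ t₂ ^ 2 * φ t₁ ^ 3 + φ t₆) *
        E (-(φ t₂ ^ 3 * φ t₁ ^ 3) + φ t₃ ^ 3) * F (-(φ t₂ ^ 3 * (φ t₁ ^ 3) ^ 2) + φ t₄ ^ 3) := by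
    simp only [map_mul, sA, sB, sC, sD, sE, sF, h.BA]
    simp only [← h.aC, ← h.aD, ← h.aE, ← h.aF, mul_assoc, h.DC, h.EC, h.FC,
      h.ED, h.FD, h.FE, l h.DC, l h.EC, l h.FC, l h.ED, l h.FD, l h.FE]
  rw [key]
  constructor
  · intro e
    obtain ⟨e1, e2, e3, e4, -⟩ := h.inj e
    rw [e2] at e3 e4
    exact ⟨e1.symm, e3.symm, e4.symm⟩
  · rintro ⟨rfl, rfl, rfl⟩
    have h2 : (φ (φ t₂) ^ 2) ^ 3 = t₂ ^ 2 := by rw [← pow_mul, mul_comm, pow_mul, hφ]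
    simp only [hφ, map_pow, map_add, map_mul, add_pow_char, mul_pow, h2, mul_comm t₂, mul_comm (t₂ ^ 2),
      neg_add_cancel_left]

theorem carH_injG2 (M : Type*) [CommGroup M] : Function.Injective (carH (D := chevG2) M) :=
  carH_inj cartanIsG2 (P := [[0, -1], [1, 2]]) (P' := [[2, 1], [-1, 0]]) (Q := [[1, 2], [0, 1]])
    (Q' := [[1, -2], [0, 1]]) (by decide +kernel) _

namespace G2T

local notation "ι" k:max => (⟨k, by decide⟩ : Ix chevG2)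
local notation "𝐫" k:max => (⟨k, by decide⟩ : Rt chevG2)

variable {K : Type*} [Field K] [CharP K 3]

theorem three : ((3 : ℤ) : K) = 0 := cast_zero_of_dvd dvd_rfl

theorem inj6 {l : Fn chevG2} {a b c d e f : Rt chevG2} (hL : Srt l [a, b, c, d, e, f])
    {t₁ t₂ t₃ t₄ t₅ t₆ u₁ u₂ u₃ u₄ u₅ u₆ : K}
    (h : (xA a t₁ * xA b t₂ * xA c t₃ * xA d t₄ * xA e t₅ * xA f t₆ : chevG2.group K) =
      xA a u₁ * xA b u₂ * xA c u₃ * xA d u₄ * xA e u₅ * xA f u₆) :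
    t₁ = u₁ ∧ t₂ = u₂ ∧ t₃ = u₃ ∧ t₄ = u₄ ∧ t₅ = u₅ ∧ t₆ = u₆ := by
  simpa using sys_xA.wd_inj (w := [(a, t₁), (b, t₂), (c, t₃), (d, t₄), (e, t₅), (f, t₆)])
    (w' := [(a, u₁), (b, u₂), (c, u₃), (d, u₄), (e, u₅), (f, u₆)]) hL rfl (by simpa [wd, mul_assoc] using h)

theorem cm {a b : Rt chevG2} (h : CommOK 3 a b) (t u : K) :
    (xA b u * xA a t : chevG2.group K) = xA a t * xA b u := (sys_xA.commute_of_OK three h t u).eq.symm

theorem sixP : Six (K := K) (xA (𝐫 7)) (xA (𝐫 6)) (xA (𝐫 8)) (xA (𝐫 9)) (xA (𝐫 10)) (xA (𝐫 11)) := by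
  refine ⟨sys_xA.x_add _, sys_xA.x_add _, sys_xA.x_add _, sys_xA.x_add _, sys_xA.x_add _, sys_xA.x_add _,
    fun t u => ?_, cm (by decide +kernel), cm (by decide +kernel), cm (by decide +kernel), cm (by decide +kernel),
    cm (by decide +kernel), cm (by decide +kernel), inj6 srtPOG2_0⟩
  rw [sys_xA.rel.comm _ _ (by decide) (by decide), show cT (𝐫 7) (𝐫 6) =
    [(𝐫 8, -1, 1, 1), (𝐫 9, 1, 2, 1), (𝐫 10, 1, 3, 1), (𝐫 11, 1, 3, 2)] by decide +kernel]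
  simp [mul_assoc, Odd.neg_pow (by decide : Odd 3)]

theorem sixN : Six (K := K) (fun t => xA (𝐫 4) (-t)) (fun t => xA (𝐫 5) (-t)) (fun t => xA (𝐫 3) (-t))
    (fun t => xA (𝐫 2) (-t)) (fun t => xA (𝐫 1) (-t)) (fun t => xA (𝐫 0) (-t)) := by
  have h : ∀ (r : Rt chevG2) (t u : K), xA r (-t) * xA r (-u) = xA r (-(t + u)) := fun r t u => by
    rw [sys_xA.x_add, neg_add]
  refine ⟨h _, h _, h _, h _, h _, h _, fun t u => ?_, fun _ _ => cm (by decide +kernel) _ _,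
    fun _ _ => cm (by decide +kernel) _ _, fun _ _ => cm (by decide +kernel) _ _,
    fun _ _ => cm (by decide +kernel) _ _, fun _ _ => cm (by decide +kernel) _ _,
    fun _ _ => cm (by decide +kernel) _ _, fun h => by simpa using inj6 srtNOG2_0 h⟩
  rw [sys_xA.rel.comm _ _ (by decide) (by decide), show cT (𝐫 4) (𝐫 5) =
    [(𝐫 3, 1, 1, 1), (𝐫 2, 1, 2, 1), (𝐫 1, -1, 3, 1), (𝐫 0, 1, 3, 2)] by decide +kernel]
  simp [mul_assoc]

/-- the fixed elements of `U` -/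
noncomputable def uR (φ : K →+* K) (t u v : K) : chevG2.group K :=
  xA (𝐫 7) (φ t) * xA (𝐫 6) t * xA (𝐫 8) (φ t * t + φ u) * xA (𝐫 9) (φ t ^ 2 * t + φ v) * xA (𝐫 10) u * xA (𝐫 11) v

/-- the fixed elements of `V` -/
noncomputable def vR (φ : K →+* K) (t u v : K) : chevG2.group K :=
  xA (𝐫 4) (-φ t) * xA (𝐫 5) (-t) * xA (𝐫 3) (-(φ t * t + φ u)) * xA (𝐫 2) (-(φ t ^ 2 * t + φ v)) *
    xA (𝐫 1) (-u) * xA (𝐫 0) (-v)

/-- parameters of the fixed elements of `H` -/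
def cR (φ : K →+* K) : Kˣ →* (Ix chevG2 → Kˣ) where
  toFun k := ![Units.map φ.toMonoidHom k, k]
  map_one' := funext fun i => by fin_cases i; exacts [map_one (Units.map φ.toMonoidHom), rfl]
  map_mul' a b := funext fun i => by fin_cases i; exacts [map_mul (Units.map φ.toMonoidHom) a b, rfl]

/-- the fixed elements of `H` -/
noncomputable def hR (φ : K →+* K) : Kˣ →* chevG2.group K := sys_xA.hP.comp (cR φ)

variable (φ : K →+* K)

theorem uR_inj {t u v t' u' v' : K} (h : uR φ t u v = uR φ t' u' v') : t = t' ∧ u = u' ∧ v = v' :=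
  let ⟨_, h1, _, _, h2⟩ := sixP.inj h; ⟨h1, h2⟩

theorem uR_zero : uR φ 0 0 0 = 1 := by simp [uR, sys_xA.x_zero]
theorem vR_zero : vR φ 0 0 0 = 1 := by simp [vR, sys_xA.x_zero]

theorem hR_apply (k : Kˣ) : hR φ k = sys_xA.hP (cR φ k) := rfl

theorem hR_inj : Function.Injective (hR φ) := fun a b e => by
  rw [hR_apply, hR_apply] at e
  exact congrFun (sys_xA.hP_inj_of_carH (carH_injG2 _) e) (ι 1)

theorem hR_mem_H (k : Kˣ) : hR φ k ∈ HX xA := sys_xA.range_hP.le ⟨cR φ k, rfl⟩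

theorem chv_hR (k : Kˣ) (r : Rt chevG2) :
    chv (carH Kˣ (cR φ k)) (co r) = Units.map φ.toMonoidHom k ^ ca (ι 0) r * k ^ ca (ι 1) r :=
  (chv_carH _ _).trans (Fin.prod_univ_two _)

theorem θ_hR (k : Kˣ) : (hR φ k : GL _ K) = dg (carH Kˣ (cR φ k)) := sys_xA.θ_hP (cR φ k)

theorem ρ7_hR (k : Kˣ) : ρ7 (hR φ k) =
    Matrix.diagonal ![φ k, k / φ k, φ k ^ 2 / k, 1, k / φ k ^ 2, φ k / k, (φ k)⁻¹] := by
  have h1 : ∀ a : Fin 7, a ≠ 3 → ∃ r : Rt chevG2, wt7 a = co r ∧ ca (ι 0) r = [1, -1, 2, 0, -2, 1, -1].getD a 0 ∧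
    ca (ι 1) r = [0, 1, -1, 0, 1, -1, 0].getD a 0 := by decide +kernel
  rw [ρ7_dg (θ_hR φ k)]
  congr 1
  funext a
  by_cases ha : a = 3
  · rw [ha, show wt7 3 = 0 by decide +kernel]; simp
  · obtain ⟨r, e, e0, e1⟩ := h1 a ha
    rw [e, chv_hR, e0, e1]
    fin_cases a <;> simp [div_eq_mul_inv, mul_comm] at ha ⊢

theorem hR_conj (k : Kˣ) (r : Rt chevG2) (t : K) :
    hR φ k * xA r t * (hR φ k)⁻¹ = xA r (φ k ^ ca (ι 0) r * k ^ ca (ι 1) r * t) := by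
  rw [sys_xA.h_conj (hR_mem_H φ k) (θ_hR φ k), chv_hR]; simp

/-- generators over the prime field -/
def gW (p : Bool × ℤ × ℤ × ℤ) : List (Rt chevG2 × ℤ) :=
  ([(𝐫 7, p.2.1), (𝐫 6, p.2.1), (𝐫 8, p.2.1 * p.2.1 + p.2.2.1), (𝐫 9, p.2.1 ^ 2 * p.2.1 + p.2.2.2),
    (𝐫 10, p.2.2.1), (𝐫 11, p.2.2.2)] : List (Rt chevG2 × ℤ)).map fun c => if p.1 then c else (ng c.1, -c.2)

/-- words in the generators over the prime field -/
noncomputable def gR (K : Type*) [Field K] (L : List (Bool × ℤ × ℤ × ℤ)) : chevG2.group K :=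
  ((L.flatMap gW).map fun p => xA p.1 (p.2 : K)).prod

/-- the matrices of these words -/
def g7 (L : List (Bool × ℤ × ℤ × ℤ)) : List (List ℤ) := ev7 ((L.flatMap gW).map fun p => (p.1.1, p.2))

theorem ρ7_gR (L : List (Bool × ℤ × ℤ × ℤ)) : ρ7 (gR K L) = toM K (g7 L) := ρ7_wd _

omit [CharP K 3] in
theorem gR_append (L L' : List (Bool × ℤ × ℤ × ℤ)) : gR K (L ++ L') = gR K L * gR K L' := by simp [gR]

theorem gR_eq {L L' : List (Bool × ℤ × ℤ × ℤ)} (h : g7 L = g7 L') : gR K L = gR K L' :=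
  ρ7_inj (by rw [ρ7_gR, ρ7_gR, h])

theorem gR_true (t u v : ℤ) : gR K [(true, t, u, v)] = uR φ t u v := by simp [gR, gW, uR, mul_assoc]

theorem gR_false (t u v : ℤ) : gR K [(false, t, u, v)] = vR φ t u v := by
  simp only [gR, gW, vR, List.flatMap_cons, List.flatMap_nil, List.append_nil, List.map_cons, List.map_nil,
    List.prod_cons, List.prod_nil, mul_one, mul_assoc, Bool.false_eq_true, if_false, Int.cast_neg, Int.cast_add,
    Int.cast_mul, Int.cast_pow, map_intCast]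
  rfl

/-- a word for the involution of the torus -/
def wA : List (Bool × ℤ × ℤ × ℤ) := [(true, -1, -1, -1), (false, -1, -1, -1), (true, 0, 1, -1), (false, 1, 1, 1)]

theorem hR_neg_one : hR φ (-1) = gR K wA := by
  apply ρ7_inj
  rw [ρ7_hR, ρ7_gR, show g7 wA = [[2, 0, 0, 0, 0, 0, 0], [0, 1, 0, 0, 0, 0, 0], [0, 0, 2, 0, 0, 0, 0],
    [0, 0, 0, 1, 0, 0, 0], [0, 0, 0, 0, 2, 0, 0], [0, 0, 0, 0, 0, 1, 0], [0, 0, 0, 0, 0, 0, 2]] by decide +kernel]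
  have h2 : (-1 : K) = 2 := by linear_combination -three (K := K)
  ext i j
  fin_cases i <;> fin_cases j <;> simp [toM, mL, ← h2]

variable {φ} [Fintype K] {m : ℕ} (hK : Fintype.card K = 3 ^ (2 * m + 1))
  (hφ : ∀ t, φ t = t ^ 3 ^ m) {σ : chevG2.group K →* chevG2.group K} (hT : Tw xA σ embG2 φ embG20)

include hK hφ in
theorem φφ (t : K) : φ (φ t) ^ 3 = t := by
  rw [hφ, hφ, ← pow_mul, ← pow_mul, ← pow_succ, ← pow_add, show m + (m + 1) = 2 * m + 1 by omega, ← hK,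
    FiniteField.pow_card]

include hT

theorem mp3 {r s : Rt chevG2} (h : embG2.ρ r = s ∧ embG2.lam r = 3) (t : K) :
    σ (xA r t) = xA s (φ t ^ 3) := by
  rw [hT.map, h.1, Emb.f, h.2]; simp [embG2]

theorem mp1 {r s : Rt chevG2} (h : embG2.ρ r = s ∧ embG2.lam r = 1) (t : K) : σ (xA r t) = xA s (φ t) := by
  rw [hT.map, h.1, Emb.f, h.2]; simp [embG2]

theorem mn3 {r s : Rt chevG2} (h : embG2.ρ r = s ∧ embG2.lam r = 3) (t : K) :
    σ (xA r (-t)) = xA s (-φ t ^ 3) := by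
  rw [mp3 hT h, map_neg, Odd.neg_pow (by decide)]

theorem mn1 {r s : Rt chevG2} (h : embG2.ρ r = s ∧ embG2.lam r = 1) (t : K) : σ (xA r (-t)) = xA s (-φ t) := by
  rw [mp1 hT h, map_neg]

include hK hφ

theorem fP (g) : g ∈ XS xA (PO embG20 (ι 0)) ∧ σ g = g ↔ ∃ p : K × K × K, g = uR φ p.1 p.2.1 p.2.2 := by
  have h := sixP.fix (mp3 hT (by decide +kernel)) (mp1 hT (by decide +kernel)) (mp3 hT (by decide +kernel))
    (mp3 hT (by decide +kernel)) (mp1 hT (by decide +kernel)) (mp1 hT (by decide +kernel)) (φφ hK hφ)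
  constructor
  · rintro ⟨hg, e⟩
    obtain ⟨t, rfl⟩ := sys_xA.exists_wd srtPOG2_0 (closed_PO _ _) POG2_0 hg
    simp only [List.map_cons, List.map_nil, List.prod_cons, List.prod_nil, mul_one, ← mul_assoc, h] at e ⊢
    exact ⟨(t (𝐫 6), t (𝐫 10), t (𝐫 11)), by rw [e.1, e.2.1, e.2.2]; rfl⟩
  · rintro ⟨p, rfl⟩
    have hx : ∀ r ∈ [𝐫 7, 𝐫 6, 𝐫 8, 𝐫 9, 𝐫 10, 𝐫 11], ∀ t : K, xA r t ∈ XS xA (PO embG20 (ι 0)) :=
      fun r hr t => mem_XS ((POG2_0 r).2 hr) t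
    exact ⟨mul_mem (mul_mem (mul_mem (mul_mem (mul_mem (hx _ (by simp) _) (hx _ (by simp) _)) (hx _ (by simp) _))
      (hx _ (by simp) _)) (hx _ (by simp) _)) (hx _ (by simp) _), (h _ _ _ _ _ _).2 ⟨rfl, rfl, rfl⟩⟩

theorem fN (g) : g ∈ XS xA (NO embG20 (ι 0)) ∧ σ g = g ↔ ∃ p : K × K × K, g = vR φ p.1 p.2.1 p.2.2 := by
  have h := sixN.fix (mn3 hT (by decide +kernel)) (mn1 hT (by decide +kernel)) (mn3 hT (by decide +kernel))
    (mn3 hT (by decide +kernel)) (mn1 hT (by decide +kernel)) (mn1 hT (by decide +kernel)) (φφ hK hφ)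
  constructor
  · rintro ⟨hg, e⟩
    obtain ⟨t', rfl⟩ := sys_xA.exists_wd srtNOG2_0 (closed_NO _ _) NOG2_0 hg
    obtain ⟨t, rfl⟩ : ∃ t : Rt chevG2 → K, t' = fun r => - t r := ⟨-t', by simp⟩
    simp only [List.map_cons, List.map_nil, List.prod_cons, List.prod_nil, mul_one, ← mul_assoc, h] at e ⊢
    exact ⟨(t (𝐫 5), t (𝐫 1), t (𝐫 0)), by rw [e.1, e.2.1, e.2.2]; rfl⟩
  · rintro ⟨p, rfl⟩
    have hx : ∀ r ∈ [𝐫 4, 𝐫 5, 𝐫 3, 𝐫 2, 𝐫 1, 𝐫 0], ∀ t : K, xA r t ∈ XS xA (NO embG20 (ι 0)) :=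
      fun r hr t => mem_XS ((NOG2_0 r).2 hr) t
    exact ⟨mul_mem (mul_mem (mul_mem (mul_mem (mul_mem (hx _ (by simp) _) (hx _ (by simp) _)) (hx _ (by simp) _))
      (hx _ (by simp) _)) (hx _ (by simp) _)) (hx _ (by simp) _), (h _ _ _ _ _ _).2 ⟨rfl, rfl, rfl⟩⟩

theorem uR_mem (t u v : K) : uR φ t u v ∈ G1 xA σ embG20 :=
  ((fP hK hφ hT _).2 ⟨(t, u, v), rfl⟩).elim mem_G1_pos
theorem vR_mem (t u v : K) : vR φ t u v ∈ G1 xA σ embG20 :=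
  ((fN hK hφ hT _).2 ⟨(t, u, v), rfl⟩).elim mem_G1_neg

theorem gR_mem (L : List (Bool × ℤ × ℤ × ℤ)) : gR K L ∈ G1 xA σ embG20 := by
  induction L with
  | nil => exact one_mem _
  | cons p L ih =>
    rw [← List.singleton_append, gR_append]
    obtain ⟨_ | _, t, u, v⟩ := p
    · rw [gR_false φ]; exact mul_mem (vR_mem hK hφ hT _ _ _) ih
    · rw [gR_true φ]; exact mul_mem (uR_mem hK hφ hT _ _ _) ih

omit hT hK in
theorem coe_uR (t u v : K) : (uR φ t u v : GL _ K).1 = chevG2.wordMat K (reeWordU (3 ^ m) t u v) := by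
  have := coe_wd [(𝐫 7, φ t), (𝐫 6, t), (𝐫 8, φ t * t + φ u), (𝐫 9, φ t ^ 2 * t + φ v), (𝐫 10, u), (𝐫 11, v)]
  simp only [wd, List.map_cons, List.map_nil, List.prod_cons, List.prod_nil, mul_one, ← mul_assoc] at this
  rw [uR, this, hφ, hφ, hφ, ← pow_succ, ← pow_mul, ← pow_succ, mul_comm]; rfl

omit hT hK in
theorem coe_vR (t u v : K) : (vR φ t u v : GL _ K).1 = chevG2.wordMat K (reeWordV (3 ^ m) t u v) := by
  have := coe_wd [(𝐫 4, -φ t), (𝐫 5, -t), (𝐫 3, -(φ t * t + φ u)), (𝐫 2, -(φ t ^ 2 * t + φ v)), (𝐫 1, -u),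
    (𝐫 0, -v)]
  simp only [wd, List.map_cons, List.map_nil, List.prod_cons, List.prod_nil, mul_one, ← mul_assoc] at this
  rw [vR, this, hφ, hφ, hφ, ← pow_succ, ← pow_mul, ← pow_succ, mul_comm]; rfl

omit hK hφ hT in
theorem orb0 (i : Ix chevG2) : i ∈ orb embG20 (ι 0) := by
  obtain ⟨k, hk⟩ := repG2_orb i
  fin_cases k; exact hk

theorem isTw (hσ : Function.Injective σ) : IsTw (twistedG2 K (3 ^ m)) σ hT.ok.perm embG20 := by
  refine ⟨hT.fold hσ fun i => ?_, genSubgroup_eq ?_ fun g i hg h => ?_⟩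
  · rw [NO_eq (orb0 i)]
    obtain ⟨h1, h2⟩ := (fN hK hφ hT _).2 ⟨(1, 0, 0), rfl⟩
    exact ⟨_, h1, h2, fun e => one_ne_zero (sixN.inj (e.trans (vR_zero φ).symm)).2.1⟩
  · rintro w ⟨t, u, v, rfl | rfl⟩
    exacts [⟨_, uR_mem hK hφ hT t u v, coe_uR hφ _ _ _⟩, ⟨_, vR_mem hK hφ hT t u v, coe_vR hφ _ _ _⟩]
  · rw [PO_eq (orb0 i), NO_eq (orb0 i)] at h
    rcases h with h | h
    · obtain ⟨t, rfl⟩ := (fP hK hφ hT _).1 ⟨h, hg⟩
      exact ⟨_, ⟨_, _, _, Or.inl rfl⟩, coe_uR hφ _ _ _⟩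
    · obtain ⟨t, rfl⟩ := (fN hK hφ hT _).1 ⟨h, hg⟩
      exact ⟨_, ⟨_, _, _, Or.inr rfl⟩, coe_vR hφ _ _ _⟩

omit hK hφ hT in
theorem PO_eq_pos (i : Ix chevG2) : PO embG20 i = {r | Pos r} := by
  rw [PO_eq (orb0 i)]
  ext r; rw [POG2_0]; revert r; simp only [Set.mem_setOf_eq]; decide +kernel

omit hK hφ hT in
theorem NO_eq_neg (i : Ix chevG2) : NO embG20 i = {r | ¬ Pos r} := by
  rw [NO_eq (orb0 i)]
  ext r; rw [NOG2_0]; revert r; simp only [Set.mem_setOf_eq]; decide +kernel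

theorem mem_U1 {g : chevG2.group K} : g ∈ UX xA ⊓ G1 xA σ embG20 ↔ ∃ t u v, g = uR φ t u v := by
  rw [UX, ← PO_eq_pos (ι 0)]
  refine ⟨fun h => ?_, ?_⟩
  · obtain ⟨p, e⟩ := (fP hK hφ hT _).1 ⟨h.1, G1_le_fix h.2⟩
    exact ⟨_, _, _, e⟩
  · rintro ⟨t, u, v, rfl⟩
    exact ⟨((fP hK hφ hT _).2 ⟨(t, u, v), rfl⟩).1, uR_mem hK hφ hT t u v⟩

theorem card_PO (i : Ix chevG2) :
    Nat.card (XS xA (PO embG20 i) ⊓ G1 xA σ embG20 : Subgroup _) = (3 ^ (2 * m + 1)) ^ exG2 i := by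
  rw [PO_eq (orb0 i), card_inf_G1 _ (fun a b e => ?_) (fP hK hφ hT), Nat.card_prod, Nat.card_prod,
    Nat.card_eq_fintype_card, hK, show exG2 i = 3 by revert i; decide]
  · ring
  · obtain ⟨e1, e2, e3⟩ := uR_inj φ e
    exact Prod.ext e1 (Prod.ext e2 e3)

theorem card_U : Nat.card (UX xA ⊓ G1 xA σ embG20 : Subgroup _) = (3 ^ (2 * m + 1)) ^ 3 := by
  rw [UX, ← PO_eq_pos (ι 0), card_PO hK hφ hT]; rfl

theorem core (hσ : Function.Injective σ) : ((BX xA).subgroupOf (G1 xA σ embG20)).normalCore = ⊥ := by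
  refine (isTw hK hφ hT hσ).fold.core_eq_bot sys_xA Subtype.val_injective fun i => ?_
  have h : ∀ (i : Ix chevG2) (r : Rt chevG2), Pos r ∧ r ≠ sim i → ∀ t : K, xA r t ∈ XS xA {r | Pos r ∧ r ≠ sim i} :=
    fun i j h t => mem_XS (S := {r | Pos r ∧ r ≠ sim i}) h t
  have h1 := uR_mem hK hφ hT 1 0 0
  simp only [uR, map_one, map_zero, sys_xA.x_zero, mul_one, one_pow, add_zero] at h1
  fin_cases i
  · refine ⟨1, one_ne_zero, _, mul_mem (mul_mem (h _ (𝐫 6) (by decide +kernel) 1)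
      (h _ (𝐫 8) (by decide +kernel) 1)) (h _ (𝐫 9) (by decide +kernel) 1), ?_⟩
    rw [← mul_assoc, ← mul_assoc]; exact h1
  · refine Fold.hsim_of sys_xA one_ne_zero (h _ (𝐫 7) (by decide +kernel) 1)
      (mul_mem (h _ (𝐫 8) (by decide +kernel) 1) (h _ (𝐫 9) (by decide +kernel) 1)) ?_
    rw [← mul_assoc]; exact h1

omit hT in
theorem mem_fixT {c : Ix chevG2 → Kˣ} :
    c ∈ embG2.fixT φ embG20 ↔ ∃ k, c = cR φ k := by
  have hl : ∀ i : Ix chevG2, embG2.lam (sim i) = [3, 1].getD i 0 := by decide +kernel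
  rw [Emb.mem_fixT]
  simp only [hl]
  refine ⟨fun h => ⟨c (ι 1), funext fun i => ?_⟩, ?_⟩
  · fin_cases i
    exacts [Units.ext ((h (ι 1)).trans (pow_one _)), rfl]
  · rintro ⟨k, rfl⟩ i
    fin_cases i
    exacts [(φφ hK hφ _).symm, (pow_one _).symm]

omit hT hφ in
theorem exists_sq (k : Kˣ) : ∃ c : Kˣ, k = c * c ∨ k = -(c * c) := by
  obtain ⟨j, hj⟩ : 4 ∣ 3 ^ (2 * m + 1) + 1 := by
    simpa using Odd.nat_add_dvd_pow_add_pow 3 1 (n := 2 * m + 1) (by simp)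
  refine ⟨k ^ j, ?_⟩
  have : (k : K) ^ 2 = ((k : K) ^ j * k ^ j) ^ 2 := by
    rw [← pow_add, ← pow_mul, show (j + j) * 2 = 4 * j by ring, ← hj, ← hK, pow_succ _ (Fintype.card K),
      FiniteField.pow_card, sq]
  simpa [Units.ext_iff] using sq_eq_sq_iff_eq_or_eq_neg.1 this

theorem hR_mem (hσ : Function.Injective σ) (k : Kˣ) : hR φ k ∈ G1 xA σ embG20 := by
  obtain ⟨w, hw⟩ := exists_negG2
  have h : ∀ c, hR φ (c * c) ∈ G1 xA σ embG20 := fun c => by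
    rw [map_mul]
    refine (isTw hK hφ hT hσ).fold.sq_mem sys_xA Subtype.val_injective hw (fun r => (hT.ok.one r).1)
      (hR_mem_H φ c) ?_
    rw [hR_apply]
    exact hT.fix_hP sys_xA ((mem_fixT hK hφ).2 ⟨c, rfl⟩)
  obtain ⟨c, rfl | rfl⟩ := exists_sq hK k
  · exact h c
  · rw [← neg_one_mul, map_mul, hR_neg_one]
    exact mul_mem (gR_mem hK hφ hT _) (h c)

theorem H1_eq (hσ : Function.Injective σ) : HX xA ⊓ G1 xA σ embG20 = (hR φ).range := by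
  rw [hT.H_inf_G1 (sys_xS.hP_inj_of_carH (carH_injG2 _)) fun c hc => ?_]
  · ext g
    simp only [Subgroup.mem_map, mem_fixT hK hφ, MonoidHom.mem_range, hR_apply]
    exact ⟨by rintro ⟨_, ⟨k, rfl⟩, e⟩; exact ⟨k, e⟩, by rintro ⟨k, e⟩; exact ⟨_, ⟨k, rfl⟩, e⟩⟩
  · obtain ⟨k, rfl⟩ := (mem_fixT hK hφ).1 hc
    rw [← hR_apply]; exact hR_mem hK hφ hT hσ k

theorem card_H (hσ : Function.Injective σ) :
    Nat.card (HX xA ⊓ G1 xA σ embG20 : Subgroup _) = 3 ^ (2 * m + 1) - 1 := by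
  rw [H1_eq hK hφ hT hσ, ← Nat.card_congr (MonoidHom.ofInjective (hR_inj φ)).toEquiv, Nat.card_units,
    Nat.card_eq_fintype_card, hK]

omit hT in
theorem zpow_eq_one {k : Kˣ} {i j : ℤ} (h : φ k ^ i * k ^ j = 1) : k ^ (3 * j ^ 2 - i ^ 2) = 1 := by
  set a := Units.map φ.toMonoidHom k with ha
  have h1 : a ^ i * k ^ j = 1 := Units.ext (by simpa [ha] using h)
  have h2 : k ^ i * a ^ (3 * j) = 1 := by
    have := congrArg (fun c => Units.map φ.toMonoidHom c ^ (3 : ℤ)) h1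
    simp only [map_mul, map_zpow, mul_zpow, ← zpow_mul, mul_comm _ (3 : ℤ), map_one, one_zpow] at this
    rwa [zpow_mul, show Units.map φ.toMonoidHom a ^ (3 : ℤ) = k from Units.ext (by simpa [ha] using φφ hK hφ k)]
      at this
  have h3 := congrArg Additive.ofMul h1
  have h4 := congrArg Additive.ofMul h2
  apply Additive.ofMul.injective
  simp only [ofMul_mul, ofMul_zpow, ofMul_one] at h3 h4 ⊢
  linear_combination (norm := module) (3 * j) • h3 - i • h4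

omit hT hK hφ [Fintype K] in
theorem eq_one_of_cube {k : Kˣ} (h : k ^ 3 = 1) : k = 1 :=
  have : Fact (Nat.Prime 3) := ⟨Nat.prime_three⟩
  Units.ext (frobenius_inj K 3 (by simpa [frobenius_def] using congrArg Units.val h))

omit hT in
theorem sq_eq_one {k : Kˣ} {r : Rt chevG2} (h : φ k ^ ca (ι 0) r * k ^ ca (ι 1) r = 1) : k ^ 2 = 1 := by
  obtain ⟨c, hc⟩ : 3 * ca (ι 1) r ^ 2 - ca (ι 0) r ^ 2 ∣ 6 := by clear h; revert r; decide +kernel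
  have : k ^ (6 : ℤ) = 1 := by rw [hc, zpow_mul, zpow_eq_one hK hφ h, one_zpow]
  exact eq_one_of_cube (by rw [← pow_mul]; exact_mod_cast this)

theorem perfect (hm : 1 ≤ m) (hσ : Function.Injective σ) : commutator (G1 xA σ embG20) = ⊤ := by
  have hF := (isTw hK hφ hT hσ).fold
  refine hF.perfect_of sys_xA fun i u hu hu' => ?_
  obtain ⟨c, hc⟩ := exists_unit_pow_ne (F := K) two_ne_zero (by
    rw [hK]; exact lt_of_lt_of_le (by norm_num) (Nat.pow_le_pow_right (by norm_num) (show 2 ≤ 2 * m + 1 by omega)))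
  refine Fold.mem_comm_of_fpf sys_xA (hR_mem_H φ c) (hR_mem hK hφ hT hσ c) (θ_hR φ c) (fun r _ e => ?_) hu hu'
  rw [chv_hR, Units.ext_iff] at e
  exact hc (sq_eq_one hK hφ (by simpa using e))

theorem twf (hσ : Function.Injective σ) : Nonempty (Wf hT.ok.perm ≃* Multiplicative (ZMod 2)) := by
  have : Fact (Nat.Prime 2) := ⟨Nat.prime_two⟩
  refine ⟨mulEquivOfPrimeCardEq (p := 2) ?_ (by simp)⟩
  rw [card_Wf_eq, tpsG2 (q := 1) ((isTw hK hφ hT hσ).fold.sym sys_xA) (by simp)]; rfl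

omit hT hφ hK in
theorem exists_setup : ∃ (φ : K →+* K) (σ : chevG2.group K →* chevG2.group K),
    (∀ t, φ t = t ^ 3 ^ m) ∧ Tw xA σ embG2 φ embG20 ∧ Function.Injective σ := by
  have : Fact (Nat.Prime 3) := ⟨Nat.prime_three⟩
  obtain ⟨σ, h⟩ := exists_tw embG2_ok embG2_fits (iterateFrobenius K 3 m) (embG2_fits.surj _) embG2_pos embG2_sim
  exact ⟨_, σ, fun _ => rfl, h⟩

end G2T

end Cfsg.Agent.Lie
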