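import Cfsg.Agent.Lie.Twist2
import Cfsg.Agent.Lie.EmbD4
import Cfsg.Agent.Lie.DataD4

set_option autoImplicit false
set_option maxRecDepth 100000
set_option Elab.async false

/-! Computations for the twisted group of type D4. -/

namespace Cfsg.Agent.Lie

open Cfsg.Lie

/-- the orbits -/
def obD4 (i : ℕ) : List ℕ := List.getD [[0, 2, 3], [1], [0, 2, 3], [0, 2, 3]] i []
/-- the longest elements -/
def wdD4 (i : ℕ) : List ℕ := List.getD [[0, 2, 3], [1], [0, 2, 3], [0, 2, 3]] i []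
/-- the exponents -/
def exD4 (i : ℕ) : ℕ := List.getD [3, 1, 3, 3] i 0

theorem orbDataD4 : OrbData chevD4 embD40 obD4 wdD4 :=
  orbData_of cartanIsD4 (fun i j => by
    rw [mem_orb_iff (by decide +kernel)]; revert i j; decide +kernel) (by decide +kernel) (by decide +kernel)

theorem tchkD4_0 : pchk carD4 chevD4.rank obD4 wdD4 exD4 [0, 1, 2, 3] [1]
    [0, 3, 4, 7, 8, 11]
    0x1808080807f7f807f8080808081817d81808080807e7e837e8080808082827d82808080807f7f837f8080808081818081
    0x1000000000404050400000000050503050000000002020402000000000303010300000000000002000000000001010001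
    0x1000100010000 = true := by decide +kernel

theorem tchkD4_1 : pchk carD4 chevD4.rank obD4 wdD4 exD4 [1] []
    [0, 1]
    0x18080808081817f818080808080808180
    0x100000000000000000000000000000100
    0x10100 = true := by decide +kernel

theorem tpsD4 {ρ : Equiv.Perm (Rt chevD4)} (h : Sym ρ embD40) {c : W chevD4 → ℕ} {q : ℕ}
    (hc : ∀ w ∈ Wf ρ, ∀ i : Ix chevD4, Pos (w⁻¹.1 (sim i)) → c (gO embD40 i * w) = q ^ exD4 i * c w) :
    PS ρ c Set.univ = (q ^ 0 + q ^ 3 + q ^ 4 + q ^ 7 + q ^ 8 + q ^ 11) * (q ^ 0 + q ^ 1) * c 1 := by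
  rw [univ_eq_range, show List.range chevD4.rank = [0, 1, 2, 3] from rfl,
    poincare_chk cartanIsD4 h orbDataD4 hc tchkD4_0, poincare_chk cartanIsD4 h orbDataD4 hc tchkD4_1,
    empty_eq_nil, PS_empty]
  simp only [List.map_cons, List.map_nil, List.sum_cons, List.sum_nil, ← mul_assoc]
  refine congrArg₂ _ (congrArg₂ _ (?_) ?_) rfl <;> ring

/-- representatives of the orbits -/
def repD4 : Fin 2 → Ix chevD4 := ![⟨0, by decide⟩, ⟨1, by decide⟩]

theorem repD4_orb : ∀ i, ∃ k, i ∈ orb embD40 (repD4 k) := by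
  simp only [orbDataD4.mem]; decide +kernel

theorem tordD4_0_0 : orderOf (gO embD40 (repD4 0) * gO embD40 (repD4 0)) = 1 := by
  rw [orbDataD4.eq, ← toW_append]
  exact orderOf_toW2 cartanIsD4 (O := 0x180808080818181818080808081818181) (by decide +kernel)

theorem tordD4_0_1 : orderOf (gO embD40 (repD4 0) * gO embD40 (repD4 1)) = 6 := by
  rw [orbDataD4.eq, orbDataD4.eq, ← toW_append]
  exact orderOf_toW2 cartanIsD4 (O := 0x180808080818181818080808083837c838080808082827b82808080807f7f7f7f808080807d7d847d808080807e7e857e8080808081818181) (by decide +kernel)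

theorem tordD4_1_0 : orderOf (gO embD40 (repD4 1) * gO embD40 (repD4 0)) = 6 := by
  rw [orbDataD4.eq, orbDataD4.eq, ← toW_append]
  exact orderOf_toW2 cartanIsD4 (O := 0x18080808081818181808080807e7e857e808080807d7d847d808080807f7f7f7f8080808082827b828080808083837c838080808081818181) (by decide +kernel)

theorem tordD4_1_1 : orderOf (gO embD40 (repD4 1) * gO embD40 (repD4 1)) = 1 := by
  rw [orbDataD4.eq, ← toW_append]
  exact orderOf_toW2 cartanIsD4 (O := 0x180808080818181818080808081818181) (by decide +kernel)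

theorem tcoxD4 {ρ : Equiv.Perm (Rt chevD4)} (h : Sym ρ embD40) : Nonempty (Wf ρ ≃* CoxeterMatrix.G₂.Group) := by
  refine h.exists_coxeter repD4_orb _ fun k k' => ?_
  fin_cases k <;> fin_cases k'
  exacts [tordD4_0_0.symm, tordD4_0_1.symm, tordD4_1_0.symm, tordD4_1_1.symm]

theorem POD4_0 : ∀ r, r ∈ PO embD40 ⟨0, by decide⟩ ↔ r ∈ [sim (⟨0, by decide⟩ : Ix chevD4), sim (⟨2, by decide⟩ : Ix chevD4), sim (⟨3, by decide⟩ : Ix chevD4)] := by
  simp only [orbDataD4.mem_PO]; decide +kernel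

theorem srtPOD4_0 : Srt (ht chevD4) [sim (⟨0, by decide⟩ : Ix chevD4), sim (⟨2, by decide⟩ : Ix chevD4), sim (⟨3, by decide⟩ : Ix chevD4)] := by decide +kernel

theorem NOD4_0 : ∀ r, r ∈ NO embD40 ⟨0, by decide⟩ ↔ r ∈ [ng (sim (⟨0, by decide⟩ : Ix chevD4)), ng (sim (⟨2, by decide⟩ : Ix chevD4)), ng (sim (⟨3, by decide⟩ : Ix chevD4))] := by
  simp only [orbDataD4.mem_NO]; decide +kernel

theorem srtNOD4_0 : Srt (-ht chevD4) [ng (sim (⟨0, by decide⟩ : Ix chevD4)), ng (sim (⟨2, by decide⟩ : Ix chevD4)), ng (sim (⟨3, by decide⟩ : Ix chevD4))] := by decide +kernel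

theorem POD4_1 : ∀ r, r ∈ PO embD40 ⟨1, by decide⟩ ↔ r ∈ [sim (⟨1, by decide⟩ : Ix chevD4)] := by
  simp only [orbDataD4.mem_PO]; decide +kernel

theorem srtPOD4_1 : Srt (ht chevD4) [sim (⟨1, by decide⟩ : Ix chevD4)] := by decide +kernel

theorem NOD4_1 : ∀ r, r ∈ NO embD40 ⟨1, by decide⟩ ↔ r ∈ [ng (sim (⟨1, by decide⟩ : Ix chevD4))] := by
  simp only [orbDataD4.mem_NO]; decide +kernel

theorem srtNOD4_1 : Srt (-ht chevD4) [ng (sim (⟨1, by decide⟩ : Ix chevD4))] := by decide +kernel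

end Cfsg.Agent.Lie
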