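import Cfsg.Agent.Lie.Twist2
import Cfsg.Agent.Lie.EmbE6
import Cfsg.Agent.Lie.DataE6

set_option autoImplicit false
set_option maxRecDepth 100000
set_option Elab.async false

/-! Computations for the twisted group of type E6. -/

namespace Cfsg.Agent.Lie

open Cfsg.Lie

/-- the orbits -/
def obE6 (i : ℕ) : List ℕ := List.getD [[0, 5], [1], [2, 4], [3], [2, 4], [0, 5]] i []
/-- the longest elements -/
def wdE6 (i : ℕ) : List ℕ := List.getD [[0, 5], [1], [2, 4], [3], [2, 4], [0, 5]] i []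
/-- the exponents -/
def exE6 (i : ℕ) : ℕ := List.getD [2, 1, 2, 1, 2, 2] i 0

theorem orbDataE6 : OrbData chevE6 embE60 obE6 wdE6 :=
  orbData_of cartanIsE6 (fun i j => by
    rw [mem_orb_iff (by decide +kernel)]; revert i j; decide +kernel) (by decide +kernel) (by decide +kernel)

theorem tchkE6_0 : pchk carE6 chevE6.rank obE6 wdE6 exE6 [0, 1, 2, 3, 4, 5] [1, 2, 3, 4]
    [0, 2, 4, 5, 6, 7, 8, 9, 10, 9, 11, 11, 13, 13, 15, 14, 16, 15, 17, 18, 19, 20, 22, 24]
    0x180807f808080807f8080817f807f8081808080817e8180808080807f827f7e808080807f807f828080807f8180817e7f8080818080807e8180807f817e81827f808081807e80828180807f7f827f807f80807e818081807e8080817e827e80818080827f807f808280807f827e82807f808081817e81808180807f8082807e7f80807f808080827f8080817f827f7e818080817f807f82818080808180817e80808080817e8182808080807f827f808080807f818081807f8080818080808081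
    0x10000161717171716000017151615161700001516141615150000141215121314000013101310141300001114121410110000121111110f1200000f130e13120f0000100f0c0f111000000c0d100d0e0c00000b0e0d0e0d0b00000e0a0f0a0c0e00000d090b090b0d0000090c080c0a0900000a0b060b090a000006080a08070600000507070708050000080409040508000007030503060700000406040603040000030502050403000002010301020200000002010201000000010000000001
    0x1000203020201010303000002020303000002020103020000 = true := by decide +kernel

theorem tchkE6_1 : pchk carE6 chevE6.rank obE6 wdE6 exE6 [1, 2, 3, 4] [2, 3, 4]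
    [0, 1, 2, 4, 5, 6]
    0x18080818080807f81808081807f8081818080817f817f8081808080817f8180808080808081807f808080808080808180
    0x1000000050505040000000004030405000000000204020300000000030103020000000001020100000000000000000100
    0x1010302030100 = true := by decide +kernel

theorem tchkE6_2 : pchk carE6 chevE6.rank obE6 wdE6 exE6 [2, 3, 4] [2, 4]
    [0, 1, 3, 4]
    0x1808081807f8082818080817f817f8181808080817f8181808080808081808080
    0x10000000302030000000000010301000000000002000200000000000001000000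
    0x103020300 = true := by decide +kernel

theorem tchkE6_3 : pchk carE6 chevE6.rank obE6 wdE6 exE6 [2, 4] []
    [0, 2]
    0x18080817f827f80818080808180818080
    0x100000000000000000000000100010000
    0x10200 = true := by decide +kernel

theorem tpsE6 {ρ : Equiv.Perm (Rt chevE6)} (h : Sym ρ embE60) {c : W chevE6 → ℕ} {q : ℕ}
    (hc : ∀ w ∈ Wf ρ, ∀ i : Ix chevE6, Pos (w⁻¹.1 (sim i)) → c (gO embE60 i * w) = q ^ exE6 i * c w) :
    PS ρ c Set.univ = (q ^ 0 + q ^ 2 + q ^ 4 + q ^ 5 + q ^ 6 + q ^ 7 + q ^ 8 + 2 * q ^ 9 + q ^ 10 + 2 * q ^ 11 + 2 * q ^ 13 + q ^ 14 + 2 * q ^ 15 + q ^ 16 + q ^ 17 + q ^ 18 + q ^ 19 + q ^ 20 + q ^ 22 + q ^ 24) * (q ^ 0 + q ^ 1 + q ^ 2 + q ^ 4 + q ^ 5 + q ^ 6) * (q ^ 0 + q ^ 1 + q ^ 3 + q ^ 4) * (q ^ 0 + q ^ 2) * c 1 := by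
  rw [univ_eq_range, show List.range chevE6.rank = [0, 1, 2, 3, 4, 5] from rfl,
    poincare_chk cartanIsE6 h orbDataE6 hc tchkE6_0, poincare_chk cartanIsE6 h orbDataE6 hc tchkE6_1, poincare_chk cartanIsE6 h orbDataE6 hc tchkE6_2, poincare_chk cartanIsE6 h orbDataE6 hc tchkE6_3,
    empty_eq_nil, PS_empty]
  simp only [List.map_cons, List.map_nil, List.sum_cons, List.sum_nil, ← mul_assoc]
  refine congrArg₂ _ (congrArg₂ _ (congrArg₂ _ (congrArg₂ _ (?_) ?_) ?_) ?_) rfl <;> ring

/-- representatives of the orbits -/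
def repE6 : Fin 4 → Ix chevE6 := ![⟨1, by decide⟩, ⟨3, by decide⟩, ⟨2, by decide⟩, ⟨0, by decide⟩]

theorem repE6_orb : ∀ i, ∃ k, i ∈ orb embE60 (repE6 k) := by
  simp only [orbDataE6.mem]; decide +kernel

theorem tordE6_0_0 : orderOf (gO embE60 (repE6 0) * gO embE60 (repE6 0)) = 1 := by
  rw [orbDataE6.eq, ← toW_append]
  exact orderOf_toW2 cartanIsE6 (O := 0x180808181818181818080818181818181) (by decide +kernel)

theorem tordE6_0_1 : orderOf (gO embE60 (repE6 0) * gO embE60 (repE6 1)) = 3 := by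
  rw [orbDataE6.eq, orbDataE6.eq, ← toW_append]
  exact orderOf_toW2 cartanIsE6 (O := 0x18080818181818181808081837e8381818080818281827e818080818181818181) (by decide +kernel)

theorem tordE6_0_2 : orderOf (gO embE60 (repE6 0) * gO embE60 (repE6 2)) = 2 := by
  rw [orbDataE6.eq, orbDataE6.eq, ← toW_append]
  exact orderOf_toW2 cartanIsE6 (O := 0x180808181818181818080827f847f7f828080818181818181) (by decide +kernel)

theorem tordE6_0_3 : orderOf (gO embE60 (repE6 0) * gO embE60 (repE6 3)) = 2 := by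
  rw [orbDataE6.eq, orbDataE6.eq, ← toW_append]
  exact orderOf_toW2 cartanIsE6 (O := 0x1808081818181818180807f8282827f7f8080818181818181) (by decide +kernel)

theorem tordE6_1_0 : orderOf (gO embE60 (repE6 1) * gO embE60 (repE6 0)) = 3 := by
  rw [orbDataE6.eq, orbDataE6.eq, ← toW_append]
  exact orderOf_toW2 cartanIsE6 (O := 0x180808181818181818080818281827e81808081837e8381818080818181818181) (by decide +kernel)

theorem tordE6_1_1 : orderOf (gO embE60 (repE6 1) * gO embE60 (repE6 1)) = 1 := by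
  rw [orbDataE6.eq, ← toW_append]
  exact orderOf_toW2 cartanIsE6 (O := 0x180808181818181818080818181818181) (by decide +kernel)

theorem tordE6_1_2 : orderOf (gO embE60 (repE6 1) * gO embE60 (repE6 2)) = 4 := by
  rw [orbDataE6.eq, orbDataE6.eq, ← toW_append]
  exact orderOf_toW2 cartanIsE6 (O := 0x180808181818181818080837e837e82838080847f7f7f8584808082827d8284828080818181818181) (by decide +kernel)

theorem tordE6_1_3 : orderOf (gO embE60 (repE6 1) * gO embE60 (repE6 3)) = 2 := by
  rw [orbDataE6.eq, orbDataE6.eq, ← toW_append]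
  exact orderOf_toW2 cartanIsE6 (O := 0x1808081818181818180807f837f83827f8080818181818181) (by decide +kernel)

theorem tordE6_2_0 : orderOf (gO embE60 (repE6 2) * gO embE60 (repE6 0)) = 2 := by
  rw [orbDataE6.eq, orbDataE6.eq, ← toW_append]
  exact orderOf_toW2 cartanIsE6 (O := 0x180808181818181818080827f847f7f828080818181818181) (by decide +kernel)

theorem tordE6_2_1 : orderOf (gO embE60 (repE6 2) * gO embE60 (repE6 1)) = 4 := by
  rw [orbDataE6.eq, orbDataE6.eq, ← toW_append]
  exact orderOf_toW2 cartanIsE6 (O := 0x18080818181818181808082827d8284828080847f7f7f85848080837e837e82838080818181818181) (by decide +kernel)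

theorem tordE6_2_2 : orderOf (gO embE60 (repE6 2) * gO embE60 (repE6 2)) = 1 := by
  rw [orbDataE6.eq, ← toW_append]
  exact orderOf_toW2 cartanIsE6 (O := 0x180808181818181818080818181818181) (by decide +kernel)

theorem tordE6_2_3 : orderOf (gO embE60 (repE6 2) * gO embE60 (repE6 3)) = 3 := by
  rw [orbDataE6.eq, orbDataE6.eq, ← toW_append]
  exact orderOf_toW2 cartanIsE6 (O := 0x1808081818181818180807e818381817e8080817e857e81818080818181818181) (by decide +kernel)

theorem tordE6_3_0 : orderOf (gO embE60 (repE6 3) * gO embE60 (repE6 0)) = 2 := by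
  rw [orbDataE6.eq, orbDataE6.eq, ← toW_append]
  exact orderOf_toW2 cartanIsE6 (O := 0x1808081818181818180807f8282827f7f8080818181818181) (by decide +kernel)

theorem tordE6_3_1 : orderOf (gO embE60 (repE6 3) * gO embE60 (repE6 1)) = 2 := by
  rw [orbDataE6.eq, orbDataE6.eq, ← toW_append]
  exact orderOf_toW2 cartanIsE6 (O := 0x1808081818181818180807f837f83827f8080818181818181) (by decide +kernel)

theorem tordE6_3_2 : orderOf (gO embE60 (repE6 3) * gO embE60 (repE6 2)) = 3 := by
  rw [orbDataE6.eq, orbDataE6.eq, ← toW_append]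
  exact orderOf_toW2 cartanIsE6 (O := 0x180808181818181818080817e857e818180807e818381817e8080818181818181) (by decide +kernel)

theorem tordE6_3_3 : orderOf (gO embE60 (repE6 3) * gO embE60 (repE6 3)) = 1 := by
  rw [orbDataE6.eq, ← toW_append]
  exact orderOf_toW2 cartanIsE6 (O := 0x180808181818181818080818181818181) (by decide +kernel)

theorem tcoxE6 {ρ : Equiv.Perm (Rt chevE6)} (h : Sym ρ embE60) : Nonempty (Wf ρ ≃* CoxeterMatrix.F₄.Group) := by
  refine h.exists_coxeter repE6_orb _ fun k k' => ?_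
  fin_cases k <;> fin_cases k'
  exacts [tordE6_0_0.symm, tordE6_0_1.symm, tordE6_0_2.symm, tordE6_0_3.symm, tordE6_1_0.symm, tordE6_1_1.symm, tordE6_1_2.symm, tordE6_1_3.symm, tordE6_2_0.symm, tordE6_2_1.symm, tordE6_2_2.symm, tordE6_2_3.symm, tordE6_3_0.symm, tordE6_3_1.symm, tordE6_3_2.symm, tordE6_3_3.symm]

theorem POE6_0 : ∀ r, r ∈ PO embE60 ⟨0, by decide⟩ ↔ r ∈ [sim (⟨0, by decide⟩ : Ix chevE6), sim (⟨5, by decide⟩ : Ix chevE6)] := by
  simp only [orbDataE6.mem_PO]; decide +kernel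

theorem srtPOE6_0 : Srt (ht chevE6) [sim (⟨0, by decide⟩ : Ix chevE6), sim (⟨5, by decide⟩ : Ix chevE6)] := by decide +kernel

theorem NOE6_0 : ∀ r, r ∈ NO embE60 ⟨0, by decide⟩ ↔ r ∈ [ng (sim (⟨0, by decide⟩ : Ix chevE6)), ng (sim (⟨5, by decide⟩ : Ix chevE6))] := by
  simp only [orbDataE6.mem_NO]; decide +kernel

theorem srtNOE6_0 : Srt (-ht chevE6) [ng (sim (⟨0, by decide⟩ : Ix chevE6)), ng (sim (⟨5, by decide⟩ : Ix chevE6))] := by decide +kernel

theorem POE6_1 : ∀ r, r ∈ PO embE60 ⟨1, by decide⟩ ↔ r ∈ [sim (⟨1, by decide⟩ : Ix chevE6)] := by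
  simp only [orbDataE6.mem_PO]; decide +kernel

theorem srtPOE6_1 : Srt (ht chevE6) [sim (⟨1, by decide⟩ : Ix chevE6)] := by decide +kernel

theorem NOE6_1 : ∀ r, r ∈ NO embE60 ⟨1, by decide⟩ ↔ r ∈ [ng (sim (⟨1, by decide⟩ : Ix chevE6))] := by
  simp only [orbDataE6.mem_NO]; decide +kernel

theorem srtNOE6_1 : Srt (-ht chevE6) [ng (sim (⟨1, by decide⟩ : Ix chevE6))] := by decide +kernel

theorem POE6_2 : ∀ r, r ∈ PO embE60 ⟨2, by decide⟩ ↔ r ∈ [sim (⟨2, by decide⟩ : Ix chevE6), sim (⟨4, by decide⟩ : Ix chevE6)] := by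
  simp only [orbDataE6.mem_PO]; decide +kernel

theorem srtPOE6_2 : Srt (ht chevE6) [sim (⟨2, by decide⟩ : Ix chevE6), sim (⟨4, by decide⟩ : Ix chevE6)] := by decide +kernel

theorem NOE6_2 : ∀ r, r ∈ NO embE60 ⟨2, by decide⟩ ↔ r ∈ [ng (sim (⟨2, by decide⟩ : Ix chevE6)), ng (sim (⟨4, by decide⟩ : Ix chevE6))] := by
  simp only [orbDataE6.mem_NO]; decide +kernel

theorem srtNOE6_2 : Srt (-ht chevE6) [ng (sim (⟨2, by decide⟩ : Ix chevE6)), ng (sim (⟨4, by decide⟩ : Ix chevE6))] := by decide +kernel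

theorem POE6_3 : ∀ r, r ∈ PO embE60 ⟨3, by decide⟩ ↔ r ∈ [sim (⟨3, by decide⟩ : Ix chevE6)] := by
  simp only [orbDataE6.mem_PO]; decide +kernel

theorem srtPOE6_3 : Srt (ht chevE6) [sim (⟨3, by decide⟩ : Ix chevE6)] := by decide +kernel

theorem NOE6_3 : ∀ r, r ∈ NO embE60 ⟨3, by decide⟩ ↔ r ∈ [ng (sim (⟨3, by decide⟩ : Ix chevE6))] := by
  simp only [orbDataE6.mem_NO]; decide +kernel

theorem srtNOE6_3 : Srt (-ht chevE6) [ng (sim (⟨3, by decide⟩ : Ix chevE6))] := by decide +kernel

end Cfsg.Agent.Lie
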