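import Cfsg.Agent.Lie.Twist2
import Cfsg.Agent.Lie.EmbF4
import Cfsg.Agent.Lie.DataF4

set_option autoImplicit false
set_option maxRecDepth 100000
set_option Elab.async false

/-! Computations for the twisted group of type F4. -/

namespace Cfsg.Agent.Lie

open Cfsg.Lie

/-- the orbits -/
def obF4 (i : ℕ) : List ℕ := List.getD [[0, 3], [1, 2], [1, 2], [0, 3]] i []
/-- the longest elements -/
def wdF4 (i : ℕ) : List ℕ := List.getD [[0, 3], [1, 2, 1, 2], [1, 2, 1, 2], [0, 3]] i []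
/-- the exponents -/
def exF4 (i : ℕ) : ℕ := List.getD [1, 2, 2, 1] i 0

theorem orbDataF4 : OrbData chevF4 embF40 obF4 wdF4 :=
  orbData_of cartanIsF4 (fun i j => by
    rw [mem_orb_iff (by decide +kernel)]; revert i j; decide +kernel) (by decide +kernel) (by decide +kernel)

theorem tchkF4_0 : pchk carF4 chevF4.rank obF4 wdF4 exF4 [0, 1, 2, 3] [1, 2]
    [0, 1, 3, 4, 6, 7, 9, 10]
    0x1808080807f80807f80808080817f7f81808080807e81817d80808080827f7e83808080807e81827d80808080827f7f83808080807f81817f8080808081808081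
    0x100000000060707060000000007050507000000000406060400000000050303050000000002040402000000000301010300000000000202000000000001000001
    0x10001000100010000 = true := by decide +kernel

theorem tchkF4_1 : pchk carF4 chevF4.rank obF4 wdF4 exF4 [1, 2] []
    [0, 2]
    0x180808080837f7f848080808080818180
    0x100000000000000000000000000010100
    0x10100 = true := by decide +kernel

theorem tpsF4 {ρ : Equiv.Perm (Rt chevF4)} (h : Sym ρ embF40) {c : W chevF4 → ℕ} {q : ℕ}
    (hc : ∀ w ∈ Wf ρ, ∀ i : Ix chevF4, Pos (w⁻¹.1 (sim i)) → c (gO embF40 i * w) = q ^ exF4 i * c w) :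
    PS ρ c Set.univ = (q ^ 0 + q ^ 1 + q ^ 3 + q ^ 4 + q ^ 6 + q ^ 7 + q ^ 9 + q ^ 10) * (q ^ 0 + q ^ 2) * c 1 := by
  rw [univ_eq_range, show List.range chevF4.rank = [0, 1, 2, 3] from rfl,
    poincare_chk cartanIsF4 h orbDataF4 hc tchkF4_0, poincare_chk cartanIsF4 h orbDataF4 hc tchkF4_1,
    empty_eq_nil, PS_empty]
  simp only [List.map_cons, List.map_nil, List.sum_cons, List.sum_nil, ← mul_assoc]
  refine congrArg₂ _ (congrArg₂ _ (?_) ?_) rfl <;> ring

/-- representatives of the orbits -/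
def repF4 : Fin 2 → Ix chevF4 := ![⟨0, by decide⟩, ⟨1, by decide⟩]

theorem repF4_orb : ∀ i, ∃ k, i ∈ orb embF40 (repF4 k) := by
  simp only [orbDataF4.mem]; decide +kernel

theorem tordF4_0_0 : orderOf (gO embF40 (repF4 0) * gO embF40 (repF4 0)) = 1 := by
  rw [orbDataF4.eq, ← toW_append]
  exact orderOf_toW2 cartanIsF4 (O := 0x180808080818181818080808081818181) (by decide +kernel)

theorem tordF4_0_1 : orderOf (gO embF40 (repF4 0) * gO embF40 (repF4 1)) = 8 := by
  rw [orbDataF4.eq, orbDataF4.eq, ← toW_append]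
  exact orderOf_toW2 cartanIsF4 (O := 0x1808080808181818180808080857e7e8780808080867d7b8980808080847d7c85808080807f7f7f7f808080807b828279808080807a838577808080807c83847b8080808081818181) (by decide +kernel)

theorem tordF4_1_0 : orderOf (gO embF40 (repF4 1) * gO embF40 (repF4 0)) = 8 := by
  rw [orbDataF4.eq, orbDataF4.eq, ← toW_append]
  exact orderOf_toW2 cartanIsF4 (O := 0x18080808081818181808080807c83847b808080807a838577808080807b828279808080807f7f7f7f80808080847d7c8580808080867d7b8980808080857e7e878080808081818181) (by decide +kernel)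

theorem tordF4_1_1 : orderOf (gO embF40 (repF4 1) * gO embF40 (repF4 1)) = 1 := by
  rw [orbDataF4.eq, ← toW_append]
  exact orderOf_toW2 cartanIsF4 (O := 0x180808080818181818080808081818181) (by decide +kernel)

theorem POF4_0 : ∀ r, r ∈ PO embF40 ⟨0, by decide⟩ ↔ r ∈ [sim (⟨3, by decide⟩ : Ix chevF4), sim (⟨0, by decide⟩ : Ix chevF4)] := by
  simp only [orbDataF4.mem_PO]; decide +kernel

theorem srtPOF4_0 : Srt (ht chevF4) [sim (⟨3, by decide⟩ : Ix chevF4), sim (⟨0, by decide⟩ : Ix chevF4)] := by decide +kernel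

theorem NOF4_0 : ∀ r, r ∈ NO embF40 ⟨0, by decide⟩ ↔ r ∈ [ng (sim (⟨3, by decide⟩ : Ix chevF4)), ng (sim (⟨0, by decide⟩ : Ix chevF4))] := by
  simp only [orbDataF4.mem_NO]; decide +kernel

theorem srtNOF4_0 : Srt (-ht chevF4) [ng (sim (⟨3, by decide⟩ : Ix chevF4)), ng (sim (⟨0, by decide⟩ : Ix chevF4))] := by decide +kernel

theorem POF4_1 : ∀ r, r ∈ PO embF40 ⟨1, by decide⟩ ↔ r ∈ [(⟨27, by decide⟩ : Rt chevF4), (⟨25, by decide⟩ : Rt chevF4), (⟨28, by decide⟩ : Rt chevF4), (⟨30, by decide⟩ : Rt chevF4)] := by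
  simp only [orbDataF4.mem_PO]; decide +kernel

theorem srtPOF4_1 : Srt (ht chevF4) [(⟨27, by decide⟩ : Rt chevF4), (⟨25, by decide⟩ : Rt chevF4), (⟨28, by decide⟩ : Rt chevF4), (⟨30, by decide⟩ : Rt chevF4)] := by decide +kernel

theorem NOF4_1 : ∀ r, r ∈ NO embF40 ⟨1, by decide⟩ ↔ r ∈ [(⟨20, by decide⟩ : Rt chevF4), (⟨22, by decide⟩ : Rt chevF4), (⟨19, by decide⟩ : Rt chevF4), (⟨17, by decide⟩ : Rt chevF4)] := by
  simp only [orbDataF4.mem_NO]; decide +kernel

theorem srtNOF4_1 : Srt (-ht chevF4) [(⟨20, by decide⟩ : Rt chevF4), (⟨22, by decide⟩ : Rt chevF4), (⟨19, by decide⟩ : Rt chevF4), (⟨17, by decide⟩ : Rt chevF4)] := by decide +kernel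

theorem exists_negF4 : ∃ w : W chevF4, ∀ r, w.1 r = ng r := ⟨toW [3, 2, 1, 2, 0, 1, 2, 3, 2, 1, 2, 0, 1, 2, 3, 2, 1, 2, 0, 1, 2, 0, 1, 0], by decide +kernel⟩

end Cfsg.Agent.Lie
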