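import Cfsg.Agent.Lie.Twist2
import Cfsg.Agent.Lie.EmbG2
import Cfsg.Agent.Lie.DataG2

set_option autoImplicit false
set_option maxRecDepth 100000
set_option Elab.async false

/-! Computations for the twisted group of type G2. -/

namespace Cfsg.Agent.Lie

open Cfsg.Lie

/-- the orbits -/
def obG2 (i : ℕ) : List ℕ := List.getD [[0, 1], [0, 1]] i []
/-- the longest elements -/
def wdG2 (i : ℕ) : List ℕ := List.getD [[0, 1, 0, 1, 0, 1], [0, 1, 0, 1, 0, 1]] i []
/-- the exponents -/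
def exG2 (i : ℕ) : ℕ := List.getD [3, 3] i 0

theorem orbDataG2 : OrbData chevG2 embG20 obG2 wdG2 :=
  orbData_of cartanIsG2 (fun i j => by
    rw [mem_orb_iff (by decide +kernel)]; revert i j; decide +kernel) (by decide +kernel) (by decide +kernel)

theorem tchkG2_0 : pchk carG2 chevG2.rank obG2 wdG2 exG2 [0, 1] []
    [0, 3]
    0x18080808080807f7f8080808080808181
    0x100000000000000000000000000000101
    0x10000 = true := by decide +kernel

theorem tpsG2 {ρ : Equiv.Perm (Rt chevG2)} (h : Sym ρ embG20) {c : W chevG2 → ℕ} {q : ℕ}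
    (hc : ∀ w ∈ Wf ρ, ∀ i : Ix chevG2, Pos (w⁻¹.1 (sim i)) → c (gO embG20 i * w) = q ^ exG2 i * c w) :
    PS ρ c Set.univ = (q ^ 0 + q ^ 3) * c 1 := by
  rw [univ_eq_range, show List.range chevG2.rank = [0, 1] from rfl,
    poincare_chk cartanIsG2 h orbDataG2 hc tchkG2_0,
    empty_eq_nil, PS_empty]
  simp only [List.map_cons, List.map_nil, List.sum_cons, List.sum_nil, ← mul_assoc]
  refine congrArg₂ _ (?_) rfl <;> ring

/-- representatives of the orbits -/
def repG2 : Fin 1 → Ix chevG2 := ![⟨0, by decide⟩]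

theorem repG2_orb : ∀ i, ∃ k, i ∈ orb embG20 (repG2 k) := by
  simp only [orbDataG2.mem]; decide +kernel

theorem tordG2_0_0 : orderOf (gO embG20 (repG2 0) * gO embG20 (repG2 0)) = 1 := by
  rw [orbDataG2.eq, ← toW_append]
  exact orderOf_toW2 cartanIsG2 (O := 0x180808080808081818080808080808181) (by decide +kernel)

theorem POG2_0 : ∀ r, r ∈ PO embG20 ⟨0, by decide⟩ ↔ r ∈ [(⟨7, by decide⟩ : Rt chevG2), (⟨6, by decide⟩ : Rt chevG2), (⟨8, by decide⟩ : Rt chevG2), (⟨9, by decide⟩ : Rt chevG2), (⟨10, by decide⟩ : Rt chevG2), (⟨11, by decide⟩ : Rt chevG2)] := by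
  simp only [orbDataG2.mem_PO]; decide +kernel

theorem srtPOG2_0 : Srt (ht chevG2) [(⟨7, by decide⟩ : Rt chevG2), (⟨6, by decide⟩ : Rt chevG2), (⟨8, by decide⟩ : Rt chevG2), (⟨9, by decide⟩ : Rt chevG2), (⟨10, by decide⟩ : Rt chevG2), (⟨11, by decide⟩ : Rt chevG2)] := by decide +kernel

theorem NOG2_0 : ∀ r, r ∈ NO embG20 ⟨0, by decide⟩ ↔ r ∈ [(⟨4, by decide⟩ : Rt chevG2), (⟨5, by decide⟩ : Rt chevG2), (⟨3, by decide⟩ : Rt chevG2), (⟨2, by decide⟩ : Rt chevG2), (⟨1, by decide⟩ : Rt chevG2), (⟨0, by decide⟩ : Rt chevG2)] := by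
  simp only [orbDataG2.mem_NO]; decide +kernel

theorem srtNOG2_0 : Srt (-ht chevG2) [(⟨4, by decide⟩ : Rt chevG2), (⟨5, by decide⟩ : Rt chevG2), (⟨3, by decide⟩ : Rt chevG2), (⟨2, by decide⟩ : Rt chevG2), (⟨1, by decide⟩ : Rt chevG2), (⟨0, by decide⟩ : Rt chevG2)] := by decide +kernel

theorem exists_negG2 : ∃ w : W chevG2, ∀ r, w.1 r = ng r := ⟨toW [1, 0, 1, 0, 1, 0], by decide +kernel⟩

end Cfsg.Agent.Lie
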