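import Cfsg.Agent.Lie.Aut

set_option autoImplicit false
set_option linter.unusedSectionVars false
set_option linter.unusedSimpArgs false

/-! General facts on twisted groups. -/

namespace Cfsg.Agent.Lie

open Cfsg.Lie
open scoped Matrix MatrixGroups commutatorElement

variable {D : ChevalleyDatum} [G : Good D] {F : Type*} [Field F] {Γ : Type*} [Group Γ]

/-- the height -/
def ht (D : ChevalleyDatum) : Fn D where
  toFun v := ∑ i, v i
  map_zero' := by simp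
  map_add' v w := by simp [Finset.sum_add_distrib]

/-- words in root elements -/
def wd (x : Rt D → F → Γ) (L : List (Rt D × F)) : Γ := (L.map fun p => x p.1 p.2).prod

/-- lists of roots sorted by a functional -/
def Srt (l : Fn D) (L : List (Rt D)) : Prop :=
  L.Pairwise (fun a b => l (co a) ≤ l (co b) ∧ a ≠ b) ∧ ∀ r ∈ L, 0 < l (co r)

instance instDecSrt (l : Fn D) (L : List (Rt D)) : Decidable (Srt l L) := by unfold Srt; infer_instance

omit G in
theorem exists_fun_of_nodup (w : List (Rt D × F)) (h : (w.map Prod.fst).Nodup) :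
    ∃ t : Rt D → F, w = (w.map Prod.fst).map fun r => (r, t r) := by
  classical
  induction w with
  | nil => exact ⟨0, rfl⟩
  | cons p w ih =>
    rw [List.map_cons, List.nodup_cons] at h
    obtain ⟨t, ht⟩ := ih h.2
    refine ⟨Function.update t p.1 p.2, ?_⟩
    rw [List.map_cons, List.map_cons, Function.update_self]
    congr 1
    refine ht.trans (List.map_congr_left fun r hr => ?_)
    rw [Function.update_of_ne (by rintro rfl; exact h.1 hr)]

namespace Sys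

variable {x : Rt D → F → Γ} {θ : Γ →* GL D.Idx F} (hS : Sys x θ)
include hS

theorem wd_inj {l : Fn D} {w w' : List (Rt D × F)} (hL : Srt l (w.map Prod.fst))
    (h : w'.map Prod.fst = w.map Prod.fst) (e : wd x w = wd x w') : w = w' := by
  have hn : (w.map Prod.fst).Nodup := hL.1.imp fun h => h.2
  obtain ⟨t, ht⟩ := exists_fun_of_nodup w hn
  obtain ⟨t', ht'⟩ := exists_fun_of_nodup w' (h ▸ hn)
  rw [h] at ht'
  generalize w.map Prod.fst = L at *
  subst ht ht'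
  rw [wd, wd, List.map_map, List.map_map] at e
  exact List.map_congr_left fun r hr => by rw [hS.prod_inj (t := t) (t' := t') _ hL.1 hL.2 e r hr]

theorem exists_wd {l : Fn D} {L : List (Rt D)} (hL : Srt l L) {S : Set (Rt D)} (hc : Closed S)
    (h : ∀ r, r ∈ S ↔ r ∈ L) {g : Γ} (hg : g ∈ XS x S) : ∃ t : Rt D → F, g = (L.map fun r => x r (t r)).prod := by
  obtain rfl : S = {r | r ∈ L} := Set.ext h
  exact hS.exists_prod L hL.1 hc hL.2 hg

theorem eq_one_of_fpf {S : Set (Rt D)} (hc : Closed S) (hp : S ⊆ {r | Pos r}) {h g : Γ} (hh : h ∈ HX x)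
    {χ : Ix D → Fˣ} (hχ : θ h = dg χ) (h1 : ∀ r ∈ S, chv χ (co r) ≠ 1) (hg : g ∈ XS x S)
    (e : h * g * h⁻¹ = g) : g = 1 := by
  classical
  have hL : Srt (fF D) ((posL D).filter (· ∈ S)) :=
    ⟨posL_pairwise.filter _, fun r hr => mem_posL.1 (List.mem_filter.1 hr).1⟩
  have hm : ∀ r, r ∈ S ↔ r ∈ (posL D).filter (· ∈ S) := fun r => by
    simpa [mem_posL] using fun h => hp h
  obtain ⟨t, rfl⟩ := hS.exists_wd hL hc hm hg
  have h2 : h * (((posL D).filter (· ∈ S)).map fun r => x r (t r)).prod * h⁻¹ =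
      (((posL D).filter (· ∈ S)).map fun r => x r (chv χ (co r) * t r)).prod := by
    rw [← MulAut.conj_apply, map_list_prod, List.map_map]
    congr 1
    exact List.map_congr_left fun r _ => hS.h_conj hh hχ r _
  rw [h2] at e
  refine List.prod_eq_one fun g hg => ?_
  obtain ⟨r, hr, rfl⟩ := List.mem_map.1 hg
  have h3 := hS.prod_inj _ hL.1 hL.2 e r hr
  have h4 : ((chv χ (co r) : Fˣ) : F) - 1 ≠ 0 := sub_ne_zero.2 fun e => h1 r ((hm r).2 hr) (Units.ext e)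
  rw [show t r = 0 from (mul_eq_zero.1 (by linear_combination h3)).resolve_left h4, hS.x_zero]

theorem n_mul_n_comm {r s : Rt D} (h : ∀ a ∈ [r, ng r], ∀ b ∈ [s, ng s], ∀ t u, Commute (x a t) (x b u))
    (t u : Fˣ) : Commute (nX x r t) (nX x s u) := by
  simp only [List.forall_mem_cons, List.not_mem_nil] at h
  unfold nX
  refine (Commute.mul_left ?_ ?_).mul_left ?_ <;> refine (Commute.mul_right ?_ ?_).mul_right ?_ <;> tauto

theorem conj_H_of_neg (hθ : Function.Injective θ) {n : Γ} {w : W D} (hn : Lift x n w) (hw : ∀ r, w.1 r = ng r)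
    {h : Γ} (hh : h ∈ HX x) : n * h * n⁻¹ = h⁻¹ := by
  induction hh using Subgroup.closure_induction with
  | mem g hg =>
    obtain ⟨r, t, rfl⟩ := hg
    rw [hS.lift_conj_h hn, hw]
    apply hθ
    rw [map_inv, hS.θ_h, hS.θ_h, ← map_inv]
    congr 1
    funext j; simp [coch]
  | one => simp
  | mul a b ha hb h1 h2 =>
    rw [hS.H_comm ha hb, mul_inv_rev, ← h1, ← h2, hS.H_comm hb ha]; group
  | inv a _ h1 => rw [← h1]; simp [mul_assoc, ← h1]

end Sys

theorem closed_PO (ρ0 : Equiv.Perm (Ix D)) (i : Ix D) : Closed (PO ρ0 i) := closed_pos.inter (closed_InJ _)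
theorem closed_NO (ρ0 : Equiv.Perm (Ix D)) (i : Ix D) : Closed (NO ρ0 i) := closed_neg.inter (closed_InJ _)

theorem wl_gO (ρ0 : Equiv.Perm (Ix D)) (i : Ix D) : wl sw (gO ρ0 i) = (PO ρ0 i).ncard := by
  rw [wl_eq_card_inv, ← Set.ncard_coe_finset, gO, coe_inv_w0J]; rfl

omit G in
theorem mem_orb_iff {ρ0 : Equiv.Perm (Ix D)} (h : ∀ i, ρ0 (ρ0 (ρ0 i)) = i ∨ ρ0 (ρ0 (ρ0 i)) = ρ0 i) (i j : Ix D) :
    j ∈ orb ρ0 i ↔ j = i ∨ j = ρ0 i ∨ j = ρ0 (ρ0 i) := by
  constructor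
  · refine orb_induction (p := fun j => j = i ∨ j = ρ0 i ∨ j = ρ0 (ρ0 i)) (Or.inl rfl) ?_ j
    rintro j (rfl | rfl | rfl)
    · simp
    · simp
    · rcases h i with h | h <;> simp [h]
  · have := stable_orb ρ0 i
    rintro (rfl | rfl | rfl)
    exacts [self_mem_orb _ _, (this _).2 (self_mem_orb _ _), (this _).2 ((this _).2 (self_mem_orb _ _))]

theorem OrbData.mem_PO {ρ0 : Equiv.Perm (Ix D)} {ob wd : ℕ → List ℕ} (h : OrbData D ρ0 ob wd) (i : Ix D) (r : Rt D) :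
    r ∈ PO ρ0 i ↔ Pos r ∧ ∀ j : Ix D, (j : ℕ) ∉ ob i → co r j = 0 := by
  simp [PO, InJ, h.mem]

theorem OrbData.mem_NO {ρ0 : Equiv.Perm (Ix D)} {ob wd : ℕ → List ℕ} (h : OrbData D ρ0 ob wd) (i : Ix D) (r : Rt D) :
    r ∈ NO ρ0 i ↔ ¬ Pos r ∧ ∀ j : Ix D, (j : ℕ) ∉ ob i → co r j = 0 := by
  simp [NO, InJ, h.mem]

theorem PO_eq {ρ0 : Equiv.Perm (Ix D)} {i j : Ix D} (h : j ∈ orb ρ0 i) : PO ρ0 j = PO ρ0 i := by
  rw [PO, orb_eq h, PO]
theorem NO_eq {ρ0 : Equiv.Perm (Ix D)} {i j : Ix D} (h : j ∈ orb ρ0 i) : NO ρ0 j = NO ρ0 i := by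
  rw [NO, orb_eq h, NO]

theorem card_inf_G1 {x : Rt D → F → Γ} {σ : Γ →* Γ} {ρ0 : Equiv.Perm (Ix D)} {i : Ix D} {P : Type*} (u : P → Γ)
    (hu : Function.Injective u) (h : ∀ g, g ∈ XS x (PO ρ0 i) ∧ σ g = g ↔ ∃ p, g = u p) :
    Nat.card (XS x (PO ρ0 i) ⊓ G1 x σ ρ0 : Subgroup Γ) = Nat.card P := by
  symm
  refine Nat.card_eq_of_bijective (fun p => ⟨u p, ((h _).2 ⟨p, rfl⟩).1,
    mem_G1_pos ((h _).2 ⟨p, rfl⟩).1 ((h _).2 ⟨p, rfl⟩).2⟩) ⟨fun p p' e => hu (congrArg Subtype.val e), fun g => ?_⟩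
  obtain ⟨p, e⟩ := (h g).1 ⟨g.2.1, G1_le_fix g.2.2⟩
  exact ⟨p, Subtype.ext e.symm⟩

namespace Fold

variable {x : Rt D → F → Γ} {θ : Γ →* GL D.Idx F} {σ : Γ →* Γ} {ρ : Equiv.Perm (Rt D)}
  {ρ0 : Equiv.Perm (Ix D)} (hF : Fold x σ ρ ρ0) (hS : Sys x θ)
include hF hS

theorem mem_of_V {v : Γ} (hv : v ∈ VX x) (h : σ v = v) : v ∈ G1 x σ ρ0 := by
  obtain ⟨n, h1, h2⟩ := hF.exists_lift hS ((hF.sym hS).w0J_mem_Wf (stable_univ ρ0))
  have := hF.mem_of_U hS (h2.conj_mem (T := {r | Pos r}) (fun s hs => (pos_w0J_univ s).2 hs) hv)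
    (by simp [h, G1_le_fix h1])
  rwa [Subgroup.mul_mem_cancel_right _ (inv_mem h1), Subgroup.mul_mem_cancel_left _ h1] at this

theorem x_mem {r : Rt D} {t : F} (h : σ (x r t) = x r t) : x r t ∈ G1 x σ ρ0 := by
  by_cases hr : Pos r
  exacts [hF.mem_of_U hS (mem_UX hr t) h, hF.mem_of_V hS (mem_VX hr t) h]

omit hF in
theorem conj_mem {h g : Γ} (hh : h ∈ HX x) (h1 : σ h = h) (hg : g ∈ G1 x σ ρ0) : h * g * h⁻¹ ∈ G1 x σ ρ0 := by
  have : G1 x σ ρ0 ≤ (G1 x σ ρ0).comap (MulAut.conj h).toMonoidHom := by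
    refine (Subgroup.closure_le _).2 ?_
    rintro g ⟨h2, i, h3 | h3⟩
    · exact mem_G1_pos (hS.H_conj_XS hh h3) (by simp [h1, h2])
    · exact mem_G1_neg (hS.H_conj_XS hh h3) (by simp [h1, h2])
  exact this hg

theorem sq_mem (hθ : Function.Injective θ) {w : W D} (hw : ∀ r, w.1 r = ng r) (hρ : ∀ r, ρ (ng r) = ng (ρ r))
    {h : Γ} (hh : h ∈ HX x) (h1 : σ h = h) : h * h ∈ G1 x σ ρ0 := by
  obtain ⟨n, h2, h3⟩ := hF.exists_lift hS (w := w) (mem_Wf.2 fun r => by rw [hw, hw, hρ])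
  have := mul_mem (conj_mem hS hh h1 h2) (inv_mem h2)
  rwa [mul_assoc h, mul_assoc h, hS.conj_H_of_neg hθ h3 hw (inv_mem hh), inv_inv] at this

omit hF in
theorem mem_comm_of_fpf [Finite Γ] {i : Ix D} {h : Γ} (hh : h ∈ HX x) (hh' : h ∈ G1 x σ ρ0) {χ : Ix D → Fˣ}
    (hχ : θ h = dg χ) (h1 : ∀ r ∈ PO ρ0 i, chv χ (co r) ≠ 1) {u : Γ} (hu : u ∈ XS x (PO ρ0 i)) (hu' : σ u = u) :
    u ∈ ⁅G1 x σ ρ0, G1 x σ ρ0⁆ := by
  let P : Subgroup Γ := XS x (PO ρ0 i) ⊓ G1 x σ ρ0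
  have hc : ∀ a ∈ P, h * a * h⁻¹ ∈ P := fun a ha =>
    Subgroup.mem_inf.2 ⟨hS.H_conj_XS hh ha.1, mul_mem (mul_mem hh' (Subgroup.mem_inf.1 ha).2) (inv_mem hh')⟩
  let ψ : P → P := fun a => ⟨(a : Γ)⁻¹ * (h * a * h⁻¹), mul_mem (inv_mem a.2) (hc a a.2)⟩
  have hψ : Function.Injective ψ := fun a b e => by
    have e' : (a : Γ)⁻¹ * (h * a * h⁻¹) = (b : Γ)⁻¹ * (h * b * h⁻¹) := congrArg Subtype.val e
    have := hS.eq_one_of_fpf (closed_PO ρ0 i) (fun _ h => h.1) hh hχ h1 (mul_mem (Subgroup.mem_inf.1 a.2).1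
      (inv_mem (Subgroup.mem_inf.1 b.2).1)) (by
      calc h * (a * (b : Γ)⁻¹) * h⁻¹ = a * ((a : Γ)⁻¹ * (h * a * h⁻¹)) * (h * b * h⁻¹)⁻¹ := by group
        _ = _ := by rw [e']; group)
    exact Subtype.ext (mul_inv_eq_one.1 this)
  obtain ⟨a, ha⟩ := Finite.surjective_of_injective hψ ⟨u, hu, mem_G1_pos hu hu'⟩
  have := Subgroup.commutator_mem_commutator (inv_mem a.2.2) hh'
  rw [commutatorElement_def, inv_inv] at this
  rw [← show (a : Γ)⁻¹ * (h * a * h⁻¹) = u from congrArg Subtype.val ha]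
  simpa [mul_assoc] using this

omit hF in
theorem hsim_of {i : Ix D} {a b : Γ} {t : F} (ht : t ≠ 0) (ha : a ∈ XS x {r | Pos r ∧ r ≠ Lie.sim i})
    (hb : b ∈ XS x {r | Pos r ∧ r ≠ Lie.sim i}) (h : a * x (Lie.sim i) t * b ∈ G1 x σ ρ0) :
    ∃ t ≠ 0, ∃ b ∈ XS x {r | Pos r ∧ r ≠ Lie.sim i}, x (Lie.sim i) t * b ∈ G1 x σ ρ0 := by
  refine ⟨t, ht, (x (Lie.sim i) t)⁻¹ * a * x (Lie.sim i) t * b, mul_mem ?_ hb, by simpa [mul_assoc] using h⟩
  have h1 := hS.XS_le_normalizer_UJ {i} (mem_XS (S := {r | Pos r ∨ InJ {i} r}) (Or.inl (pos_sim i)) t)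
  have h2 : UJ x {i} = XS x {r | Pos r ∧ r ≠ Lie.sim i} := by simp only [UJ, pos_not_InJ_single]
  rw [← h2] at ha ⊢
  simpa using (Subgroup.mem_normalizer_iff.1 (inv_mem h1) a).1 ha

theorem card_U [Finite Γ] {q κ : ℕ}
    (hq : ∀ i, Nat.card (XS x (PO ρ0 i) ⊓ G1 x σ ρ0 : Subgroup Γ) ^ κ = q ^ (PO ρ0 i).ncard) :
    Nat.card (UX x ⊓ G1 x σ ρ0 : Subgroup Γ) ^ κ = q ^ (D.nroots / 2) := by
  rw [← UW_w0, ← wl_w0]
  exact hF.card_UW_pow hS (fun i => by rw [hq, wl_gO]) ((hF.sym hS).w0J_mem_Wf (stable_univ ρ0))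

end Fold

/-- an endomorphism given by a symmetry of the root system -/
structure Tw (x : Rt D → F → Γ) (σ : Γ →* Γ) (E : Emb D D) (φ : F →+* F) (ρ0 : Equiv.Perm (Ix D)) : Prop where
  ok : E.OK
  fits : E.Fits F
  pos : ∀ r, Pos (E.ρ r) ↔ Pos r
  sim : ∀ i, E.ρ (sim i) = sim (ρ0 i) ∧ E.γ (sim i) = 1
  map : ∀ r t, σ (x r t) = x (E.ρ r) (E.f φ r t)

/-- the permutation of the roots -/
noncomputable def Emb.OK.perm {E : Emb D D} (h : E.OK) : Equiv.Perm (Rt D) :=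
  Equiv.ofBijective E.ρ (Finite.injective_iff_bijective.1 h.inj)

/-- the fixed points in the standard torus -/
def Emb.fixT (E : Emb D D) (φ : F →+* F) (ρ0 : Equiv.Perm (Ix D)) : Subgroup (Ix D → Fˣ) where
  carrier := {c | ∀ i, c (ρ0 i) = E.uE φ (sim i) (c i)}
  one_mem' := by simp
  mul_mem' ha hb i := by simp [ha i, hb i]
  inv_mem' ha i := by simp [ha i]

theorem Emb.mem_fixT {E : Emb D D} {φ : F →+* F} {ρ0 : Equiv.Perm (Ix D)} {c : Ix D → Fˣ} :
    c ∈ E.fixT φ ρ0 ↔ ∀ i, (c (ρ0 i) : F) = φ (c i) ^ E.lam (sim i) := by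
  simp only [← coe_uE, Units.val_inj]; rfl

theorem exists_tw {E : Emb D D} (h : E.OK) (hf : E.Fits F) (φ : F →+* F)
    (hs : ∀ r, Function.Surjective fun t : F => φ t ^ E.lam r) (hpos : ∀ r, Pos (E.ρ r) ↔ Pos r)
    {ρ0 : Equiv.Perm (Ix D)} (hsim : ∀ i, E.ρ (sim i) = sim (ρ0 i) ∧ E.γ (sim i) = 1) :
    ∃ σ : D.group F →* D.group F, Tw xA σ E φ ρ0 ∧ Function.Injective σ := by
  obtain ⟨α, hα⟩ := Emb.exists_aut h hf φ hs fun r => (hpos r).2
  exact ⟨α, ⟨h, hf, hpos, hsim, hα⟩, α.injective⟩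

namespace Tw

variable {x : Rt D → F → Γ} {θ : Γ →* GL D.Idx F} {σ : Γ →* Γ} {E : Emb D D} {φ : F →+* F}
  {ρ0 : Equiv.Perm (Ix D)} (hT : Tw x σ E φ ρ0)
include hT

theorem fold (hσ : Function.Injective σ) (hne : ∀ i, ∃ v ∈ XS x (NO ρ0 i), σ v = v ∧ v ≠ 1) :
    Fold x σ hT.ok.perm ρ0 :=
  ⟨hT.pos, fun i => (hT.sim i).1, hσ, fun r t => ⟨_, hT.map r t⟩,
    fun r t => ⟨_, Emb.map_n hT.ok hT.fits φ hT.map r t⟩, hne⟩

theorem map_sim (i : Ix D) (t : F) : σ (x (Lie.sim i) t) = x (Lie.sim (ρ0 i)) (φ t ^ E.lam (Lie.sim i)) := by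
  simp [hT.map, hT.sim, Emb.f]

theorem map_ng (i : Ix D) (t : F) :
    σ (x (ng (Lie.sim i)) t) = x (ng (Lie.sim (ρ0 i))) (φ t ^ E.lam (Lie.sim i)) := by
  obtain ⟨h1, h2, h3, -⟩ := hT.ok.one (Lie.sim i)
  simp [hT.map, hT.sim, Emb.f, h1, h2, h3]

theorem map_hP (hS : Sys x θ) (c : Ix D → Fˣ) :
    σ (hS.hP c) = hS.hP fun j => E.uE φ (Lie.sim (ρ0.symm j)) (c (ρ0.symm j)) := by
  let ψ : (Ix D → Fˣ) →* (Ix D → Fˣ) :=
    { toFun := fun c j => E.uE φ (Lie.sim (ρ0.symm j)) (c (ρ0.symm j))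
      map_one' := by funext j; simp
      map_mul' := fun c c' => by funext j; simp }
  change σ (hS.hP c) = hS.hP (ψ c)
  induction c using Pi.mulSingle_induction with
  | one => simp
  | mul a b ha hb => simp only [map_mul, ha, hb]
  | mulSingle i t =>
    have : ψ (Pi.mulSingle i t) = Pi.mulSingle (ρ0 i) (E.uE φ (Lie.sim i) t) := by
      funext j
      obtain ⟨j, rfl⟩ := ρ0.surjective j
      by_cases e : j = i
      · subst e; simp [ψ]
      · simp [ψ, Pi.mulSingle_eq_of_ne e, Pi.mulSingle_eq_of_ne (ρ0.injective.ne e)]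
    rw [this, hS.hP_single, hS.hP_single, Emb.map_h hT.ok hT.fits φ hT.map hS, (hT.sim i).1]

theorem fix_hP (hS : Sys x θ) {c : Ix D → Fˣ} (hc : c ∈ E.fixT φ ρ0) : σ (hS.hP c) = hS.hP c := by
  rw [hT.map_hP]
  congr 1
  funext j
  rw [← hc, Equiv.apply_symm_apply]

theorem mem_fixT (hS : Sys x θ) (h : Function.Injective hS.hP) {c : Ix D → Fˣ} (hc : σ (hS.hP c) = hS.hP c) :
    c ∈ E.fixT φ ρ0 := fun i => by
  rw [hT.map_hP] at hc
  simpa using (congrFun (h hc) (ρ0 i)).symm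

end Tw

theorem coe_πA (g : D.SteinbergGroup F) : (πA g : D.group F) = sys_xG.rel.lift g := by rw [← subtype_πA]; rfl

theorem πA_hP (c : Ix D → Fˣ) : πA ((sys_xS (D := D)).hP c) = sys_xA.hP c := by
  apply Subtype.ext
  rw [show (sys_xA.hP c : GL D.Idx F) = _ from sys_xA.θ_hP c, ← sys_xS.θ_hP, coe_πA]

theorem Tw.H_inf_G1 {σ : D.group F →* D.group F} {E : Emb D D} {φ : F →+* F} {ρ0 : Equiv.Perm (Ix D)}
    (hT : Tw xA σ E φ ρ0) (hinj : Function.Injective (sys_xS (D := D) (F := F)).hP)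
    (hmem : ∀ c ∈ E.fixT φ ρ0, sys_xA.hP c ∈ G1 xA σ ρ0) :
    HX xA ⊓ G1 xA σ ρ0 = (E.fixT φ ρ0).map sys_xA.hP := by
  refine le_antisymm ?_ (by rintro _ ⟨c, hc, rfl⟩; exact ⟨(sys_xA (D := D) (F := F)).range_hP.le ⟨c, rfl⟩, hmem c hc⟩)
  let σ' := (Emb.rel hT.ok hT.fits φ (sys_xS (D := D))).lift
  have hT' : Tw xS σ' E φ ρ0 := ⟨hT.ok, hT.fits, hT.pos, hT.sim, Rel.lift_xS _⟩
  have h1 : πA.comp σ' = σ.comp πA := hom_ext XS_xS fun r t => by
    simp only [MonoidHom.comp_apply, hT'.map, πA_xS, hT.map]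
  have h3 : G1 xA σ ρ0 ≤ (σ'.eqLocus (MonoidHom.id _)).map πA := by
    refine (Subgroup.closure_le _).2 ?_
    have key : ∀ {l : Fn D} {S : Set (Rt D)}, Closed S → PosOn l S → (∀ r ∈ S, E.ρ r ∈ S) →
        ∀ g ∈ XS xA S, σ g = g → g ∈ (σ'.eqLocus (MonoidHom.id _)).map πA := by
      intro l S hc hp hS g hg e
      rw [← map_XS πA fun r _ => πA_xS r] at hg
      obtain ⟨g, hg, rfl⟩ := hg
      refine ⟨g, ?_, rfl⟩
      have h4 : XS xS S ≤ (XS xS S).comap σ' := XS_le.2 fun r hr t => by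
        rw [Subgroup.mem_comap, hT'.map]; exact mem_XS (hS r hr) _
      refine sys_xS.eq_of_map_eq (g := σ' g) (g' := g) (Set.subset_univ _) hc hp (h4 hg) hg ?_
      rw [← coe_πA, ← coe_πA, ← e]
      exact congrArg Subtype.val (DFunLike.congr_fun h1 g)
    rintro g ⟨e, i, hg | hg⟩
    · exact key closed_pos posOn_pos (fun r hr => (hT.pos r).2 hr) g (XS_mono (fun _ h => h.1) hg) e
    · exact key closed_neg posOn_neg (fun r hr => mt (hT.pos r).1 hr) g (XS_mono (fun _ h => h.1) hg) e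
  rintro h ⟨hh, hh'⟩
  obtain ⟨g, hg, rfl⟩ := h3 hh'
  obtain ⟨c, hc⟩ := sys_xA.range_hP.ge hh
  rw [← πA_hP] at hc
  have h5 : g ∈ HX xS := by
    have := sys_xS.mem_H_of_ker (g := (sys_xS.hP c)⁻¹ * g) (by simp [XS_xS]) (by rw [← coe_πA, map_mul, map_inv, hc]; simp)
    rwa [Subgroup.mul_mem_cancel_left _ (inv_mem (sys_xS.range_hP.le ⟨c, rfl⟩))] at this
  obtain ⟨c', rfl⟩ := sys_xS.range_hP.ge h5
  exact ⟨c', hT'.mem_fixT sys_xS hinj hg, (πA_hP c').symm⟩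

/-- transport of a BN-pair along an isomorphism -/
def bnComap {A B : Type*} [Group A] [Group B] (P : BNPair A) (e : B ≃* A) : BNPair B where
  B := P.B.comap e.toMonoidHom
  N := P.N.comap e.toMonoidHom
  S := e ⁻¹' P.S
  sup_eq_top := by rw [Subgroup.comap_sup_eq _ _ _ e.surjective, P.sup_eq_top, Subgroup.comap_top]
  conj_mem n hn t ht := by simpa using P.conj_mem _ hn (e t) ht
  subset s hs := P.subset hs
  sq_mem s hs := by simpa using P.sq_mem _ hs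
  inj s hs s' hs' h := e.injective (P.inj _ hs _ hs' (by simpa using h))
  closure_sup := by
    conv_rhs => rw [← P.closure_sup, ← Subgroup.comap_sup_eq _ _ _ e.surjective, Subgroup.comap_inf]
    congr 1
    rw [show (Subgroup.closure P.S).comap e.toMonoidHom = _ from (Subgroup.map_equiv_eq_comap_symm' e.symm _).symm,
      MonoidHom.map_closure]
    congr 1
    exact (e.toEquiv.image_symm_eq_preimage _).symm
  mul_mem_union s hs n hn b hb := by
    have := P.mul_mem_union _ hs _ hn _ hb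
    simp only [Set.mem_union, DoubleCoset.mem_doubleCoset, SetLike.mem_coe] at this ⊢
    rcases this with ⟨x, hx, y, hy, h⟩ | ⟨x, hx, y, hy, h⟩
    · exact Or.inl ⟨e.symm x, by simpa, e.symm y, by simpa, e.injective (by simpa using h)⟩
    · exact Or.inr ⟨e.symm x, by simpa, e.symm y, by simpa, e.injective (by simpa using h)⟩
  conj_ne s hs h := P.conj_ne _ hs (by
    ext b
    have := Set.ext_iff.1 h (e.symm b)
    simp only [Set.mem_image, SetLike.mem_coe, Subgroup.mem_comap, MulEquiv.coe_toMonoidHom,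
      MulEquiv.apply_symm_apply] at this ⊢
    rw [← this]
    exact ⟨fun ⟨x, hx, h⟩ => ⟨e.symm x, by simpa, e.injective (by simpa using h)⟩,
      fun ⟨x, hx, h⟩ => ⟨e x, hx, by simpa using congrArg e h⟩⟩)

section transfer

variable {Γ' : Type*} [Group Γ'] {θ : Γ →* Γ'} (hθ : Function.Injective θ) (K : Subgroup Γ)
include hθ

theorem subgroupOf_map (B : Subgroup Γ) : (B.map θ ⊓ K.map θ).subgroupOf (K.map θ) =
    (B.subgroupOf K).comap (K.equivMapOfInjective θ hθ).symm.toMonoidHom := by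
  ext g
  obtain ⟨g, rfl⟩ := (K.equivMapOfInjective θ hθ).surjective g
  simp [Subgroup.mem_subgroupOf, Subgroup.mem_map_iff_mem hθ]

theorem card_inf_map (B : Subgroup Γ) : Nat.card (B.map θ ⊓ K.map θ : Subgroup Γ') = Nat.card (B ⊓ K : Subgroup Γ) := by
  rw [← Subgroup.map_inf _ _ _ hθ, Subgroup.card_map_of_injective hθ]

theorem exists_hom_map {N H : Subgroup Γ} {A : Type*} [Group A] (φ : (N ⊓ K : Subgroup Γ) →* A)
    (h1 : Function.Surjective φ) (h2 : φ.ker = (H ⊓ K).subgroupOf (N ⊓ K)) :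
    ∃ φ : (N.map θ ⊓ K.map θ : Subgroup Γ') →* A, Function.Surjective φ ∧
      φ.ker = (H.map θ ⊓ K.map θ).subgroupOf (N.map θ ⊓ K.map θ) := by
  rw [← Subgroup.map_inf _ _ _ hθ, ← Subgroup.map_inf _ _ _ hθ]
  refine ⟨φ.comp ((N ⊓ K).equivMapOfInjective θ hθ).symm.toMonoidHom,
    h1.comp ((N ⊓ K).equivMapOfInjective θ hθ).symm.surjective, ?_⟩
  rw [← MonoidHom.comap_ker, h2]
  ext g
  obtain ⟨g, rfl⟩ := ((N ⊓ K).equivMapOfInjective θ hθ).surjective g
  simp [Subgroup.mem_subgroupOf, Subgroup.mem_map_iff_mem hθ]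

theorem perfect_map (h : commutator K = ⊤) : commutator (K.map θ) = ⊤ := by
  have := congrArg (Subgroup.map (K.equivMapOfInjective θ hθ).toMonoidHom) h
  rwa [commutator_def, Subgroup.map_commutator, Subgroup.map_top_of_surjective _ (MulEquiv.surjective _)] at this

theorem core_map {B : Subgroup Γ} (h : (B.subgroupOf K).normalCore = ⊥) :
    ((B.map θ ⊓ K.map θ).subgroupOf (K.map θ)).normalCore = ⊥ := by
  rw [subgroupOf_map hθ, eq_bot_iff]
  intro g hg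
  have : (K.equivMapOfInjective θ hθ).symm g ∈ (B.subgroupOf K).normalCore := fun b => by
    simpa using hg (K.equivMapOfInjective θ hθ b)
  simpa [h] using this

theorem simple_map (h : IsSimpleGroup K ∧ ¬ IsMulCommutative K) :
    IsSimpleGroup (K.map θ) ∧ ¬ IsMulCommutative (K.map θ) := by
  have := h.1
  refine ⟨(K.equivMapOfInjective θ hθ).symm.isSimpleGroup, fun h' => h.2 ⟨⟨fun a b => ?_⟩⟩⟩
  apply (K.equivMapOfInjective θ hθ).injective
  rw [map_mul, map_mul, h'.1.1]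

end transfer

/-- a subgroup of the general linear group identified with a twisted group -/
structure IsTw (T : Subgroup (GL D.Idx F)) (σ : D.group F →* D.group F) (ρ : Equiv.Perm (Rt D))
    (ρ0 : Equiv.Perm (Ix D)) : Prop where
  fold : Fold xA σ ρ ρ0
  eq : T = (G1 xA σ ρ0).map (D.group F).subtype

theorem posU_eq' : D.posUnipotent F = (UX xA).map (D.group F).subtype := by rw [posU_eq, map_UX sys_xA.θ_x]
theorem diag_eq' : D.diagonalSubgroup F = (HX xA).map (D.group F).subtype := by rw [diag_eq, map_HX sys_xA.θ_x]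
theorem mono_eq' : D.monomialSubgroup F = (NX xA).map (D.group F).subtype := by rw [mono_eq, map_NX sys_xA.θ_x]
theorem borel_eq' : D.borelSubgroup F = (BX xA).map (D.group F).subtype := by rw [borel_eq, map_BX sys_xA.θ_x]

theorem coe_wd (w : List (Rt D × F)) :
    ((wd xA w : D.group F) : GL D.Idx F).1 = D.wordMat F (w.map (Prod.map Fin.val id)) := by
  induction w with
  | nil => rfl
  | cons p w ih => rw [List.map_cons, wordMat_cons, ← ih]; simp [wd, x_eq, xA]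

theorem coe1 (a : Rt D) (t : F) : ((xA a t : D.group F) : GL D.Idx F).1 = D.wordMat F [(a, t)] := by
  simpa [wd] using coe_wd [(a, t)]
theorem coe2 (a b : Rt D) (t u : F) :
    ((xA a t * xA b u : D.group F) : GL D.Idx F).1 = D.wordMat F [(a, t), (b, u)] := by
  simpa [wd] using coe_wd [(a, t), (b, u)]
theorem coe3 (a b c : Rt D) (t u v : F) :
    ((xA a t * xA b u * xA c v : D.group F) : GL D.Idx F).1 = D.wordMat F [(a, t), (b, u), (c, v)] := by
  simpa [wd, mul_assoc] using coe_wd [(a, t), (b, u), (c, v)]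

theorem genSubgroup_eq {S : Set (List (ℕ × F))} {σ : D.group F →* D.group F} {ρ0 : Equiv.Perm (Ix D)}
    (h1 : ∀ w ∈ S, ∃ g ∈ G1 xA σ ρ0, (g : GL D.Idx F).1 = D.wordMat F w)
    (h2 : ∀ g i, σ g = g → g ∈ XS xA (PO ρ0 i) ∨ g ∈ XS xA (NO ρ0 i) →
      ∃ w ∈ S, (g : GL D.Idx F).1 = D.wordMat F w) :
    D.genSubgroup F S = (G1 xA σ ρ0).map (D.group F).subtype := by
  refine le_antisymm ((Subgroup.closure_le _).2 ?_) ?_
  · rintro g ⟨w, hw, e⟩
    obtain ⟨g', h, e'⟩ := h1 w hw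
    exact ⟨_, h, Units.ext (e'.trans e.symm)⟩
  · rw [Subgroup.map_le_iff_le_comap]
    refine (Subgroup.closure_le _).2 ?_
    rintro g ⟨h3, i, h4⟩
    exact Subgroup.subset_closure (h2 g i h3 h4)

namespace IsTw

variable {T : Subgroup (GL D.Idx F)} {σ : D.group F →* D.group F} {ρ : Equiv.Perm (Rt D)}
  {ρ0 : Equiv.Perm (Ix D)} (h : IsTw T σ ρ ρ0)
include h

theorem card_U : Nat.card (D.posUnipotent F ⊓ T : Subgroup _) = Nat.card (UX xA ⊓ G1 xA σ ρ0 : Subgroup _) := by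
  rw [h.eq, posU_eq', card_inf_map (D.group F).subtype_injective]

theorem card_H : Nat.card (D.diagonalSubgroup F ⊓ T : Subgroup _) = Nat.card (HX xA ⊓ G1 xA σ ρ0 : Subgroup _) := by
  rw [h.eq, diag_eq', card_inf_map (D.group F).subtype_injective]

theorem card [Finite F] : Nat.card T = Nat.card (D.posUnipotent F ⊓ T : Subgroup _) *
    Nat.card (D.diagonalSubgroup F ⊓ T : Subgroup _) *
      PS ρ (fun w => Nat.card (UW xA w⁻¹ ⊓ G1 xA σ ρ0 : Subgroup _)) Set.univ := by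
  rw [h.card_U, h.card_H, ← h.fold.card_G1 sys_xA, h.eq, Subgroup.card_map_of_injective (D.group F).subtype_injective]

theorem bn : ∃ P : BNPair T, P.B = (D.borelSubgroup F ⊓ T).subgroupOf T ∧
    P.N = (D.monomialSubgroup F ⊓ T).subgroupOf T := by
  obtain ⟨P, h1, h2, -⟩ := h.fold.exists_bn sys_xA
  rw [h.eq, borel_eq', mono_eq', subgroupOf_map (D.group F).subtype_injective,
    subgroupOf_map (D.group F).subtype_injective, ← h1, ← h2]
  exact ⟨bnComap P _, rfl, rfl⟩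

theorem hom {A : Type*} [Group A] (e : Wf ρ ≃* A) :
    ∃ φ : (D.monomialSubgroup F ⊓ T : Subgroup _) →* A, Function.Surjective φ ∧
      φ.ker = (D.diagonalSubgroup F ⊓ T).subgroupOf (D.monomialSubgroup F ⊓ T) := by
  obtain ⟨φ, h1, h2⟩ := h.fold.exists_hom sys_xA e
  rw [h.eq, diag_eq', mono_eq']
  exact exists_hom_map (D.group F).subtype_injective _ φ h1 h2

theorem perfect (hp : commutator (G1 xA σ ρ0) = ⊤) : commutator T = ⊤ := by
  rw [h.eq]; exact perfect_map (D.group F).subtype_injective _ hp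

theorem core (hp : ((BX xA).subgroupOf (G1 xA σ ρ0)).normalCore = ⊥) :
    ((D.borelSubgroup F ⊓ T).subgroupOf T).normalCore = ⊥ := by
  rw [h.eq, borel_eq']; exact core_map (D.group F).subtype_injective _ hp

theorem simple (hc : ((BX xA).subgroupOf (G1 xA σ ρ0)).normalCore = ⊥) (hp : commutator (G1 xA σ ρ0) = ⊤) :
    IsSimpleGroup T ∧ ¬ IsMulCommutative T := by
  rw [h.eq]; exact simple_map (D.group F).subtype_injective _ (h.fold.simple sys_xA hc hp)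

end IsTw

theorem card_map_hP [Finite F] (T : Subgroup (Ix D → Fˣ)) :
    Nat.card (T ⊓ (carH Fˣ).ker : Subgroup _) * Nat.card (T.map (sys_xA (D := D)).hP) = Nat.card T := by
  have h1 : (sys_xA (D := D) (F := F)).hP.ker = (carH Fˣ).ker := by
    ext c
    rw [MonoidHom.mem_ker, MonoidHom.mem_ker, Subtype.ext_iff, show (sys_xA.hP c : GL D.Idx F) = _ from sys_xA.θ_hP c]
    exact map_eq_one_iff _ dg_inj
  rw [← h1, ← Subgroup.card_mul_index ((sys_xA (D := D) (F := F)).hP.ker.subgroupOf T), ← Subgroup.relIndex,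
    Subgroup.relIndex_ker, inf_comm, ← Subgroup.inf_subgroupOf_right,
    Nat.card_congr (Subgroup.subgroupOfEquivOfLe inf_le_right).toEquiv]

end Cfsg.Agent.Lie
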