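import Cfsg.Agent.Lie.Roots

set_option autoImplicit false
set_option linter.unusedSectionVars false

/-! The Weyl group of a good datum as a permutation group on the roots. -/

namespace Cfsg.Agent.Lie

open Cfsg.Lie

variable {D : ChevalleyDatum} [G : Good D]

/-- the fundamental reflection as a function -/
def reflF (i : Ix D) (s : Rt D) : Rt D := ⟨D.reflectRoot i s, G.is.refl_lt i i.2 s s.2⟩

theorem co_reflF (i : Ix D) (s : Rt D) : co (reflF i s) = co s - A (sim i) s • co (sim i) := by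
  funext j
  have := G.is.refl_co i i.2 s s.2 j j.2
  simp only [Fin.val_inj] at this
  rw [co_sim, A_sim]
  simp only [Pi.sub_apply, Pi.smul_apply, Pi.single_apply, smul_eq_mul, mul_ite, mul_one, mul_zero]
  exact this

theorem len_eq_of_refl {r s u : Rt D} (h : co u = co s - A r s • co r) : len u = len s := by
  have h1 : Q (co u) (co u) = 2 * len u := by rw [Q_co, ← A_eq_pr, A_self]
  have h2 : Q (co s) (co s) = 2 * len s := by rw [Q_co, ← A_eq_pr, A_self]
  have h3 : Q (co r) (co r) = 2 * len r := by rw [Q_co, ← A_eq_pr, A_self]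
  have h4 : Q (co r) (co s) = A r s * len r := by rw [Q_co, ← A_eq_pr]
  rw [h, Q_sub_left, Q_smul_left, Q_symm (co s), Q_symm (co r), Q_sub_left, Q_sub_left, Q_smul_left,
    Q_smul_left, h2, h3, Q_symm (co s) (co r), h4] at h1
  linarith

theorem A_refl_left {r s u : Rt D} (h : co u = co s - A r s • co r) (v : Rt D) :
    A u v = A s v - A s r * A r v := by
  have h1 : Q (co u) (co v) = A u v * len u := by rw [Q_co, ← A_eq_pr]
  rw [h, Q_sub_left, Q_smul_left, Q_co, Q_co, ← A_eq_pr, ← A_eq_pr, len_eq_of_refl h] at h1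
  have := A_len r s
  apply mul_right_cancel₀ (len_pos s).ne'
  linear_combination -h1 - A r v * this

theorem A_refl_right {r s u : Rt D} (h : co u = co s - A r s • co r) (v : Rt D) :
    A v u = A v s - A r s * A v r := by
  rw [A_eq_pr, h, pr_sub, pr_smul, ← A_eq_pr, ← A_eq_pr]

theorem A_refl_refl {r s u s' u' : Rt D} (h : co u = co s - A r s • co r)
    (h' : co u' = co s' - A r s' • co r) : A u u' = A s s' := by
  rw [A_refl_left h, A_refl_right h', A_refl_right h', A_self]; ring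

theorem cr_eq_of_A {u : Rt D} {v : Ix D → ℤ} (h : ∀ j, A u (sim j) = ∑ i, v i * ca i (sim j)) :
    cr u = v := by
  rw [← sub_eq_zero]
  apply nondeg_cr
  intro j
  simp only [Pi.sub_apply, sub_mul, Finset.sum_sub_distrib, ← h]
  exact sub_self _

theorem cr_refl {r s u : Rt D} (h : co u = co s - A r s • co r) : cr u = cr s - A s r • cr r := by
  apply cr_eq_of_A
  intro j
  rw [A_refl_left h]
  simp only [A, Pi.sub_apply, Pi.smul_apply, smul_eq_mul, sub_mul, Finset.sum_sub_distrib, mul_assoc,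
    ← Finset.mul_sum]

/-- automorphisms of the root system -/
def AutR (D : ChevalleyDatum) [Good D] : Subgroup (Equiv.Perm (Rt D)) where
  carrier := {w | ∀ r s, A (w r) (w s) = A r s}
  one_mem' := fun _ _ => rfl
  mul_mem' := fun {a b} ha hb r s => by
    simp only [Equiv.Perm.mul_apply]; rw [ha, hb]
  inv_mem' := fun {a} ha r s => by
    rw [← ha]; simp

theorem A_aut {w : Equiv.Perm (Rt D)} (hw : w ∈ AutR D) (r s : Rt D) : A (w r) (w s) = A r s := hw r s

theorem A_aut' {w : Equiv.Perm (Rt D)} (hw : w ∈ AutR D) (r s : Rt D) : A r (w s) = A (w⁻¹ r) s := by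
  rw [← hw (w⁻¹ r)]; simp

/-- the linear map on the root lattice induced by a permutation -/
def Lw (w : Equiv.Perm (Rt D)) : (Ix D → ℤ) →ₗ[ℤ] (Ix D → ℤ) where
  toFun v := ∑ j, v j • co (w (sim j))
  map_add' v v' := by simp [add_smul, Finset.sum_add_distrib]
  map_smul' a v := by simp [Finset.smul_sum, mul_smul]

theorem pr_sum {ι : Type*} (r : Rt D) (s : Finset ι) (v : ι → Ix D → ℤ) :
    pr r (∑ k ∈ s, v k) = ∑ k ∈ s, pr r (v k) := by
  classical
  induction s using Finset.induction_on with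
  | empty => simp
  | insert a s ha ih => rw [Finset.sum_insert ha, Finset.sum_insert ha, pr_add, ih]

theorem co_aut {w : Equiv.Perm (Rt D)} (hw : w ∈ AutR D) (u : Rt D) : co (w u) = Lw w (co u) := by
  rw [← sub_eq_zero]
  apply nondeg_co
  intro i
  rw [pr_sub, ← A_eq_pr, A_aut' hw, A_eq_pr]
  change _ - pr _ (∑ j, co u j • co (w (sim j))) = 0
  rw [pr_sum]
  simp only [pr_smul, ← A_eq_pr, A_aut' hw]
  rw [A_eq_pr, pr, sub_self]

theorem cr_aut {w : Equiv.Perm (Rt D)} (hw : w ∈ AutR D) (u : Rt D) :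
    cr (w u) = ∑ j, cr u j • cr (w (sim j)) := by
  apply cr_eq_of_A
  intro k
  have : A (w u) (sim k) = A u (w⁻¹ (sim k)) := by rw [← hw u]; simp
  rw [this, A]
  simp only [Finset.sum_apply, Pi.smul_apply, smul_eq_mul, Finset.sum_mul]
  rw [Finset.sum_comm]
  refine Finset.sum_congr rfl fun j _ => ?_
  simp only [mul_assoc, ← Finset.mul_sum]
  congr 1
  change _ = A (w (sim j)) (sim k)
  rw [← A_sim, ← hw (sim j)]; simp

theorem aut_ng {w : Equiv.Perm (Rt D)} (hw : w ∈ AutR D) (u : Rt D) : w (ng u) = ng (w u) :=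
  co_inj (by rw [co_aut hw, co_ng, co_ng, co_aut hw, map_neg])

theorem f_aut {w : Equiv.Perm (Rt D)} (hw : w ∈ AutR D) (u : Rt D) :
    f (w u) = ∑ j, co u j * f (w (sim j)) := by
  rw [f, co_aut hw]
  change fv (∑ j, co u j • co (w (sim j))) = _
  simp only [fv_sum, fv_smul, f]

theorem aut_add {w : Equiv.Perm (Rt D)} (hw : w ∈ AutR D) {r s : Rt D} (h : N r s ≠ 0) :
    N (w r) (w s) ≠ 0 ∧ add (w r) (w s) = w (add r s) := by
  have : co (w (add r s)) = co (w r) + co (w s) := by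
    rw [co_aut hw, add_co h, map_add, ← co_aut hw, ← co_aut hw]
  exact ⟨N_ne this, add_eq this⟩

theorem aut_N_eq_zero {w : Equiv.Perm (Rt D)} (hw : w ∈ AutR D) {r s : Rt D} :
    N (w r) (w s) = 0 ↔ N r s = 0 := by
  constructor
  · intro h; by_contra hc; exact (aut_add hw hc).1 h
  · intro h; by_contra hc
    have := (aut_add ((AutR D).inv_mem hw) hc).1
    simp only [Equiv.Perm.coe_inv, Equiv.symm_apply_apply] at this
    exact this h

theorem aut_pos {w : Equiv.Perm (Rt D)} (hw : w ∈ AutR D) {u : Rt D} (hu : Pos u)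
    (h : ∀ j, co u j ≠ 0 → Pos (w (sim j))) : Pos (w u) := by
  rw [Pos, f_aut hw]
  obtain ⟨j, hj⟩ := Function.ne_iff.1 (co_ne_zero u)
  have h0 := (pos_iff u).1 hu
  refine Finset.sum_pos' (fun i _ => ?_) ⟨j, Finset.mem_univ _, ?_⟩
  · by_cases hi : co u i = 0
    · simp [hi]
    · exact mul_nonneg (h0 i) (h i hi).le
  · exact mul_pos (lt_of_le_of_ne (h0 j) (Ne.symm hj)) (h j hj)

theorem aut_not_pos {w : Equiv.Perm (Rt D)} (hw : w ∈ AutR D) {u : Rt D} (hu : Pos u)
    (h : ∀ j, co u j ≠ 0 → ¬ Pos (w (sim j))) : ¬ Pos (w u) := by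
  have : f (w u) ≤ 0 := by
    rw [f_aut hw]
    refine Finset.sum_nonpos fun i _ => ?_
    by_cases hi : co u i = 0
    · simp [hi]
    · exact mul_nonpos_of_nonneg_of_nonpos ((pos_iff u).1 hu i) (not_lt.1 (h i hi))
  exact not_lt.2 this

theorem reflF_invol (i : Ix D) : Function.Involutive (reflF i) := fun s => by
  apply co_inj
  rw [co_reflF, A_refl_right (co_reflF i s), A_self, co_reflF]
  module

/-- the fundamental reflections -/
def refl (i : Ix D) : Equiv.Perm (Rt D) := Function.Involutive.toPerm (reflF i) (reflF_invol i)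

theorem refl_val (i : Ix D) (s : Rt D) : (refl i s : ℕ) = D.reflectRoot i s := rfl

theorem co_refl (i : Ix D) (s : Rt D) : co (refl i s) = co s - A (sim i) s • co (sim i) := co_reflF i s

theorem co_refl_of_ne {i j : Ix D} (h : j ≠ i) (s : Rt D) : co (refl i s) j = co s j := by
  simp [co_refl, co_sim, Pi.single_eq_of_ne h]

theorem co_refl_self (i : Ix D) (s : Rt D) : co (refl i s) i = co s i - A (sim i) s := by
  simp [co_refl, co_sim]

theorem refl_mul_self (i : Ix D) : refl i * refl i = 1 := by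
  exact Equiv.ext (reflF_invol i)

@[simp] theorem refl_refl (i : Ix D) (s : Rt D) : refl i (refl i s) = s := by
  rw [← Equiv.Perm.mul_apply, refl_mul_self]; rfl

@[simp] theorem refl_inv (i : Ix D) : (refl i)⁻¹ = refl i := inv_eq_of_mul_eq_one_right (refl_mul_self i)

theorem refl_mem_aut (i : Ix D) : refl i ∈ AutR D := fun r s => A_refl_refl (co_refl i r) (co_refl i s)

@[simp] theorem refl_sim (i : Ix D) : refl i (sim i) = ng (sim i) :=
  co_inj (by rw [co_refl, A_self, co_ng]; module)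

theorem eq_sim_of_co {r : Rt D} {i : Ix D} (h : ∀ j ≠ i, co r j = 0) : r = sim i ∨ r = ng (sim i) := by
  by_contra hc
  push Not at hc
  have := indep hc.1 hc.2 (i := co r i) (j := -1) (by
    funext j
    by_cases hj : j = i
    · subst hj; simp [co_sim]
    · simp [co_sim, Pi.single_eq_of_ne hj, h j hj])
  simp at this

theorem pos_refl {i : Ix D} {s : Rt D} (hs : Pos s) (hne : s ≠ sim i) : Pos (refl i s) := by
  by_contra hc
  have : ∀ j ≠ i, co s j = 0 := fun j hj => by
    have h1 := (pos_iff s).1 hs j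
    have h2 := (not_pos_iff _).1 hc j
    rw [co_refl_of_ne hj] at h2
    omega
  rcases eq_sim_of_co this with h | h
  · exact hne h
  · rw [h, pos_ng] at hs; exact hs (pos_sim i)

theorem pos_refl_iff {i : Ix D} {s : Rt D} (hne : s ≠ sim i) (hne' : s ≠ ng (sim i)) :
    Pos (refl i s) ↔ Pos s := by
  refine ⟨fun h => ?_, fun h => pos_refl h hne⟩
  have := pos_refl (i := i) h (fun h' => hne' (by rw [← refl_sim, ← h', refl_refl]))
  rwa [refl_refl] at this

theorem eq_sim_of_pos_refl {i : Ix D} {s : Rt D} (hs : Pos s) (h : ¬ Pos (refl i s)) : s = sim i := by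
  by_contra hc; exact h (pos_refl hs hc)

/-- The Weyl group -/
def W (D : ChevalleyDatum) [Good D] : Subgroup (Equiv.Perm (Rt D)) := Subgroup.closure (Set.range refl)

theorem W_le_aut : W D ≤ AutR D := by
  rw [W, Subgroup.closure_le]; rintro _ ⟨i, rfl⟩; exact refl_mem_aut i

/-- the fundamental reflections in the Weyl group -/
def sw (i : Ix D) : W D := ⟨refl i, Subgroup.subset_closure ⟨i, rfl⟩⟩

@[simp] theorem sw_coe (i : Ix D) : (sw i : Equiv.Perm (Rt D)) = refl i := rfl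

theorem sw_sq (i : Ix D) : sw i * sw i = 1 := Subtype.ext (refl_mul_self i)

theorem W_aut (w : W D) : w.1 ∈ AutR D := W_le_aut w.2

theorem invGen_sw : InvGen (sw : Ix D → W D) := by
  refine ⟨sw_sq, fun w => ?_⟩
  obtain ⟨L, -, hL⟩ := exists_wp_of_mem_closure refl_mul_self Set.univ (w := w.1)
    (by rw [Set.image_univ]; exact w.2)
  refine ⟨L, Subtype.ext ?_⟩
  rw [← hL]
  exact map_wp (W D).subtype _ _

/-- parabolic subgroups of the Weyl group -/
def WJ (J : Set (Ix D)) : Subgroup (W D) := Subgroup.closure (sw '' J)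

theorem WJ_univ : WJ (Set.univ : Set (Ix D)) = ⊤ := by
  rw [eq_top_iff]
  intro w _
  obtain ⟨L, rfl⟩ := invGen_sw.gen w
  exact wp_mem_closure _ _ L (by simp)

theorem sw_mem_WJ {J : Set (Ix D)} {i : Ix D} (h : i ∈ J) : sw i ∈ WJ J :=
  Subgroup.subset_closure ⟨i, h, rfl⟩

/-- roots in the subsystem spanned by `J` -/
def InJ (J : Set (Ix D)) (r : Rt D) : Prop := ∀ i ∉ J, co r i = 0

theorem InJ_ng {J : Set (Ix D)} {r : Rt D} : InJ J (ng r) ↔ InJ J r := by simp [InJ]

theorem InJ_sim {J : Set (Ix D)} {i : Ix D} : InJ J (sim i) ↔ i ∈ J := by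
  constructor
  · intro h; by_contra hc; simpa [co_sim] using h i hc
  · intro h j hj
    rw [co_sim, Pi.single_eq_of_ne]; rintro rfl; exact hj h

theorem co_WJ {J : Set (Ix D)} {w : W D} (hw : w ∈ WJ J) (r : Rt D) {i : Ix D} (hi : i ∉ J) :
    co (w.1 r) i = co r i := by
  obtain ⟨L, hL, rfl⟩ := exists_wp_of_mem_closure sw_sq J hw
  clear hw
  induction L with
  | nil => rfl
  | cons j L ih =>
    rw [wp_cons, Subgroup.coe_mul, Equiv.Perm.mul_apply, sw_coe, co_refl_of_ne,
      ih fun k hk => hL k (by simp [hk])]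
    rintro rfl; exact hi (hL i (by simp))

theorem InJ_WJ {J : Set (Ix D)} {w : W D} (hw : w ∈ WJ J) (r : Rt D) : InJ J (w.1 r) ↔ InJ J r :=
  forall₂_congr fun i hi => by rw [co_WJ hw r hi]

theorem pos_WJ {J : Set (Ix D)} {w : W D} (hw : w ∈ WJ J) {r : Rt D} (hr : ¬ InJ J r) :
    Pos (w.1 r) ↔ Pos r := by
  simp only [InJ, not_forall] at hr
  obtain ⟨i, hi, h⟩ := hr
  have e := co_WJ hw r hi
  rcases lt_or_gt_of_ne h with h | h
  · exact iff_of_false (not_pos_of_co_neg (e ▸ h)) (not_pos_of_co_neg h)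
  · exact iff_of_true (pos_of_co_pos (e ▸ h)) (pos_of_co_pos h)

theorem exists_A_pos {r : Rt D} (hr : Pos r) : ∃ i, 0 < co r i ∧ 0 < A (sim i) r := by
  by_contra hc
  push Not at hc
  have h1 : A r r ≤ 0 := by
    rw [A_eq_pr, pr]
    refine Finset.sum_nonpos fun j _ => ?_
    rcases ((pos_iff r).1 hr j).lt_or_eq with h | h
    · refine mul_nonpos_of_nonneg_of_nonpos h.le ?_
      by_contra h2
      exact absurd ((A_pos_iff _ _).1 (not_le.1 h2)) (not_lt.2 (hc j h))
    · simp [← h]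
  simp at h1

theorem f_refl (i : Ix D) (s : Rt D) : f (refl i s) = f s - A (sim i) s * f (sim i) := by
  simp only [f, co_refl, fv_sub, fv_smul]

/-- induction on positive roots -/
theorem pos_induction {p : Rt D → Prop} (hsim : ∀ i, p (sim i))
    (hstep : ∀ r i, Pos r → r ≠ sim i → 0 < co r i → 0 < A (sim i) r → p (refl i r) → p r)
    (r : Rt D) (hr : Pos r) : p r := by
  induction h : (f r).toNat using Nat.strong_induction_on generalizing r with
  | _ k ih =>
  obtain ⟨i, h1, h2⟩ := exists_A_pos hr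
  by_cases hne : r = sim i
  · rw [hne]; exact hsim i
  refine hstep r i hr hne h1 h2 (ih _ ?_ _ (pos_refl hr hne) rfl)
  have h3 : 0 < f (refl i r) := pos_refl hr hne
  have h4 := mul_pos h2 (pos_sim i)
  have := f_refl i r
  omega

theorem exists_conj_sim_J {J : Set (Ix D)} (r : Rt D) (hr : InJ J r) :
    ∃ w ∈ WJ J, ∃ i ∈ J, r = w.1 (sim i) := by
  have key : ∀ r, Pos r → InJ J r → ∃ w ∈ WJ J, ∃ i ∈ J, r = w.1 (sim i) := by
    intro r hp
    refine pos_induction (p := fun r => InJ J r → ∃ w ∈ WJ J, ∃ i ∈ J, r = w.1 (sim i)) ?_ ?_ r hp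
    · exact fun i h => ⟨1, Subgroup.one_mem _, i, InJ_sim.1 h, rfl⟩
    · intro r i _ _ h1 _ ih h
      have hi : i ∈ J := by by_contra hc; have := h i hc; omega
      obtain ⟨w, hw, j, hj, e⟩ := ih ((InJ_WJ (sw_mem_WJ hi) r).2 h)
      refine ⟨sw i * w, Subgroup.mul_mem _ (sw_mem_WJ hi) hw, j, hj, ?_⟩
      rw [Subgroup.coe_mul, Equiv.Perm.mul_apply, ← e]; simp
  by_cases hp : Pos r
  · exact key r hp hr
  · obtain ⟨w, hw, i, hi, e⟩ := key (ng r) ((pos_ng r).2 hp) (InJ_ng.2 hr)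
    refine ⟨w * sw i, Subgroup.mul_mem _ hw (sw_mem_WJ hi), i, hi, ?_⟩
    rw [Subgroup.coe_mul, Equiv.Perm.mul_apply, sw_coe, refl_sim, aut_ng (W_aut w), ← e, ng_ng]

theorem exists_conj_sim (r : Rt D) : ∃ (w : W D) (i : Ix D), r = w.1 (sim i) := by
  obtain ⟨w, -, i, -, e⟩ := exists_conj_sim_J (J := Set.univ) r (fun i hi => absurd trivial hi)
  exact ⟨w, i, e⟩

theorem co_conj_refl {w : Equiv.Perm (Rt D)} (hw : w ∈ AutR D) {r : Rt D} {σ : Equiv.Perm (Rt D)}
    (h : ∀ s, co (σ s) = co s - A r s • co r) (s : Rt D) :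
    co ((w * σ * w⁻¹) s) = co s - A (w r) s • co (w r) := by
  simp only [Equiv.Perm.mul_apply]
  rw [co_aut hw, h, map_sub, map_smul, ← co_aut hw, ← co_aut hw, ← hw r]
  simp

theorem exists_rf (r : Rt D) : ∃ σ : W D, ∀ s, co (σ.1 s) = co s - A r s • co r := by
  obtain ⟨w, i, rfl⟩ := exists_conj_sim r
  exact ⟨w * sw i * w⁻¹, co_conj_refl (W_aut w) (co_refl i)⟩

/-- the reflection in an arbitrary root -/
noncomputable def rf (r : Rt D) : W D := (exists_rf r).choose

theorem co_rf (r s : Rt D) : co ((rf r).1 s) = co s - A r s • co r := (exists_rf r).choose_spec s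

theorem rf_eq {r : Rt D} {σ : Equiv.Perm (Rt D)} (h : ∀ s, co (σ s) = co s - A r s • co r) :
    (rf r).1 = σ := Equiv.ext fun s => co_inj (by rw [co_rf, h])

@[simp] theorem rf_sim (i : Ix D) : rf (sim i) = sw i := Subtype.ext (rf_eq (co_refl i))

theorem rf_aut {w : Equiv.Perm (Rt D)} (hw : w ∈ AutR D) (r : Rt D) :
    (rf (w r)).1 = w * (rf r).1 * w⁻¹ := rf_eq (co_conj_refl hw (co_rf r))

theorem rf_W (w : W D) (r : Rt D) : rf (w.1 r) = w * rf r * w⁻¹ := Subtype.ext (rf_aut (W_aut w) r)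

@[simp] theorem rf_ng (r : Rt D) : rf (ng r) = rf r :=
  Subtype.ext (rf_eq fun s => by rw [co_rf, A_ng_left, co_ng]; module)

@[simp] theorem rf_self (r : Rt D) : (rf r).1 r = ng r := co_inj (by rw [co_rf, A_self, co_ng]; module)

@[simp] theorem rf_self_ng (r : Rt D) : (rf r).1 (ng r) = r := by
  rw [aut_ng (W_aut _), rf_self, ng_ng]

theorem rf_sq (r : Rt D) : rf r * rf r = 1 := by
  obtain ⟨w, i, rfl⟩ := exists_conj_sim r
  rw [rf_W, rf_sim]
  calc w * sw i * w⁻¹ * (w * sw i * w⁻¹) = w * (sw i * sw i) * w⁻¹ := by group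
    _ = 1 := by rw [sw_sq]; group

@[simp] theorem rf_rf (r s : Rt D) : (rf r).1 ((rf r).1 s) = s := by
  rw [← Equiv.Perm.mul_apply, ← Subgroup.coe_mul, rf_sq]; rfl

@[simp] theorem rf_inv (r : Rt D) : (rf r)⁻¹ = rf r := inv_eq_of_mul_eq_one_right (rf_sq r)

theorem rf_mem_WJ {J : Set (Ix D)} {r : Rt D} (hr : InJ J r) : rf r ∈ WJ J := by
  obtain ⟨w, hw, i, hi, rfl⟩ := exists_conj_sim_J r hr
  rw [rf_W, rf_sim]
  exact Subgroup.mul_mem _ (Subgroup.mul_mem _ hw (sw_mem_WJ hi)) (Subgroup.inv_mem _ hw)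

theorem A_rf_right (r s v : Rt D) : A v ((rf r).1 s) = A v s - A r s * A v r := A_refl_right (co_rf r s) v

theorem A_rf_self (r s : Rt D) : A r ((rf r).1 s) = - A r s := by rw [A_rf_right, A_self]; ring

theorem cr_rf (r s : Rt D) : cr ((rf r).1 s) = cr s - A s r • cr r := cr_refl (co_rf r s)

theorem len_W (w : W D) (r : Rt D) : len (w.1 r) = len r := by
  obtain ⟨L, rfl⟩ := invGen_sw.gen w
  induction L with
  | nil => rfl
  | cons j L ih =>
    rw [wp_cons, Subgroup.coe_mul, Equiv.Perm.mul_apply, sw_coe, len_eq_of_refl (co_refl _ _), ih]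

/-! ### length -/

theorem exists_split_of_neg (i : Ix D) (L : List (Ix D)) (h : ¬ Pos ((wp sw L).1 (sim i))) :
    ∃ L1 j L2, L = L1 ++ j :: L2 ∧ (wp sw L2).1 (sim i) = sim j := by
  induction L with
  | nil => exact absurd (pos_sim i) h
  | cons j L ih =>
    by_cases hc : Pos ((wp sw L).1 (sim i))
    · exact ⟨[], j, L, rfl, eq_sim_of_pos_refl hc h⟩
    · obtain ⟨L1, k, L2, e1, e2⟩ := ih hc
      exact ⟨j :: L1, k, L2, by rw [e1]; rfl, e2⟩

theorem mul_sw_of_eq {w : W D} {i j : Ix D} (h : w.1 (sim i) = sim j) : w * sw i = sw j * w := by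
  rw [← rf_sim j, ← h, rf_W, rf_sim]; group

theorem wl_mul_sw_lt {w : W D} {i : Ix D} (h : ¬ Pos (w.1 (sim i))) : wl sw (w * sw i) < wl sw w := by
  obtain ⟨L, hL, rfl⟩ := invGen_sw.exists_red w
  obtain ⟨L1, j, L2, e1, e2⟩ := exists_split_of_neg i L h
  have : wp sw L * sw i = wp sw (L1 ++ L2) := by
    rw [e1, wp_append, wp_cons, wp_append, mul_assoc, mul_assoc, mul_sw_of_eq e2, invGen_sw.s_mul_s_mul]
  rw [this, hL]
  refine (wl_le _ _).trans_lt ?_
  rw [e1]; simp

theorem lt_wl_mul_sw {w : W D} {i : Ix D} (h : Pos (w.1 (sim i))) : wl sw w < wl sw (w * sw i) := by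
  have := wl_mul_sw_lt (w := w * sw i) (i := i) (by
    rw [Subgroup.coe_mul, Equiv.Perm.mul_apply, sw_coe, refl_sim, aut_ng (W_aut w), pos_ng, not_not]
    exact h)
  rwa [invGen_sw.mul_s_mul_s] at this

theorem lt_wl_mul_sw_iff {w : W D} {i : Ix D} : wl sw w < wl sw (w * sw i) ↔ Pos (w.1 (sim i)) := by
  refine ⟨fun h => ?_, lt_wl_mul_sw⟩
  by_contra hc
  have := wl_mul_sw_lt hc
  omega

theorem lt_wl_sw_mul_iff {w : W D} {i : Ix D} : wl sw w < wl sw (sw i * w) ↔ Pos (w⁻¹.1 (sim i)) := by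
  rw [← lt_wl_mul_sw_iff, invGen_sw.wl_inv, ← invGen_sw.wl_inv (sw i * w), mul_inv_rev, invGen_sw.inv_s]

theorem sw_ne_one (i : Ix D) : sw i ≠ 1 := by
  intro h
  have := refl_sim i
  rw [← sw_coe, h] at this
  exact ng_ne _ this.symm

theorem exch_sw : Exch (sw : Ix D → W D) := by
  refine exch_of_step invGen_sw sw_ne_one ?_
  intro i j w _ h2 h3
  rw [lt_wl_sw_mul_iff] at h2
  rw [← not_lt, lt_wl_sw_mul_iff, mul_inv_rev, invGen_sw.inv_s] at h3
  have := mul_sw_of_eq (eq_sim_of_pos_refl h2 h3)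
  calc sw i * w = w * (w⁻¹ * sw i) * w := by group
    _ = _ := by rw [this]; group

theorem eq_one_of_pos {w : W D} (h : ∀ i, Pos (w.1 (sim i))) : w = 1 := by
  induction w using invGen_sw.induction_right with
  | one => rfl
  | step i w h1 _ =>
    have := lt_wl_mul_sw (h i)
    rw [invGen_sw.mul_s_mul_s] at this
    omega

theorem eq_one_of_pos_J {J : Set (Ix D)} {w : W D} (hw : w ∈ WJ J) (h : ∀ i ∈ J, Pos (w.1 (sim i))) :
    w = 1 := by
  apply eq_one_of_pos
  intro i
  by_cases hi : i ∈ J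
  · exact h i hi
  · exact (pos_WJ hw (mt InJ_sim.1 hi)).2 (pos_sim i)

/-- the positive roots made negative -/
def inv (w : Equiv.Perm (Rt D)) : Finset (Rt D) := Finset.univ.filter fun r => Pos r ∧ ¬ Pos (w r)

theorem mem_inv {w : Equiv.Perm (Rt D)} {r : Rt D} : r ∈ inv w ↔ Pos r ∧ ¬ Pos (w r) := by simp [inv]

theorem card_inv_mul_refl {w : Equiv.Perm (Rt D)} (hw : w ∈ AutR D) {i : Ix D} (h : Pos (w (sim i))) :
    (inv (w * refl i)).card = (inv w).card + 1 := by
  have : inv (w * refl i) = insert (sim i) ((inv w).image (refl i)) := by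
    ext r
    simp only [mem_inv, Finset.mem_insert, Finset.mem_image, Equiv.Perm.mul_apply]
    constructor
    · rintro ⟨h1, h2⟩
      by_cases hr : r = sim i
      · exact Or.inl hr
      · exact Or.inr ⟨refl i r, ⟨pos_refl h1 hr, h2⟩, by simp⟩
    · rintro (rfl | ⟨s, ⟨h1, h2⟩, rfl⟩)
      · exact ⟨pos_sim i, by rw [refl_sim, aut_ng hw, pos_ng, not_not]; exact h⟩
      · exact ⟨pos_refl h1 (by rintro rfl; exact h2 h), by simpa using h2⟩
  rw [this, Finset.card_insert_of_notMem, Finset.card_image_of_injective _ (refl i).injective]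
  simp only [Finset.mem_image, mem_inv, not_exists, not_and, and_imp]
  intro s h1 _ h3
  have : s = ng (sim i) := by rw [← refl_sim, ← h3, refl_refl]
  rw [this, pos_ng] at h1
  exact h1 (pos_sim i)

theorem wl_eq_card_inv (w : W D) : wl sw w = (inv w.1).card := by
  induction w using invGen_sw.induction_right with
  | one =>
    rw [invGen_sw.wl_one, eq_comm, Finset.card_eq_zero]
    ext r; simp [mem_inv]
  | step i w h1 ih =>
    rw [h1, ih, Subgroup.coe_mul, sw_coe, card_inv_mul_refl (W_aut w) (lt_wl_mul_sw_iff.1 (by omega))]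

theorem exists_longest_J (J : Set (Ix D)) :
    ∃ w ∈ WJ J, ∀ r, Pos r → InJ J r → ¬ Pos (w.1 r) := by
  obtain ⟨w, hw⟩ := Finite.exists_max (fun w : WJ J => wl sw w.1)
  refine ⟨w.1, w.2, fun r hr hJ => aut_not_pos (W_aut _) hr fun j hj h => ?_⟩
  have hj' : j ∈ J := by by_contra hc; exact hj (hJ j hc)
  have := lt_wl_mul_sw h
  have := hw ⟨w.1 * sw j, Subgroup.mul_mem _ w.2 (sw_mem_WJ hj')⟩
  simp only at this
  omega

theorem exists_longest : ∃ w : W D, ∀ r, Pos r → ¬ Pos (w.1 r) := by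
  obtain ⟨w, -, h⟩ := exists_longest_J (Set.univ : Set (Ix D))
  exact ⟨w, fun r hr => h r hr fun i hi => absurd trivial hi⟩

theorem conn (J : Set (Ix D)) (h1 : J.Nonempty) (h2 : Jᶜ.Nonempty) :
    ∃ i ∈ J, ∃ j ∉ J, ca i (sim j) ≠ 0 := by
  obtain ⟨par, dep, h⟩ := G.is.conn
  by_contra hc
  push Not at hc
  let z : Ix D := ⟨0, G.is.rank_pos⟩
  have key : ∀ k, ∀ i : Ix D, dep i = k → (i ∈ J ↔ z ∈ J) := by
    intro k
    induction k using Nat.strong_induction_on with
    | _ k ih =>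
    intro i hi
    by_cases h0 : (i : ℕ) = 0
    · rw [show i = z from Fin.ext h0]
    obtain ⟨h3, h4, h5⟩ := h i i.2 h0
    rw [← ih _ (hi ▸ h4) ⟨par i, h3⟩ rfl]
    have h5' : ca i (sim ⟨par i, h3⟩) ≠ 0 := h5
    constructor
    · intro h6; by_contra h7; exact h5' (hc i h6 _ h7)
    · intro h6; by_contra h7
      have := hc _ h6 i h7
      rw [← A_sim, A_eq_zero_iff, A_sim] at this
      exact h5' this
  obtain ⟨a, ha⟩ := h1
  obtain ⟨b, hb⟩ := h2
  exact hb ((key _ b rfl).2 ((key _ a rfl).1 ha))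

end Cfsg.Agent.Lie
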