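import Cfsg.Agent.Lie.Bruhat

set_option autoImplicit false
set_option linter.unusedSectionVars false
set_option linter.unusedSimpArgs false

/-! Longest elements, fixed points of diagram symmetries in the Weyl group, action on weights and
a recursion for Poincaré sums. -/

namespace Cfsg.Agent.Lie

open Cfsg.Lie

variable {D : ChevalleyDatum} [G : Good D]

/-- the longest element of a parabolic subgroup -/
noncomputable def w0J (J : Set (Ix D)) : W D := (exists_longest_J J).choose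

theorem w0J_mem (J : Set (Ix D)) : w0J J ∈ WJ J := (exists_longest_J J).choose_spec.1

theorem w0J_neg {J : Set (Ix D)} {r : Rt D} (h : Pos r) (h' : InJ J r) : ¬ Pos ((w0J J).1 r) :=
  (exists_longest_J J).choose_spec.2 r h h'

theorem neg_of_sim_neg {J : Set (Ix D)} {w : W D} (h : ∀ j ∈ J, ¬ Pos (w.1 (sim j))) {r : Rt D}
    (hr : Pos r) (hJ : InJ J r) : ¬ Pos (w.1 r) :=
  aut_not_pos (W_aut w) hr fun j hj => h j (by by_contra hc; exact hj (hJ j hc))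

theorem pos_of_sim_pos {J : Set (Ix D)} {w : W D} (h : ∀ j ∈ J, Pos (w.1 (sim j))) {r : Rt D}
    (hr : Pos r) (hJ : InJ J r) : Pos (w.1 r) :=
  aut_pos (W_aut w) hr fun j hj => h j (by by_contra hc; exact hj (hJ j hc))

theorem eq_w0J {J : Set (Ix D)} {w : W D} (hw : w ∈ WJ J) (h : ∀ j ∈ J, ¬ Pos (w.1 (sim j))) : w = w0J J := by
  have : w⁻¹ * w0J J = 1 := by
    refine eq_one_of_pos_J (mul_mem (inv_mem hw) (w0J_mem J)) fun j hj => ?_
    have hm := mul_mem (inv_mem hw) (w0J_mem J)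
    by_contra hc
    have := neg_of_sim_neg h ((pos_ng _).2 hc) (InJ_ng.2 ((InJ_WJ hm _).2 (InJ_sim.2 hj)))
    rw [W_ng, W_mul_apply, W_apply_inv, pos_ng, not_not] at this
    exact w0J_neg (pos_sim j) (InJ_sim.2 hj) this
  exact inv_mul_eq_one.1 this

theorem w0J_inv (J : Set (Ix D)) : (w0J J)⁻¹ = w0J J := by
  refine eq_w0J (inv_mem (w0J_mem J)) fun j hj h => ?_
  have := w0J_neg h ((InJ_WJ (inv_mem (w0J_mem J)) _).2 (InJ_sim.2 hj))
  rw [W_apply_inv] at this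
  exact this (pos_sim j)

theorem w0J_sq (J : Set (Ix D)) : w0J J * w0J J = 1 := by
  conv_lhs => enter [1]; rw [← w0J_inv]
  exact inv_mul_cancel _

theorem w0J_w0J (J : Set (Ix D)) (r : Rt D) : (w0J J).1 ((w0J J).1 r) = r := by
  rw [← W_mul_apply, w0J_sq]; rfl

theorem mem_inv_w0J {J : Set (Ix D)} {r : Rt D} : r ∈ inv (w0J J).1 ↔ Pos r ∧ InJ J r :=
  ⟨fun h => ⟨(mem_inv.1 h).1, inv_subset_InJ (w0J_mem J) h⟩, fun h => mem_inv.2 ⟨h.1, w0J_neg h.1 h.2⟩⟩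

theorem coe_inv_w0J (J : Set (Ix D)) : (inv (w0J J).1 : Set (Rt D)) = {r | Pos r ∧ InJ J r} :=
  Set.ext fun _ => mem_inv_w0J

theorem w0J_single (i : Ix D) : w0J {i} = sw i := by
  refine (eq_w0J (J := {i}) (sw_mem_WJ (Set.mem_singleton i)) ?_).symm
  rintro _ rfl
  rw [sw_coe, refl_sim, pos_ng, not_not]; exact pos_sim _

theorem w0J_ne_one {J : Set (Ix D)} {i : Ix D} (hi : i ∈ J) : w0J J ≠ 1 := fun h => by
  have := w0J_neg (pos_sim i) (InJ_sim.2 hi)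
  rw [h] at this
  exact this (pos_sim i)

theorem pos_w0J_univ (r : Rt D) : Pos ((w0J Set.univ).1 r) ↔ ¬ Pos r := by
  refine ⟨fun h h' => w0J_neg h' (fun _ h => absurd trivial h) h, fun h => ?_⟩
  have := w0J_neg (J := Set.univ) ((pos_ng r).2 h) (fun _ h => absurd trivial h)
  rwa [W_ng, pos_ng, not_not] at this

theorem mem_inv_mul {w v : W D} (h : ∀ r ∈ inv v⁻¹.1, Pos (w.1 r)) {r : Rt D} :
    r ∈ inv (w * v).1 ↔ r ∈ inv v.1 ∨ v.1 r ∈ inv w.1 := by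
  simp only [mem_inv, W_mul_apply] at h ⊢
  constructor
  · rintro ⟨h1, h2⟩
    by_cases h3 : Pos (v.1 r)
    · exact Or.inr ⟨h3, h2⟩
    · exact Or.inl ⟨h1, h3⟩
  · rintro (⟨h1, h2⟩ | ⟨h1, h2⟩)
    · have := h _ ⟨(pos_ng _).2 h2, by rwa [W_ng, W_inv_apply, pos_ng, not_not]⟩
      rw [W_ng, pos_ng] at this
      exact ⟨h1, this⟩
    · refine ⟨?_, h2⟩
      by_contra hc
      exact h2 (h _ ⟨h1, by rwa [W_inv_apply]⟩)

theorem wl_mul_of_pos {w v : W D} (h : ∀ r ∈ inv v⁻¹.1, Pos (w.1 r)) : wl sw (w * v) = wl sw w + wl sw v := by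
  simp only [wl_eq_card_inv]
  have : inv (w * v).1 = (inv w.1).image v⁻¹.1 ∪ inv v.1 := by
    ext r
    rw [mem_inv_mul h, Finset.mem_union, Finset.mem_image, or_comm]
    refine or_congr_left ⟨fun h => ⟨_, h, by simp⟩, ?_⟩
    rintro ⟨s, hs, rfl⟩; simpa using hs
  rw [this, Finset.card_union_of_disjoint, Finset.card_image_of_injective _ (Equiv.injective _)]
  rw [Finset.disjoint_left]
  intro r h1 h2
  obtain ⟨s, hs, rfl⟩ := Finset.mem_image.1 h1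
  rw [mem_inv] at hs h2
  rw [W_apply_inv] at h2
  exact h2.2 hs.1

/-- symmetries of the root system preserving the positive roots -/
structure Sym (ρ : Equiv.Perm (Rt D)) (ρ0 : Equiv.Perm (Ix D)) : Prop where
  pos : ∀ r, Pos (ρ r) ↔ Pos r
  sim : ∀ i, ρ (sim i) = sim (ρ0 i)
  refl : ∀ i, ρ * refl i = refl (ρ0 i) * ρ

theorem sym_one : Sym (1 : Equiv.Perm (Rt D)) 1 := ⟨fun _ => Iff.rfl, fun _ => rfl, fun _ => by simp⟩

/-- the elements of the Weyl group commuting with `ρ` -/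
def Wf (ρ : Equiv.Perm (Rt D)) : Subgroup (W D) := (Subgroup.centralizer {ρ}).comap (W D).subtype

theorem mem_Wf {ρ : Equiv.Perm (Rt D)} {w : W D} : w ∈ Wf ρ ↔ ∀ r, w.1 (ρ r) = ρ (w.1 r) := by
  rw [Wf, Subgroup.mem_comap, Subgroup.mem_centralizer_singleton_iff, Equiv.ext_iff]; rfl

theorem Wf_one : Wf (1 : Equiv.Perm (Rt D)) = ⊤ := eq_top_iff.2 fun _ _ => mem_Wf.2 fun _ => rfl

/-- the orbits on the fundamental roots -/
def orb (ρ0 : Equiv.Perm (Ix D)) (i : Ix D) : Set (Ix D) := {j | ρ0.SameCycle i j}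

/-- the distinguished generators of the fixed subgroup -/
noncomputable def gO (ρ0 : Equiv.Perm (Ix D)) (i : Ix D) : W D := w0J (orb ρ0 i)

/-- stable sets of fundamental roots -/
def Stable (ρ0 : Equiv.Perm (Ix D)) (K : Set (Ix D)) : Prop := ∀ i, ρ0 i ∈ K ↔ i ∈ K

omit G in
theorem self_mem_orb (ρ0 : Equiv.Perm (Ix D)) (i : Ix D) : i ∈ orb ρ0 i := Equiv.Perm.SameCycle.refl _ _
omit G in
theorem orb_one (i : Ix D) : orb 1 i = {i} := by ext j; simp [orb, eq_comm]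
omit G in
theorem stable_orb (ρ0 : Equiv.Perm (Ix D)) (i : Ix D) : Stable ρ0 (orb ρ0 i) :=
  fun _ => Equiv.Perm.sameCycle_apply_right
omit G in
theorem orb_eq {ρ0 : Equiv.Perm (Ix D)} {i j : Ix D} (h : j ∈ orb ρ0 i) : orb ρ0 j = orb ρ0 i :=
  Set.ext fun _ => ⟨fun h' => Equiv.Perm.SameCycle.trans h h', fun h' => Equiv.Perm.SameCycle.trans h.symm h'⟩
omit G in
theorem orb_induction {ρ0 : Equiv.Perm (Ix D)} {i : Ix D} {p : Ix D → Prop} (h0 : p i)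
    (h : ∀ j, p j → p (ρ0 j)) : ∀ j ∈ orb ρ0 i, p j := by
  intro j hj
  obtain ⟨k, -, rfl⟩ := Equiv.Perm.SameCycle.exists_pow_eq' hj
  induction k with
  | zero => exact h0
  | succ k ih =>
    rw [pow_succ', Equiv.Perm.mul_apply]
    exact h _ (ih ⟨k, by simp⟩)
omit G in
theorem Stable.orb_subset {ρ0 : Equiv.Perm (Ix D)} {K : Set (Ix D)} (h : Stable ρ0 K) {i : Ix D} (hi : i ∈ K) :
    orb ρ0 i ⊆ K := orb_induction hi fun j hj => (h j).2 hj
omit G in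
theorem stable_univ (ρ0 : Equiv.Perm (Ix D)) : Stable ρ0 Set.univ := fun _ => Iff.rfl

theorem gO_one (i : Ix D) : gO 1 i = sw i := by rw [gO, orb_one, w0J_single]
theorem gO_sq (ρ0 : Equiv.Perm (Ix D)) (i : Ix D) : gO ρ0 i * gO ρ0 i = 1 := w0J_sq _
theorem gO_inv (ρ0 : Equiv.Perm (Ix D)) (i : Ix D) : (gO ρ0 i)⁻¹ = gO ρ0 i := w0J_inv _
theorem gO_ne_one (ρ0 : Equiv.Perm (Ix D)) (i : Ix D) : gO ρ0 i ≠ 1 := w0J_ne_one (self_mem_orb ρ0 i)
theorem gO_eq {ρ0 : Equiv.Perm (Ix D)} {i j : Ix D} (h : j ∈ orb ρ0 i) : gO ρ0 j = gO ρ0 i := by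
  rw [gO, orb_eq h, gO]
theorem mem_orb_of_gO_eq {ρ0 : Equiv.Perm (Ix D)} {i j : Ix D} (h : gO ρ0 j = gO ρ0 i) : j ∈ orb ρ0 i := by
  have : sim j ∈ inv (gO ρ0 j).1 := mem_inv_w0J.2 ⟨pos_sim j, InJ_sim.2 (self_mem_orb ρ0 j)⟩
  rw [h] at this
  exact InJ_sim.1 (mem_inv_w0J.1 this).2
theorem WJ_mono {J K : Set (Ix D)} (h : J ⊆ K) : WJ J ≤ WJ K := Subgroup.closure_mono (Set.image_mono h)
theorem gO_mem_WJ {ρ0 : Equiv.Perm (Ix D)} {K : Set (Ix D)} (hK : Stable ρ0 K) {i : Ix D} (hi : i ∈ K) :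
    gO ρ0 i ∈ WJ K := WJ_mono (hK.orb_subset hi) (w0J_mem _)

namespace Sym

variable {ρ : Equiv.Perm (Rt D)} {ρ0 : Equiv.Perm (Ix D)} (h : Sym ρ ρ0)
include h

theorem exists_conj {K : Set (Ix D)} (hK : Stable ρ0 K) {w : W D} (hw : w ∈ WJ K) :
    ∃ w' ∈ WJ K, ∀ r, w'.1 (ρ r) = ρ (w.1 r) := by
  obtain ⟨L, hL, rfl⟩ := exists_wp_of_mem_closure sw_sq K hw
  clear hw
  induction L with
  | nil => exact ⟨1, one_mem _, fun _ => rfl⟩
  | cons i L ih =>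
    obtain ⟨w', hw', e⟩ := ih fun j hj => hL j (List.mem_cons_of_mem _ hj)
    refine ⟨sw (ρ0 i) * w', mul_mem (sw_mem_WJ ((hK i).2 (hL i List.mem_cons_self))) hw', fun r => ?_⟩
    rw [wp_cons, W_mul_apply, W_mul_apply, e]
    exact (DFunLike.congr_fun (h.refl i) _).symm

theorem w0J_mem_Wf {K : Set (Ix D)} (hK : Stable ρ0 K) : w0J K ∈ Wf ρ := by
  obtain ⟨w', hw', e⟩ := h.exists_conj hK (w0J_mem K)
  rw [mem_Wf, ← eq_w0J hw']
  · intro r; rw [e, ← eq_w0J hw']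
    intro j hj
    obtain ⟨j, rfl⟩ := ρ0.surjective j
    rw [← h.sim, e, h.pos]
    exact w0J_neg (pos_sim j) (InJ_sim.2 ((hK j).1 hj))
  · intro j hj
    obtain ⟨j, rfl⟩ := ρ0.surjective j
    rw [← h.sim, e, h.pos]
    exact w0J_neg (pos_sim j) (InJ_sim.2 ((hK j).1 hj))

theorem gO_mem (i : Ix D) : gO ρ0 i ∈ Wf ρ := h.w0J_mem_Wf (stable_orb ρ0 i)

theorem pos_orb {w : W D} (hw : w ∈ Wf ρ) {i j : Ix D} (hj : j ∈ orb ρ0 i) :
    Pos (w.1 (Lie.sim j)) ↔ Pos (w.1 (Lie.sim i)) := by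
  refine orb_induction (p := fun j => Pos (w.1 (Lie.sim j)) ↔ Pos (w.1 (Lie.sim i))) Iff.rfl ?_ j hj
  intro j ih
  rw [← h.sim, mem_Wf.1 hw, h.pos, ih]

theorem mem_inv_iff {w : W D} (hw : w ∈ Wf ρ) {r : Rt D} : ρ r ∈ inv w.1 ↔ r ∈ inv w.1 := by
  rw [mem_inv, mem_inv, mem_Wf.1 hw, h.pos, h.pos]

theorem pos_of_pos {w : W D} (hw : w ∈ Wf ρ) {i : Ix D} (hi : Pos (w.1 (Lie.sim i))) :
    ∀ r ∈ inv (gO ρ0 i)⁻¹.1, Pos (w.1 r) := by
  intro r hr
  rw [gO_inv, gO, mem_inv_w0J] at hr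
  exact pos_of_sim_pos (fun j hj => (h.pos_orb hw hj).2 hi) hr.1 hr.2

theorem pos_mul_gO {w : W D} (hw : w ∈ Wf ρ) {i : Ix D} (hi : ¬ Pos (w.1 (Lie.sim i))) :
    Pos ((w * gO ρ0 i).1 (Lie.sim i)) := by
  have h1 : InJ (orb ρ0 i) (Lie.sim i) := InJ_sim.2 (self_mem_orb ρ0 i)
  have := neg_of_sim_neg (fun j hj => mt (h.pos_orb hw hj).1 hi) ((pos_ng _).2 (w0J_neg (pos_sim i) h1))
    (InJ_ng.2 ((InJ_WJ (w0J_mem _) _).2 h1))
  rwa [W_ng, pos_ng, not_not] at this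

theorem eq_one_or {i : Ix D} {w : W D} (hw : w ∈ Wf ρ) (hw' : w ∈ WJ (orb ρ0 i)) : w = 1 ∨ w = gO ρ0 i := by
  by_cases hp : Pos (w.1 (Lie.sim i))
  · exact Or.inl (eq_one_of_pos_J hw' fun j hj => (h.pos_orb hw hj).2 hp)
  · exact Or.inr (eq_w0J hw' fun j hj => mt (h.pos_orb hw hj).1 hp)

theorem induction {K : Set (Ix D)} (hK : Stable ρ0 K) {p : W D → Prop} (h1 : p 1)
    (hs : ∀ w ∈ Wf ρ, w ∈ WJ K → ∀ i ∈ K, Pos (w.1 (Lie.sim i)) → p w → p (w * gO ρ0 i))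
    {w : W D} (hw : w ∈ Wf ρ) (hw' : w ∈ WJ K) : p w := by
  induction hk : wl sw w using Nat.strong_induction_on generalizing w with
  | _ k ih =>
  by_cases h0 : ∀ i ∈ K, Pos (w.1 (Lie.sim i))
  · rw [eq_one_of_pos_J hw' h0]; exact h1
  push Not at h0
  obtain ⟨i, hi, h0⟩ := h0
  have h2 := mul_mem hw (h.gO_mem i)
  have h3 := mul_mem hw' (gO_mem_WJ hK hi)
  have h4 := h.pos_mul_gO hw h0
  have h5 := wl_mul_of_pos (h.pos_of_pos h2 h4)
  have e : w * gO ρ0 i * gO ρ0 i = w := by rw [mul_assoc, gO_sq, mul_one]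
  rw [e] at h5
  have h6 : wl sw (gO ρ0 i) ≠ 0 := mt invGen_sw.wl_eq_zero.1 (gO_ne_one ρ0 i)
  rw [← e]
  exact hs _ h2 h3 i hi h4 (ih _ (by omega) h2 h3 rfl)

theorem induction_left {K : Set (Ix D)} (hK : Stable ρ0 K) {p : W D → Prop} (h1 : p 1)
    (hs : ∀ w ∈ Wf ρ, w ∈ WJ K → ∀ i ∈ K, Pos (w⁻¹.1 (Lie.sim i)) → p w → p (gO ρ0 i * w))
    {w : W D} (hw : w ∈ Wf ρ) (hw' : w ∈ WJ K) : p w := by
  have := h.induction hK (p := fun w => p w⁻¹) (by simpa using h1) (fun w hw hw' i hi hp ih => by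
    rw [mul_inv_rev, gO_inv]
    exact hs _ (inv_mem hw) (inv_mem hw') i hi (by simpa using hp) ih) (inv_mem hw) (inv_mem hw')
  simpa using this

end Sym

/-! ### the action on weights -/

/-- pairing of a weight with a coroot -/
def wt (v : Ix D → ℤ) (r : Rt D) : ℤ := ∑ j, cr r j * v j

/-- action of the Weyl group on weights -/
def act (w : W D) (v : Ix D → ℤ) : Ix D → ℤ := fun i => wt v (w⁻¹.1 (sim i))

theorem wt_sim (v : Ix D → ℤ) (i : Ix D) : wt v (sim i) = v i := by simp [wt, cr_sim, Pi.single_apply]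

theorem wt_act (w : W D) (v : Ix D → ℤ) (r : Rt D) : wt (act w v) r = wt v (w⁻¹.1 r) := by
  simp only [wt, act]
  rw [cr_aut (W_aut w⁻¹) r]
  simp only [Finset.sum_apply, Pi.smul_apply, smul_eq_mul, Finset.sum_mul, Finset.mul_sum, mul_assoc]
  exact Finset.sum_comm

@[simp] theorem act_one (v : Ix D → ℤ) : act 1 v = v := funext fun i => wt_sim v i

theorem act_mul (w w' : W D) (v : Ix D → ℤ) : act (w * w') v = act w (act w' v) := by
  funext i; rw [act, act, wt_act, mul_inv_rev, W_mul_apply]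

theorem act_sw (j : Ix D) (v : Ix D → ℤ) (i : Ix D) : act (sw j) v i = v i - ca i (sim j) * v j := by
  rw [act, invGen_sw.inv_s, ← rf_sim, wt, cr_rf, A_sim]
  simp only [Pi.sub_apply, Pi.smul_apply, smul_eq_mul, sub_mul, Finset.sum_sub_distrib, mul_assoc,
    ← Finset.mul_sum]
  rw [← wt, ← wt, wt_sim, wt_sim]

theorem wt_ng (v : Ix D → ℤ) (r : Rt D) : wt v (ng r) = - wt v r := by simp [wt]

theorem wt_nonneg {K : Set (Ix D)} {v : Ix D → ℤ} (hv : ∀ i ∈ K, 0 ≤ v i) {r : Rt D} (hr : Pos r)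
    (hK : InJ K r) : 0 ≤ wt v r := by
  refine Finset.sum_nonneg fun j _ => ?_
  by_cases hj : j ∈ K
  · exact mul_nonneg ((cr_sign r j).1.2 ((pos_iff r).1 hr j)) (hv j hj)
  · rw [(cr_sign r j).2.2.2 (hK j hj), zero_mul]

theorem pos_of_wt_pos {K : Set (Ix D)} {v : Ix D → ℤ} (hv : ∀ i ∈ K, 0 ≤ v i) {r : Rt D} (hK : InJ K r)
    (h : 0 < wt v r) : Pos r := by
  by_contra hc
  have := wt_nonneg hv ((pos_ng r).2 hc) (InJ_ng.2 hK)
  rw [wt_ng] at this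
  omega

theorem act_eq_of_mem_WJ {J : Set (Ix D)} {v : Ix D → ℤ} (hv : ∀ j ∈ J, v j = 0) {w : W D} (hw : w ∈ WJ J) :
    act w v = v := by
  obtain ⟨L, hL, rfl⟩ := exists_wp_of_mem_closure sw_sq J hw
  clear hw
  induction L with
  | nil => simp
  | cons j L ih =>
    rw [wp_cons, act_mul, ih fun k hk => hL k (List.mem_cons_of_mem _ hk)]
    funext i; rw [act_sw, hv j (hL j List.mem_cons_self)]; simp

theorem eq_one_of_act {w : W D} (h : act w (fun _ => 1) = fun _ => 1) : w = 1 := by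
  rw [← inv_eq_one]
  refine eq_one_of_pos fun i => pos_of_wt_pos (K := Set.univ) (v := fun _ => 1) (fun _ _ => zero_le_one)
    (fun _ h => absurd trivial h) ?_
  have := congrFun h i
  rw [act] at this
  omega

open Classical in
/-- Poincaré sums -/
noncomputable def PS (ρ : Equiv.Perm (Rt D)) (c : W D → ℕ) (K : Set (Ix D)) : ℕ :=
  ∑ w ∈ Finset.univ.filter (fun w : W D => w ∈ Wf ρ ∧ w ∈ WJ K), c w

theorem PS_empty (ρ : Equiv.Perm (Rt D)) (c : W D → ℕ) : PS ρ c ∅ = c 1 := by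
  classical
  rw [PS, Finset.sum_eq_single 1]
  · intro w hw hne
    simp [WJ, hne] at hw
  · simp

theorem Sym.poincare {ρ : Equiv.Perm (Rt D)} {ρ0 : Equiv.Perm (Ix D)} (h : Sym ρ ρ0) (c : W D → ℕ) (q : ℕ)
    (m : Ix D → ℕ) (hc : ∀ w ∈ Wf ρ, ∀ i, Pos (w⁻¹.1 (Lie.sim i)) → c (gO ρ0 i * w) = q ^ m i * c w)
    {K K' : Set (Ix D)} (hK : Stable ρ0 K) (n : ℕ) (hn : 0 < n) (O : ℕ → Ix D → ℤ) (e : ℕ → ℕ)
    (h0 : ∀ i ∈ K, 0 ≤ O 0 i) (hK' : ∀ i, i ∈ K' ↔ i ∈ K ∧ ∀ j ∈ orb ρ0 i, O 0 j = 0) (he : e 0 = 0)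
    (hcl : ∀ k < n, ∀ i ∈ K, ∃ k' < n, act (gO ρ0 i) (O k) = O k')
    (hpar : ∀ k < n, k ≠ 0 → ∃ k' < k, ∃ i ∈ K, act (gO ρ0 i) (O k') = O k ∧
      (∃ j ∈ orb ρ0 i, 0 < O k' j) ∧ e k = e k' + m i)
    (hinj : ∀ k < n, ∀ k' < n, O k = O k' → k = k') :
    PS ρ c K = (∑ k ∈ Finset.range n, q ^ e k) * PS ρ c K' := by
  classical
  let T := Finset.univ.filter (fun w : W D => w ∈ Wf ρ ∧ w ∈ WJ K)
  let P : (Ix D → ℤ) → ℕ := fun v => ∑ w ∈ T.filter (fun w => act w (O 0) = v), c w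
  have hT : ∀ w, w ∈ T ↔ w ∈ Wf ρ ∧ w ∈ WJ K := fun w => by simp [T]
  have hK'K : K' ⊆ K := fun i hi => ((hK' i).1 hi).1
  have hK's : Stable ρ0 K' := fun i => by
    rw [hK', hK', hK i, orb_eq ((stable_orb ρ0 i i).2 (self_mem_orb ρ0 i))]
  have hP0 : P (O 0) = PS ρ c K' := by
    refine Finset.sum_congr ?_ fun _ _ => rfl
    ext w
    simp only [Finset.mem_filter, hT, Finset.mem_univ, true_and]
    constructor
    · rintro ⟨⟨h1, h2⟩, h3⟩
      refine ⟨h1, ?_⟩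
      revert h3
      refine h.induction_left hK (p := fun w => act w (O 0) = O 0 → w ∈ WJ K') (fun _ => one_mem _) ?_ h1 h2
      intro w hw hw' i hi hp ih h3
      have h4 : ∀ j ∈ orb ρ0 i, O 0 j = 0 := by
        intro j hj
        have h5 : ¬ Pos ((gO ρ0 i * w)⁻¹.1 (Lie.sim j)) := by
          rw [h.pos_orb (inv_mem (mul_mem (h.gO_mem i) hw)) hj]
          intro hc
          have := h.pos_of_pos (inv_mem hw) hp (ng ((gO ρ0 i)⁻¹.1 (Lie.sim i))) (by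
            rw [gO_inv, gO, mem_inv_w0J, pos_ng, InJ_ng, InJ_WJ (w0J_mem _)]
            exact ⟨w0J_neg (pos_sim i) (InJ_sim.2 (self_mem_orb ρ0 i)), InJ_sim.2 (self_mem_orb ρ0 i)⟩)
          rw [W_ng, pos_ng, ← W_mul_apply, ← mul_inv_rev] at this
          exact this hc
        have h6 := wt_nonneg h0 ((pos_ng _).2 h5) (InJ_ng.2 ((InJ_WJ (inv_mem (mul_mem (gO_mem_WJ hK hi) hw')) _).2
          (InJ_sim.2 (hK.orb_subset hi hj))))
        rw [wt_ng, ← wt_act, h3, wt_sim] at h6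
        have := h0 j (hK.orb_subset hi hj)
        omega
      have h7 : act (gO ρ0 i) (O 0) = O 0 := act_eq_of_mem_WJ h4 (w0J_mem _)
      refine mul_mem (gO_mem_WJ hK's ((hK' i).2 ⟨hi, h4⟩)) (ih ?_)
      have := congrArg (act (gO ρ0 i)) h3
      rwa [← act_mul, ← mul_assoc, gO_sq, one_mul, h7] at this
    · rintro ⟨h1, h2⟩
      exact ⟨⟨h1, WJ_mono hK'K h2⟩,
        act_eq_of_mem_WJ (fun j hj => ((hK' j).1 hj).2 j (self_mem_orb ρ0 j)) h2⟩
  have hstep : ∀ v, ∀ i ∈ K, (∃ j ∈ orb ρ0 i, 0 < v j) → P (act (gO ρ0 i) v) = q ^ m i * P v := by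
    rintro v i hi ⟨j, hj, hv⟩
    simp only [P, Finset.mul_sum]
    symm
    refine Finset.sum_bij' (fun w _ => gO ρ0 i * w) (fun w _ => gO ρ0 i * w) ?_ ?_ ?_ ?_ ?_
    · intro w hw
      simp only [Finset.mem_filter, hT] at hw ⊢
      exact ⟨⟨mul_mem (h.gO_mem i) hw.1.1, mul_mem (gO_mem_WJ hK hi) hw.1.2⟩, by rw [act_mul, hw.2]⟩
    · intro w hw
      simp only [Finset.mem_filter, hT] at hw ⊢
      exact ⟨⟨mul_mem (h.gO_mem i) hw.1.1, mul_mem (gO_mem_WJ hK hi) hw.1.2⟩, by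
        rw [act_mul, hw.2, ← act_mul, gO_sq, act_one]⟩
    · intro w _; rw [← mul_assoc, gO_sq, one_mul]
    · intro w _; rw [← mul_assoc, gO_sq, one_mul]
    · intro w hw
      simp only [Finset.mem_filter, hT] at hw
      refine (hc w hw.1.1 i ?_).symm
      rw [← h.pos_orb (inv_mem hw.1.1) hj]
      refine pos_of_wt_pos h0 ((InJ_WJ (inv_mem hw.1.2) _).2 (InJ_sim.2 (hK.orb_subset hi hj))) ?_
      rwa [← wt_act, hw.2, wt_sim]
  have hP : ∀ k < n, P (O k) = q ^ e k * P (O 0) := by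
    intro k
    induction k using Nat.strong_induction_on with
    | _ k ih =>
    intro hk
    by_cases hk0 : k = 0
    · rw [hk0, he]; simp
    obtain ⟨k', hk', i, hi, e1, e2, e3⟩ := hpar k hk hk0
    rw [← e1, hstep _ i hi e2, ih k' hk' (by omega), e3]; ring
  have hmem : ∀ w ∈ T, act w (O 0) ∈ (Finset.range n).image O := by
    intro w hw
    rw [hT] at hw
    refine h.induction_left hK (p := fun w => act w (O 0) ∈ (Finset.range n).image O) ?_ ?_ hw.1 hw.2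
    · rw [act_one]; exact Finset.mem_image_of_mem _ (Finset.mem_range.2 hn)
    · intro w _ _ i hi _ ih
      obtain ⟨k, hk, e1⟩ := Finset.mem_image.1 ih
      obtain ⟨k', hk', e2⟩ := hcl k (Finset.mem_range.1 hk) i hi
      rw [act_mul, ← e1, e2]
      exact Finset.mem_image_of_mem _ (Finset.mem_range.2 hk')
  rw [PS, ← Finset.sum_fiberwise_of_maps_to hmem, Finset.sum_image
    (fun k hk k' hk' => hinj k (Finset.mem_range.1 hk) k' (Finset.mem_range.1 hk')), Finset.sum_mul, ← hP0]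
  exact Finset.sum_congr rfl fun k hk => hP k (Finset.mem_range.1 hk)

end Cfsg.Agent.Lie
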