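import Cfsg.Agent.Lie.LieAlg

set_option autoImplicit false
set_option linter.unusedSectionVars false

/-! The root elements over an arbitrary commutative ring. -/

namespace Cfsg.Agent.Lie

open Cfsg.Lie Matrix

variable {D : ChevalleyDatum} [G : Good D]

section cast

variable (R : Type*) [CommRing R] {S : Type*} [CommRing S]

/-- reduction of integral matrices -/
def cM : Matrix D.Idx D.Idx ℤ →+* Matrix D.Idx D.Idx R := (Int.castRingHom R).mapMatrix

/-- reduction of integral vectors -/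
def cV : (D.Idx → ℤ) →+ (D.Idx → R) := (Int.castAddHom R).compLeft _

/-- basis vectors -/
def eB (a : D.Idx) : D.Idx → R := Pi.single a 1

/-- root vectors -/
abbrev eE (r : Rt D) : D.Idx → R := eB R (Sum.inr r)
/-- fundamental coroot vectors -/
abbrev hE (i : Ix D) : D.Idx → R := eB R (Sum.inl i)
/-- coroot vectors -/
def hB (r : Rt D) : D.Idx → R := cV R (hv r)

variable {R}

omit G in
theorem cM_apply (M : Matrix D.Idx D.Idx ℤ) (a b : D.Idx) : cM R M a b = (M a b : R) := rfl
omit G in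
theorem cV_apply (v : D.Idx → ℤ) (a : D.Idx) : cV R v a = (v a : R) := rfl
omit G in
@[simp] theorem cV_eV (a : D.Idx) : cV R (eV a) = eB R a := by
  funext b; simp [cV_apply, eV, eB, Pi.single_apply]
omit G in
theorem cV_zsmul (z : ℤ) (v : D.Idx → ℤ) : cV R (z • v) = (z : R) • cV R v := by
  funext b; simp [cV_apply]
omit G in
theorem cM_zsmul (z : ℤ) (M : Matrix D.Idx D.Idx ℤ) : cM R (z • M) = (z : R) • cM R M := by
  ext a b; simp [cM_apply, -zsmul_eq_mul]
omit G in
theorem cM_mulVec (M : Matrix D.Idx D.Idx ℤ) (v : D.Idx → ℤ) : cM R M *ᵥ cV R v = cV R (M *ᵥ v) := by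
  funext a; simp [cM_apply, cV_apply, Matrix.mulVec, dotProduct]
omit G in
theorem cM_eB (M : Matrix D.Idx D.Idx ℤ) (b : D.Idx) : cM R M *ᵥ eB R b = cV R (M *ᵥ eV b) := by
  rw [← cV_eV, cM_mulVec]
omit G in
@[simp] theorem cM_int (M : Matrix D.Idx D.Idx ℤ) : cM ℤ M = M := by ext a b; simp [cM_apply]
omit G in
@[simp] theorem cV_int (v : D.Idx → ℤ) : cV ℤ v = v := by funext a; simp [cV_apply]
omit G in
theorem eB_int (a : D.Idx) : eB ℤ a = eV a := rfl
omit G in
theorem hB_int (r : Rt D) : hB ℤ r = hv r := cV_int _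

omit G in
theorem mulVec_eB (M : Matrix D.Idx D.Idx R) (b : D.Idx) : M *ᵥ eB R b = fun a => M a b := by
  funext a; simp [eB]

omit G in
theorem ext_eB {M M' : Matrix D.Idx D.Idx R} (h : ∀ b, M *ᵥ eB R b = M' *ᵥ eB R b) : M = M' := by
  ext a b
  have := congrFun (h b) a
  rwa [mulVec_eB, mulVec_eB] at this

omit G in
theorem lin_ext_eB {M : Type*} [AddCommGroup M] [Module R M] {φ ψ : (D.Idx → R) →ₗ[R] M}
    (h : ∀ a, φ (eB R a) = ψ (eB R a)) : φ = ψ :=
  (Pi.basisFun R D.Idx).ext fun a => by simpa [eB] using h a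

omit G in
theorem diagonal_eB (d : D.Idx → R) (b : D.Idx) : Matrix.diagonal d *ᵥ eB R b = d b • eB R b := by
  funext a
  rw [Matrix.mulVec_diagonal]
  by_cases h : a = b
  · simp [h, eB]
  · simp [eB, h]

omit G in
theorem eB_apply (a b : D.Idx) : eB R a b = if b = a then 1 else 0 := Pi.single_apply _ _ _

omit G in
theorem hB_eq (r : Rt D) : hB R r = ∑ i, (cr r i : R) • hE R i := by
  simp only [hB, hv, map_sum, cV_zsmul, cV_eV]
@[simp] theorem hB_ng (r : Rt D) : hB R (ng r) = - hB R r := by simp [hB]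
theorem hB_sim (i : Ix D) : hB R (sim i) = hE R i := by simp [hB, hv_sim]
omit G in
theorem hB_inl (r : Rt D) (i : Ix D) : hB R r (Sum.inl i) = cr r i := by simp [hB, cV_apply, hv_inl]
omit G in
theorem hB_inr (r u : Rt D) : hB R r (Sum.inr u) = 0 := by simp [hB, cV_apply, hv_inr]

omit G in
theorem map_cM (φ : R →+* S) (M : Matrix D.Idx D.Idx ℤ) : φ.mapMatrix (cM R M) = cM S M := by
  ext a b; simp [cM_apply]

omit G in
theorem mapMatrix_smul (φ : R →+* S) (c : R) (M : Matrix D.Idx D.Idx R) :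
    φ.mapMatrix (c • M) = φ c • φ.mapMatrix M := by
  ext a b; simp

omit G in
theorem comp_eB (φ : R →+* S) (a : D.Idx) : φ ∘ eB R a = eB S a := by
  funext b; simp [eB_apply]

omit G in
theorem comp_mulVec (φ : R →+* S) (M : Matrix D.Idx D.Idx R) (v : D.Idx → R) :
    φ ∘ (M *ᵥ v) = φ.mapMatrix M *ᵥ (φ ∘ v) := by
  funext a; simp [Matrix.mulVec, dotProduct]

end cast

/-! ### products of divided powers -/

theorem zsmul_inj {c : ℤ} (hc : c ≠ 0) {M M' : Matrix D.Idx D.Idx ℤ} (h : c • M = c • M') : M = M' :=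
  smul_right_injective _ hc h

theorem X2_mul_E (r : Rt D) : X2 r * E r = (3 : ℤ) • X3 r := by
  apply zsmul_inj two_ne_zero
  rw [← smul_mul_assoc, ← E_pow_two, ← pow_succ, E_pow_three, smul_smul]; rfl
theorem X3_mul_E (r : Rt D) : X3 r * E r = 0 := by
  apply zsmul_inj (c := 6) (by norm_num)
  rw [← smul_mul_assoc, ← E_pow_three, ← pow_succ, E_pow_four, smul_zero]
theorem X2_mul_X2 (r : Rt D) : X2 r * X2 r = 0 := by
  apply zsmul_inj (c := 2 * 2) (by norm_num)
  rw [← smul_mul_smul_comm, ← E_pow_two, ← pow_add, E_pow_four, smul_zero]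
theorem X2_mul_X3 (r : Rt D) : X2 r * X3 r = 0 := by
  apply zsmul_inj two_ne_zero
  rw [← smul_mul_assoc, ← E_mul_E, mul_assoc, E_mul_X3, mul_zero, smul_zero]
theorem X3_mul_X2 (r : Rt D) : X3 r * X2 r = 0 := by
  apply zsmul_inj two_ne_zero
  rw [← mul_smul_comm, ← E_mul_E, ← mul_assoc, X3_mul_E, zero_mul, smul_zero]
theorem X3_mul_X3 (r : Rt D) : X3 r * X3 r = 0 := by
  apply zsmul_inj (c := 3) (by norm_num)
  rw [← mul_smul_comm, ← E_mul_X2, ← mul_assoc, X3_mul_E, zero_mul, smul_zero]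

section xR

variable (R : Type*) [CommRing R] {S : Type*} [CommRing S]

/-- `ad e_r` over `R` -/
def ER (r : Rt D) : Matrix D.Idx D.Idx R := cM R (E r)

/-- the root element `x_r(t)` over a commutative ring -/
def xR (r : Rt D) (t : R) : Matrix D.Idx D.Idx R :=
  1 + t • ER R r + t ^ 2 • cM R (X2 r) + t ^ 3 • cM R (X3 r)

/-- the adjoint map over `R` -/
def adR : (D.Idx → R) →ₗ[R] Matrix D.Idx D.Idx R := Fintype.linearCombination R fun a => cM R (adb a)

variable {R}

theorem adR_eB (a : D.Idx) : adR R (eB R a) = cM R (adb a) := by simp [adR, eB]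
@[simp] theorem adR_eE (r : Rt D) : adR R (eE R r) = ER R r := adR_eB _
theorem adR_cV (v : D.Idx → ℤ) : adR R (cV R v) = cM R (ad v) := by
  simp only [adR, ad, Fintype.linearCombination_apply, map_sum, cM_zsmul, cV_apply]
theorem adR_int (v : D.Idx → ℤ) : adR ℤ v = ad v := by rw [← cV_int v, adR_cV, cM_int, cV_int]

theorem map_ER (φ : R →+* S) (r : Rt D) : φ.mapMatrix (ER R r) = ER S r := map_cM _ _

theorem map_xR (φ : R →+* S) (r : Rt D) (t : R) : φ.mapMatrix (xR R r t) = xR S r (φ t) := by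
  simp only [xR, map_add, map_one, mapMatrix_smul, map_cM, map_ER, map_pow]

theorem map_adR (φ : R →+* S) (v : D.Idx → R) : φ.mapMatrix (adR R v) = adR S (φ ∘ v) := by
  simp only [adR, Fintype.linearCombination_apply, map_sum, mapMatrix_smul, map_cM, Function.comp]

@[simp] theorem xR_zero (r : Rt D) : xR R r 0 = 1 := by simp [xR]

theorem cM_two (M : Matrix D.Idx D.Idx ℤ) : cM R ((2 : ℤ) • M) = (2 : R) • cM R M := by
  rw [cM_zsmul]; simp
theorem cM_three (M : Matrix D.Idx D.Idx ℤ) : cM R ((3 : ℤ) • M) = (3 : R) • cM R M := by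
  rw [cM_zsmul]; simp

theorem xR_add (r : Rt D) (t u : R) : xR R r t * xR R r u = xR R r (t + u) := by
  simp only [xR, ER, mul_add, add_mul, one_mul, mul_one, smul_mul_smul_comm, ← map_mul, E_mul_E, E_mul_X2,
    E_mul_X3, X2_mul_E, X3_mul_E, X2_mul_X2, X2_mul_X3, X3_mul_X2, X3_mul_X3, cM_two, cM_three, map_zero]
  module

theorem xR_mul_neg (r : Rt D) (t : R) : xR R r t * xR R r (-t) = 1 := by rw [xR_add]; simp
theorem xR_neg_mul (r : Rt D) (t : R) : xR R r (-t) * xR R r t = 1 := by rw [xR_add]; simp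

theorem ER_mul_xR (r : Rt D) (t : R) :
    ER R r * xR R r t = ER R r + (2 * t) • cM R (X2 r) + (3 * t ^ 2) • cM R (X3 r) := by
  simp only [xR, ER, mul_add, mul_one, mul_smul_comm, ← map_mul, E_mul_E, E_mul_X2,
    E_mul_X3, cM_two, cM_three, map_zero]
  module

theorem xR_mul_ER (r : Rt D) (t : R) : xR R r t * ER R r = ER R r * xR R r t := by
  rw [ER_mul_xR]
  simp only [xR, ER, add_mul, one_mul, smul_mul_assoc, ← map_mul, E_mul_E, X2_mul_E,
    X3_mul_E, cM_two, cM_three, map_zero]
  module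

theorem xR_hE (r : Rt D) (t : R) (i : Ix D) :
    xR R r t *ᵥ hE R i = hE R i - (ca i r * t) • eE R r := by
  simp only [xR, ER, Matrix.add_mulVec, Matrix.one_mulVec, Matrix.smul_mulVec, cM_eB, E_eH, X2_eV, X3_eV,
    colX2, colX3, map_zero, cV_zsmul, cV_eV]
  push_cast
  module

theorem xR_eE {r s : Rt D} (h : s ≠ ng r) (t : R) :
    xR R r t *ᵥ eE R s = eE R s + (N r s * t) • eE R (add r s) + (M2 r s * t ^ 2) • eE R (add r (add r s)) +
      (M3 r s * t ^ 3) • eE R (add r (add r (add r s))) := by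
  simp only [xR, ER, Matrix.add_mulVec, Matrix.one_mulVec, Matrix.smul_mulVec, cM_eB, E_eR, X2_eV, X3_eV,
    colX2, colX3, if_neg h, cV_zsmul, cV_eV]
  module

theorem M2_eq_zero {r s : Rt D} (h : N r s = 0 ∨ N r (add r s) = 0) : M2 r s = 0 := by
  by_contra hc
  have := M2_ne hc
  tauto
theorem M3_eq_zero {r s : Rt D} (h : N r s = 0 ∨ N r (add r s) = 0 ∨ N r (add r (add r s)) = 0) :
    M3 r s = 0 := by
  by_contra hc
  have := M3_ne hc
  tauto

theorem xR_eE_of_N {r s : Rt D} (h : s ≠ ng r) (h0 : N r s = 0) (t : R) : xR R r t *ᵥ eE R s = eE R s := by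
  rw [xR_eE h, h0, M2_eq_zero (Or.inl h0), M3_eq_zero (Or.inl h0)]; simp

theorem xR_eE_of_N2 {r s : Rt D} (h : s ≠ ng r) (h0 : N r (add r s) = 0) (t : R) :
    xR R r t *ᵥ eE R s = eE R s + (N r s * t) • eE R (add r s) := by
  rw [xR_eE h, M2_eq_zero (Or.inr h0), M3_eq_zero (Or.inr (Or.inl h0))]; simp

@[simp] theorem xR_eE_self (r : Rt D) (t : R) : xR R r t *ᵥ eE R r = eE R r :=
  xR_eE_of_N (ng_ne r).symm (N_self r) t

theorem xR_eE_ng (r : Rt D) (t : R) : xR R r t *ᵥ eE R (ng r) = eE R (ng r) + t • hB R r - t ^ 2 • eE R r := by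
  simp only [xR, ER, Matrix.add_mulVec, Matrix.one_mulVec, Matrix.smul_mulVec, cM_eB, E_eR, X2_eV, X3_eV,
    colX2, colX3, if_true, cV_zsmul, cV_eV, map_neg, M3_eq_zero (Or.inl (N_ng_self r)), hB]
  push_cast
  module

theorem xR_hB (r s : Rt D) (t : R) : xR R r t *ᵥ hB R s = hB R s - (A s r * t) • eE R r := by
  simp only [hB_eq, Matrix.mulVec_sum, Matrix.mulVec_smul, xR_hE, smul_sub, Finset.sum_sub_distrib, A,
    smul_smul, Int.cast_sum, Int.cast_mul, Finset.sum_mul, Finset.sum_smul, mul_assoc]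

end xR

/-! ### the link with the definitions -/

theorem chainCoeff_eq (r s : Rt D) (u : ℕ) : D.chainCoeff r s u =
    (((chainL (Good.N D) (Good.add D) r s).zipIdx).filter (fun q => q.1.1 = u)).map
      fun q => (q.2 + 1, q.1.2) := by
  have := chain_filter D _ _ r (G.is.chain_row r r.2) s s.2
  unfold ChevalleyDatum.chainCoeff
  generalize (D.chain.getD r #[]).toList.filter (fun e => e.1 = (s : ℕ)) = L at this ⊢
  split_ifs at this with h0
  · rw [List.map_eq_nil_iff] at this
    simp [this, chainL, h0]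
  · cases L with
    | nil => simp at this
    | cons a L =>
      simp only [List.map_cons, List.cons.injEq, List.map_eq_nil_iff] at this
      rw [this.2, ← this.1]; simp

theorem chainL_eq (r s : Rt D) : chainL (Good.N D) (Good.add D) r s =
    if N r s = 0 then [] else ((add r s : ℕ), N r s) ::
      (if N r (add r s) = 0 then [] else ((add r (add r s) : ℕ), M2 r s) ::
        (if N r (add r (add r s)) = 0 then [] else [((add r (add r (add r s)) : ℕ), M3 r s)])) := rfl

theorem xMat_eq (F : Type*) [Field F] (r : Rt D) (t : F) : D.xMat F r t = xR F r t := by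
  ext a b
  rw [← congrFun (mulVec_eB (xR F r t) b) a]
  rcases b with i | s
  · rw [xR_hE]
    rcases a with j | u
    · simp [ChevalleyDatum.xMat, eB_apply]
    · simp only [ChevalleyDatum.xMat, Matrix.of_apply, Pi.sub_apply, Pi.smul_apply, eB_apply]
      by_cases h : u = r <;> simp [h, ca, ChevalleyDatum.cartan]
  · have e : ((s : ℕ) = D.negIdx.getD r 0) ↔ s = ng r := by
      rw [show D.negIdx.getD r 0 = D.neg r from rfl, neg_val, Fin.val_inj]
    by_cases h1 : s = r
    · subst h1
      rw [xR_eE_self]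
      rcases a with j | u <;> simp [ChevalleyDatum.xMat, eB_apply]
    by_cases h2 : s = ng r
    · rw [h2, xR_eE_ng]
      subst h2
      rcases a with j | u
      · simp [ChevalleyDatum.xMat, eB_apply, h1, e.2 rfl, hB_inl, cr, cor, mul_comm]
      · simp only [ChevalleyDatum.xMat, Matrix.of_apply, if_neg h1, if_pos (e.2 rfl), Pi.sub_apply,
          Pi.add_apply, Pi.smul_apply, eB_apply, hB_inr, Sum.inr.injEq]
        by_cases h3 : u = ng r
        · simp [h3, h1]
        · by_cases h4 : u = r <;> simp [h3, h4, (ng_ne r).symm]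
    · rw [xR_eE h2]
      rcases a with j | u
      · simp only [ChevalleyDatum.xMat, Matrix.of_apply, if_neg h1, if_neg (mt e.1 h2)]
        simp [eB_apply]
      · simp only [ChevalleyDatum.xMat, Matrix.of_apply, if_neg h1, if_neg (mt e.1 h2), Pi.add_apply,
          Pi.smul_apply, eB_apply, Sum.inr.injEq, chainCoeff_eq, chainL_eq, add_assoc, smul_eq_mul]
        congr 1
        by_cases h3 : N r s = 0
        · simp [h3, M2_eq_zero (Or.inl h3), M3_eq_zero (Or.inl h3)]
        by_cases h4 : N r (add r s) = 0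
        · simp only [h3, h4, M2_eq_zero (Or.inr h4), M3_eq_zero (Or.inr (Or.inl h4)), if_true, if_false]
          by_cases h : u = add r s <;> simp [Fin.val_inj, h, eq_comm (a := add r s)]
        by_cases h5 : N r (add r (add r s)) = 0
        · simp only [h3, h4, h5, M3_eq_zero (Or.inr (Or.inr h5)), if_true, if_false]
          simp only [List.zipIdx_cons, List.zipIdx_nil, List.filter_cons, Fin.val_inj, decide_eq_true_eq,
            eq_comm (b := u)]
          split_ifs <;> simp
        · simp only [h3, h4, h5, if_false]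
          simp only [List.zipIdx_cons, List.zipIdx_nil, List.filter_cons, Fin.val_inj, decide_eq_true_eq,
            eq_comm (b := u)]
          split_ifs <;> simp

theorem x_eq (F : Type*) [Field F] (r : Rt D) (t : F) : D.x F r t = xR F r t := by
  rw [ChevalleyDatum.x, dif_pos r.2, xMat_eq]

theorem x_eq' (F : Type*) [Field F] {r : ℕ} (hr : r < D.nroots) (t : F) : D.x F r t = xR F ⟨r, hr⟩ t :=
  x_eq F (⟨r, hr⟩ : Rt D) t

end Cfsg.Agent.Lie
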